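import Cfsg.Agent.H79.SL2FpfDecomp
import Cfsg.Prelude.Def_Transfer

/-!
A normal 2-subgroup with quotient `SL₂(2ⁿ)` on which an element of order three acts without fixed
points is elementary abelian, a direct product of natural modules.
-/

set_option autoImplicit false
set_option linter.unusedSectionVars false
set_option linter.style.haveILetI false

namespace H79.SL2Fpf

open Matrix Subgroup
open scoped IsMulCommutative commutatorElement

universe u v

variable {K : Type v} [Field K] [CharP K 2]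

/-- Elements of trace one are conjugate in `SL₂`. -/
theorem exists_conj_of_trace_one [Finite K] {s t : SpecialLinearGroup (Fin 2) K}
    (hs : (s : Matrix (Fin 2) (Fin 2) K).trace = 1) (ht : (t : Matrix (Fin 2) (Fin 2) K).trace = 1) :
    ∃ c : SpecialLinearGroup (Fin 2) K, s = c * t * c⁻¹ := by
  haveI := Fintype.ofFinite K
  have hns : ∀ {M : Matrix (Fin 2) (Fin 2) K}, M.trace = 1 → ¬ H40.IsScalar2 M := by
    intro M h hM
    rw [Matrix.trace_fin_two, hM.2.2, CharTwo.add_self_eq_zero] at h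
    exact zero_ne_one h
  obtain ⟨P, hP, hPM⟩ := H40.exists_intertwiner (hns ht) (hns hs) (ht.trans hs.symm)
    (t.prop.trans s.prop.symm)
  obtain ⟨r, hr⟩ := FiniteField.isSquare_of_char_two (ringChar.eq K 2) P.det
  have hr0 : r ≠ 0 := fun h => hP (by rw [hr, h, mul_zero])
  let c : SpecialLinearGroup (Fin 2) K := ⟨r⁻¹ • P, by
    rw [det_smul, Fintype.card_fin, hr]
    field_simp⟩
  refine ⟨c, eq_mul_inv_of_mul_eq ?_⟩
  apply Subtype.ext
  show (s : Matrix (Fin 2) (Fin 2) K) * (r⁻¹ • P) = (r⁻¹ • P) * (t : Matrix (Fin 2) (Fin 2) K)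
  rw [Matrix.mul_smul, Matrix.smul_mul, hPM]

/-- Elements of order three have trace one. -/
theorem trace_eq_one_of_pow_three {s : SpecialLinearGroup (Fin 2) K} (h3 : s ^ 3 = 1) (h1 : s ≠ 1) :
    (s : Matrix (Fin 2) (Fin 2) K).trace = 1 := by
  set M := (s : Matrix (Fin 2) (Fin 2) K) with hM
  have hd : M 0 0 * M 1 1 - M 0 1 * M 1 0 = 1 := by
    rw [← det_fin_two]; exact s.prop
  have h : M * M * M = 1 := by
    have := congrArg (fun w : SpecialLinearGroup (Fin 2) K => (w : Matrix (Fin 2) (Fin 2) K)) h3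
    simp only [pow_succ, pow_zero, one_mul] at this
    exact this
  have e2 : (2 : K) = 0 := CharTwo.two_eq_zero
  set t := M 0 0 + M 1 1 with ht
  have e00 := congrFun (congrFun h 0) 0
  have e01 := congrFun (congrFun h 0) 1
  have e10 := congrFun (congrFun h 1) 0
  have e11 := congrFun (congrFun h 1) 1
  simp [Matrix.mul_apply, Fin.sum_univ_two] at e00 e01 e10 e11
  rw [Matrix.trace_fin_two]
  by_contra ht1
  have hne : (t ^ 2 + 1) ≠ 0 := fun h' => ht1 (by
    have : (t + 1) ^ 2 = 0 := by linear_combination h' + t * e2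
    have := pow_eq_zero_iff (two_ne_zero) |>.mp this
    exact CharTwo.add_eq_zero.mp this)
  have a01 : M 0 1 = 0 := (mul_eq_zero.mp (show (t ^ 2 + 1) * M 0 1 = 0 by
    linear_combination e01 + M 0 1 * hd + M 0 1 * e2)).resolve_left hne
  have a10 : M 1 0 = 0 := (mul_eq_zero.mp (show (t ^ 2 + 1) * M 1 0 = 0 by
    linear_combination e10 + M 1 0 * hd + M 1 0 * e2)).resolve_left hne
  rw [a01, zero_mul, sub_zero] at hd
  simp [a01, a10] at e00 e11
  have hu : (M 0 0) ^ 3 = 1 := by linear_combination e00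
  have hv : (M 1 1) ^ 3 = 1 := by linear_combination e11
  have hv' : M 1 1 = (M 0 0) ^ 2 := by linear_combination (M 0 0) ^ 2 * hd - M 1 1 * hu
  by_cases h0 : M 0 0 = 1
  · apply h1
    apply Subtype.ext
    show M = 1
    rw [h0, one_pow] at hv'
    ext i j
    fin_cases i <;> fin_cases j <;> simp [a01, a10, h0, hv']
  · apply ht1
    have hfac : (M 0 0 - 1) * (M 0 0 ^ 2 + M 0 0 + 1) = 0 := by linear_combination hu
    have := (mul_eq_zero.mp hfac).resolve_left (sub_ne_zero.mpr h0)
    linear_combination hv' + this - e2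

variable {G : Type u} [Group G]

/-- Conjugation on a normal subgroup, written additively. -/
noncomputable def conjEnd (A : Subgroup G) [A.Normal] : G →* AddMonoid.End (Additive A) where
  toFun g := (MonoidHom.toAdditive (MulAut.conjNormal g : MulAut A).toMonoidHom :
    AddMonoid.End (Additive A))
  map_one' := by
    refine AddMonoidHom.ext fun a => Additive.toMul.injective (Subtype.ext ?_)
    show (1 : G) * ((Additive.toMul a : A) : G) * (1 : G)⁻¹ = _
    rw [one_mul, inv_one, mul_one]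
    rfl
  map_mul' g h := by
    refine AddMonoidHom.ext fun a => Additive.toMul.injective (Subtype.ext ?_)
    show g * h * ((Additive.toMul a : A) : G) * (g * h)⁻¹ =
      g * (h * ((Additive.toMul a : A) : G) * h⁻¹) * g⁻¹
    group

/-- The action on a normal abelian subgroup centralized by `Q`. -/
noncomputable def sectionAct (Q A : Subgroup G) [Q.Normal] [A.Normal] [IsMulCommutative A]
    (hQA : ∀ q ∈ Q, ∀ a ∈ A, q * a = a * q) (e : G ⧸ Q ≃* SpecialLinearGroup (Fin 2) K) :
    SpecialLinearGroup (Fin 2) K →* AddMonoid.End (Additive A) :=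
  (QuotientGroup.lift Q (conjEnd A) (fun q hq => by
    refine AddMonoidHom.ext fun a => Additive.toMul.injective (Subtype.ext ?_)
    show q * ((Additive.toMul a : A) : G) * q⁻¹ = _
    rw [hQA q hq _ (Additive.toMul a).2, mul_inv_cancel_right]
    rfl)).comp e.symm.toMonoidHom

theorem sectionAct_apply (Q A : Subgroup G) [Q.Normal] [A.Normal] [IsMulCommutative A]
    (hQA : ∀ q ∈ Q, ∀ a ∈ A, q * a = a * q) (e : G ⧸ Q ≃* SpecialLinearGroup (Fin 2) K) (g : G)
    (a : Additive A) :
    ((Additive.toMul (sectionAct Q A hQA e (e g) a) : A) : G) =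
      g * ((Additive.toMul a : A) : G) * g⁻¹ := by
  have h : e.symm.toMonoidHom (e (g : G ⧸ Q)) = (g : G ⧸ Q) := e.symm_apply_apply _
  rw [sectionAct, MonoidHom.comp_apply, h]
  rfl

theorem sectionAct_fpf [Finite G] [Finite K] (Q A : Subgroup G) [Q.Normal] [A.Normal] [IsMulCommutative A]
    (hQA : ∀ q ∈ Q, ∀ a ∈ A, q * a = a * q) (hAQ : A ≤ Q) (hQ : IsPGroup 2 Q)
    (e : G ⧸ Q ≃* SpecialLinearGroup (Fin 2) K)
    {x : G} (hx : orderOf x = 3) (hfpf : ∀ q ∈ Q, x * q * x⁻¹ = q → q = 1) :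
    Fpf (sectionAct Q A hQA e) := by
  have hx3 : x ^ 3 = 1 := hx ▸ pow_orderOf_eq_one x
  have hxs : (e x : SpecialLinearGroup (Fin 2) K) ^ 3 = 1 := by
    rw [← map_pow, ← QuotientGroup.mk_pow, hx3, QuotientGroup.mk_one, map_one]
  have hxne : (e x : SpecialLinearGroup (Fin 2) K) ≠ 1 := by
    intro h
    have hxQ : x ∈ Q := (QuotientGroup.eq_one_iff x).mp (e.injective (h.trans (map_one e).symm))
    haveI : Fact (Nat.Prime 2) := ⟨Nat.prime_two⟩
    obtain ⟨k, hk⟩ := IsPGroup.iff_orderOf.mp hQ ⟨x, hxQ⟩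
    rw [← orderOf_coe, hx] at hk
    rcases k with _ | k
    · norm_num at hk
    · rw [pow_succ] at hk; omega
  intro s hs v
  obtain ⟨c, rfl⟩ := exists_conj_of_trace_one hs (trace_eq_one_of_pow_three hxs hxne)
  obtain ⟨c', rfl⟩ : ∃ c' : G, e c' = c := by
    obtain ⟨q, hq⟩ := QuotientGroup.mk_surjective (e.symm c)
    exact ⟨q, by rw [hq, e.apply_symm_apply]⟩
  set g := c' * x * c'⁻¹ with hg
  have heg : (e c' : SpecialLinearGroup (Fin 2) K) * e x * (e c')⁻¹ = e (g : G) := by
    rw [hg, QuotientGroup.mk_mul, QuotientGroup.mk_mul, QuotientGroup.mk_inv, map_mul, map_mul, map_inv]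
  rw [heg]
  set f := sectionAct Q A hQA e (e (g : G)) with hf
  set w := v + f v + f (f v) with hw
  have hf3 : f (f (f v)) = v := by
    apply Additive.toMul.injective
    apply Subtype.ext
    rw [hf, sectionAct_apply, sectionAct_apply, sectionAct_apply]
    have : g ^ 3 = 1 := by rw [hg, conj_pow, hx3, mul_one, mul_inv_cancel]
    calc g * (g * (g * ((Additive.toMul v : A) : G) * g⁻¹) * g⁻¹) * g⁻¹
        = g ^ 3 * ((Additive.toMul v : A) : G) * (g ^ 3)⁻¹ := by
          simp only [pow_three, _root_.mul_inv_rev, mul_assoc]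
      _ = _ := by rw [this]; simp
  have hfw : f w = w := by
    rw [hw, map_add, map_add, hf3]
    abel
  have hfix : g * ((Additive.toMul w : A) : G) * g⁻¹ = ((Additive.toMul w : A) : G) := by
    rw [← sectionAct_apply Q A hQA e g w, ← hf, hfw]
  set a := ((Additive.toMul w : A) : G)
  have h0 : c'⁻¹ * a * c' = 1 := by
    refine hfpf _ (by simpa using (inferInstance : Q.Normal).conj_mem a (hAQ (Additive.toMul w).2) c'⁻¹) ?_
    calc x * (c'⁻¹ * a * c') * x⁻¹ = c'⁻¹ * (g * a * g⁻¹) * c' := by rw [hg]; group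
      _ = _ := by rw [hfix]
  have ha : a = 1 := by
    calc a = c' * (c'⁻¹ * a * c') * c'⁻¹ := by group
      _ = 1 := by rw [h0, mul_one, mul_inv_cancel]
  exact Additive.toMul.injective (Subtype.ext ha)

/-- `Q` is elementary abelian. -/
theorem sq_eq_one [Finite K] (hK : 4 ≤ Nat.card K) : ∀ (N : ℕ) (G : Type u) [Group G] [Finite G]
    (Q : Subgroup G) [Q.Normal] (_ : IsPGroup 2 Q) (_ : G ⧸ Q ≃* SpecialLinearGroup (Fin 2) K)
    (x : G), orderOf x = 3 → (∀ q ∈ Q, x * q * x⁻¹ = q → q = 1) → Nat.card Q ≤ N →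
    ∀ a ∈ Q, a * a = 1 := by
  intro N
  induction N with
  | zero =>
    intro G _ _ Q _ _ _ x _ _ h
    have := Nat.card_pos (α := Q)
    omega
  | succ N ih =>
    intro G _ _ Q hQn hQ e x hx hfpf hN
    classical
    haveI : Fact (Nat.Prime 2) := ⟨Nat.prime_two⟩
    by_cases hQ1 : Q = ⊥
    · intro a ha
      rw [hQ1, mem_bot] at ha
      simp [ha]
    -- the central involutions
    let A : Subgroup G :=
      { carrier := {a | a ∈ Q ∧ (∀ q ∈ Q, q * a = a * q) ∧ a * a = 1}
        one_mem' := ⟨one_mem _, fun q _ => by simp, one_mul 1⟩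
        mul_mem' := fun {a b} ha hb => ⟨mul_mem ha.1 hb.1,
          fun q hq => by rw [← mul_assoc, ha.2.1 q hq, mul_assoc, hb.2.1 q hq, mul_assoc],
          by rw [mul_assoc a, ← mul_assoc b, hb.2.1 a ha.1 |>.symm, mul_assoc a b b, hb.2.2, mul_one, ha.2.2]⟩
        inv_mem' := fun {a} ha => by
          rw [show a⁻¹ = a from inv_eq_of_mul_eq_one_right ha.2.2]; exact ha }
    have hAQ : A ≤ Q := fun a ha => ha.1
    haveI : A.Normal := ⟨fun a ha g => ⟨hQn.conj_mem a ha.1 g, fun q hq => by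
      have h := ha.2.1 (g⁻¹ * q * g) (by simpa using hQn.conj_mem q hq g⁻¹)
      calc q * (g * a * g⁻¹) = g * ((g⁻¹ * q * g) * a) * g⁻¹ := by group
        _ = g * (a * (g⁻¹ * q * g)) * g⁻¹ := by rw [h]
        _ = g * a * g⁻¹ * q := by group, by
      calc g * a * g⁻¹ * (g * a * g⁻¹) = g * (a * a) * g⁻¹ := by group
        _ = 1 := by rw [ha.2.2, mul_one, mul_inv_cancel]⟩⟩
    haveI : IsMulCommutative A := IsMulCommutative.of_comm fun a b =>
      Subtype.ext (b.2.2.1 a a.2.1)
    have hQA : ∀ q ∈ Q, ∀ a ∈ A, q * a = a * q := fun q hq a ha => ha.2.1 q hq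
    set ρ := sectionAct Q A hQA e with hρ
    have hρa : ∀ g a, ((Additive.toMul (ρ (e (g : G)) a) : A) : G) = g * ((Additive.toMul a : A) : G) * g⁻¹ :=
      sectionAct_apply Q A hQA e
    have hf : Fpf ρ := sectionAct_fpf Q A hQA hAQ hQ e hx hfpf
    have h2 : ∀ v : Additive A, v + v = 0 := fun v => Additive.toMul.injective (Subtype.ext (Additive.toMul v).2.2.2)
    have hA1 : A ≠ ⊥ := by
      haveI : Nontrivial Q := (nontrivial_iff_ne_bot Q).mpr hQ1
      haveI := hQ.center_nontrivial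
      obtain ⟨n, hn, hcard⟩ := IsPGroup.exists_card_eq (hQ.to_subgroup (center Q)) |>.elim fun n hn =>
        (⟨n, fun h0 => by
          have := Finite.one_lt_card (α := center Q)
          rw [hn, h0, pow_zero] at this; omega, hn⟩ : ∃ n, n ≠ 0 ∧ Nat.card (center Q) = 2 ^ n)
      obtain ⟨z, hz⟩ := exists_prime_orderOf_dvd_card' 2 (hcard ▸ dvd_pow_self 2 hn : 2 ∣ Nat.card (center Q))
      intro hbot
      have hzA : ((z : Q) : G) ∈ A := ⟨(z : Q).2, fun q hq => congrArg Subtype.val (mem_center_iff.mp z.2 ⟨q, hq⟩), by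
        have := pow_orderOf_eq_one z
        rw [hz, pow_two] at this
        exact congrArg (fun w : center Q => ((w : Q) : G)) this⟩
      rw [hbot, mem_bot] at hzA
      have : z = 1 := Subtype.ext (Subtype.ext hzA)
      rw [this, orderOf_one] at hz
      omega
    obtain ⟨k, Θ, hΘ, -, htop⟩ := exists_decomp ρ hK h2 hf
    have hk : 0 < k := by
      rcases Nat.eq_zero_or_pos k with rfl | hk
      · exfalso
        rw [iSup_of_empty] at htop
        apply hA1
        refine (eq_bot_iff_forall _).mpr fun a ha => ?_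
        have h : Additive.ofMul (⟨a, ha⟩ : A) ∈ (⊥ : AddSubgroup (Additive A)) := htop ▸ trivial
        exact congrArg (fun w : Additive A => ((Additive.toMul w : A) : G)) (AddSubgroup.mem_bot.mp h)
      · exact hk
    set Ψ := Θ ⟨0, hk⟩ with hΨdef
    obtain ⟨hΨ, hinj⟩ := hΘ ⟨0, hk⟩
    rw [← hΨdef] at hΨ hinj
    let M : Subgroup G :=
      { carrier := {a | ∃ v, ((Additive.toMul (Ψ v) : A) : G) = a}
        one_mem' := ⟨0, by rw [map_zero]; rfl⟩
        mul_mem' := by
          rintro _ _ ⟨v, rfl⟩ ⟨w, rfl⟩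
          exact ⟨v + w, by rw [map_add]; rfl⟩
        inv_mem' := by
          rintro _ ⟨v, rfl⟩
          exact ⟨-v, by rw [map_neg]; rfl⟩ }
    have hMA : M ≤ A := by
      rintro _ ⟨v, rfl⟩; exact (Additive.toMul (Ψ v)).2
    have hMQ : M ≤ Q := hMA.trans hAQ
    haveI hMn : M.Normal := ⟨by
      rintro _ ⟨v, rfl⟩ g
      exact ⟨_, by rw [← hΨ (e (g : G)) v, hρa]⟩⟩
    set π := QuotientGroup.mk' M with hπ
    have hπs : Function.Surjective π := QuotientGroup.mk'_surjective M
    set Q' := Q.map π with hQ'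
    haveI : Q'.Normal := hQn.map π hπs
    have hQ'p : IsPGroup 2 Q' := hQ.map π
    let e' : (G ⧸ M) ⧸ Q' ≃* SpecialLinearGroup (Fin 2) K :=
      (QuotientGroup.quotientQuotientEquivQuotient M Q hMQ).trans e
    have he' : ∀ g : G, e' (π g : G ⧸ M) = e (g : G) := fun g => rfl
    have hx' : orderOf (π x) = 3 := by
      haveI : Fact (Nat.Prime 3) := ⟨Nat.prime_three⟩
      refine orderOf_eq_prime (by rw [← map_pow, ← hx, pow_orderOf_eq_one, map_one]) fun h => ?_
      have hxQ : x ∈ Q := hMQ ((QuotientGroup.eq_one_iff x).mp h)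
      obtain ⟨j, hj⟩ := IsPGroup.iff_orderOf.mp hQ ⟨x, hxQ⟩
      rw [← orderOf_coe, hx] at hj
      rcases j with _ | j
      · norm_num at hj
      · rw [pow_succ] at hj; omega
    have hfpf' : ∀ q ∈ Q', π x * q * (π x)⁻¹ = q → q = 1 := by
      rintro _ ⟨q, hq, rfl⟩ hfix
      let d : M → M := fun m => ⟨x * m * x⁻¹ * (m : G)⁻¹, mul_mem (hMn.conj_mem m m.2 x) (inv_mem m.2)⟩
      have hd : Function.Injective d := by
        intro m m' h
        have h' : x * (m : G) * x⁻¹ * (m : G)⁻¹ = x * (m' : G) * x⁻¹ * (m' : G)⁻¹ := congrArg Subtype.val h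
        have hc : (m : G)⁻¹ * m' = m' * (m : G)⁻¹ := ((hMA (inv_mem m.2)).2.1 m' (hMQ m'.2)).symm
        have h0 : (m' : G)⁻¹ * m = 1 := hfpf _ (mul_mem (inv_mem (hMQ m'.2)) (hMQ m.2)) (by
          calc x * ((m' : G)⁻¹ * m) * x⁻¹ = (x * m' * x⁻¹)⁻¹ * (x * m * x⁻¹) := by group
            _ = (x * m' * x⁻¹ * (m' : G)⁻¹ * m')⁻¹ * (x * m * x⁻¹ * (m : G)⁻¹ * m) := by group
            _ = (x * m' * x⁻¹ * (m' : G)⁻¹ * m')⁻¹ * (x * m' * x⁻¹ * (m' : G)⁻¹ * m) := by rw [h']
            _ = (m' : G)⁻¹ * m := by group)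
        exact Subtype.ext (eq_of_inv_mul_eq_one h0).symm
      have hm : x * q * x⁻¹ * q⁻¹ ∈ M := by
        rw [← QuotientGroup.eq_one_iff]
        show π (x * q * x⁻¹ * q⁻¹) = 1
        rw [map_mul, map_mul, map_mul, map_inv, map_inv, hfix, mul_inv_cancel]
      obtain ⟨m, hme⟩ := Finite.surjective_of_injective hd ⟨_, hm⟩
      have hme' : x * (m : G) * x⁻¹ * (m : G)⁻¹ = x * q * x⁻¹ * q⁻¹ := congrArg Subtype.val hme
      have h0 : (m : G)⁻¹ * q = 1 := hfpf _ (mul_mem (inv_mem (hMQ m.2)) hq) (by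
        calc x * ((m : G)⁻¹ * q) * x⁻¹ = (x * m * x⁻¹ * (m : G)⁻¹ * m)⁻¹ * (x * q * x⁻¹ * q⁻¹ * q) := by group
          _ = (x * q * x⁻¹ * q⁻¹ * m)⁻¹ * (x * q * x⁻¹ * q⁻¹ * q) := by rw [hme']
          _ = _ := by group)
      exact (QuotientGroup.eq_one_iff q).mpr ((eq_of_inv_mul_eq_one h0) ▸ m.2)
    have hMcard : 1 < Nat.card M := by
      haveI : Nontrivial M := ⟨⟨_, ![1, 0], rfl⟩, 1, fun h => by
        have h1 : Ψ ![1, 0] = 0 := Additive.toMul.injective (Subtype.ext (congrArg (fun z : M => (z : G)) h))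
        simpa using congrFun (hinj (h1.trans (map_zero Ψ).symm)) 0⟩
      exact Finite.one_lt_card
    have hN' : Nat.card Q' ≤ N := by
      have h1 : Nat.card Q = Nat.card Q' * Nat.card M := by
        have hker : (π.comp Q.subtype).ker = M.subgroupOf Q := by
          rw [← MonoidHom.comap_ker, hπ, QuotientGroup.ker_mk']; rfl
        have h := (π.comp Q.subtype).ker.card_mul_index
        rw [Subgroup.index_ker, MonoidHom.range_comp, range_subtype, hker,
          Nat.card_congr (subgroupOfEquivOfLe hMQ).toEquiv] at h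
        rw [← h, mul_comm]
      have h3 : 0 < Nat.card Q' := Nat.card_pos
      nlinarith
    have hsq' := ih (G ⧸ M) Q' hQ'p e' (π x) hx' hfpf' hN'
    have hcomm' : ∀ a ∈ Q', ∀ b ∈ Q', a * b = b * a := fun a ha b hb => by
      have h1 := hsq' _ (mul_mem ha hb)
      have h2 := hsq' a ha
      have h3 := hsq' b hb
      calc a * b = a * b * ((b * a) * (b * a)) := by rw [hsq' _ (mul_mem hb ha), mul_one]
        _ = a * (b * b) * a * (b * a) := by group
        _ = b * a := by rw [h3, mul_one, h2, one_mul]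
    haveI : IsMulCommutative Q' := IsMulCommutative.of_comm fun a b => Subtype.ext (hcomm' a a.2 b b.2)
    set ρ' := sectionAct Q' Q' hcomm' e' with hρ'
    have hρ'a : ∀ g a, ((Additive.toMul (ρ' (e (g : G)) a) : Q') : G ⧸ M) =
        π g * ((Additive.toMul a : Q') : G ⧸ M) * (π g)⁻¹ := fun g a => by
      rw [← he']; exact sectionAct_apply Q' Q' hcomm' e' (π g) a
    have hf' : Fpf ρ' := sectionAct_fpf Q' Q' hcomm' le_rfl hQ'p e' hx' hfpf'
    have h2' : ∀ v : Additive Q', v + v = 0 := fun v =>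
      Additive.toMul.injective (Subtype.ext (hsq' _ (Additive.toMul v).2))
    obtain ⟨k', Φ, hΦ, -, htop'⟩ := exists_decomp ρ' hK h2' hf'
    have hsurjσ : ∀ (i : Fin k') (v : Fin 2 → K), ∃ a : Q, π (a : G) = ((Additive.toMul (Φ i v) : Q') : G ⧸ M) := by
      intro i v
      obtain ⟨a, ha, hae⟩ := (Additive.toMul (Φ i v)).2
      exact ⟨⟨a, ha⟩, hae⟩
    choose σ hσ using hsurjσ
    have hMc : ∀ m ∈ M, ∀ q ∈ Q, q * m = m * q := fun m hm q hq => (hMA hm).2.1 q hq
    have hgen : ∀ S : Subgroup G, M ≤ S → (∀ i v, (σ i v : G) ∈ S) → Q ≤ S := by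
      intro S hMS hσS q hq
      have hq' : Additive.ofMul (⟨π q, q, hq, rfl⟩ : Q') ∈ (⊤ : AddSubgroup (Additive Q')) := trivial
      rw [← htop'] at hq'
      have key : ∀ w : Additive Q', w ∈ ⨆ i, (Φ i).range →
          ∃ s ∈ S, π s = ((Additive.toMul w : Q') : G ⧸ M) := by
        intro w hw
        induction hw using AddSubgroup.iSup_induction' with
        | hp i w hw =>
          obtain ⟨v, rfl⟩ := hw
          exact ⟨σ i v, hσS i v, hσ i v⟩
        | h1 => exact ⟨1, one_mem _, map_one π⟩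
        | hadd w w' _ _ hw hw' =>
          obtain ⟨s, hs, hse⟩ := hw
          obtain ⟨s', hs', hse'⟩ := hw'
          exact ⟨s * s', mul_mem hs hs', by rw [map_mul, hse, hse']; rfl⟩
      obtain ⟨s, hs, hse⟩ := key _ hq'
      have h1 : s⁻¹ * q ∈ M := QuotientGroup.eq.mp hse
      simpa using mul_mem hs (hMS h1)
    have hσadd : ∀ i v w, ((σ i (v + w) : G))⁻¹ * ((σ i v : G) * σ i w) ∈ M := fun i v w => by
      refine QuotientGroup.eq.mp ?_
      show π (σ i (v + w) : G) = π ((σ i v : G) * σ i w)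
      rw [map_mul, hσ, hσ, hσ, map_add]; rfl
    have hσeq : ∀ i (g : G) v, ((σ i (((e (g : G)) : Matrix (Fin 2) (Fin 2) K) *ᵥ v) : G))⁻¹ *
        (g * σ i v * g⁻¹) ∈ M := fun i g v => by
      refine QuotientGroup.eq.mp ?_
      show π _ = π (g * σ i v * g⁻¹)
      rw [map_mul, map_mul, map_inv, hσ, hσ, ← (hΦ i).1, hρ'a]
    have hesurj : ∀ s : SpecialLinearGroup (Fin 2) K, ∃ g : G, e (g : G) = s := fun s => by
      obtain ⟨q, hq⟩ := QuotientGroup.mk_surjective (e.symm s)
      exact ⟨q, by rw [hq, e.apply_symm_apply]⟩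
    have hK2 : ∃ a : K, a ≠ 0 ∧ a ≠ 1 := by
      haveI := Fintype.ofFinite K
      by_contra! hall
      have h3 := Finset.card_le_card (fun x _ => by
        rcases eq_or_ne x 0 with h | h
        · simp [h]
        · simp [hall x h] : (Finset.univ : Finset K) ⊆ {0, 1})
      have h4 : ({0, 1} : Finset K).card ≤ 2 := Finset.card_le_two
      rw [Finset.card_univ, ← Nat.card_eq_fintype_card] at h3
      omega
    have hcM : ∀ a ∈ Q, ∀ b ∈ Q, ⁅a, b⁆ ∈ A := fun a ha b hb => hMA (by
      rw [← QuotientGroup.eq_one_iff]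
      show π ⁅a, b⁆ = 1
      rw [map_commutatorElement, commutatorElement_eq_one_iff_mul_comm]
      exact hcomm' _ ⟨a, ha, rfl⟩ _ ⟨b, hb, rfl⟩)
    have comm_left : ∀ a ∈ Q, ∀ b ∈ Q, ∀ c ∈ Q, ⁅a * b, c⁆ = ⁅a, c⁆ * ⁅b, c⁆ := fun a ha b hb c hc => by
      calc ⁅a * b, c⁆ = a * ⁅b, c⁆ * a⁻¹ * ⁅a, c⁆ := by simp only [commutatorElement_def]; group
        _ = ⁅a, c⁆ * ⁅b, c⁆ := by
          rw [(hcM b hb c hc).2.1 a ha, mul_inv_cancel_right, (hcM a ha c hc).2.1 _ (hcM b hb c hc).1]
    have comm_m : ∀ m ∈ M, ∀ c ∈ Q, ⁅m, c⁆ = 1 := fun m hm c hc =>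
      commutatorElement_eq_one_iff_mul_comm.mpr (hMc m hm c hc).symm
    have comm_indep : ∀ a ∈ Q, ∀ b ∈ Q, ∀ c ∈ Q, a⁻¹ * b ∈ M → ⁅a, c⁆ = ⁅b, c⁆ ∧ ⁅c, a⁆ = ⁅c, b⁆ := by
      intro a ha b hb c hc hab
      have h1 : ⁅a, c⁆ = ⁅b, c⁆ := by
        conv_rhs => rw [show b = a * (a⁻¹ * b) by rw [mul_inv_cancel_left]]
        rw [comm_left a ha _ (hMQ hab) c hc, comm_m _ hab c hc, mul_one]
      refine ⟨h1, ?_⟩
      rw [← commutatorElement_inv a c, ← commutatorElement_inv b c, h1]
    -- the commutator pairing vanishes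
    have hpair : ∀ i j v w, (σ i v : G) * σ j w = σ j w * σ i v := by
      intro i j v w
      let β : (Fin 2 → K) → (Fin 2 → K) → Additive A := fun v w =>
        Additive.ofMul ⟨⁅(σ i v : G), (σ j w : G)⁆, hcM _ (σ i v).2 _ (σ j w).2⟩
      have h := pairing_eq_zero ρ hK2 h2 hf β
        (fun v v' w => by
          apply Additive.toMul.injective; apply Subtype.ext
          show ⁅(σ i (v + v') : G), (σ j w : G)⁆ = ⁅(σ i v : G), (σ j w : G)⁆ * ⁅(σ i v' : G), (σ j w : G)⁆
          rw [← comm_left _ (σ i v).2 _ (σ i v').2 _ (σ j w).2]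
          exact (comm_indep _ (σ i (v + v')).2 _ (mul_mem (σ i v).2 (σ i v').2) _ (σ j w).2 (hσadd i v v')).1)
        (fun v w w' => by
          apply Additive.toMul.injective; apply Subtype.ext
          show ⁅(σ i v : G), (σ j (w + w') : G)⁆ = ⁅(σ i v : G), (σ j w : G)⁆ * ⁅(σ i v : G), (σ j w' : G)⁆
          rw [(comm_indep _ (σ j (w + w')).2 _ (mul_mem (σ j w).2 (σ j w').2) _ (σ i v).2 (hσadd j w w')).2,
            ← commutatorElement_inv ((σ j w : G) * σ j w') (σ i v), comm_left _ (σ j w).2 _ (σ j w').2 _ (σ i v).2,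
            _root_.mul_inv_rev, commutatorElement_inv, commutatorElement_inv]
          exact (hcM _ (σ i v).2 _ (σ j w).2).2.1 _ (hcM _ (σ i v).2 _ (σ j w').2).1)
        (fun s v w => by
          obtain ⟨g, rfl⟩ := hesurj s
          apply Additive.toMul.injective; apply Subtype.ext
          rw [hρa]
          show g * ⁅(σ i v : G), (σ j w : G)⁆ * g⁻¹ = _
          have hgi := hQn.conj_mem _ (σ i v).2 g
          have hgj := hQn.conj_mem _ (σ j w).2 g
          rw [show g * ⁅(σ i v : G), (σ j w : G)⁆ * g⁻¹ = ⁅g * (σ i v : G) * g⁻¹, g * (σ j w : G) * g⁻¹⁆ by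
            simp only [commutatorElement_def]; group]
          show _ = ⁅(σ i _ : G), (σ j _ : G)⁆
          rw [(comm_indep _ (σ i _).2 _ hgi _ (σ j _).2 (hσeq i g v)).1,
            (comm_indep _ (σ j _).2 _ hgj _ hgi (hσeq j g w)).2]) v w
      exact commutatorElement_eq_one_iff_mul_comm.mp
        (congrArg (fun z : Additive A => ((Additive.toMul z : A) : G)) h)
    have hQc : ∀ a ∈ Q, ∀ b ∈ Q, a * b = b * a := by
      have h1 : ∀ i v, Q ≤ centralizer ({(σ i v : G)} : Set G) := fun i v =>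
        hgen _ (fun m hm => mem_centralizer_singleton_iff.mpr (hMc m hm _ (σ i v).2).symm)
          (fun j w => mem_centralizer_singleton_iff.mpr (hpair j i w v))
      intro a ha b hb
      exact mem_centralizer_singleton_iff.mp (hgen (centralizer ({b} : Set G))
        (fun m hm => mem_centralizer_singleton_iff.mpr (hMc m hm b hb).symm)
        (fun i v => mem_centralizer_singleton_iff.mpr (mem_centralizer_singleton_iff.mp (h1 i v hb)).symm) ha)
    -- squares vanish
    haveI : IsMulCommutative Q := IsMulCommutative.of_comm fun a b => Subtype.ext (hQc a a.2 b b.2)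
    set ρQ := sectionAct Q Q hQc e
    have hρQ : ∀ g a, ((Additive.toMul (ρQ (e (g : G)) a) : Q) : G) = g * ((Additive.toMul a : Q) : G) * g⁻¹ :=
      sectionAct_apply Q Q hQc e
    have hsqσ : ∀ i v, (σ i v : G) * σ i v = 1 := by
      intro i
      have hsqmem : ∀ v, (σ i v : G) * σ i v ∈ M := fun v => by
        rw [← QuotientGroup.eq_one_iff]
        show π _ = 1
        rw [map_mul]
        exact hsq' _ ⟨_, (σ i v).2, rfl⟩
      let f : (Fin 2 → K) → Additive Q := fun v => Additive.ofMul (σ i v) + Additive.ofMul (σ i v)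
      have hsqeq : ∀ a b : Q, (a : G)⁻¹ * b ∈ M → (a : G) * a = b * b := fun a b h => by
        have h2 := (hMA h).2.2
        have hbe : (b : G) = a * ((a : G)⁻¹ * b) := by rw [mul_inv_cancel_left]
        set m := (a : G)⁻¹ * b
        rw [hbe]
        calc (a : G) * a = a * a * (m * m) := by rw [h2, mul_one]
          _ = a * (a * m) * m := by simp only [mul_assoc]
          _ = a * (m * a) * m := by rw [hMc m h a a.2]
          _ = a * m * (a * m) := by simp only [mul_assoc]
      let Φs : (Fin 2 → K) →+ Additive Q := AddMonoidHom.mk' f fun v w => by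
        apply Additive.toMul.injective; apply Subtype.ext
        show (σ i (v + w) : G) * σ i (v + w) = (σ i v : G) * σ i v * ((σ i w : G) * σ i w)
        rw [hsqeq _ ⟨_, mul_mem (σ i v).2 (σ i w).2⟩ (hσadd i v w)]
        show (σ i v : G) * σ i w * ((σ i v : G) * σ i w) = _
        calc _ = (σ i v : G) * ((σ i w : G) * σ i v) * σ i w := by simp only [mul_assoc]
          _ = (σ i v : G) * ((σ i v : G) * σ i w) * σ i w := by rw [hQc _ (σ i w).2 _ (σ i v).2]
          _ = _ := by simp only [mul_assoc]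
      have hΦs : IsNat ρQ Φs := fun s v => by
        obtain ⟨g, rfl⟩ := hesurj s
        apply Additive.toMul.injective; apply Subtype.ext
        rw [hρQ]
        show g * ((σ i v : G) * σ i v) * g⁻¹ = (σ i _ : G) * σ i _
        rw [hsqeq (σ i _) ⟨_, hQn.conj_mem _ (σ i v).2 g⟩ (hσeq i g v)]
        group
      by_cases h0 : Φs = 0
      · intro v
        exact congrArg (fun z : Additive Q => ((Additive.toMul z : Q) : G)) (DFunLike.congr_fun h0 v)
      exfalso
      have hinjs := hΦs.injective ρQ h0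
      let ι : (Fin 2 → K) → M := fun v => ⟨_, hsqmem v⟩
      have hι : Function.Bijective ι := by
        have hi : Function.Injective ι := fun v w h => hinjs (by
          apply Additive.toMul.injective; apply Subtype.ext
          exact congrArg (fun z : M => (z : G)) h)
        refine ⟨hi, ?_⟩
        let j : (Fin 2 → K) → M := fun v => ⟨_, v, rfl⟩
        have hj : Function.Surjective j := fun ⟨a, v, hv⟩ => ⟨v, Subtype.ext hv⟩
        have hc : Nat.card M ≤ Nat.card (Fin 2 → K) := Nat.card_le_card_of_surjective j hj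
        exact (hi.bijective_of_nat_card_le hc).2
      have hmemM : ∀ a b : Q, (a : G)⁻¹ * b ∈ M → Additive.ofMul b - Additive.ofMul a ∈ Φs.range := by
        intro a b h
        obtain ⟨v, hv⟩ := hι.2 ⟨_, h⟩
        refine ⟨v, Additive.toMul.injective (Subtype.ext ?_)⟩
        show (σ i v : G) * σ i v = (b : G) / a
        rw [show (σ i v : G) * σ i v = (a : G)⁻¹ * b from congrArg Subtype.val hv, div_eq_mul_inv,
          hQc _ (inv_mem a.2) _ b.2]
      refine square_false ρQ hK hΦs hinjs (fun v => Additive.ofMul (σ i v))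
        (fun v w => ?_) (fun s v => ?_) (fun v => rfl)
      · have h := hmemM (σ i (v + w)) (σ i v * σ i w) (hσadd i v w)
        rw [← neg_sub]
        exact neg_mem h
      · obtain ⟨g, rfl⟩ := hesurj s
        have h := hmemM (σ i _) (Additive.toMul (ρQ (e (g : G)) (Additive.ofMul (σ i v)))) (by
          rw [hρQ]; exact hσeq i g v)
        exact h
    let S : Subgroup G :=
      { carrier := {a | a ∈ Q ∧ a * a = 1}
        one_mem' := ⟨one_mem _, one_mul 1⟩
        mul_mem' := fun {a b} ha hb => ⟨mul_mem ha.1 hb.1, by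
          calc a * b * (a * b) = a * (b * a) * b := by simp only [mul_assoc]
            _ = (a * a) * (b * b) := by rw [hQc b hb.1 a ha.1]; simp only [mul_assoc]
            _ = 1 := by rw [ha.2, hb.2, one_mul]⟩
        inv_mem' := fun {a} ha => by
          rw [show a⁻¹ = a from inv_eq_of_mul_eq_one_right ha.2]; exact ha }
    intro a ha
    exact (hgen S (fun m hm => ⟨hMQ hm, (hMA hm).2.2⟩) (fun i v => ⟨(σ i v).2, hsqσ i v⟩) ha).2

end H79.SL2Fpf
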