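import Cfsg.Prelude.Def_Transfer
import Cfsg.Agent.H6.Basic
import Mathlib.GroupTheory.PGroup
import Mathlib.GroupTheory.Frattini

set_option autoImplicit false

/-!
Nonabelian groups of order p³ are extraspecial.
-/

namespace H79

open Subgroup
open scoped commutatorElement

variable {X : Type*} [Group X] [Finite X] {p : ℕ} [Fact p.Prime]

theorem commute_of_cyclic_center_quotient (h : IsCyclic (X ⧸ center X)) (x y : X) : x * y = y * x :=
  commutative_of_cyclic_center_quotient (QuotientGroup.mk' (center X)) (by rw [QuotientGroup.ker_mk']) x y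

theorem extraspecial_of_card_cube (hcard : Nat.card X = p ^ 3) {a c : X} (hac : a * c ≠ c * a) :
    Cfsg.IsExtraspecial p X := by
  have hp : p.Prime := Fact.out
  have hX : IsPGroup p X := IsPGroup.of_card hcard
  set Z := center X with hZ
  have hZtop : Z ≠ ⊤ := fun h => hac (mem_center_iff.mp (show c ∈ Z from h.symm ▸ mem_top c) a)
  obtain ⟨k, hk⟩ := IsPGroup.iff_card.mp (hX.to_subgroup Z)
  have hidx := Z.card_mul_index
  rw [hk, hcard] at hidx
  have hk3 : k ≤ 3 := (Nat.pow_dvd_pow_iff_le_right hp.one_lt).mp ⟨Z.index, hidx.symm⟩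
  have hindex : Z.index = p ^ (3 - k) :=
    mul_left_cancel₀ (pow_ne_zero k hp.ne_zero) (by rw [hidx, ← pow_add, Nat.add_sub_cancel' hk3])
  haveI : Nontrivial X := by
    rw [← Finite.one_lt_card_iff_nontrivial, hcard]; exact Nat.one_lt_pow three_ne_zero hp.one_lt
  have hk1 : k = 1 := by
    have hne : k ≠ 0 := fun h => by
      rw [h, pow_zero] at hk
      exact (IsPGroup.bot_lt_center hX).ne' (eq_bot_of_card_eq _ hk)
    have h3 : k ≠ 3 := fun h => hZtop (eq_top_of_card_eq _ (by rw [hk, hcard, h]))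
    have h2 : k ≠ 2 := fun h => by
      apply hac
      refine commute_of_cyclic_center_quotient ?_ a c
      refine isCyclic_of_prime_card (p := p) ?_
      rw [← index_eq_card, ← hZ, hindex, h, pow_one]
    omega
  subst hk1
  have hq : Nat.card (X ⧸ Z) = p ^ 2 := by rw [← index_eq_card, hindex]
  have hcomm : ∀ u v : X ⧸ Z, u * v = v * u := IsPGroup.commutative_of_card_eq_prime_sq hq
  have hpow : ∀ x : X, x ^ p ∈ Z := by
    intro x
    rw [← QuotientGroup.eq_one_iff, QuotientGroup.mk_pow]
    obtain ⟨j, hj, hjo⟩ := (Nat.dvd_prime_pow hp).mp (hq ▸ orderOf_dvd_natCard (QuotientGroup.mk x : X ⧸ Z))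
    have hj2 : j ≠ 2 := fun h => hac (commute_of_cyclic_center_quotient
      (isCyclic_of_orderOf_eq_card (QuotientGroup.mk x : X ⧸ Z) (by rw [hjo, h, hq])) a c)
    refine orderOf_dvd_iff_pow_eq_one.mp (hjo ▸ ?_)
    exact (pow_dvd_pow p (show j ≤ 1 by omega)).trans (by rw [pow_one])
  have hle : commutator X ≤ Z := by
    rw [_root_.commutator_def, commutator_le]
    intro u _ v _
    rw [← QuotientGroup.eq_one_iff, ← QuotientGroup.mk'_apply, map_commutatorElement,
      commutatorElement_eq_one_iff_mul_comm]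
    exact hcomm _ _
  have hge : commutator X = Z := by
    refine eq_of_le_of_card_ge hle ?_
    obtain ⟨j, -, hj⟩ := (Nat.dvd_prime_pow hp).mp (hk ▸ card_dvd_of_le hle)
    rcases Nat.eq_zero_or_pos j with h0 | h0
    · exfalso
      rw [h0, pow_zero] at hj
      have hb : commutator X = ⊥ := eq_bot_of_card_eq _ hj
      have hm : ⁅a, c⁆ ∈ commutator X := commutator_mem_commutator (mem_top a) (mem_top c)
      rw [hb, mem_bot, commutatorElement_eq_one_iff_mul_comm] at hm
      exact hac hm
    · rw [hj, hk]; exact Nat.pow_le_pow_right hp.pos h0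
  refine ⟨⟨hX, le_antisymm ?_ ?_, hge⟩, by rw [← hZ, hk, pow_one]⟩
  · exact H6.frattini_le_of_quotient (p := p) _ hle hpow
  · rw [← hZ, ← hge]; exact H6.commutator_le_frattini hX

end H79
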