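import Cfsg.Agent.H79.StronglyEmbedded
import Cfsg.Agent.H79.CoprimeGen
import Cfsg.Agent.H2.UniqueSubgroup
import Cfsg.Agent.H10.PSolvable
import Cfsg.Agent.H11.ZJ
import Cfsg.Prelude.Def_Local

set_option autoImplicit false

/-!
A p-solvable group has a strongly p-embedded subgroup iff O_p = 1 and its Sylow p-subgroups are cyclic
or generalized quaternion.
-/

namespace H79

open Subgroup

theorem quaternion_two_torsion (k : ℕ) (x : QuaternionGroup (2 ^ k)) (hx : x ^ 2 = 1) :
    x = 1 ∨ x = QuaternionGroup.a ((2 ^ k : ℕ) : ZMod (2 * 2 ^ k)) := by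
  have hne : ((2 ^ k : ℕ) : ZMod (2 * 2 ^ k)) ≠ 0 := fun h => by
    have h1 := Nat.le_of_dvd (Nat.two_pow_pos k) ((ZMod.natCast_eq_zero_iff (2 ^ k) (2 * 2 ^ k)).mp h)
    have h2 := Nat.one_le_two_pow (n := k)
    omega
  cases x with
  | a i =>
    rw [pow_two, QuaternionGroup.a_mul_a, QuaternionGroup.one_def] at hx
    have h0 : i + i = 0 := QuaternionGroup.a.inj hx
    have hd : (2 * 2 ^ k) ∣ 2 * i.val := by
      rw [← ZMod.natCast_eq_zero_iff]
      rw [Nat.cast_mul, ZMod.natCast_rightInverse i, Nat.cast_ofNat]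
      exact (two_mul i).trans h0
    have hd' : 2 ^ k ∣ i.val := (mul_dvd_mul_iff_left two_ne_zero).mp hd
    obtain ⟨c, hc⟩ := hd'
    have hlt := ZMod.val_lt i
    have hc2 : c < 2 := by
      by_contra h
      rw [hc] at hlt
      nlinarith [Nat.one_le_two_pow (n := k)]
    rw [QuaternionGroup.one_def]
    interval_cases c
    · left
      rw [mul_zero, ZMod.val_eq_zero] at hc
      rw [hc]
    · right
      rw [mul_one] at hc
      exact congrArg QuaternionGroup.a (((congrArg Nat.cast hc).symm.trans (ZMod.natCast_rightInverse i)).symm)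
  | xa i =>
    exfalso
    rw [pow_two, QuaternionGroup.xa_mul_xa, QuaternionGroup.one_def] at hx
    have h0 := QuaternionGroup.a.inj hx
    rw [add_sub_cancel_right] at h0
    exact hne h0

theorem unique_of_cyclic_or_quaternion {P : Type*} [Group P] [Finite P] {p : ℕ} [Fact p.Prime]
    (h : IsCyclic P ∨ (p = 2 ∧ ∃ n : ℕ, Nonempty (P ≃* QuaternionGroup (2 ^ n))))
    {x y : P} (hx : orderOf x = p) (hy : orderOf y = p) : y ∈ zpowers x := by
  rcases h with h | ⟨rfl, n, ⟨e⟩⟩
  · have h1 : zpowers x = zpowers y := by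
      classical
      haveI := Fintype.ofFinite P
      have hsub : ∀ z : P, orderOf z = p → ∀ w ∈ zpowers z, w ^ p = 1 := by
        intro z hz w hw
        exact orderOf_dvd_iff_pow_eq_one.mp (hz ▸ orderOf_dvd_of_mem_zpowers hw)
      have hcard : (Finset.univ.filter fun w : P => w ^ p = 1).card ≤ p :=
        IsCyclic.card_pow_eq_one_le (Fact.out : p.Prime).pos
      have hset : ∀ z : P, orderOf z = p → (zpowers z : Set P).toFinset = Finset.univ.filter fun w : P => w ^ p = 1 := by
        intro z hz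
        refine Finset.eq_of_subset_of_card_le (fun w hw => by
          simp only [Set.mem_toFinset, SetLike.mem_coe] at hw
          simp [hsub z hz w hw]) (hcard.trans (le_of_eq ?_))
        rw [Set.toFinset_card, ← Nat.card_eq_fintype_card, ← hz, ← Nat.card_zpowers]
        rfl
      exact SetLike.coe_injective (Set.toFinset_inj.mp ((hset x hx).trans (hset y hy).symm))
    rw [h1]
    exact mem_zpowers y
  · have hcases : ∀ z : P, orderOf z = 2 → e z = QuaternionGroup.a ((2 ^ n : ℕ) : ZMod (2 * 2 ^ n)) := by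
      intro z hz
      refine (quaternion_two_torsion n (e z) ?_).resolve_left ?_
      · rw [← map_pow, orderOf_dvd_iff_pow_eq_one.mp hz.dvd, map_one]
      · intro h1
        rw [show z = 1 from e.injective (h1.trans (map_one e).symm), orderOf_one] at hz
        exact absurd hz (by decide)
    rw [show y = x from e.injective ((hcases y hy).trans (hcases x hx).symm)]
    exact mem_zpowers x

theorem exists_elementary_of_not_cyclic {G : Type*} [Group G] [Finite G] {p : ℕ} [Fact p.Prime]
    (P : Subgroup G) (hP : IsPGroup p P)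
    (h : ¬ (IsCyclic ↥P ∨ (p = 2 ∧ ∃ n : ℕ, Nonempty (↥P ≃* QuaternionGroup (2 ^ n))))) :
    ∃ A : Subgroup G, A ≤ P ∧ IsMulCommutative A ∧ (∀ a ∈ A, a ^ p = 1) ∧ ¬ IsCyclic A := by
  have hpr : p.Prime := Fact.out
  have hP1 : P ≠ ⊥ := fun e => h (Or.inl (by
    rw [e]; exact isCyclic_of_subsingleton))
  obtain ⟨z, hz, hzp, hzc⟩ := H76.exists_central_orderOf_eq hP hP1
  obtain ⟨y, hy, hyp, hyz⟩ : ∃ y ∈ P, y ^ p = 1 ∧ y ∉ zpowers z := by
    by_contra hne
    push_neg at hne
    refine h (H2.cyclic_or_quaternion_of_unique hP fun H K hH hK => ?_)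
    have key : ∀ L : Subgroup ↥P, Nat.card L = p → L.map P.subtype = zpowers z := by
      intro L hL
      refine eq_of_le_of_card_ge ?_ ?_
      · rintro _ ⟨w, hw, rfl⟩
        refine hne _ w.2 ?_
        rw [← hL]
        exact congrArg (fun t : L => ((t : ↥P) : G)) (pow_card_eq_one' (G := L) (x := ⟨w, hw⟩))
      · rw [Nat.card_zpowers, hzp, card_map_of_injective P.subtype_injective, hL]
    exact map_injective P.subtype_injective ((key H hH).trans (key K hK).symm)
  have hcomm : ∀ a ∈ ({z, y} : Set G), ∀ c ∈ ({z, y} : Set G), a * c = c * a := by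
    have hzy : z * y = y * z := (hzc y hy).symm
    rintro a (rfl | rfl) c (rfl | rfl) <;> first | rfl | exact hzy | exact hzy.symm
  have hexp : ∀ a ∈ closure ({z, y} : Set G), a ^ p = 1 := by
    intro a ha
    induction ha using closure_induction with
    | mem w hw =>
      rcases hw with rfl | rfl
      · rw [← hzp, pow_orderOf_eq_one]
      · exact hyp
    | one => exact one_pow p
    | mul a c ha hc iha ihc =>
      have hac : Commute a c := congrArg Subtype.val
        ((Subgroup.isMulCommutative_closure hcomm).is_comm.comm (⟨a, ha⟩ : closure ({z, y} : Set G)) ⟨c, hc⟩)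
      rw [hac.mul_pow, iha, ihc, one_mul]
    | inv a _ iha => rw [inv_pow, iha, inv_one]
  refine ⟨closure {z, y}, (closure_le _).mpr (by rintro a (rfl | rfl); exacts [hz, hy]),
    Subgroup.isMulCommutative_closure hcomm, hexp, ?_⟩
  · intro hc
    obtain ⟨⟨g, hg⟩, hgen⟩ := hc
    have hzg : z ∈ zpowers g := by
      obtain ⟨i, hi⟩ := mem_zpowers_iff.mp (hgen ⟨z, subset_closure (Or.inl rfl)⟩)
      exact ⟨i, congrArg Subtype.val hi⟩
    have hyg : y ∈ zpowers g := by
      obtain ⟨i, hi⟩ := mem_zpowers_iff.mp (hgen ⟨y, subset_closure (Or.inr rfl)⟩)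
      exact ⟨i, congrArg Subtype.val hi⟩
    have hgp : g ^ p = 1 := hexp g hg
    have he : zpowers z = zpowers g := eq_of_le_of_card_ge (zpowers_le.mpr hzg) (by
      rw [Nat.card_zpowers, Nat.card_zpowers, hzp]
      exact Nat.le_of_dvd hpr.pos (orderOf_dvd_of_pow_eq_one hgp))
    exact hyz (he ▸ hyg)

theorem not_connected_iff_pSolvable {G : Type*} [Group G] [Finite G]
    (p : ℕ) [Fact p.Prime] (hdiv : p ∣ Nat.card G) (hsol : Cfsg.IsPSolvable p G) (P : Sylow p G) :
    ¬ Cfsg.IsSylowChainConnected p G ↔ Cfsg.pCore p G = ⊥ ∧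
      (IsCyclic ↥(P : Subgroup G) ∨
        (p = 2 ∧ ∃ n : ℕ, Nonempty (↥(P : Subgroup G) ≃* QuaternionGroup (2 ^ n)))) := by
  have hpr : p.Prime := Fact.out
  constructor
  · intro hnc
    have hO : Cfsg.pCore p G = ⊥ := by
      by_contra hO
      refine hnc (isSylowChainConnected_iff.mpr fun S T => ?_)
      by_cases e : S = T
      · rw [e]
      · exact .single ⟨e, fun hb => hO (le_bot_iff.mp (hb ▸ le_inf (H1.pCore_le_sylow S) (H1.pCore_le_sylow T)))⟩
    refine ⟨hO, ?_⟩
    by_contra hcyc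
    obtain ⟨H₀, hH₀⟩ := not_connected_iff.mp hnc
    have hH₀' := classicalSPE_iff.mp hH₀
    obtain ⟨S, hPH, -⟩ := H76.spe_exists_sylow_le hH₀'
    have e : ↥(P : Subgroup G) ≃* ↥(S : Subgroup G) := P.equiv S
    have hcycS : ¬ (IsCyclic ↥(S : Subgroup G) ∨
        (p = 2 ∧ ∃ n : ℕ, Nonempty (↥(S : Subgroup G) ≃* QuaternionGroup (2 ^ n)))) := by
      rintro (h | ⟨h2, n, ⟨f⟩⟩)
      · exact hcyc (Or.inl (e.isCyclic.mpr h))
      · exact hcyc (Or.inr ⟨h2, n, ⟨e.trans f⟩⟩)
    obtain ⟨A, hAP, hAc, hAexp, hAnc⟩ := exists_elementary_of_not_cyclic _ S.isPGroup' hcycS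
    set K := Cfsg.pPrimeCore p G with hK
    haveI : K.Normal := H1.pPrimeCore_normal' p G
    have hKH : K ≤ H₀ := by
      refine le_of_centralizers_le hAexp hAnc
        (by rw [normalizer_eq_top]; exact le_top) (H1.card_pPrimeCore_coprime p G) fun x hx hx1 => ?_
      exact inf_le_right.trans (H76.spe_centralizer_le hH₀' (hPH (hAP hx))
        (orderOf_eq_prime (hAexp x hx) hx1))
    set L := Cfsg.pPrimePCore p G with hL
    haveI : (Cfsg.pCore p (G ⧸ K)).Normal := H1.pCore_normal' p _
    haveI : L.Normal := Subgroup.Normal.comap inferInstance _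
    have hdL : p ∣ Nat.card L := by
      haveI : Nontrivial (G ⧸ K) := by
        rw [← Finite.one_lt_card_iff_nontrivial]
        have h1 := card_eq_card_quotient_mul_card_subgroup K
        have hd : p ∣ Nat.card (G ⧸ K) := ((hpr.coprime_iff_not_dvd.mpr fun h => hpr.ne_one
          (Nat.eq_one_of_dvd_coprimes (H1.card_pPrimeCore_coprime p G) h dvd_rfl)).dvd_of_dvd_mul_right
            (h1 ▸ hdiv))
        exact lt_of_lt_of_le hpr.one_lt (Nat.le_of_dvd Nat.card_pos hd)
      rcases H10.pCore_or_pPrimeCore_ne_bot (H10.isPSolvable_quotient hsol K) with h | h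
      · obtain ⟨j, hj⟩ := IsPGroup.iff_card.mp (H1.isPGroup_pCore p (G ⧸ K))
        have hj0 : j ≠ 0 := fun h0 => h (eq_bot_of_card_eq _ (by rw [hj, h0, pow_zero]))
        refine (dvd_pow_self p hj0).trans (hj ▸ ?_)
        rw [← map_comap_eq_self_of_surjective (QuotientGroup.mk'_surjective K) (Cfsg.pCore p (G ⧸ K))]
        exact card_map_dvd _ _
      · exact absurd (H10.pPrimeCore_quotient_pPrimeCore) h
    obtain ⟨a, haP, haL, hao⟩ := exists_orderOf_mem_inf_normal S L hdL
    set R := (S : Subgroup G) ⊓ L with hR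
    have hR1 : R ≠ ⊥ := fun e => by
      have : a ∈ R := ⟨haP, haL⟩
      rw [e, mem_bot] at this
      rw [this, orderOf_one] at hao
      exact hpr.ne_one hao.symm
    have hLH : L ≤ H₀ := by
      have hidx : ((K ⊔ R).subgroupOf L).index = 1 := by
        refine Nat.eq_one_of_dvd_coprimes ?_
          (index_dvd_of_le (comap_mono le_sup_right : R.subgroupOf L ≤ (K ⊔ R).subgroupOf L))
          (index_dvd_of_le (comap_mono le_sup_left : K.subgroupOf L ≤ (K ⊔ R).subgroupOf L))
        haveI : (K.subgroupOf L).Normal := normal_subgroupOf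
        have hq : IsPGroup p (↥L ⧸ K.subgroupOf L) := by
          intro x
          obtain ⟨x, rfl⟩ := QuotientGroup.mk_surjective x
          obtain ⟨j, hj⟩ := H1.isPGroup_pCore p (G ⧸ K) ⟨QuotientGroup.mk' K (x : G), x.2⟩
          refine ⟨j, ?_⟩
          rw [← QuotientGroup.mk_pow, QuotientGroup.eq_one_iff]
          exact (QuotientGroup.eq_one_iff (N := K) ((x : G) ^ p ^ j)).mp
            ((map_pow (QuotientGroup.mk' K) (x : G) _).trans (congrArg Subtype.val hj))
        obtain ⟨j, hj⟩ := IsPGroup.iff_card.mp hq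
        rw [← index_eq_card] at hj
        show Nat.Coprime (R.subgroupOf L).index (K.subgroupOf L).index
        rw [hj]
        refine Nat.Coprime.pow_right _ (hpr.coprime_iff_not_dvd.mpr ?_).symm
        exact H11.not_dvd_inf_relIndex_of_normal S L
      intro x hx
      have h1 : (⟨x, hx⟩ : L) ∈ (K ⊔ R).subgroupOf L := index_eq_one.mp hidx ▸ mem_top _
      exact sup_le hKH (inf_le_left.trans hPH) h1
    apply H76.spe_ne_top hH₀'
    rw [eq_top_iff, ← H11.normalizer_inf_sup_eq_top S L]
    exact sup_le (H76.spe_normalizer_le hH₀' (inf_le_left.trans hPH) (S.isPGroup'.to_le inf_le_left) hR1) hLH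
  · rintro ⟨hO, hcyc⟩
    have hP1 : (P : Subgroup G) ≠ ⊥ := fun e => by
      refine P.not_dvd_index ?_
      rwa [e, index_bot]
    obtain ⟨z, hz, hzp, -⟩ := H76.exists_central_orderOf_eq P.isPGroup' hP1
    have huniq : ∀ y ∈ (P : Subgroup G), orderOf y = p → zpowers y = zpowers z := by
      intro y hy hyp
      refine eq_of_le_of_card_ge (zpowers_le.mpr ?_) (by rw [Nat.card_zpowers, Nat.card_zpowers, hyp, hzp])
      obtain ⟨i, hi⟩ := mem_zpowers_iff.mp (unique_of_cyclic_or_quaternion hcyc
        (x := (⟨z, hz⟩ : (P : Subgroup G))) (y := ⟨y, hy⟩) (by rw [orderOf_mk, hzp]) (by rw [orderOf_mk, hyp]))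
      exact ⟨i, congrArg Subtype.val hi⟩
    set H := normalizer ((zpowers z : Subgroup G) : Set G) with hH
    have hPH : (P : Subgroup G) ≤ H := le_normalizer_of_conj_mem fun s hs x hx => by
      have hx' : zpowers (s * z * s⁻¹) = zpowers z :=
        huniq _ (mul_mem (mul_mem hs hz) (inv_mem hs)) (by rw [← MulAut.conj_apply, MulEquiv.orderOf_eq, hzp])
      obtain ⟨i, rfl⟩ := mem_zpowers_iff.mp hx
      rw [← conj_zpow, ← hx']
      exact zpow_mem (mem_zpowers _) i
    refine not_connected_iff.mpr ⟨H, fun htop => ?_, dvd_card_of_orderOf_eq (le_normalizer (mem_zpowers z)) hzp,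
      fun g hg hd => hg ?_⟩
    · haveI : (zpowers z).Normal := normalizer_eq_top_iff.mp htop
      have hle : zpowers z ≤ Cfsg.pCore p G :=
        H1.le_pCore (IsPGroup.iff_card.mpr ⟨1, by rw [Nat.card_zpowers, hzp, pow_one]⟩)
      rw [hO, le_bot_iff, zpowers_eq_bot] at hle
      rw [hle, orderOf_one] at hzp
      exact hpr.ne_one hzp.symm
    · have inH : ∀ x ∈ H, orderOf x = p → zpowers x = zpowers z := by
        intro x hx hxp
        obtain ⟨k, hk, hkx⟩ := H76.exists_conj_mem_sylow (P.subtype hPH) (zpowers_le.mpr hx)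
          (IsPGroup.iff_card.mpr ⟨1, by rw [Nat.card_zpowers, hxp, pow_one]⟩)
        have h1 := hkx x (mem_zpowers x)
        rw [Sylow.coe_subtype, map_subgroupOf_eq_of_le hPH] at h1
        have h2 := huniq _ h1 (by rw [← MulAut.conj_apply, MulEquiv.orderOf_eq, hxp])
        have h3 : zpowers x ≤ zpowers z := by
          rw [zpowers_le]
          have h4 : k * x * k⁻¹ ∈ zpowers z := h2 ▸ mem_zpowers _
          exact (mem_normalizer_iff.mp hk x).mpr h4
        exact eq_of_le_of_card_ge h3 (by rw [Nat.card_zpowers, Nat.card_zpowers, hxp, hzp])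
      obtain ⟨x, hx⟩ := exists_prime_orderOf_dvd_card' p hd
      obtain ⟨h1, h2⟩ := mem_inf.mp x.2
      rw [mem_conj_map] at h2
      have hxp : orderOf (x : G) = p := by rw [orderOf_coe, hx]
      have h2p : orderOf (g⁻¹ * (x : G) * g) = p := by
        have e : g⁻¹ * (x : G) * g = MulAut.conj g⁻¹ (x : G) := by simp
        rw [e, MulEquiv.orderOf_eq, hxp]
      have e2 : (MulAut.conj g).toMonoidHom (g⁻¹ * (x : G) * g) = (x : G) := by simp [mul_assoc]
      rw [hH, mem_normalizer_iff_map_conj_eq]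
      refine ((congrArg (Subgroup.map (MulAut.conj g).toMonoidHom) (inH _ h2 h2p).symm).trans ?_).trans
        (inH _ h1 hxp)
      rw [MonoidHom.map_zpowers, e2]

end H79
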