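import Cfsg.Agent.H79.OffenderTwo
import Cfsg.Agent.H79.AbelianStable

/-!
The `P(G,V)`-theorem: a best offender normalises every component.
-/

set_option autoImplicit false
set_option linter.all false
set_option maxHeartbeats 1000000

universe w

namespace H79.Offender

section

variable {G : Type*} [Group G]

theorem nrm_pow {K : Subgroup G} {e : G} (h : Nrm e K) : ∀ n : ℕ, Nrm (e ^ n) K
  | 0 => fun x hx => by simpa using hx
  | n + 1 => fun x hx => by
    rw [show e ^ (n + 1) * x * (e ^ (n + 1))⁻¹ = e * (e ^ n * x * (e ^ n)⁻¹) * e⁻¹ by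
      rw [pow_succ']; group]
    exact h _ (nrm_pow h n x hx)

/-- `∏_{i < n} aⁱ x a⁻ⁱ`. -/
def dd (a : G) : ℕ → G → G
  | 0, _ => 1
  | n + 1, x => x * (a * dd a n x * a⁻¹)

variable {a : G} {K : Subgroup G} {p : ℕ}

theorem dd_commute (hc : ∀ i, 0 < i → i < p → ∀ x ∈ K, ∀ y ∈ K, Commute (a ^ i * x * (a ^ i)⁻¹) y)
    {x y : G} (hx : x ∈ K) (hy : y ∈ K) :
    ∀ n j, 0 < j → j + n ≤ p → Commute (a ^ j * dd a n x * (a ^ j)⁻¹) y
  | 0, j, _, _ => by rw [show dd a 0 x = 1 from rfl, mul_one, mul_inv_cancel]; exact Commute.one_left y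
  | n + 1, j, hj, hle => by
    rw [show dd a (n + 1) x = x * (a * dd a n x * a⁻¹) from rfl,
      show a ^ j * (x * (a * dd a n x * a⁻¹)) * (a ^ j)⁻¹ =
        (a ^ j * x * (a ^ j)⁻¹) * (a ^ (j + 1) * dd a n x * (a ^ (j + 1))⁻¹) by
        rw [pow_succ]; group]
    exact (hc j hj (by omega) x hx y hy).mul_left
      (dd_commute hc hx hy n (j + 1) (by omega) (by omega))

theorem rest_commute (hc : ∀ i, 0 < i → i < p → ∀ x ∈ K, ∀ y ∈ K, Commute (a ^ i * x * (a ^ i)⁻¹) y)
    {x y : G} (hx : x ∈ K) (hy : y ∈ K) {n : ℕ} (hn : n + 1 ≤ p) :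
    Commute y (a * dd a n x * a⁻¹) := by
  have := (dd_commute hc hx hy n 1 one_pos (by omega)).symm
  rwa [pow_one] at this

theorem dd_mul (hc : ∀ i, 0 < i → i < p → ∀ x ∈ K, ∀ y ∈ K, Commute (a ^ i * x * (a ^ i)⁻¹) y)
    {x y : G} (hx : x ∈ K) (hy : y ∈ K) : ∀ n, n ≤ p → dd a n (x * y) = dd a n x * dd a n y
  | 0, _ => (one_mul 1).symm
  | n + 1, hn => by
    show x * y * (a * dd a n (x * y) * a⁻¹) = x * (a * dd a n x * a⁻¹) * (y * (a * dd a n y * a⁻¹))
    rw [dd_mul hc hx hy n (by omega), show a * (dd a n x * dd a n y) * a⁻¹ =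
      (a * dd a n x * a⁻¹) * (a * dd a n y * a⁻¹) by group]
    exact Commute.mul_mul_mul_comm (rest_commute hc hx hy hn) _ _

theorem dd_succ_right (a x : G) : ∀ n, dd a (n + 1) x = dd a n x * (a ^ n * x * (a ^ n)⁻¹)
  | 0 => by simp [dd]
  | n + 1 => by
    show x * (a * dd a (n + 1) x * a⁻¹) = x * (a * dd a n x * a⁻¹) * _
    rw [dd_succ_right a x n, pow_succ']
    group

theorem dd_conj {e : G} (hea : Commute e a) (x : G) :
    ∀ n, e * dd a n x * e⁻¹ = dd a n (e * x * e⁻¹)
  | 0 => by simp [dd]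
  | n + 1 => by
    show e * (x * (a * dd a n x * a⁻¹)) * e⁻¹ = e * x * e⁻¹ * (a * dd a n (e * x * e⁻¹) * a⁻¹)
    rw [← dd_conj hea x n]
    calc e * (x * (a * dd a n x * a⁻¹)) * e⁻¹
        = e * x * e⁻¹ * ((e * a) * dd a n x * (a⁻¹ * e⁻¹)) := by group
      _ = e * x * e⁻¹ * ((a * e) * dd a n x * (e⁻¹ * a⁻¹)) := by rw [hea.eq, hea.inv_inv.eq]
      _ = _ := by group

theorem dd_commute_self (hp : 0 < p) (hap : a ^ p = 1)
    (hc : ∀ i, 0 < i → i < p → ∀ x ∈ K, ∀ y ∈ K, Commute (a ^ i * x * (a ^ i)⁻¹) y)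
    {x : G} (hx : x ∈ K) : Commute a (dd a p x) := by
  obtain ⟨n, rfl⟩ : ∃ n, p = n + 1 := ⟨p - 1, by omega⟩
  have h2 : dd a (n + 2) x = dd a (n + 1) x * x := by
    rw [show n + 2 = n + 1 + 1 from rfl, dd_succ_right, hap]; simp
  have h3 : Commute x (dd a (n + 1) x) :=
    (Commute.refl x).mul_right (rest_commute hc hx hx le_rfl)
  have h4 : x * (a * dd a (n + 1) x * a⁻¹) = dd a (n + 1) x * x := h2
  rw [← h3.eq] at h4
  have h5 := mul_left_cancel h4
  show a * dd a (n + 1) x = dd a (n + 1) x * a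
  exact mul_inv_eq_iff_eq_mul.mp h5

end

variable {G : Type*} [Group G] [Finite G] {V : Type*} [AddCommGroup V] [Finite V]
  (φ : G →* AddMonoid.End V)

theorem kill_symm {e f : G} (hef : Commute e f)
    (h : ∀ v, φ e (φ f v - v) = φ f v - v) : ∀ v, φ f (φ e v - v) = φ e v - v := fun v => by
  have h1 := h v
  rw [map_sub, ← phi_mul_apply, hef.eq, phi_mul_apply] at h1
  rw [map_sub]
  calc φ f (φ e v) - φ f v = (φ f (φ e v) - φ e v) + φ e v - φ f v := by abel
    _ = φ e v - v := by rw [h1]; abel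

/-- The odd case with an element centralising `[V,a]` and normalising `K`. -/
theorem odd_false {p : ℕ} [Fact p.Prime] (hp : p ≠ 2) (hV : ∀ v : V, p • v = 0)
    (hφ : Function.Injective φ) {K : Subgroup G} (hKq : Cfsg.IsQuasisimple K) {a b : G}
    (hap : a ^ p = 1) (hab : Commute a b)
    (hc : ∀ i, 0 < i → i < p → ∀ x ∈ K, ∀ y ∈ K, Commute (a ^ i * x * (a ^ i)⁻¹) y)
    (hbK : Nrm b K) (hbC : ∃ x ∈ K, ¬ Commute b x)
    (hkill : ∀ v, φ b (φ a v - v) = φ a v - v) : False := by
  classical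
  have hp0 : 0 < p := (Fact.out : p.Prime).pos
  have hK : commutator K = ⊤ := Cfsg.Comp.perfect_of_quasisimple hKq
  let δ : K →* G := MonoidHom.mk' (fun x => dd a p (x : G)) (fun x y => dd_mul hc x.2 y.2 p le_rfl)
  have hδa : ∀ x, Commute a (δ x) := fun x => dd_commute_self hp0 hap hc x.2
  set N := (fixU φ a).comap δ
  haveI : N.Normal := ⟨fun k hk t => by
    show δ (t * k * t⁻¹) ∈ fixU φ a
    rw [map_mul, map_mul, map_inv]
    exact fixU_conj φ (hδa t) hk⟩
  have hbU : b ∈ fixU φ a := ⟨hab, AddMonoidHom.ext hkill⟩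
  have hNtop : N = ⊤ := by
    rcases Cfsg.Comp.normal_eq_top_or_le_center hKq (N := N) inferInstance with h | h
    · exact h
    exfalso
    obtain ⟨x, hx, hbx⟩ := hbC
    refine hbx (commute_of_central hK b hbK (fun y hy => h ?_) x hx)
    show δ ((⟨y, hy⟩ : K)⁻¹ * ⟨b * y * b⁻¹, hbK y hy⟩) ∈ fixU φ a
    rw [map_mul, map_inv]
    show (δ ⟨y, hy⟩)⁻¹ * dd a p (b * y * b⁻¹) ∈ fixU φ a
    rw [← dd_conj hab.symm y p]
    rw [show (δ ⟨y, hy⟩)⁻¹ * (b * dd a p y * b⁻¹) =
      ((δ ⟨y, hy⟩)⁻¹ * b * (δ ⟨y, hy⟩)⁻¹⁻¹) * b⁻¹ by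
        rw [inv_inv, show δ ⟨y, hy⟩ = dd a p y from rfl]; group]
    exact (fixU φ a).mul_mem (fixU_conj φ (hδa _).inv_right hbU) ((fixU φ a).inv_mem hbU)
  set H := K ⊔ Subgroup.zpowers a with hH
  set φH := φ.comp H.subtype with hφH
  have hKH : K ≤ H := le_sup_left
  have haH : a ∈ H := Subgroup.mem_sup_right (Subgroup.mem_zpowers a)
  set K' := K.subgroupOf H with hK'
  have hK'q : Cfsg.IsQuasisimple K' :=
    Cfsg.Comp.isQuasisimple_of_equiv (Subgroup.subgroupOfEquivOfLe hKH).symm hKq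
  obtain ⟨k0, hk0⟩ : ∃ k : K, (k : G) ≠ 1 := by
    haveI := Cfsg.Comp.nontrivial_of_quasisimple hKq
    obtain ⟨k, hk⟩ := exists_ne (1 : K)
    exact ⟨k, fun e => hk (Subtype.ext e)⟩
  obtain ⟨X, hX, R, hR, ⟨k, hk, hk1⟩, hirr⟩ := exists_section φH
    (Cfsg.Comp.perfect_of_quasisimple hK'q)
    ⟨⟨k0, hKH k0.2⟩, k0.2, fun e => hk0 (hφ (e.trans (map_one φ).symm))⟩
  set ψ := quoHom (resHom φH X hX) R hR with hψ
  set a' : H := ⟨a, haH⟩ with ha'
  let ι : K →* H := Subgroup.inclusion hKH
  let f : ℕ → (K →* AddMonoid.End (X ⧸ R)) := fun i =>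
    ψ.comp ((MulAut.conj (a' ^ i)).toMonoidHom.comp ι)
  have hfi : ∀ i x, f i x = ψ (a' ^ i * ι x * (a' ^ i)⁻¹) := fun i x => rfl
  have ha'p : a' ^ p = 1 := Subtype.ext hap
  refine hk1 ?_
  have hf0 : f 0 ⟨k, hk⟩ = ψ k := by
    rw [hfi, pow_zero, one_mul, inv_one, mul_one]
    rfl
  rw [← hf0]
  refine odd_orbit_trivial (p := p) hp ?_ hK f (ψ a') (by rw [← map_pow, ha'p, map_one]) ?_ ?_ ?_
    ?_ ?_ _
  · intro q
    induction q using QuotientAddGroup.induction_on with
    | H v =>
      rw [← QuotientAddGroup.mk_nsmul, show p • v = 0 from Subtype.ext (hV v),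
        QuotientAddGroup.mk_zero]
  · intro i x
    rw [hfi, hfi, ← map_mul, ← map_mul, pow_succ']
    congr 1
    group
  · refine MonoidHom.ext fun x => ?_
    rw [hfi, hfi, ha'p, pow_zero]
  · intro i hi hip x y
    have h : Commute (a' ^ i * ι y * (a' ^ i)⁻¹) (a' ^ 0 * ι x * (a' ^ 0)⁻¹) := by
      refine Subtype.ext ?_
      simp only [pow_zero, one_mul, inv_one, mul_one]
      exact hc i hi hip y y.2 x x.2
    exact (h.map ψ).symm
  · intro x
    obtain ⟨n, hn⟩ : ∃ n, p = n + 1 := ⟨p - 1, by omega⟩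
    have hdH : ∀ n, dd a n (x : G) ∈ H := by
      intro n
      induction n with
      | zero => exact H.one_mem
      | succ n ih => exact H.mul_mem (hKH x.2) (H.mul_mem (H.mul_mem haH ih) (H.inv_mem haH))
    set r : H := a' * ⟨dd a n x, hdH n⟩ * a'⁻¹ with hr
    have hxr : ι x * r = (⟨δ x, hdH p⟩ : H) := by
      apply Subtype.ext
      show (x : G) * (a * dd a n x * a⁻¹) = dd a p x
      rw [hn]; rfl
    have hfix : (δ x) ∈ fixU φ a := (hNtop ▸ Subgroup.mem_top x : x ∈ N)
    have hf0x : f 0 x = ψ (ι x) := by rw [hfi, pow_zero, one_mul, inv_one, mul_one]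
    refine ⟨ψ r, fun y => ?_, ?_, ?_⟩
    · rw [hfi, pow_zero, one_mul, inv_one, mul_one]
      exact (show Commute (ι y) r from Subtype.ext (rest_commute hc x.2 y.2 hn.ge)).map ψ
    · rw [hf0x, ← map_mul, hxr]
      refine AddMonoidHom.ext fun q => ?_
      induction q using QuotientAddGroup.induction_on with
      | H v => exact congrArg (QuotientAddGroup.mk' R) (Subtype.ext (DFunLike.congr_fun hfix.2 (v : V)))
    · rw [hf0x, ← map_mul, hxr]
      refine AddMonoidHom.ext fun q => ?_
      induction q using QuotientAddGroup.induction_on with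
      | H v =>
        exact congrArg (QuotientAddGroup.mk' R)
          (Subtype.ext (DFunLike.congr_fun (fixU_right φ hfix) (v : V)))
  · intro Y hYa hYf
    refine hirr Y fun g => ?_
    have hg : g ∈ K' ⊔ Subgroup.zpowers a' := by
      have h1 : Subgroup.zpowers a' = (Subgroup.zpowers a).subgroupOf H := by
        apply Subgroup.map_injective H.subtype_injective
        rw [MonoidHom.map_zpowers, Subgroup.subgroupOf_map_subtype,
          inf_of_le_left (le_sup_right : Subgroup.zpowers a ≤ H)]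
        rfl
      rw [h1, ← Subgroup.subgroupOf_sup hKH le_sup_right, Subgroup.subgroupOf_self]
      exact Subgroup.mem_top g
    refine inv_of_sup ψ ?_ ?_ g hg
    · intro g hg v hv
      have h := hYf 0 ⟨g, hg⟩ v hv
      rw [hfi, pow_zero, one_mul, inv_one, mul_one] at h
      exact h
    · intro g hg v hv
      rw [← mem_powers_iff_mem_zpowers] at hg
      obtain ⟨n, rfl⟩ := hg
      induction n with
      | zero =>
        rw [show (fun x => a' ^ x) 0 = 1 from pow_zero a', phi_one_apply]; exact hv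
      | succ n ih =>
        show ψ (a' ^ (n + 1)) v ∈ Y
        rw [pow_succ', phi_mul_apply]
        exact hYa _ ih

/-- The theorem for a faithful action. -/
theorem pgv : ∀ (n : ℕ) (G : Type w) [Group G] [Finite G] (V : Type w) [AddCommGroup V] [Finite V]
    (φ : G →* AddMonoid.End V) (p : ℕ) [Fact p.Prime] (A K : Subgroup G),
    Nat.card A = n → (∀ v : V, p • v = 0) → Function.Injective φ → Cfsg.IsQuasisimple K →
    (∀ a ∈ A, ∀ b ∈ A, Commute a b) → (∀ a ∈ A, a ^ p = 1) →
    (∀ e ∈ A, Nrm e K ∨ ∀ x ∈ K, ∀ y ∈ K, Commute (e * x * e⁻¹) y) → Best φ A →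
    ∀ a ∈ A, Nrm a K := by
  intro n
  induction n using Nat.strong_induction_on with
  | _ n ih =>
  intro G _ _ V _ _ φ p _ A K hn hV hφ hKq hab hpow horb hbest a ha
  classical
  by_contra haK
  have hK : commutator K = ⊤ := Cfsg.Comp.perfect_of_quasisimple hKq
  have hprime : p.Prime := Fact.out
  have hAp : IsPGroup p A := fun e => ⟨1, Subtype.ext (by rw [pow_one]; exact hpow e e.2)⟩
  have hinv : a⁻¹ = a ^ (p - 1) := inv_eq_of_mul_eq_one_right (by
    rw [← pow_succ', show p - 1 + 1 = p by have := hprime.one_lt; omega, hpow a ha])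
  by_cases hA0 : ∃ e ∈ A, e ≠ 1 ∧ ∀ x ∈ K, Commute e x
  · -- pass to the fixed points of `C_A(K)`
    obtain ⟨e0, he0, he01, he0K⟩ := hA0
    let A0 : Subgroup G :=
      { carrier := {e | e ∈ A ∧ ∀ x ∈ K, Commute e x}
        one_mem' := ⟨A.one_mem, fun x _ => Commute.one_left x⟩
        mul_mem' := fun {e f} he hf => ⟨A.mul_mem he.1 hf.1, fun x hx => (he.2 x hx).mul_left (hf.2 x hx)⟩
        inv_mem' := fun {e} he => ⟨A.inv_mem he.1, fun x hx => (he.2 x hx).inv_left⟩ }
    set W := fixedBy φ (A0 : Set G) with hW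
    set S := Subgroup.centralizer (A0 : Set G) with hS
    have hSc : ∀ s : S, ∀ e ∈ A0, Commute (s : G) e := fun s e he =>
      (Subgroup.mem_centralizer_iff.mp s.2 e he).symm
    have hAS : A ≤ S := fun x hx => Subgroup.mem_centralizer_iff.mpr fun e he => (hab e he.1 x hx).eq
    have hKS : K ≤ S := fun x hx => Subgroup.mem_centralizer_iff.mpr fun e he => (he.2 x hx).eq
    set φW := resHom (φ.comp S.subtype) W
      (fun s v hv => map_mem_fixedBy_of_commute φ hv (hSc s)) with hφW
    have hKne : ∃ x : K, φW ⟨x, hKS x.2⟩ ≠ 1 := by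
      by_contra hcon
      push Not at hcon
      have hbot : K ≤ ⊥ := by
        refine (Cfsg.Comp.perfect_le_closure_not_dvd p ?_).trans ((Subgroup.closure_le _).mpr ?_)
        · exact Subgroup.isPerfect_iff.mp hKq.1
        · rintro x ⟨hx, hxp⟩
          have h1 := phi_eq_one_of_fix φ hV (P := A0) (fun e => by
            obtain ⟨k, hk⟩ := hAp ⟨(e : G), e.2.1⟩
            exact ⟨k, Subtype.ext (congrArg (fun q : A => (q : G)) hk :)⟩) hxp
            (fun e he => he.2 x hx) (fun v hv => by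
              have h2 := DFunLike.congr_fun (hcon ⟨x, hx⟩) (⟨v, hv⟩ : W)
              exact congrArg Subtype.val h2)
          rw [SetLike.mem_coe, Subgroup.mem_bot]
          exact hφ (h1.trans (map_one φ).symm)
      have := Cfsg.Comp.nontrivial_of_quasisimple hKq
      exact (Subgroup.nontrivial_iff_ne_bot K).mp this (le_bot_iff.mp hbot)
    set π := φW.toHomUnits.rangeRestrict with hπ
    haveI : Finite φW.toHomUnits.range :=
      Finite.of_surjective _ φW.toHomUnits.rangeRestrict_surjective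
    set φ' : φW.toHomUnits.range →* AddMonoid.End W :=
      (Units.coeHom (AddMonoid.End W)).comp φW.toHomUnits.range.subtype with hφ'
    have hπφ : ∀ s, φ' (π s) = φW s := fun s => rfl
    have hφ'inj : Function.Injective φ' := fun _ _ h => Subtype.ext (Units.ext h)
    let ι : K →* S := Subgroup.inclusion hKS
    set A' := (A.subgroupOf S).map π with hA'
    set K' := (π.comp ι).range with hK'
    haveI : Nontrivial K' := by
      rw [Subgroup.nontrivial_iff_ne_bot]
      intro h
      obtain ⟨x, hx⟩ := hKne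
      refine hx ?_
      have := (Subgroup.eq_bot_iff_forall _).mp h (π (ι x)) ⟨x, rfl⟩
      show φW (ι x) = 1
      rw [← hπφ, this, map_one]
    set θ := π.comp (A.subgroupOf S).subtype with hθ
    have hθr : θ.range = A' := by
      rw [hθ, MonoidHom.range_comp, Subgroup.range_subtype]
    have hAcard : Nat.card A = Nat.card A' * Nat.card θ.ker := by
      have h := Subgroup.card_mul_index θ.ker
      rw [Subgroup.index_ker, hθr, Nat.card_congr (Subgroup.subgroupOfEquivOfLe hAS).toEquiv] at h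
      rw [← h, mul_comm]
    have hker1 : 1 < Nat.card θ.ker := by
      rw [Finite.one_lt_card_iff_nontrivial, Subgroup.nontrivial_iff_ne_bot]
      intro h
      refine he01 ?_
      have hm : (⟨⟨e0, hAS he0⟩, he0⟩ : A.subgroupOf S) ∈ θ.ker := by
        rw [MonoidHom.mem_ker]
        refine Subtype.ext (Units.ext (AddMonoidHom.ext fun v => Subtype.ext ?_))
        show φ e0 (v : V) = v
        exact v.2 e0 ⟨he0, he0K⟩
      rw [h, Subgroup.mem_bot] at hm
      exact congrArg (fun q : A.subgroupOf S => ((q : S) : G)) hm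
    have hbest' : Best φ' A' := by
      intro B' hB'
      set B1 := A.subgroupOf S ⊓ B'.comap π with hB1
      set B := B1.map S.subtype with hBdef
      have hBA : B ≤ A := by rintro _ ⟨q, hq, rfl⟩; exact hq.1
      have hB1c : Nat.card B1 = Nat.card B' * Nat.card θ.ker := by
        set θ1 := π.comp B1.subtype with hθ1
        have hr : θ1.range = B' := by
          rw [hθ1, MonoidHom.range_comp, Subgroup.range_subtype]
          refine le_antisymm (by rintro _ ⟨q, hq, rfl⟩; exact hq.2) fun q hq => ?_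
          obtain ⟨e, he, rfl⟩ := hB' hq
          exact ⟨e, ⟨he, hq⟩, rfl⟩
        have hk : Nat.card θ1.ker = Nat.card θ.ker := by
          refine Nat.card_congr
            { toFun := fun q => ⟨⟨((q : B1) : S), (q : B1).2.1⟩, q.2⟩
              invFun := fun q => ⟨⟨((q : A.subgroupOf S) : S), (q : A.subgroupOf S).2, ?_⟩, q.2⟩
              left_inv := fun q => rfl
              right_inv := fun q => rfl }
          show π ((q : A.subgroupOf S) : S) ∈ B'
          rw [show π ((q : A.subgroupOf S) : S) = 1 from q.2]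
          exact B'.one_mem
        have h := Subgroup.card_mul_index θ1.ker
        rw [Subgroup.index_ker, hr, hk] at h
        rw [← h, mul_comm]
      have hBc : Nat.card B = Nat.card B1 :=
        Nat.card_congr (B1.equivMapOfInjective S.subtype S.subtype_injective).symm.toEquiv
      have hFB : Nat.card (fixedBy φ' (B' : Set _)) ≤ Nat.card (fixedBy φ (B : Set G)) := by
        refine Nat.card_le_card_of_injective (fun q => (⟨((q : W) : V), ?_⟩ : fixedBy φ (B : Set G))) ?_
        · rintro _ ⟨e, he, rfl⟩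
          exact congrArg Subtype.val (q.2 _ he.2)
        · intro q r h
          exact Subtype.ext (Subtype.ext (congrArg Subtype.val h :))
      have hFA : Nat.card (fixedBy φ (A : Set G)) ≤ Nat.card (fixedBy φ' (A' : Set _)) := by
        refine Nat.card_le_card_of_injective (fun q =>
          (⟨⟨(q : V), fun e he => q.2 e he.1⟩, ?_⟩ : fixedBy φ' (A' : Set _))) ?_
        · rintro _ ⟨e, he, rfl⟩
          exact Subtype.ext (q.2 _ he)
        · intro q r h
          exact Subtype.ext (congrArg (fun z : fixedBy φ' (A' : Set _) => ((z : W) : V)) h)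
      refine Nat.le_of_mul_le_mul_right ?_ (show 0 < Nat.card θ.ker from Nat.card_pos)
      calc weight φ' B' * Nat.card θ.ker
          = Nat.card B * Nat.card (fixedBy φ' (B' : Set _)) := by rw [weight, hBc, hB1c]; ring
        _ ≤ weight φ B := Nat.mul_le_mul_left _ hFB
        _ ≤ weight φ A := hbest B hBA
        _ = Nat.card A' * Nat.card θ.ker * Nat.card (fixedBy φ (A : Set G)) := by rw [weight, hAcard]
        _ ≤ Nat.card A' * Nat.card θ.ker * Nat.card (fixedBy φ' (A' : Set _)) :=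
            Nat.mul_le_mul_left _ hFA
        _ = weight φ' A' * Nat.card θ.ker := by rw [weight]; ring
    have hnrm : ∀ q ∈ A', Nrm q K' := by
      refine ih (Nat.card A') ?_ φW.toHomUnits.range W φ' p A' K' rfl
        (fun v => Subtype.ext (hV (v : V))) hφ'inj ?_ ?_ ?_ ?_ hbest'
      · rw [← hn, hAcard]
        exact lt_mul_of_one_lt_right Nat.card_pos hker1
      · exact Cfsg.Comp.isQuasisimple_of_surjective hKq (π.comp ι).rangeRestrict
          (π.comp ι).rangeRestrict_surjective
      · rintro _ ⟨e, he, rfl⟩ _ ⟨f, hf, rfl⟩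
        exact (show Commute e f from Subtype.ext (hab _ he _ hf)).map π
      · rintro _ ⟨e, he, rfl⟩
        rw [← map_pow, show e ^ p = 1 from Subtype.ext (hpow _ he), map_one]
      · rintro _ ⟨e, he, rfl⟩
        rcases horb e he with h | h
        · left
          rintro _ ⟨x, rfl⟩
          refine ⟨⟨(e : G) * x * (e : G)⁻¹, h x x.2⟩, ?_⟩
          show π (ι _) = π e * π (ι x) * (π e)⁻¹
          rw [← map_inv, ← map_mul, ← map_mul]
          rfl
        · right
          rintro _ ⟨x, rfl⟩ _ ⟨y, rfl⟩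
          have hc0 : Commute (e * ι x * e⁻¹) (ι y) := Subtype.ext (h x x.2 y y.2)
          have := hc0.map π
          rwa [map_mul, map_mul, map_inv] at this
    set aS : S := ⟨a, hAS ha⟩ with haS
    have hna : Nrm (π aS) K' := hnrm _ ⟨aS, ha, rfl⟩
    obtain ⟨x0, hx0⟩ := hKne
    refine hx0 ?_
    show φ' (π (ι x0)) = 1
    rw [show π (ι x0) = 1 from eq_one_of_all_commute hK (π.comp ι) ?_ x0, map_one]
    intro x y
    obtain ⟨x', hx'⟩ := nrm_pow hna (p - 1) _ ⟨x, rfl⟩
    have hc0 : Commute (aS * ι x' * aS⁻¹) (ι y) :=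
      Subtype.ext ((horb a ha).resolve_left haK x' x'.2 y y.2)
    have h := hc0.map π
    rw [map_mul, map_mul, map_inv, show π (ι x') = (π aS) ^ (p - 1) * π (ι x) * ((π aS) ^ (p - 1))⁻¹
      from hx', ← map_pow, show aS ^ (p - 1) = aS⁻¹ from Subtype.ext hinv.symm, map_inv, inv_inv] at h
    simp only [mul_assoc, mul_inv_cancel_left, mul_inv_cancel, mul_one] at h
    exact h
  -- now `C_A(K) = 1`
  have hcA : ∀ e ∈ A, (∀ x ∈ K, Commute e x) → e = 1 := fun e he hc => by
    by_contra h
    exact hA0 ⟨e, he, h, hc⟩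
  have hpowK : ∀ i, 0 < i → i < p → ∀ x ∈ K, ∀ y ∈ K, Commute (a ^ i * x * (a ^ i)⁻¹) y := by
    intro i hi hip
    refine (horb _ (A.pow_mem ha i)).resolve_left fun h => haK ?_
    have hcop : Nat.Coprime i p :=
      ((Nat.Prime.coprime_iff_not_dvd hprime).mpr fun hd => absurd (Nat.le_of_dvd hi hd) (by omega)).symm
    obtain ⟨m, hm⟩ := exists_pow_eq_self_of_coprime (x := a) (n := i)
      (Nat.Coprime.coprime_dvd_right (orderOf_dvd_of_pow_eq_one (hpow a ha)) hcop)
    rw [← hm]
    exact nrm_pow h m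
  have ha1 : φ a ≠ 1 := fun h => haK (by
    rw [hφ (h.trans (map_one φ).symm)]; intro x hx; simpa using hx)
  haveI : Fintype V := Fintype.ofFinite V
  set As := cen φ A ((Finset.univ : Finset V) : Set V) with hAs
  have hmemAs : ∀ e, e ∈ As ↔ e ∈ A ∧ ∀ f ∈ A, ∀ v, φ e (φ f v - v) = φ f v - v := fun e => by
    rw [hAs, mem_cen]
    exact and_congr_right fun _ => ⟨fun h f hf v => h f hf v (Finset.mem_coe.mpr (Finset.mem_univ v)),
      fun h f hf v _ => h f hf v⟩
  have hswap : ∀ e ∈ As, ∀ f ∈ A, ∀ v, φ f (φ e v - v) = φ e v - v := fun e he f hf =>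
    kill_symm φ (hab e ((hmemAs e).mp he).1 f hf) (((hmemAs e).mp he).2 f hf)
  have hgood : (∀ e ∈ A, ∀ f ∈ A, ∀ v, φ e (φ f v - v) = φ f v - v) ∨
      ∃ b ∈ A, b ≠ 1 ∧ Nrm b K ∧ ∀ e ∈ A, ∀ v, φ e (φ b v - v) = φ b v - v := by
    by_cases hq : As = A
    · exact Or.inl fun e he f hf v => hswap f (hq.symm ▸ hf) e he v
    right
    obtain ⟨b, hbA, hb1, hbk⟩ := exists_moved φ hV hAp hab hbest ⟨a, ha, ha1⟩
    have hbAs : b ∈ As := (hmemAs b).mpr ⟨hbA, hbk⟩
    have hsub : As ≤ A := fun e he => ((hmemAs e).mp he).1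
    have hlt : Nat.card As < n := hn ▸ lt_of_le_of_ne (Subgroup.card_le_of_le hsub)
      fun h => hq (Subgroup.eq_of_le_of_card_ge hsub h.ge)
    have hw := (replacement φ hab hbest (Finset.univ : Finset V)).1
    refine ⟨b, hbA, fun h => hb1 (by rw [h, map_one]), ?_, fun e he v => hswap b hbAs e he v⟩
    exact ih _ hlt G V φ p As K rfl hV hφ hKq (fun x hx y hy => hab x (hsub hx) y (hsub hy))
      (fun x hx => hpow x (hsub hx)) (fun e he => horb e (hsub he))
      (fun B hB => (hbest B (hB.trans hsub)).trans hw.ge) b hbAs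
  have hcount : Nat.card V ≤ Nat.card A * Nat.card (fixedBy φ (A : Set G)) := by
    have h := hbest ⊥ bot_le
    rw [weight, weight, Subgroup.card_bot, one_mul] at h
    refine le_trans ?_ h
    exact Nat.card_le_card_of_injective (fun v => (⟨v, fun g hg => by
      rw [Subgroup.coe_bot, Set.mem_singleton_iff] at hg
      rw [hg, phi_one_apply]⟩ : fixedBy φ ((⊥ : Subgroup G) : Set G)))
      (fun v w h => congrArg Subtype.val h)
  by_cases hp : p = 2
  · subst hp
    exact haK (core (Nat.card A) G V φ A K rfl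
      ⟨hV, hφ, hKq, hab, fun e he => by rw [← pow_two]; exact hpow e he, horb, hcA, hcount, hgood⟩ a ha)
  · by_cases hbex : ∃ b ∈ A, b ≠ 1 ∧ Nrm b K ∧ ∀ v, φ b (φ a v - v) = φ a v - v
    · obtain ⟨b, hbA, hb1, hbK, hbk⟩ := hbex
      refine odd_false φ hp hV hφ hKq (hpow a ha) (hab a ha b hbA) hpowK hbK ?_ hbk
      by_contra hcon
      push Not at hcon
      exact hb1 (hcA b hbA hcon)
    · have hquad : ∀ v, φ a (φ a v - v) = φ a v - v := by
        rcases hgood with h | ⟨b, hbA, hb1, hbK, hbk⟩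
        · exact h a ha a ha
        · exact absurd ⟨b, hbA, hb1, hbK, kill_symm φ (hab a ha b hbA) (hbk a ha)⟩ hbex
      refine haK fun x hx => ?_
      suffices h : Commute a x by rw [h.eq, mul_inv_cancel_right]; exact hx
      have hle : K ≤ Subgroup.centralizer ({a} : Set G) := by
        refine (Cfsg.Comp.perfect_le_closure_not_dvd p (Subgroup.isPerfect_iff.mp hKq.1)).trans
          ((Subgroup.closure_le _).mpr ?_)
        rintro y ⟨hy, hyp⟩
        refine Subgroup.mem_centralizer_singleton_iff.mpr ?_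
        have c1 : ∀ u ∈ K, ∀ v ∈ K, Commute u (a * v * a⁻¹) := fun u hu v hv => by
          have := hpowK 1 one_pos hprime.one_lt v hv u hu
          rw [pow_one] at this
          exact this.symm
        have h := commute_of_quad (R := AddMonoid.End V) hp
          (AddMonoidHom.ext fun v => by
            show ((p : AddMonoid.End V)) v = (0 : V)
            exact hV v)
          (A := φ a) (L0 := φ y) (L1 := φ (a * y * a⁻¹)) (L2 := φ (a * (a * y * a⁻¹) * a⁻¹))
          ((Group.isUnit a).map φ)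
          (AddMonoidHom.ext fun v => by
            show φ a (φ a v - v) - (φ a v - v) = 0
            rw [hquad, sub_self])
          (by rw [← map_mul, ← map_mul]; congr 1; group)
          (by rw [← map_mul, ← map_mul]; congr 1; group)
          ((c1 y hy y hy).map φ)
          ((show Commute (a * y * a⁻¹) (a * (a * y * a⁻¹) * a⁻¹) by
            have := (c1 y hy y hy).map (MulAut.conj a).toMonoidHom
            simpa [MulAut.conj_apply] using this).map φ)
          (m := orderOf y) ((Nat.Prime.coprime_iff_not_dvd hprime).mpr hyp).symm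
          (by rw [← map_pow, show (a * y * a⁻¹) ^ orderOf y = 1 by
            rw [conj_pow, pow_orderOf_eq_one, mul_one, mul_inv_cancel], map_one])
          (by rw [← map_pow, show (a * (a * y * a⁻¹) * a⁻¹) ^ orderOf y = 1 by
            rw [conj_pow, conj_pow, pow_orderOf_eq_one, mul_one, mul_inv_cancel, mul_one,
              mul_inv_cancel], map_one])
        exact (hφ (by rw [map_mul, map_mul]; exact h.eq) : a * y = y * a).symm
      exact (Subgroup.mem_centralizer_singleton_iff.mp (hle hx)).symm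

universe u v

theorem exists_best_transfer {G : Type u} {V : Type v} [Group G] [Finite G] [AddCommGroup V]
    [Finite V] (ψ : G →* AddMonoid.End V) (hψ : Function.Injective ψ) (A : Subgroup G)
    (hbest : ∀ B ≤ A, weight ψ B ≤ weight ψ A) :
    Best ((Units.coeHom (AddMonoid.End V)).comp ψ.toHomUnits.range.subtype)
      (A.map ψ.toHomUnits.rangeRestrict) := by
  have hinj : Function.Injective ψ.toHomUnits.rangeRestrict := fun g h e =>
    hψ (congrArg (fun q : ψ.toHomUnits.range => ((q : (AddMonoid.End V)ˣ) : AddMonoid.End V)) e)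
  have hw : ∀ B : Subgroup G, weight ((Units.coeHom (AddMonoid.End V)).comp
      ψ.toHomUnits.range.subtype) (B.map ψ.toHomUnits.rangeRestrict) = weight ψ B := fun B => by
    rw [weight, weight, Nat.card_congr (B.equivMapOfInjective _ hinj).symm.toEquiv]
    congr 1
    have : fixedBy ((Units.coeHom (AddMonoid.End V)).comp ψ.toHomUnits.range.subtype)
        ((B.map ψ.toHomUnits.rangeRestrict : Subgroup _) : Set _) = fixedBy ψ (B : Set G) := by
      ext v
      exact ⟨fun h g hg => h _ ⟨g, hg, rfl⟩, fun h _ ⟨g, hg, e⟩ => e ▸ h g hg⟩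
    rw [this]
  intro B' hB'
  have e : (B'.comap ψ.toHomUnits.rangeRestrict).map ψ.toHomUnits.rangeRestrict = B' :=
    Subgroup.map_comap_eq_self_of_surjective ψ.toHomUnits.rangeRestrict_surjective B'
  rw [← e, hw, hw]
  refine hbest _ fun g hg => ?_
  obtain ⟨g', hg', h⟩ := hB' hg
  exact hinj h ▸ hg'

/-- The `P(G,V)`-theorem. -/
theorem components_normalized {G : Type u} {V : Type v} [Group G] [Finite G] [AddCommGroup V]
    [Finite V] (p : ℕ) [Fact p.Prime] [Module (ZMod p) V] (ρ : Representation (ZMod p) G V)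
    (hρ : Function.Injective ρ) (A : Subgroup G) (hAel : Cfsg.IsElementaryAbelian p A)
    (hP : ∀ B : Subgroup G, B ≤ A →
      Nat.card ↥B * Nat.card {v : V // ∀ b ∈ B, ρ b v = v} ≤
        Nat.card ↥A * Nat.card {v : V // ∀ a ∈ A, ρ a v = v}) :
    ∀ K : Subgroup G, Cfsg.IsComponent K → A ≤ Subgroup.normalizer (K : Set G) := by
  intro K hK a ha
  let ψ : G →* AddMonoid.End V :=
    { toFun := fun g => (ρ g).toAddMonoidHom
      map_one' := by rw [map_one]; rfl
      map_mul' := fun g h => by rw [map_mul]; rfl }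
  have hψ : Function.Injective ψ := fun g h e =>
    hρ (LinearMap.ext fun v => DFunLike.congr_fun e v)
  set π := ψ.toHomUnits.rangeRestrict with hπ
  have hπinj : Function.Injective π := fun g h e =>
    hψ (congrArg (fun q : ψ.toHomUnits.range => ((q : (AddMonoid.End V)ˣ) : AddMonoid.End V)) e)
  set φ := (Units.coeHom (AddMonoid.End V)).comp ψ.toHomUnits.range.subtype with hφ
  haveI : Finite ψ.toHomUnits.range :=
    Finite.of_surjective _ ψ.toHomUnits.rangeRestrict_surjective
  have hab : ∀ x ∈ A, ∀ y ∈ A, Commute x y := fun x hx y hy =>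
    congrArg Subtype.val (hAel.1.is_comm.comm (⟨x, hx⟩ : A) ⟨y, hy⟩)
  have h := pgv (Nat.card (A.map π)) ψ.toHomUnits.range V φ p (A.map π) (K.map π) rfl
    (fun v => ZModModule.char_nsmul_eq_zero p v) (fun x y e => Subtype.ext (Units.ext e))
    (Cfsg.Comp.isQuasisimple_of_equiv (K.equivMapOfInjective π hπinj) hK.2)
    (by rintro _ ⟨x, hx, rfl⟩ _ ⟨y, hy, rfl⟩; exact (hab x hx y hy).map π)
    (by rintro _ ⟨x, hx, rfl⟩; rw [← map_pow, hAel.2 x hx, map_one]) ?_
    (exists_best_transfer ψ hψ A hP) (π a) ⟨a, ha, rfl⟩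
  · refine Cfsg.Comp.mem_normalizer_of_map_conj_eq ?_
    refine Subgroup.eq_of_le_of_card_ge ?_ (le_of_eq (Nat.card_congr
      (K.equivMapOfInjective _ (MulAut.conj a).injective).toEquiv))
    rintro _ ⟨x, hx, rfl⟩
    obtain ⟨y, hy, e⟩ := h (π x) ⟨x, hx, rfl⟩
    rw [← map_inv, ← map_mul, ← map_mul] at e
    show a * x * a⁻¹ ∈ K
    exact hπinj e ▸ hy
  · rintro _ ⟨e, he, rfl⟩
    rcases Cfsg.Comp.component_eq_or_commute (Cfsg.Comp.isComponent_conj hK e) hK with h | h
    · left
      rintro _ ⟨x, hx, rfl⟩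
      refine ⟨e * x * e⁻¹, ?_, by rw [map_mul, map_mul, map_inv]⟩
      exact (SetLike.ext_iff.mp h (e * x * e⁻¹)).mp ⟨x, hx, rfl⟩
    · right
      rintro _ ⟨x, hx, rfl⟩ _ ⟨y, hy, rfl⟩
      have hc : Commute (e * x * e⁻¹) y :=
        Cfsg.Comp.commute_of_commutator_eq_bot h ⟨x, hx, rfl⟩ hy
      have := hc.map π
      rwa [map_mul, map_mul, map_inv] at this

end H79.Offender
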