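import Cfsg.Agent.H79.PNilGlue
import Cfsg.Agent.H1.Cores
import Cfsg.Agent.H79.Sylow
import Cfsg.Agent.H11.PConstrained
import Cfsg.Prelude.Def_Local

set_option autoImplicit false

/-!
A normal p-subgroup is a Sylow subgroup of the preimage of O_p(X/C(H)) iff it is centric and
O_{p',p}(X) = H C(H).
-/

namespace H79

open Subgroup

variable {X : Type*} [Group X] [Finite X] {p : ℕ} [Fact p.Prime]

theorem eq_one_of_pElem_coprime {x : X} {a : ℕ} (h1 : x ^ p ^ a = 1) (h2 : (orderOf x).Coprime p) :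
    x = 1 :=
  orderOf_eq_one_iff.mp (Nat.eq_one_of_dvd_coprimes (h2.pow_right a) dvd_rfl
    (orderOf_dvd_of_pow_eq_one h1))

theorem centric_sylow_iff (Hn : Subgroup X) [Hn.Normal] (hH : IsPGroup p Hn) (C : Subgroup X)
    [C.Normal] (hC : C = centralizer (Hn : Set X)) (R : Sylow p X) :
    (Hn ≤ (Cfsg.pCore p (X ⧸ C)).comap (QuotientGroup.mk' C) ∧
      ¬ p ∣ Hn.relIndex ((Cfsg.pCore p (X ⧸ C)).comap (QuotientGroup.mk' C))) ↔
    ((R : Subgroup X) ⊓ C ≤ Hn ∧ Cfsg.pPrimePCore p X = Hn ⊔ C) := by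
  have hpr : p.Prime := Fact.out
  set π := QuotientGroup.mk' C with hπ
  have hπs : Function.Surjective π := QuotientGroup.mk'_surjective C
  set N := (Cfsg.pCore p (X ⧸ C)).comap π with hN
  haveI : (Cfsg.pCore p (X ⧸ C)).Normal := H1.pCore_normal' p _
  haveI : N.Normal := Subgroup.Normal.comap inferInstance π
  set K := Cfsg.pPrimeCore p X with hK
  haveI : K.Normal := H1.pPrimeCore_normal' p X
  set ρ := QuotientGroup.mk' K with hρ
  have hρs : Function.Surjective ρ := QuotientGroup.mk'_surjective K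
  set M := Cfsg.pPrimePCore p X with hM
  haveI : (Cfsg.pCore p (X ⧸ K)).Normal := H1.pCore_normal' p _
  haveI : M.Normal := Subgroup.Normal.comap inferInstance ρ
  have hKH : ∀ k ∈ K, ∀ h ∈ Hn, k * h * k⁻¹ * h⁻¹ = 1 := by
    intro k hk h hh
    have h1 : k * h * k⁻¹ * h⁻¹ ∈ Hn :=
      mul_mem (Subgroup.Normal.conj_mem inferInstance h hh k) (inv_mem hh)
    have h2 : k * h * k⁻¹ * h⁻¹ ∈ K := by
      rw [mul_assoc k h k⁻¹, mul_assoc]
      exact K.mul_mem hk (Subgroup.Normal.conj_mem inferInstance _ (K.inv_mem hk) h)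
    exact H11.eq_one_of_mem_pGroup_coprime hH h1
      ((H1.card_pPrimeCore_coprime p X).coprime_dvd_left
        (orderOf_mk (_ : X) h2 ▸ orderOf_dvd_natCard _))
  have hKC : K ≤ C := fun k hk => hC ▸ mem_centralizer_iff.mpr fun h hh => by
    have := mul_inv_eq_one.mp (hKH k hk h hh)
    exact (mul_inv_eq_iff_eq_mul.mp this).symm
  have hHN : Hn ≤ N := fun h hh => by
    haveI : (Hn.map π).Normal := Subgroup.Normal.map inferInstance π hπs
    exact H1.le_pCore (hH.map π) ⟨h, hh, rfl⟩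
  have hCN : C ≤ N := fun c hc => by
    rw [hN, mem_comap, show π c = 1 from (QuotientGroup.eq_one_iff c).mpr hc]
    exact one_mem _
  have hMN : M ≤ N := by
    intro x hx
    haveI : (M.map π).Normal := Subgroup.Normal.map inferInstance π hπs
    refine H1.le_pCore (N := M.map π) ?_ ⟨x, hx, rfl⟩
    rintro ⟨_, m, hm, rfl⟩
    obtain ⟨a, ha⟩ := H1.isPGroup_pCore p (X ⧸ K) ⟨ρ m, hm⟩
    refine ⟨a, Subtype.ext ?_⟩
    have h1 : ρ (m ^ p ^ a) = 1 := by rw [map_pow]; exact congrArg Subtype.val ha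
    have h2 : m ^ p ^ a ∈ C := hKC ((QuotientGroup.eq_one_iff _).mp h1)
    show π m ^ p ^ a = 1
    rw [← map_pow]
    exact (QuotientGroup.eq_one_iff _).mpr h2
  set Z := ((R : Subgroup X) ⊓ C) with hZ
  have hHR : Hn ≤ (R : Subgroup X) := hH.le_sylow_of_normal R
  -- normal p'-part of the centralizer
  have hO : Z ≤ Hn → ∀ c ∈ C, ∃ a : ℕ, c ^ p ^ a ∈ K := by
    intro hZH
    haveI hZn : (Z.subgroupOf C).Normal := ⟨fun z hz g => by
      rw [mem_subgroupOf] at hz ⊢
      have hg : (g : X) ∈ centralizer (Hn : Set X) := hC ▸ g.2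
      have h1 := mem_centralizer_iff.mp hg (z : X) (hZH hz)
      rw [coe_mul, coe_mul, coe_inv, ← h1, mul_inv_cancel_right]
      exact hz⟩
    have hpn : Cfsg.HasNormalPComplement p ↥C := by
      refine pnil_of_central_pGroup (Z := Z.subgroupOf C) ?_
        (H5.hasNormalPComplement_of_not_dvd ?_)
      · intro z hz
        refine mem_center_iff.mpr fun g => Subtype.ext ?_
        have hg : (g : X) ∈ centralizer (Hn : Set X) := hC ▸ g.2
        exact (mem_centralizer_iff.mp hg (z : X) (hZH hz)).symm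
      · rw [← index_eq_card]
        have h := not_dvd_relIndex_normal C R
        rwa [← inf_relIndex_right] at h
    haveI hOn : ((Cfsg.pResidual p ↥C).map C.subtype).Normal := by
      refine ⟨?_⟩
      rintro _ ⟨o, ho, rfl⟩ g
      refine ⟨⟨g * (o : X) * g⁻¹, Subgroup.Normal.conj_mem inferInstance _ o.2 g⟩, ?_, rfl⟩
      refine H5.mem_pResidual_of_coprime ?_
      rw [orderOf_mk, show g * (o : X) * g⁻¹ = MulAut.conj g (o : X) from rfl, MulEquiv.orderOf_eq,
        orderOf_coe]
      exact (H5.mem_pResidual_iff hpn).mp ho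
    have hle : (Cfsg.pResidual p ↥C).map C.subtype ≤ K := by
      refine H1.le_pPrimeCore ?_
      rw [card_map_of_injective C.subtype_injective, Nat.coprime_comm, hpr.coprime_iff_not_dvd]
      exact H5.hasNormalPComplement_iff_not_dvd.mp hpn
    intro c hc
    obtain ⟨a, ha⟩ := H5.isPGroup_quotient_pResidual (G := ↥C) (p := p) (QuotientGroup.mk ⟨c, hc⟩)
    refine ⟨a, hle ⟨⟨c, hc⟩ ^ p ^ a, ?_, rfl⟩⟩
    rwa [← QuotientGroup.mk_pow, QuotientGroup.eq_one_iff] at ha
  have hup : Z ≤ Hn → N ≤ M := by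
    intro hZH x hx
    haveI : (N.map ρ).Normal := Subgroup.Normal.map inferInstance ρ hρs
    refine H1.le_pCore (N := N.map ρ) ?_ ⟨x, hx, rfl⟩
    rintro ⟨_, y, hy, rfl⟩
    obtain ⟨a, ha⟩ := H1.isPGroup_pCore p (X ⧸ C) ⟨π y, hy⟩
    have h1 : y ^ p ^ a ∈ C :=
      (QuotientGroup.eq_one_iff _).mp ((map_pow π y _).trans (congrArg Subtype.val ha))
    obtain ⟨c, hc⟩ := hO hZH _ h1
    refine ⟨a + c, Subtype.ext ?_⟩
    show ρ y ^ p ^ (a + c) = 1
    rw [← map_pow, pow_add, pow_mul]
    exact (QuotientGroup.eq_one_iff _).mpr hc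
  constructor
  · rintro ⟨-, hS⟩
    have hZH : Z ≤ Hn := by
      intro z hz
      haveI : (Hn.subgroupOf N).Normal := normal_subgroupOf
      have hzp : IsPGroup p (Z.subgroupOf N) :=
        (R.isPGroup'.to_le inf_le_left).comap_of_injective N.subtype N.subtype_injective
      let SH := (hH.comap_of_injective N.subtype N.subtype_injective : IsPGroup p (Hn.subgroupOf N)).toSylow hS
      obtain ⟨T, hT⟩ := hzp.exists_le_sylow
      haveI := Sylow.unique_of_normal SH (show (Hn.subgroupOf N).Normal from inferInstance)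
      have hTH : (T : Subgroup N) = Hn.subgroupOf N := by
        rw [show T = SH from Subsingleton.elim _ _]
        rfl
      exact (hTH ▸ hT) (show (⟨z, hCN hz.2⟩ : N) ∈ Z.subgroupOf N from hz)
    refine ⟨hZH, le_antisymm ?_ ?_⟩
    · refine hMN.trans ?_
      intro x hx
      have h1 : ((Hn ⊔ C).subgroupOf N).index = 1 := by
        refine Nat.eq_one_of_dvd_coprimes ?_
          (index_dvd_of_le (comap_mono le_sup_left : Hn.subgroupOf N ≤ (Hn ⊔ C).subgroupOf N))
          (index_dvd_of_le (comap_mono le_sup_right : C.subgroupOf N ≤ (Hn ⊔ C).subgroupOf N))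
        haveI : (C.subgroupOf N).Normal := normal_subgroupOf
        have hq : IsPGroup p (↥N ⧸ C.subgroupOf N) := by
          intro y
          obtain ⟨y, rfl⟩ := QuotientGroup.mk_surjective y
          obtain ⟨a, ha⟩ := H1.isPGroup_pCore p (X ⧸ C) ⟨π y, y.2⟩
          refine ⟨a, ?_⟩
          rw [← QuotientGroup.mk_pow, QuotientGroup.eq_one_iff]
          exact (QuotientGroup.eq_one_iff (N := C) ((y : X) ^ p ^ a)).mp
            ((map_pow π (y : X) _).trans (congrArg Subtype.val ha))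
        obtain ⟨a, ha⟩ := IsPGroup.iff_card.mp hq
        rw [← index_eq_card] at ha
        show Nat.Coprime (Hn.subgroupOf N).index (C.subgroupOf N).index
        rw [ha]
        exact Nat.Coprime.pow_right _ ((hpr.coprime_iff_not_dvd.mpr hS).symm)
      have h2 := index_eq_one.mp h1
      exact (h2 ▸ mem_top _ : (⟨x, hx⟩ : N) ∈ (Hn ⊔ C).subgroupOf N)
    · exact sup_le (hHN.trans (hup hZH)) (hCN.trans (hup hZH))
  · rintro ⟨hZH, hMeq⟩
    refine ⟨hHN, fun hd => ?_⟩
    have hNM : N = Hn ⊔ C := le_antisymm ((hup hZH).trans hMeq.le) (sup_le hHN hCN)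
    rw [hNM, sup_comm, relIndex_sup_right] at hd
    have h := not_dvd_relIndex_normal C R
    refine h (hd.trans ?_)
    rw [← inf_relIndex_right (R : Subgroup X) C, ← inf_relIndex_right Hn C]
    exact relIndex_dvd_of_le_left _ (le_inf hZH inf_le_right)

end H79
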