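import Cfsg.Agent.H5.Frobenius
import Cfsg.Agent.H5.PResidual
import Cfsg.Agent.H79.Basic

set_option autoImplicit false

/-!
Gluing lemmas for normal p-complements.
-/

namespace H79

open Subgroup

variable {G : Type*} [Group G] [Finite G] {p : ℕ} [Fact p.Prime]

/-- If all elements of order prime to p lie in a p-nilpotent subgroup then G is p-nilpotent. -/
theorem pnil_of_coprime_mem {N : Subgroup G} (h : ∀ x : G, (orderOf x).Coprime p → x ∈ N)
    (hN : Cfsg.HasNormalPComplement p ↥N) : Cfsg.HasNormalPComplement p G := by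
  rw [H5.hasNormalPComplement_iff_not_dvd] at hN ⊢
  have hle : Cfsg.pResidual p G ≤ (Cfsg.pResidual p ↥N).map N.subtype := by
    rw [Cfsg.pResidual, closure_le]
    intro x hx
    exact ⟨⟨x, h x hx⟩, H5.mem_pResidual_of_coprime (by rw [orderOf_mk]; exact hx), rfl⟩
  intro hd
  apply hN
  have := hd.trans (card_dvd_of_le hle)
  rwa [card_map_of_injective N.subtype_injective] at this

/-- A lift of order prime to p of an element of order prime to p of a quotient by a p-group. -/
theorem exists_coprime_lift {N : Subgroup G} [N.Normal] {y : G ⧸ N} (hy : (orderOf y).Coprime p) :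
    ∃ v : G, (orderOf v).Coprime p ∧ QuotientGroup.mk' N v = y := by
  obtain ⟨g, rfl⟩ := QuotientGroup.mk'_surjective N y
  obtain ⟨u, v, huv, ⟨k, hk⟩, hv, hug, -⟩ := H5.exists_p_decomposition (p := p) g
  refine ⟨v, hv, ?_⟩
  have h1 : QuotientGroup.mk' N u = 1 := by
    refine orderOf_eq_one_iff.mp (Nat.eq_one_of_dvd_coprimes ((hy.pow_right k)) ?_
      (orderOf_dvd_of_pow_eq_one (by rw [← map_pow, hk, map_one])))
    obtain ⟨i, hi⟩ := mem_zpowers_iff.mp hug
    exact orderOf_dvd_of_mem_zpowers (mem_zpowers_iff.mpr ⟨i, by rw [← hi, map_zpow]⟩)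
  rw [huv, map_mul, h1, one_mul]

/-- p-nilpotency lifts along a central p-kernel. -/
theorem pnil_of_central_pGroup {Z : Subgroup G} [Z.Normal] (hZc : Z ≤ Subgroup.center G)
    (hq : Cfsg.HasNormalPComplement p (G ⧸ Z)) : Cfsg.HasNormalPComplement p G := by
  set π := QuotientGroup.mk' Z with hπ
  set O := (Cfsg.pResidual p (G ⧸ Z)).comap π with hO
  refine pnil_of_coprime_mem (N := O) (fun x hx => H5.mem_pResidual_of_coprime
    (hx.coprime_dvd_left (orderOf_map_dvd π x))) ?_
  obtain ⟨S⟩ : Nonempty (Sylow p O) := inferInstance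
  refine H5.hasNormalPComplement_of_fusion S fun x hx g hg => ⟨1, one_mem _, ?_⟩
  have hxZ : (x : G) ∈ Z := by
    rw [← QuotientGroup.eq_one_iff]
    show π (x : G) = 1
    obtain ⟨k, hk⟩ := IsPGroup.iff_orderOf.mp S.isPGroup' ⟨x, hx⟩
    rw [orderOf_mk, ← orderOf_coe] at hk
    have h1 : orderOf (π (x : G)) ∣ p ^ k := hk ▸ orderOf_map_dvd π _
    refine orderOf_eq_one_iff.mp (Nat.eq_one_of_dvd_coprimes
      (((H5.mem_pResidual_iff hq).mp x.2).pow_right k) dvd_rfl h1)
  have hc : (g : G) * x = x * g := mem_center_iff.mp (hZc hxZ) g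
  apply Subtype.ext
  simp only [coe_mul, coe_one, one_mul, inv_one, mul_one, coe_inv]
  rw [hc, mul_inv_cancel_right]

end H79
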