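import Cfsg.Agent.H79.GlaubermanThompson
import Cfsg.Agent.H79.PNilGlue
import Cfsg.Agent.H79.Sylow

set_option autoImplicit false

/-!
For p odd: a characteristic self-centralizing subgroup K(S) of every p-group S such that the automizer
of K in G is a p-group exactly when G is p-nilpotent (S Sylow in G).
-/

namespace H79

open Subgroup

universe u

variable {p : ℕ}

theorem normal_subgroupOf_centralizer {X : Type*} [Group X] (Z : Subgroup X) :
    (Z.subgroupOf (centralizer (Z : Set X))).Normal := by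
  refine ⟨fun x hx g => ?_⟩
  rw [mem_subgroupOf] at hx ⊢
  have h : (x : X) * g = g * x := mem_centralizer_iff.mp g.2 x hx
  have e : ((g * x * g⁻¹ : ↥(centralizer (Z : Set X))) : X) = x := by
    rw [coe_mul, coe_mul, coe_inv, ← h, mul_inv_cancel_right]
  rw [e]
  exact hx

/-- One step of the recursion: from a subgroup of `C/Z` to one of `C`, where `C` centralizes `Z`. -/
def stepK {S : Type u} [Group S] (Z : Subgroup S)
    (F : ∀ (T : Type u) [Group T], Subgroup T) : Subgroup ↥(centralizer (Z : Set S)) :=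
  haveI := normal_subgroupOf_centralizer Z
  (F (↥(centralizer (Z : Set S)) ⧸ Z.subgroupOf (centralizer (Z : Set S)))).comap
    (QuotientGroup.mk' _)

/-- The subgroup `K(S)`, by recursion with fuel. -/
def kSub (p : ℕ) : ℕ → ∀ (S : Type u) [Group S], Subgroup S
  | 0, _, _ => ⊥
  | n + 1, S, _ => (stepK (ZJ p true (⊤ : Subgroup S)) (fun T _ => kSub p n T)).map
      (centralizer ((ZJ p true (⊤ : Subgroup S) : Subgroup S) : Set S)).subtype

theorem subgroupOf_map_eq {S T : Type u} [Group S] [Group T] {Z C : Subgroup S} {Z' C' : Subgroup T}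
    (eC : C ≃* C') (e : S ≃* T) (he : ∀ c : C, ((eC c : C') : T) = e c)
    (hZ : Z.map e.toMonoidHom = Z') :
    (Z.subgroupOf C).map (eC : C →* C') = Z'.subgroupOf C' := by
  ext y
  obtain ⟨c, rfl⟩ := eC.surjective y
  rw [mem_subgroupOf, he, ← hZ]
  constructor
  · rintro ⟨d, hd, hdc⟩
    obtain rfl := eC.injective hdc
    exact ⟨d, hd, rfl⟩
  · rintro ⟨z, hz, hzc⟩
    obtain rfl := e.injective hzc
    exact ⟨c, hz, rfl⟩

theorem kSub_map (n : ℕ) : ∀ (S T : Type u) [Group S] [Group T] [Finite S] [Finite T] (e : S ≃* T),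
    (kSub p n S).map e.toMonoidHom = kSub p n T := by
  induction n with
  | zero => intro S T _ _ _ _ e; exact Subgroup.map_bot _
  | succ n ih =>
    intro S T _ _ _ _ e
    have hZ : (ZJ p true (⊤ : Subgroup S)).map e.toMonoidHom = ZJ p true (⊤ : Subgroup T) := by
      rw [ZJ_map (fun x _ hx => e.injective (hx.trans (map_one e).symm)),
        map_top_of_surjective e.toMonoidHom e.surjective]
    show ((stepK _ (fun T _ => kSub p n T)).map _).map e.toMonoidHom =
      (stepK _ (fun T _ => kSub p n T)).map _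
    set Z := ZJ p true (⊤ : Subgroup S) with hZdef
    set Z' := ZJ p true (⊤ : Subgroup T) with hZ'def
    have hmem : ∀ x : S, x ∈ centralizer (Z : Set S) ↔ e x ∈ centralizer (Z' : Set T) := by
      intro x
      simp only [mem_centralizer_iff, SetLike.mem_coe]
      constructor
      · intro h z hz
        rw [← hZ] at hz
        obtain ⟨w, hw, rfl⟩ := hz
        show e w * e x = e x * e w
        rw [← map_mul, ← map_mul, h w hw]
      · intro h w hw
        refine e.injective ?_
        rw [map_mul, map_mul]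
        exact h _ (hZ ▸ ⟨w, hw, rfl⟩)
    have hC : (centralizer (Z : Set S)).map e.toMonoidHom = centralizer (Z' : Set T) := by
      ext y
      obtain ⟨x, rfl⟩ := e.surjective y
      exact ⟨fun ⟨x', hx', hxx⟩ => (e.injective hxx) ▸ (hmem x').mp hx',
        fun h => ⟨x, (hmem x).mpr h, rfl⟩⟩
    let eC : ↥(centralizer (Z : Set S)) ≃* ↥(centralizer (Z' : Set T)) :=
      (e.subgroupMap _).trans (MulEquiv.subgroupCongr hC)
    have heC : ∀ c, ((eC c : ↥(centralizer (Z' : Set T))) : T) = e c := fun c => rfl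
    haveI := normal_subgroupOf_centralizer Z
    haveI := normal_subgroupOf_centralizer Z'
    let eQ := QuotientGroup.congr _ _ eC (subgroupOf_map_eq eC e heC hZ)
    have hK := ih _ _ eQ
    ext y
    constructor
    · rintro ⟨_, ⟨c, hc, rfl⟩, rfl⟩
      refine ⟨eC c, ?_, heC c⟩
      show QuotientGroup.mk (eC c) ∈ kSub p n _
      rw [← hK]
      exact ⟨_, hc, rfl⟩
    · rintro ⟨c', hc', rfl⟩
      obtain ⟨c, rfl⟩ := eC.surjective c'
      refine ⟨c, ⟨c, ?_, rfl⟩, (heC c).symm⟩
      replace hc' : eQ (QuotientGroup.mk c) ∈ kSub p n _ := hc'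
      rw [← hK] at hc'
      obtain ⟨d, hd, hdc⟩ := hc'
      have h := eQ.injective hdc
      subst h
      exact hd

theorem kSub_characteristic (n : ℕ) (S : Type u) [Group S] [Finite S] :
    (kSub p n S).Characteristic :=
  characteristic_iff_map_eq.mpr fun φ => kSub_map n S S φ

theorem centralizer_kSub_le [Fact p.Prime] (n : ℕ) : ∀ (S : Type u) [Group S] [Finite S],
    Nat.card S ≤ n → IsPGroup p S →
    centralizer ((kSub p n S : Subgroup S) : Set S) ≤ kSub p n S := by
  induction n with
  | zero => intro S _ _ hn; exact absurd (Nat.card_pos (α := S)) (by omega)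
  | succ n ih =>
    intro S _ _ hn hS
    by_cases hS1 : (⊤ : Subgroup S) = ⊥
    · intro x _
      rw [show x = 1 from mem_bot.mp (hS1 ▸ mem_top x)]
      exact one_mem _
    have hZ1 : ZJ p true (⊤ : Subgroup S) ≠ ⊥ := ZJ_ne_bot (hS.to_subgroup _) hS1
    show centralizer (((stepK _ (fun T _ => kSub p n T)).map _ : Subgroup S) : Set S) ≤
      (stepK _ (fun T _ => kSub p n T)).map _
    set Z := ZJ p true (⊤ : Subgroup S) with hZdef
    set C := centralizer (Z : Set S) with hC
    haveI := normal_subgroupOf_centralizer Z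
    have hZc : Z ≤ C := fun z hz => mem_centralizer_iff.mpr fun w hw =>
      (H11.comm_of_mulCommutative (H11.isMulCommutative_sInf_maxFam replProp_abProp _) hw hz).eq
    have hlt : Nat.card (↥C ⧸ Z.subgroupOf C) ≤ n := by
      have h1 := card_eq_card_quotient_mul_card_subgroup (Z.subgroupOf C)
      have h2 : 1 < Nat.card (Z.subgroupOf C) := by
        rw [Nat.card_congr (subgroupOfEquivOfLe hZc).toEquiv]
        exact Z.one_lt_card_iff_ne_bot.mpr hZ1
      have h3 : 0 < Nat.card (↥C ⧸ Z.subgroupOf C) := Nat.card_pos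
      have h4 : Nat.card ↥C ≤ Nat.card S := card_le_card_group C
      nlinarith
    intro x hx
    have hxC : x ∈ C := mem_centralizer_iff.mpr fun z hz => mem_centralizer_iff.mp hx z
      ⟨⟨z, hZc hz⟩, by
        show QuotientGroup.mk _ ∈ kSub p n _
        rw [(QuotientGroup.eq_one_iff (⟨z, hZc hz⟩ : C)).mpr hz]
        exact one_mem _, rfl⟩
    refine ⟨⟨x, hxC⟩, ih _ hlt ((hS.to_subgroup C).to_quotient _) ?_, rfl⟩
    refine mem_centralizer_iff.mpr fun y hy => ?_
    obtain ⟨c, rfl⟩ := QuotientGroup.mk_surjective y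
    show (QuotientGroup.mk (c * ⟨x, hxC⟩) : ↥C ⧸ Z.subgroupOf C) = QuotientGroup.mk (⟨x, hxC⟩ * c)
    exact congrArg _ (Subtype.ext (mem_centralizer_iff.mp hx (c : S) ⟨c, hy, rfl⟩))

/-- The criterion. -/
theorem pnil_of_kSub [Fact p.Prime] (hp : p ≠ 2) (n : ℕ) :
    ∀ (S : Type u) [Group S] [Finite S] (G : Type u) [Group G] [Finite G] (P : Sylow p G)
      (f : S →* G), Function.Injective f → f.range = (P : Subgroup G) → Nat.card S ≤ n →
      (∀ g ∈ normalizer (((kSub p n S).map f : Subgroup G) : Set G), (orderOf g).Coprime p →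
        g ∈ centralizer (((kSub p n S).map f : Subgroup G) : Set G)) →
      Cfsg.HasNormalPComplement p G := by
  induction n with
  | zero => intro S _ _ G _ _ P f _ _ hn; exact absurd (Nat.card_pos (α := S)) (by omega)
  | succ n ih =>
    intro S _ _ G _ _ P f hf hrange hn hyp
    by_cases hP1 : (P : Subgroup G) = ⊥
    · refine H5.hasNormalPComplement_of_not_dvd fun hd => P.not_dvd_index ?_
      rwa [hP1, index_bot]
    have htop : (⊤ : Subgroup S).map f = (P : Subgroup G) := by
      rw [← MonoidHom.range_eq_map, hrange]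
    have hS1 : (⊤ : Subgroup S) ≠ ⊥ := fun h => hP1 (by rw [← htop, h, Subgroup.map_bot])
    have hSp : IsPGroup p S := P.isPGroup'.of_injective (f.codRestrict _ fun s => hrange ▸ ⟨s, rfl⟩)
      fun a c h => hf (congrArg Subtype.val h)
    have hZ1 : ZJ p true (⊤ : Subgroup S) ≠ ⊥ := ZJ_ne_bot (hSp.to_subgroup _) hS1
    change ∀ g ∈ normalizer ((((stepK _ (fun T _ => kSub p n T)).map _).map f : Subgroup G) : Set G),
      _ at hyp
    set Z := ZJ p true (⊤ : Subgroup S) with hZdef
    set C := centralizer (Z : Set S) with hC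
    set K := (stepK Z (fun T _ => kSub p n T)).map C.subtype with hK
    haveI := normal_subgroupOf_centralizer Z
    have hZab : ∀ x ∈ Z, ∀ y ∈ Z, x * y = y * x := fun x hx y hy =>
      (H11.comm_of_mulCommutative (H11.isMulCommutative_sInf_maxFam replProp_abProp _) hx hy).eq
    have hZc : Z ≤ C := fun z hz => mem_centralizer_iff.mpr fun w hw => hZab w hw z hz
    have hlt : Nat.card (↥C ⧸ Z.subgroupOf C) ≤ n := by
      have h1 := card_eq_card_quotient_mul_card_subgroup (Z.subgroupOf C)
      have h2 : 1 < Nat.card (Z.subgroupOf C) := by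
        rw [Nat.card_congr (subgroupOfEquivOfLe hZc).toEquiv]
        exact Z.one_lt_card_iff_ne_bot.mpr hZ1
      have h3 : 0 < Nat.card (↥C ⧸ Z.subgroupOf C) := Nat.card_pos
      have h4 : Nat.card ↥C ≤ Nat.card S := card_le_card_group C
      nlinarith
    have hZK : Z ≤ K := fun z hz => ⟨⟨z, hZc hz⟩, by
      show QuotientGroup.mk _ ∈ kSub p n _
      rw [(QuotientGroup.eq_one_iff (⟨z, hZc hz⟩ : C)).mpr hz]
      exact one_mem _, rfl⟩
    set Zg := Z.map f with hZg
    have hZgP : Zg = ZJ p true (P : Subgroup G) := by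
      rw [hZg, hZdef, ZJ_map (fun x _ hx => hf (hx.trans (map_one f).symm)), htop]
    suffices hM : Cfsg.HasNormalPComplement p ↥(normalizer (Zg : Set G)) from
      hasNormalPComplement_of_ZJ hp true (Nat.card G) G le_rfl P (P : Subgroup G)
        ⟨le_rfl, fun _ _ _ h => h⟩ (hZgP ▸ hM)
    set M := normalizer (Zg : Set G) with hMdef
    have hPM : (P : Subgroup G) ≤ M := by
      rw [hMdef, hZgP]; exact le_normalizer.trans (ZJ_normalizer_le _)
    set L := centralizer (Zg : Set G) with hL
    have hLM : L ≤ M := centralizer_le_normalizer _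
    set Cg := C.map f with hCg
    have hCgeq : Cg = (P : Subgroup G) ⊓ L := by
      ext y
      constructor
      · rintro ⟨c, hc, rfl⟩
        refine ⟨hrange ▸ ⟨c, rfl⟩, mem_centralizer_iff.mpr ?_⟩
        rintro _ ⟨z, hz, rfl⟩
        rw [← map_mul, ← map_mul, mem_centralizer_iff.mp hc z hz]
      · rintro ⟨hyP, hyL⟩
        obtain ⟨c, rfl⟩ : y ∈ f.range := hrange ▸ hyP
        refine ⟨c, mem_centralizer_iff.mpr fun z hz => hf ?_, rfl⟩
        rw [map_mul, map_mul]
        exact mem_centralizer_iff.mp hyL _ ⟨z, hz, rfl⟩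
    haveI hLn : (L.subgroupOf M).Normal := by
      have : (centralizer (Zg : Set G)).subgroupOf (normalizer (Zg : Set G)) =
          (centralizer (Zg : Set G)).subgroupOf (normalizer (Zg : Set G)) := rfl
      exact H5.centralizer_subgroupOf_normalizer_normal Zg
    have hCgidx : ¬ p ∣ (Cg.subgroupOf L).index := by
      have h := not_dvd_relIndex_normal (L.subgroupOf M) (P.subtype hPM)
      rw [Sylow.coe_subtype, relIndex_subgroupOf hLM] at h
      show ¬ p ∣ Cg.relIndex L
      rw [hCgeq, inf_relIndex_right]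
      exact h
    have hCgp : IsPGroup p (Cg.subgroupOf L) :=
      ((P.isPGroup'.to_le (hCgeq.le.trans inf_le_left))).comap_of_injective _ L.subtype_injective
    set SL := hCgp.toSylow hCgidx with hSL
    -- the centralizer is p-nilpotent
    haveI hZln : (Zg.subgroupOf L).Normal := normal_subgroupOf_centralizer Zg
    set π := QuotientGroup.mk' (Zg.subgroupOf L) with hπ
    have hπs : Function.Surjective π := QuotientGroup.mk'_surjective _
    let fL : C →* L := (f.comp C.subtype).codRestrict L fun c =>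
      (hCgeq.le (⟨c, c.2, rfl⟩ : f (c : S) ∈ Cg)).2
    let f' : ↥C ⧸ Z.subgroupOf C →* ↥L ⧸ Zg.subgroupOf L :=
      QuotientGroup.map _ _ fL (fun z hz => ⟨(z : S), hz, rfl⟩)
    have hf' : Function.Injective f' := by
      rw [injective_iff_map_eq_one]
      intro x hx
      obtain ⟨c, rfl⟩ := QuotientGroup.mk_surjective x
      obtain ⟨z, hz, hzc⟩ := (QuotientGroup.eq_one_iff (fL c)).mp hx
      have h := hf hzc
      subst h
      exact (QuotientGroup.eq_one_iff c).mpr hz
    have hrange' : f'.range = (SL.mapSurjective hπs : Subgroup (↥L ⧸ Zg.subgroupOf L)) := by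
      rw [Sylow.coe_mapSurjective, hSL, IsPGroup.toSylow_coe]
      ext y
      constructor
      · rintro ⟨x, rfl⟩
        obtain ⟨c, rfl⟩ := QuotientGroup.mk_surjective x
        exact ⟨fL c, ⟨(c : S), c.2, rfl⟩, rfl⟩
      · rintro ⟨l, hl, rfl⟩
        obtain ⟨c, hc, hcl⟩ := hl
        exact ⟨QuotientGroup.mk ⟨c, hc⟩,
          congrArg QuotientGroup.mk (Subtype.ext hcl : fL ⟨c, hc⟩ = l)⟩
    have hLq : Cfsg.HasNormalPComplement p (↥L ⧸ Zg.subgroupOf L) := by
      refine ih _ _ (SL.mapSurjective hπs) f' hf' hrange' hlt fun y hy hyo => ?_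
      obtain ⟨v, hvo, rfl⟩ := exists_coprime_lift hyo
      have hvK : (v : G) ∈ normalizer ((K.map f : Subgroup G) : Set G) := by
        refine H11.mem_normalizer_of_forall ?_
        rintro _ ⟨_, ⟨c, hc, rfl⟩, rfl⟩
        obtain ⟨d, hd, hde⟩ := (mem_normalizer_iff.mp hy (f' (QuotientGroup.mk c))).mp ⟨_, hc, rfl⟩
        obtain ⟨d, rfl⟩ := QuotientGroup.mk_surjective d
        have he : π (fL d) = π (v * fL c * v⁻¹) := by
          rw [map_mul, map_mul, map_inv]; exact hde
        obtain ⟨z, hz, hze⟩ := QuotientGroup.eq.mp he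
        have hdK : (d : S) ∈ K := ⟨d, hd, rfl⟩
        refine ⟨(d : S) * z, K.mul_mem hdK (hZK hz), ?_⟩
        replace hze : f z = (f (d : S))⁻¹ * ((v : G) * f (c : S) * (v : G)⁻¹) := hze
        rw [map_mul, hze, mul_inv_cancel_left]
        rfl
      have hv := hyp (v : G) hvK (by rw [orderOf_coe]; exact hvo)
      refine mem_centralizer_iff.mpr ?_
      rintro _ ⟨x, hx, rfl⟩
      obtain ⟨c, rfl⟩ := QuotientGroup.mk_surjective x
      show π (fL c) * π v = π v * π (fL c)
      rw [← map_mul, ← map_mul]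
      exact congrArg π (Subtype.ext (mem_centralizer_iff.mp hv (f (c : S)) ⟨(c : S), ⟨c, hx, rfl⟩, rfl⟩))
    have hLnil : Cfsg.HasNormalPComplement p ↥L :=
      pnil_of_central_pGroup (Z := Zg.subgroupOf L)
        (fun z hz => mem_center_iff.mpr fun l =>
          Subtype.ext (mem_centralizer_iff.mp l.2 (z : G) hz).symm) hLq
    -- automorphisms induced on `C`
    have key : ∀ y ∈ M, y ∈ normalizer (Cg : Set G) → y ∈ normalizer ((K.map f : Subgroup G) : Set G) := by
      intro y hyM hyC
      have hex : ∀ c : C, ∃ d : C, f (d : S) = y * f (c : S) * y⁻¹ := by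
        intro c
        obtain ⟨d, hd, hde⟩ := (mem_normalizer_iff.mp hyC (f (c : S))).mp ⟨c, c.2, rfl⟩
        exact ⟨⟨d, hd⟩, hde⟩
      choose α hα using hex
      have hinj : Function.Injective α := fun a c h => Subtype.ext (hf (by
        have h1 := (hα a).symm.trans ((congrArg (fun t : C => f (t : S)) h).trans (hα c))
        exact mul_left_cancel (mul_right_cancel h1)))
      have hmul : ∀ a c, α (a * c) = α a * α c := fun a c => Subtype.ext (hf (by
        rw [hα, coe_mul, coe_mul, map_mul, map_mul, hα, hα]; group))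
      let eC : C ≃* C := MulEquiv.ofBijective (MonoidHom.mk' α hmul)
        (Finite.injective_iff_bijective.mp hinj)
      have heZ : (Z.subgroupOf C).map (eC : C →* C) = Z.subgroupOf C := by
        refine eq_of_le_of_card_ge ?_ (by rw [card_map_of_injective (f := (eC : C →* C)) eC.injective])
        rintro _ ⟨c, hc, rfl⟩
        obtain ⟨z, hz, hze⟩ := (mem_normalizer_iff.mp hyM (f (c : S))).mp ⟨(c : S), hc, rfl⟩
        have h := hf ((hα c).trans hze.symm)
        show (α c : S) ∈ Z
        rw [show (α c : S) = z from h]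
        exact hz
      let eQ := QuotientGroup.congr _ _ eC heZ
      have hK' := kSub_map (p := p) n _ _ eQ
      refine H11.mem_normalizer_of_forall ?_
      rintro _ ⟨_, ⟨c, hc, rfl⟩, rfl⟩
      refine ⟨(α c : S), ⟨α c, ?_, rfl⟩, hα c⟩
      show QuotientGroup.mk (eC c) ∈ kSub p n _
      rw [← hK']
      exact ⟨_, hc, rfl⟩
    refine pnil_of_coprime_mem (N := L.subgroupOf M) (fun x hx => ?_)
      ((H5.hasNormalPComplement_congr (subgroupOfEquivOfLe hLM)).mpr hLnil)
    have hfr := H11.normalizer_inf_sup_eq_top (P.subtype hPM) (L.subgroupOf M)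
    obtain ⟨l, hl, y, hy, rfl⟩ := H1.exists_mul_of_mem_sup
      (D := L.subgroupOf M) (H := normalizer (((P.subtype hPM : Subgroup M) ⊓ L.subgroupOf M : Subgroup M) : Set M))
      (le_top.trans (normalizer_eq_top (L.subgroupOf M)).ge)
      (x := x) (by rw [sup_comm, hfr]; exact mem_top _)
    refine mul_mem hl ?_
    obtain ⟨u, v, huv, ⟨k, hk⟩, hv, -, hvy⟩ := H5.exists_p_decomposition (p := p) y
    have hvN := zpowers_le.mpr hy hvy
    have hvL : v ∈ L.subgroupOf M := by
      have hvC : (v : G) ∈ normalizer (Cg : Set G) := by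
        refine H11.mem_normalizer_of_forall fun c hc => ?_
        rw [hCgeq] at hc
        have h1 := (mem_normalizer_iff.mp hvN ⟨c, hPM hc.1⟩).mp ⟨hc.1, hc.2⟩
        rw [hCgeq]
        exact ⟨h1.1, h1.2⟩
      have h1 := hyp (v : G) (key _ v.2 hvC) (by rw [orderOf_coe]; exact hv)
      exact mem_centralizer_iff.mpr fun z hz => mem_centralizer_iff.mp h1 z (map_mono hZK hz)
    set ρ := QuotientGroup.mk' (L.subgroupOf M) with hρ
    rw [← QuotientGroup.eq_one_iff]
    show ρ y = 1
    have e1 : ρ (l * y) = ρ y := by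
      rw [map_mul, show ρ l = 1 from (QuotientGroup.eq_one_iff l).mpr hl, one_mul]
    refine orderOf_eq_one_iff.mp (Nat.eq_one_of_dvd_coprimes (hx.pow_right k)
      (e1 ▸ orderOf_map_dvd ρ (l * y)) ?_)
    rw [huv, map_mul, show ρ v = 1 from (QuotientGroup.eq_one_iff v).mpr hvL, mul_one]
    exact orderOf_dvd_of_pow_eq_one (by rw [← map_pow, hk, map_one])

end H79
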