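import Cfsg.Prelude.Def_Transfer
import Cfsg.Agent.H6.Basic
import Mathlib

/-!
An orthogonal group of plus type over `F₂` lifts to the normalizer of an extraspecial group of Pauli
matrices over `F₃`.
-/

set_option autoImplicit false
set_option linter.unusedSectionVars false

namespace H79.CliffordLift

open Matrix
open scoped commutatorElement

/-- The sign attached to a residue modulo two. -/
def sgn (t : ZMod 2) : ZMod 3 := if t = 0 then 1 else -1

theorem sgn_add : ∀ s t : ZMod 2, sgn (s + t) = sgn s * sgn t := by decide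
theorem sgn_ne_zero : ∀ t : ZMod 2, sgn t ≠ 0 := by decide
theorem sgn_injective : Function.Injective sgn := by decide
theorem sgn_surj : ∀ c : ZMod 3, c ≠ 0 → ∃ t, c = sgn t := by decide
@[simp] theorem sgn_zero : sgn 0 = 1 := rfl
theorem sgn_sq : ∀ t : ZMod 2, sgn t * sgn t = 1 := by decide

theorem add_self_zmod (t : ZMod 2) : t + t = 0 := CharTwo.add_self_eq_zero t

variable {n : ℕ}

/-- Pauli matrices. -/
def pauli (u : (Fin n → ZMod 2) × (Fin n → ZMod 2)) :
    Matrix (Fin n → ZMod 2) (Fin n → ZMod 2) (ZMod 3) :=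
  Matrix.of fun x y => if y = x + u.1 then sgn (u.2 ⬝ᵥ y) else 0

/-- The factor set of the Pauli matrices. -/
def beta (u v : (Fin n → ZMod 2) × (Fin n → ZMod 2)) : ZMod 2 := u.2 ⬝ᵥ v.1

theorem pauli_mul (u v : (Fin n → ZMod 2) × (Fin n → ZMod 2)) :
    pauli u * pauli v = sgn (beta u v) • pauli (u + v) := by
  ext x z
  simp only [Matrix.mul_apply, pauli, Matrix.of_apply, Matrix.smul_apply, Prod.fst_add, Prod.snd_add,
    smul_eq_mul, ite_mul, zero_mul, Finset.sum_ite_eq', Finset.mem_univ, if_true, ← add_assoc]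
  by_cases h : z = x + u.1 + v.1
  · rw [if_pos h, if_pos h, ← sgn_add, ← sgn_add]
    congr 1
    rw [h, beta, add_dotProduct, dotProduct_add u.2 (x + u.1) v.1]
    linear_combination -(add_self_zmod (u.2 ⬝ᵥ v.1))
  · rw [if_neg h, if_neg h, mul_zero, mul_zero]

theorem pauli_zero : pauli (0 : (Fin n → ZMod 2) × (Fin n → ZMod 2)) = 1 := by
  ext x y
  simp [pauli, Matrix.one_apply, eq_comm]

theorem trace_pauli {u : (Fin n → ZMod 2) × (Fin n → ZMod 2)} (hu : u ≠ 0) :
    (pauli u).trace = 0 := by
  obtain ⟨a, b⟩ := u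
  by_cases ha : a = 0
  · subst ha
    obtain ⟨i, hi⟩ : ∃ i, b i ≠ 0 := by
      by_contra! h
      exact hu (Prod.ext rfl (funext h))
    have hb : b i = 1 := by
      revert hi
      generalize b i = t
      decide +revert
    have key : ∀ S : ZMod 3, S = -S → S = 0 := by decide
    apply key
    have hd : (pauli ((0 : Fin n → ZMod 2), b)).trace = ∑ x, sgn (b ⬝ᵥ x) := by
      simp [Matrix.trace, pauli]
    rw [hd, ← Finset.sum_neg_distrib]
    refine Fintype.sum_equiv (Equiv.addRight (Pi.single i (1 : ZMod 2))) _ _ fun x => ?_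
    simp only [Equiv.coe_addRight]
    rw [dotProduct_add, sgn_add, dotProduct_single, hb, mul_one, show sgn 1 = -1 from rfl]
    ring
  · refine Finset.sum_eq_zero fun x _ => ?_
    simp only [Matrix.diag, pauli, Matrix.of_apply]
    rw [if_neg fun h => ha (left_eq_add.mp h)]

theorem pauli_linearIndependent : LinearIndependent (ZMod 3) (pauli (n := n)) := by
  classical
  rw [Fintype.linearIndependent_iff]
  intro c hc w
  have h := congrArg (fun M => (M * pauli w).trace) hc
  simp only [Matrix.sum_mul, Matrix.smul_mul, pauli_mul, smul_smul, Matrix.trace_sum, Matrix.trace_smul,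
    zero_mul, Matrix.trace_zero] at h
  rw [Finset.sum_eq_single w (fun u _ hu => ?_) (by simp)] at h
  · rw [show w + w = 0 from Prod.ext (funext fun i => add_self_zmod _) (funext fun i => add_self_zmod _),
      pauli_zero, Matrix.trace_one, smul_eq_mul, mul_eq_zero] at h
    refine ((mul_eq_zero.mp (h.resolve_right ?_)).resolve_right (sgn_ne_zero _))
    simp only [Fintype.card_pi, ZMod.card, Finset.prod_const, Finset.card_univ, Fintype.card_fin,
      Nat.cast_pow]
    exact pow_ne_zero _ (by decide)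
  · rw [trace_pauli fun h => hu ?_, smul_zero]
    have : u = -w := eq_neg_of_add_eq_zero_left h
    rw [this]
    exact Prod.ext (funext fun i => CharTwo.neg_eq _) (funext fun i => CharTwo.neg_eq _)

theorem span_pauli : Submodule.span (ZMod 3) (Set.range (pauli (n := n))) = ⊤ := by
  refine pauli_linearIndependent.span_eq_top_of_card_eq_finrank' ?_
  rw [Module.finrank_matrix, Module.finrank_self, Fintype.card_prod, mul_one]

section hyperbolic

variable {U : Type*} [AddCommGroup U] [Module (ZMod 2) U] [Module.Finite (ZMod 2) U]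

/-- Hyperbolic coordinates. -/
theorem exists_hyperbolic (hn : Module.finrank (ZMod 2) U = 2 * n) (q : QuadraticForm (ZMod 2) U)
    (hnd : (QuadraticMap.polarBilin q).Nondegenerate) (W : Submodule (ZMod 2) U)
    (hW : Module.finrank (ZMod 2) W = n) (hq : ∀ w ∈ W, q w = 0) :
    ∃ ψ : U ≃ₗ[ZMod 2] (Fin n → ZMod 2) × (Fin n → ZMod 2), ∀ u, q u = beta (ψ u) (ψ u) := by
  classical
  set B := QuadraticMap.polarBilin q with hB
  have hBa : ∀ x y, q (x + y) = q x + q y + B x y := fun x y => by
    rw [hB, QuadraticMap.polarBilin_apply_apply, QuadraticMap.polar]; ring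
  have hBs : ∀ x y, B x y = B y x := fun x y => by
    simp only [hB, QuadraticMap.polarBilin_apply_apply, QuadraticMap.polar_comm]
  let bW := Module.finBasisOfFinrankEq (ZMod 2) W hW
  let w : Fin n → U := fun i => (bW i : U)
  have hwi : LinearIndependent (ZMod 2) w := bW.linearIndependent.map' W.subtype W.ker_subtype
  have hww : ∀ a b : Fin n, B (w a) (w b) = 0 := fun a b => by
    have := hBa (w a) (w b)
    rw [hq _ (W.add_mem (bW a).2 (bW b).2), hq _ (bW a).2, hq _ (bW b).2] at this
    simpa using this.symm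
  let T : U →ₗ[ZMod 2] (Fin n → ZMod 2) := LinearMap.pi fun i => B (w i)
  have hT : LinearMap.range T = ⊤ := by
    by_contra hne
    obtain ⟨φ, hφ, hle⟩ := Submodule.exists_le_ker_of_lt_top (LinearMap.range T) (lt_top_iff_ne_top.mpr hne)
    have hφe : ∀ v : Fin n → ZMod 2, φ v = ∑ i, v i * φ (Pi.single i 1) := fun v => by
      conv_lhs => rw [pi_eq_sum_univ' v]
      simp
    have hsum : ∑ i, φ (Pi.single i 1) • w i = 0 := by
      refine hnd.1 _ fun x => ?_
      have h := LinearMap.mem_ker.mp (hle ⟨x, rfl⟩)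
      rw [hφe] at h
      rw [map_sum, LinearMap.sum_apply, ← h]
      exact Finset.sum_congr rfl fun i _ => by simp [T, mul_comm]
    have h0 := Fintype.linearIndependent_iff.mp hwi _ hsum
    exact hφ (LinearMap.ext fun v => by rw [hφe]; simp [h0])
  have hg : ∀ j, ∃ g : U, T g = Pi.single j 1 := fun j => LinearMap.mem_range.mp (hT ▸ trivial)
  choose g hg using hg
  have hwg : ∀ i j, B (w i) (g j) = if i = j then 1 else 0 := fun i j => by
    have := congrFun (hg j) i
    simpa [T, Pi.single_apply] using this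
  let c : Fin n → Fin n → ZMod 2 := fun j i =>
    if i < j then B (g i) (g j) else if i = j then q (g j) else 0
  let cw : Fin n → U := fun j => ∑ i, c j i • w i
  have hcwW : ∀ j, cw j ∈ W := fun j => W.sum_mem fun i _ => W.smul_mem _ (bW i).2
  have hwc : ∀ a j, B (w a) (cw j) = 0 := fun a j => by
    simp [cw, map_sum, hww]
  have hgc : ∀ a j, B (g a) (cw j) = c j a := fun a j => by
    simp [cw, map_sum, hBs (g a), hwg]
  have hcc : ∀ a j, B (cw a) (cw j) = 0 := fun a j => by
    have := hBa (cw a) (cw j)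
    rw [hq _ (W.add_mem (hcwW a) (hcwW j)), hq _ (hcwW a), hq _ (hcwW j)] at this
    simpa using this.symm
  let f : Fin n → U := fun j => g j + cw j
  have hwf : ∀ i j, B (w i) (f j) = if i = j then 1 else 0 := fun i j => by simp [f, hwg, hwc]
  have hff : ∀ i j, i ≠ j → B (f i) (f j) = 0 := by
    intro i j hij
    simp only [f, map_add, LinearMap.add_apply, hgc, hcc, hBs (cw i) (g j), add_zero, c]
    rcases lt_or_gt_of_ne hij with h | h
    · rw [if_pos h, if_neg (not_lt.mpr h.le), if_neg (Ne.symm hij), add_zero, add_self_zmod]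
    · rw [if_neg (not_lt.mpr h.le), if_neg hij, if_pos h, hBs (g j) (g i), add_zero, add_self_zmod]
  have hqf : ∀ j, q (f j) = 0 := fun j => by
    simp only [f, hBa, hq _ (hcwW j), hgc, c, lt_irrefl, if_false, if_true, add_zero, add_self_zmod]
  have hqsum : ∀ (b : Fin n → ZMod 2) (s : Finset (Fin n)), q (∑ i ∈ s, b i • f i) = 0 := by
    intro b s
    induction s using Finset.induction_on with
    | empty => simp
    | insert a s ha ih =>
      rw [Finset.sum_insert ha, hBa, ih, QuadraticMap.map_smul, hqf, smul_zero, zero_add, zero_add,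
        map_sum]
      refine Finset.sum_eq_zero fun i hi => ?_
      simp [hff a i (fun h => ha (h ▸ hi))]
  let Φ : (Fin n → ZMod 2) × (Fin n → ZMod 2) →ₗ[ZMod 2] U :=
    (Fintype.linearCombination (ZMod 2) w).coprod (Fintype.linearCombination (ZMod 2) f)
  have hΦ : ∀ x, Φ x = ∑ i, x.1 i • w i + ∑ i, x.2 i • f i := fun x => by
    simp [Φ, Fintype.linearCombination_apply]
  have hw0 : ∀ a : Fin n → ZMod 2, ∑ i, a i • w i ∈ W :=
    fun a => W.sum_mem fun i _ => W.smul_mem _ (bW i).2
  have hBΦ : ∀ i x, B (w i) (Φ x) = x.2 i := fun i x => by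
    simp [hΦ, map_sum, hww, hwf]
  have hinj : Function.Injective Φ := by
    rw [← LinearMap.ker_eq_bot, LinearMap.ker_eq_bot']
    intro x hx
    have h2 : x.2 = 0 := funext fun i => by rw [← hBΦ, hx, map_zero]; rfl
    have h1 : ∑ i, x.1 i • w i = 0 := by
      rw [hΦ, h2] at hx
      simpa using hx
    exact Prod.ext (funext (Fintype.linearIndependent_iff.mp hwi _ h1)) h2
  have hdim : Module.finrank (ZMod 2) ((Fin n → ZMod 2) × (Fin n → ZMod 2)) = Module.finrank (ZMod 2) U := by
    rw [hn, Module.finrank_prod, Module.finrank_fin_fun]; ring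
  refine ⟨(LinearMap.linearEquivOfInjective Φ hinj hdim).symm, fun u => ?_⟩
  obtain ⟨x, rfl⟩ := (LinearMap.linearEquivOfInjective Φ hinj hdim).surjective u
  rw [LinearEquiv.symm_apply_apply, LinearMap.linearEquivOfInjective_apply, hΦ, hBa, hq _ (hw0 _),
    hqsum x.2, zero_add, zero_add]
  simp only [map_sum, map_smul, LinearMap.sum_apply, LinearMap.smul_apply, smul_eq_mul, beta, dotProduct]
  refine Finset.sum_congr rfl fun j _ => ?_
  simp [hwf]

end hyperbolic

/-- An alternating bilinear form over `F₂` is a polar form. -/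
theorem exists_quad {U : Type*} [AddCommGroup U] [Module (ZMod 2) U] [Module.Finite (ZMod 2) U]
    (α : LinearMap.BilinForm (ZMod 2) U) (hα : ∀ u, α u u = 0) :
    ∃ t : U → ZMod 2, ∀ u v, t (u + v) = t u + t v + α u v := by
  let b := Module.finBasis (ZMod 2) U
  let A : Matrix (Fin (Module.finrank (ZMod 2) U)) (Fin (Module.finrank (ZMod 2) U)) (ZMod 2) :=
    Matrix.of fun i j => if i < j then α (b i) (b j) else 0
  let γ : LinearMap.BilinForm (ZMod 2) U := Matrix.toBilin b A
  have hγ : ∀ i j, γ (b i) (b j) = A i j := fun i j => by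
    rw [← LinearMap.BilinForm.toMatrix_apply b γ i j, LinearMap.BilinForm.toMatrix_toBilin]
  have hsym : ∀ u v, α u v = α v u := fun u v => by
    have h := hα (u + v)
    simp only [map_add, LinearMap.add_apply, hα, zero_add, add_zero] at h
    exact CharTwo.add_eq_zero.mp (by linear_combination h)
  have key : α = γ + γ.flip := by
    refine LinearMap.ext_basis b b fun i j => ?_
    rw [LinearMap.add_apply, LinearMap.add_apply, LinearMap.BilinForm.flip_apply, hγ, hγ]
    simp only [A, Matrix.of_apply]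
    rcases lt_trichotomy i j with h | h | h
    · rw [if_pos h, if_neg (not_lt.mpr h.le), add_zero]
    · subst h; simp [hα]
    · rw [if_neg (not_lt.mpr h.le), if_pos h, zero_add, hsym]
  refine ⟨fun u => γ u u, fun u v => ?_⟩
  rw [key]
  simp only [map_add, LinearMap.add_apply, LinearMap.BilinForm.flip_apply]
  ring

section lift

variable {X : Type*} [Fintype X] [DecidableEq X] {U : Type*} [AddCommGroup U] [Module (ZMod 2) U]
  [Module.Finite (ZMod 2) U]

/-- A spanning independent family with the given factor set is intertwined with every other. -/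
theorem exists_intertwiner [Fintype U] (β : LinearMap.BilinForm (ZMod 2) U)
    (P P' : U → Matrix X X (ZMod 3)) (hP : LinearIndependent (ZMod 3) P)
    (hspan : Submodule.span (ZMod 3) (Set.range P) = ⊤)
    (hmul : ∀ u v, P u * P v = sgn (β u v) • P (u + v))
    (hmul' : ∀ u v, P' u * P' v = sgn (β u v) • P' (u + v)) (h0 : P' 0 ≠ 0) :
    ∃ T : Matrix X X (ZMod 3), IsUnit T ∧ ∀ u, P' u * T = T * P u := by
  let T : Matrix X X (ZMod 3) → Matrix X X (ZMod 3) := fun A => ∑ u, sgn (β u u) • (P' u * A * P u)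
  have hT : ∀ A w, P' w * T A = T A * P w := by
    intro A w
    simp only [T, Finset.mul_sum, Finset.sum_mul, Matrix.mul_smul, Matrix.smul_mul, ← mul_assoc, hmul']
    simp only [mul_assoc, hmul, Matrix.mul_smul, smul_smul, ← sgn_add]
    refine Fintype.sum_equiv (Equiv.addLeft w) _ _ fun u => ?_
    simp only [Equiv.coe_addLeft]
    have hww : w + u + w = u := by
      have h2 : w + w = 0 := by
        rw [← two_smul (ZMod 2) w, show (2 : ZMod 2) = 0 from rfl, zero_smul]
      rw [add_right_comm, h2, zero_add]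
    rw [hww]
    congr 2
    simp only [map_add, LinearMap.add_apply]
    linear_combination -(add_self_zmod (β w w)) - add_self_zmod (β u w)
  obtain ⟨A, hA⟩ : ∃ A, T A ≠ 0 := by
    by_contra! h
    apply h0
    ext i j
    have h' : ∀ k l, ∑ u, (sgn (β u u) * P' u i j) * P u k l = 0 := by
      intro k l
      have := congrFun (congrFun (h (Matrix.single j k 1)) i) l
      simpa [T, Matrix.sum_apply, Matrix.mul_apply, Matrix.single_apply, Finset.sum_ite_eq,
        Finset.sum_ite_eq', ite_and, mul_ite, ite_mul, mul_assoc] using this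
    have hz : ∑ u, (sgn (β u u) * P' u i j) • P u = 0 := by
      ext k l
      simpa [Matrix.sum_apply] using h' k l
    exact (mul_eq_zero.mp (Fintype.linearIndependent_iff.mp hP _ hz 0)).resolve_left (sgn_ne_zero _)
  refine ⟨T A, Matrix.mulVec_injective_iff_isUnit.mp ?_, hT A⟩
  rw [← Matrix.coe_mulVecLin, ← LinearMap.ker_eq_bot, LinearMap.ker_eq_bot']
  intro v hv
  by_contra hv0
  obtain ⟨j, hj⟩ := Function.ne_iff.mp hv0
  have hM : ∀ M : Matrix X X (ZMod 3), (T A * M) *ᵥ v = 0 := by
    intro M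
    have hmem : M ∈ Submodule.span (ZMod 3) (Set.range P) := hspan ▸ Submodule.mem_top
    induction hmem using Submodule.span_induction with
    | mem x hx =>
      obtain ⟨u, rfl⟩ := hx
      rw [← hT, ← Matrix.mulVec_mulVec, show T A *ᵥ v = 0 from hv, Matrix.mulVec_zero]
    | zero => simp
    | add x y _ _ hx hy => rw [mul_add, Matrix.add_mulVec, hx, hy, add_zero]
    | smul c x _ hx => rw [Matrix.mul_smul, Matrix.smul_mulVec, hx, smul_zero]
  apply hA
  ext a b
  have h := congrFun (hM (Matrix.single b j 1)) a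
  simp [Matrix.mulVec, dotProduct, Matrix.mul_apply, Matrix.single_apply, Finset.sum_ite_eq,
    ite_and, Finset.sum_mul, ite_mul, mul_ite] at h
  exact h.resolve_right hj

/-- The lift. -/
theorem exists_lift {Y : Type} [Fintype Y] [DecidableEq Y] [Nonempty Y] {K : Type*} [Group K]
    [Fintype U] (ρ : Representation (ZMod 2) K U) (hρ : Function.Injective ρ)
    (q : QuadraticForm (ZMod 2) U) (hq : ∀ (k : K) (u : U), q (ρ k u) = q u)
    (hnd : (QuadraticMap.polarBilin q).Nondegenerate) [Nontrivial U]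
    (β : LinearMap.BilinForm (ZMod 2) U) (hβ : ∀ u, q u = β u u)
    (P : U → Matrix Y Y (ZMod 3)) (hP : LinearIndependent (ZMod 3) P)
    (hspan : Submodule.span (ZMod 3) (Set.range P) = ⊤)
    (hmul : ∀ u v, P u * P v = sgn (β u v) • P (u + v)) (hP0 : P 0 = 1) :
    ∃ (R : Type) (_ : Group R) (_ : Finite R) (Q : Subgroup R) (hN : Q.Normal) (e : R ⧸ Q ≃* K)
      (χ : ↥Q →* Multiplicative U), Cfsg.IsExtraspecial 2 ↥Q ∧ Nat.card ↥Q = 2 * Nat.card U ∧
      Function.Surjective χ ∧ χ.ker = Subgroup.center ↥Q ∧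
      (∀ (r : R) (a : ↥Q), χ ⟨r * a * r⁻¹, hN.conj_mem (a : R) a.2 r⟩ =
        Multiplicative.ofAdd (ρ (e (r : R ⧸ Q)) (Multiplicative.toAdd (χ a)))) ∧
      ∀ a : ↥Q, a * a = 1 ↔ q (Multiplicative.toAdd (χ a)) = 0 := by
  classical
  have hne : ∀ u, P u ≠ 0 := fun u => hP.ne_zero u
  have huniq : ∀ (c d : ZMod 3) (u v : U), c ≠ 0 → c • P u = d • P v → u = v ∧ c = d := by
    intro c d u v hc h
    by_cases huv : u = v
    · subst huv
      exact ⟨rfl, smul_left_injective (ZMod 3) (hne u) h⟩
    · exfalso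
      exact hc (by
        have := Fintype.linearIndependent_iff.mp hP (fun x => (if x = u then c else 0) - if x = v then d else 0)
          (by simp [sub_smul, ite_smul, h]) u
        simpa [huv] using this)
  have hdbl : ∀ u : U, u + u = 0 := fun u => by
    rw [← two_smul (ZMod 2) u, show (2 : ZMod 2) = 0 from rfl, zero_smul]
  have hpolar : ∀ u v, QuadraticMap.polarBilin q u v = β u v + β v u := fun u v => by
    rw [QuadraticMap.polarBilin_apply_apply, QuadraticMap.polar, hβ, hβ, hβ]
    simp only [map_add, LinearMap.add_apply]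
    ring
  have hcomm : ∀ u v, P u * P v = sgn (QuadraticMap.polarBilin q u v) • (P v * P u) := fun u v => by
    rw [hmul, hmul, smul_smul, add_comm v u, ← sgn_add, hpolar]
    congr 2
    linear_combination -(add_self_zmod (β v u))
  let R : Subgroup (Matrix Y Y (ZMod 3))ˣ :=
    { carrier := {g | ∃ (k : K) (s : U → ZMod 2), ∀ u, (g : Matrix Y Y (ZMod 3)) * P u =
        sgn (s u) • (P (ρ k u) * g)}
      one_mem' := ⟨1, 0, fun u => by simp⟩
      mul_mem' := by
        rintro g h ⟨k, s, hk⟩ ⟨k', s', hk'⟩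
        refine ⟨k * k', fun u => s' u + s (ρ k' u), fun u => ?_⟩
        rw [Units.val_mul, mul_assoc, hk', Matrix.mul_smul, ← mul_assoc, hk, Matrix.smul_mul, smul_smul,
          ← sgn_add, map_mul, mul_assoc]
        rfl
      inv_mem' := by
        rintro g ⟨k, s, hk⟩
        refine ⟨k⁻¹, fun u => s (ρ k⁻¹ u), fun u => ?_⟩
        have hu : ρ k (ρ k⁻¹ u) = u := by
          rw [← Module.End.mul_apply, ← map_mul, mul_inv_cancel, map_one]; rfl
        have h := hk (ρ k⁻¹ u)
        rw [hu] at h
        calc (g⁻¹ : (Matrix Y Y (ZMod 3))ˣ).val * P u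
            = (g⁻¹).val * ((sgn (s (ρ k⁻¹ u)) * sgn (s (ρ k⁻¹ u))) • (P u * g.val)) * (g⁻¹).val := by
              rw [sgn_sq, one_smul, mul_assoc, mul_assoc, Units.mul_inv, mul_one]
          _ = sgn (s (ρ k⁻¹ u)) • (P (ρ k⁻¹ u) * (g⁻¹).val) := by
              rw [← smul_smul, ← h, Matrix.mul_smul, Matrix.smul_mul, ← mul_assoc (g⁻¹).val, Units.inv_mul,
                one_mul] }
  have kuniq : ∀ (g : (Matrix Y Y (ZMod 3))ˣ) (k k' : K) (s s' : U → ZMod 2),
      (∀ u, g.val * P u = sgn (s u) • (P (ρ k u) * g)) →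
      (∀ u, g.val * P u = sgn (s' u) • (P (ρ k' u) * g)) → k = k' ∧ s = s' := by
    intro g k k' s s' h h'
    have key : ∀ u, ρ k u = ρ k' u ∧ s u = s' u := fun u => by
      have e := (h u).symm.trans (h' u)
      rw [← Matrix.smul_mul, ← Matrix.smul_mul] at e
      obtain ⟨e1, e2⟩ := huniq _ _ _ _ (sgn_ne_zero _) (g.isUnit.mul_right_cancel e)
      exact ⟨e1, sgn_injective e2⟩
    exact ⟨hρ (LinearMap.ext fun u => (key u).1), funext fun u => (key u).2⟩
  choose κ σ hκ using fun g : R => g.2
  let f : R →* K := MonoidHom.mk' κ fun g h => by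
    refine (kuniq (g * h : R).1 _ _ _ (fun u => σ h u + σ g (ρ (κ h) u)) (hκ (g * h)) fun u => ?_).1
    show g.1.val * h.1.val * P u = _
    rw [mul_assoc, hκ, Matrix.mul_smul, ← mul_assoc, hκ, Matrix.smul_mul, smul_smul, ← sgn_add, map_mul,
      mul_assoc]
    rfl
  have hfsurj : Function.Surjective f := by
    intro k
    let L : U →ₗ[ZMod 2] U := ρ k
    let α : LinearMap.BilinForm (ZMod 2) U := β.compl₁₂ L L + β
    obtain ⟨t, ht⟩ := exists_quad α (fun u => by
      show β (L u) (L u) + β u u = 0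
      rw [← hβ, ← hβ, hq, add_self_zmod])
    obtain ⟨T, hT, hTP⟩ := exists_intertwiner β P (fun u => sgn (t u) • P (L u)) hP hspan hmul
      (fun u v => by
        show (sgn (t u) • P (L u)) * (sgn (t v) • P (L v)) = sgn (β u v) • (sgn (t (u + v)) • P (L (u + v)))
        rw [Matrix.smul_mul, Matrix.mul_smul, hmul, smul_smul, smul_smul, smul_smul, map_add, ← sgn_add,
          ← sgn_add, ← sgn_add, ht]
        show sgn (t u + t v + β (L u) (L v)) • _ = sgn (β u v + (t u + t v + (β (L u) (L v) + β u v))) • _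
        congr 2
        linear_combination -(add_self_zmod (β u v)))
      (smul_ne_zero (sgn_ne_zero _) (hne _))
    have hmem : hT.unit ∈ R := ⟨k, t, fun u => by
      show T * P u = sgn (t u) • (P (ρ k u) * T)
      rw [← hTP, Matrix.smul_mul]⟩
    refine ⟨⟨hT.unit, hmem⟩, (kuniq hT.unit _ _ _ t (hκ ⟨hT.unit, hmem⟩) fun u => ?_).1⟩
    show T * P u = sgn (t u) • (P (ρ k u) * T)
    rw [← hTP, Matrix.smul_mul]
  -- elements of the kernel
  have hker : ∀ g : R, g ∈ f.ker ↔ ∃ (t : ZMod 2) (w : U), g.1.val = sgn t • P w := by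
    intro g
    constructor
    · intro hg
      have hg' : ∀ u, g.1.val * P u = sgn (σ g u) • (P u * g.1.val) := fun u => by
        conv_lhs => rw [hκ g u, show κ g = 1 from hg, map_one]
        rfl
      have hadd : ∀ u v, σ g (u + v) = σ g u + σ g v := by
        intro u v
        have h1 : g.1.val * (P u * P v) = sgn (σ g u + σ g v) • (P u * P v * g.1.val) := by
          rw [← mul_assoc, hg', Matrix.smul_mul, mul_assoc, hg', Matrix.mul_smul, smul_smul, ← sgn_add,
            mul_assoc]
        rw [hmul, Matrix.mul_smul, hg', Matrix.smul_mul, smul_smul, smul_smul, ← Matrix.smul_mul,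
          ← Matrix.smul_mul] at h1
        obtain ⟨-, e⟩ := huniq _ _ _ _ (mul_ne_zero (sgn_ne_zero _) (sgn_ne_zero _))
          (g.1.isUnit.mul_right_cancel h1)
        rw [← sgn_add, ← sgn_add] at e
        linear_combination sgn_injective e
      let sl : Module.Dual (ZMod 2) U :=
        (AddMonoidHom.mk' (σ g) hadd).toZModLinearMap 2
      obtain ⟨w, hw⟩ : ∃ w, QuadraticMap.polarBilin q w = sl :=
        (LinearMap.BilinForm.toDual (QuadraticMap.polarBilin q) hnd).surjective sl
      have hcen : ∀ u, Commute (P w * g.1.val) (P u) := fun u => by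
        show P w * g.1.val * P u = P u * (P w * g.1.val)
        rw [mul_assoc, hg', Matrix.mul_smul, ← mul_assoc, hcomm w u, Matrix.smul_mul, smul_smul, hw,
          show sl u = σ g u from rfl, sgn_sq, one_smul, mul_assoc]
      have hall : ∀ M : Matrix Y Y (ZMod 3), Commute (P w * g.1.val) M := by
        intro M
        have hm : M ∈ Submodule.span (ZMod 3) (Set.range P) := hspan ▸ Submodule.mem_top
        induction hm using Submodule.span_induction with
        | mem x hx => obtain ⟨u, rfl⟩ := hx; exact hcen u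
        | zero => exact Commute.zero_right _
        | add x y _ _ hx hy => exact hx.add_right hy
        | smul c x _ hx => exact hx.smul_right c
      obtain ⟨c, hc⟩ := Matrix.mem_range_scalar_of_commute_single (M := P w * g.1.val)
        fun i j _ => (hall _).symm
      rw [Matrix.scalar_apply, ← Matrix.smul_one_eq_diagonal] at hc
      have hgw : g.1.val = (sgn (β w w) * c) • P w := by
        have h1 : P w * (P w * g.1.val) = P w * (c • 1) := by rw [hc]
        rw [← mul_assoc, hmul, hdbl, hP0, Matrix.smul_mul, one_mul, Matrix.mul_smul, mul_one] at h1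
        have := congrArg (fun M => sgn (β w w) • M) h1
        simpa [smul_smul, sgn_sq] using this
      have hc0 : sgn (β w w) * c ≠ 0 := fun h0 => by
        rw [h0, zero_smul] at hgw
        exact g.1.isUnit.ne_zero hgw
      obtain ⟨t, ht⟩ := sgn_surj _ hc0
      exact ⟨t, w, ht ▸ hgw⟩
    · rintro ⟨t, w, hg⟩
      rw [MonoidHom.mem_ker]
      refine (kuniq g.1 _ 1 _ (fun u => QuadraticMap.polarBilin q w u) (hκ g) fun u => ?_).1
      rw [map_one, hg, Matrix.smul_mul, Matrix.mul_smul, smul_comm, hcomm w u]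
      rfl
  have hunit : ∀ (t : ZMod 2) (w : U), IsUnit (sgn t • P w) := fun t w => by
    have h1 : (sgn t • P w) * (sgn t * sgn (β w w)) • P w = 1 := by
      rw [Matrix.smul_mul, Matrix.mul_smul, hmul, hdbl, hP0, smul_smul, smul_smul, mul_assoc,
        mul_assoc, sgn_sq, mul_one, sgn_sq, one_smul]
    exact IsUnit.of_mul_eq_one _ h1
  have hmemR : ∀ t w, (hunit t w).unit ∈ R := fun t w => ⟨1, fun u => QuadraticMap.polarBilin q w u,
    fun u => by
      show (hunit t w).unit.val * P u =
        sgn (QuadraticMap.polarBilin q w u) • (P (ρ (1 : K) u) * (hunit t w).unit.val)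
      rw [IsUnit.unit_spec, map_one, Module.End.one_apply]
      rw [Matrix.smul_mul, Matrix.mul_smul, smul_comm, hcomm w u]⟩
  let Q : Subgroup R := f.ker
  let mk : ZMod 2 × U → Q := fun x => ⟨⟨(hunit x.1 x.2).unit, hmemR x.1 x.2⟩, (hker _).mpr ⟨x.1, x.2, rfl⟩⟩
  have hmk : Function.Bijective mk := by
    refine ⟨fun x y h => ?_, fun a => ?_⟩
    · have h' : sgn x.1 • P x.2 = sgn y.1 • P y.2 := congrArg (fun z : Q => z.1.1.val) h
      obtain ⟨e1, e2⟩ := huniq _ _ _ _ (sgn_ne_zero _) h'
      exact Prod.ext (sgn_injective e2) e1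
    · obtain ⟨t, w, h⟩ := (hker a.1).mp a.2
      exact ⟨(t, w), Subtype.ext (Subtype.ext (Units.ext h.symm))⟩
  have hmkmul : ∀ x y, mk x * mk y = mk (x.1 + y.1 + β x.2 y.2, x.2 + y.2) := fun x y => by
    refine Subtype.ext (Subtype.ext (Units.ext ?_))
    show sgn x.1 • P x.2 * sgn y.1 • P y.2 = sgn (x.1 + y.1 + β x.2 y.2) • P (x.2 + y.2)
    rw [Matrix.smul_mul, Matrix.mul_smul, hmul, smul_smul, smul_smul, sgn_add, sgn_add]
  have mk0 : mk (0, 0) = 1 := Subtype.ext (Subtype.ext (Units.ext (by
    show sgn 0 • P 0 = 1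
    rw [sgn_zero, hP0, one_smul])))
  let E := Equiv.ofBijective mk hmk
  have hE : ∀ x, E.symm (mk x) = x := E.symm_apply_apply
  let χ : Q →* Multiplicative U := MonoidHom.mk' (fun a => Multiplicative.ofAdd (E.symm a).2) fun a b => by
    obtain ⟨x, rfl⟩ := hmk.2 a
    obtain ⟨y, rfl⟩ := hmk.2 b
    rw [hmkmul, hE, hE, hE]
    rfl
  have hχ : ∀ x, Multiplicative.toAdd (χ (mk x)) = x.2 := fun x => congrArg Prod.snd (hE x)
  have hχs : Function.Surjective χ := fun u => ⟨mk (0, Multiplicative.toAdd u), by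
    show Multiplicative.ofAdd _ = u
    rw [hE]; rfl⟩
  have hQcard : Nat.card Q = 2 * Nat.card U := by
    rw [← Nat.card_congr E, Nat.card_prod, Nat.card_zmod]
  have hkerχ : χ.ker = Subgroup.center Q := by
    ext a
    obtain ⟨⟨t, w⟩, rfl⟩ := hmk.2 a
    rw [MonoidHom.mem_ker, Subgroup.mem_center_iff]
    constructor
    · intro h b
      have hw : w = 0 := by
        have h1 := hχ (t, w)
        rw [h] at h1
        exact h1.symm
      obtain ⟨⟨s, v⟩, rfl⟩ := hmk.2 b
      subst hw
      rw [hmkmul, hmkmul]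
      simp [add_comm]
    · intro h
      have hw : w = 0 := by
        refine hnd.1 w fun v => ?_
        have := h (mk (0, v))
        rw [hmkmul, hmkmul] at this
        have h2 : (0 : ZMod 2) + t + β v w = t + 0 + β w v := congrArg Prod.fst (hmk.1 this)
        rw [hpolar]
        linear_combination h2 + add_self_zmod (β w v)
      show Multiplicative.ofAdd (E.symm (mk (t, w))).2 = 1
      rw [hE, hw]; rfl
  have hcent : Nat.card (Subgroup.center Q) = 2 := by
    have h1 := χ.ker.card_mul_index
    rw [Subgroup.index_ker, MonoidHom.range_eq_top.mpr hχs, Subgroup.card_top, hQcard,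
      Nat.card_congr Multiplicative.toAdd, hkerχ] at h1
    exact Nat.eq_of_mul_eq_mul_right Nat.card_pos h1
  have hQp : IsPGroup 2 Q := by
    refine IsPGroup.of_card (n := Module.finrank (ZMod 2) U + 1) ?_
    rw [hQcard, Module.natCard_eq_pow_finrank (K := ZMod 2), Nat.card_zmod, pow_succ']
  have hsq : ∀ a : Q, a ^ 2 ∈ χ.ker := fun a => by
    rw [MonoidHom.mem_ker, map_pow, pow_two]
    exact hdbl (Multiplicative.toAdd (χ a))
  have hle : commutator Q ≤ Subgroup.center Q := hkerχ ▸ Abelianization.commutator_subset_ker χ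
  have hge : commutator Q = Subgroup.center Q := by
    refine Subgroup.eq_of_le_of_card_ge hle ?_
    rw [hcent]
    refine (Finite.one_lt_card_iff_nontrivial.mpr ((Subgroup.nontrivial_iff_ne_bot _).mpr fun hbot => ?_))
    obtain ⟨w, hw⟩ := exists_ne (0 : U)
    refine hw (hnd.1 w fun v => ?_)
    have hm : ⁅mk (0, w), mk (0, v)⁆ ∈ commutator Q :=
      Subgroup.commutator_mem_commutator (Subgroup.mem_top _) (Subgroup.mem_top _)
    rw [hbot, Subgroup.mem_bot, commutatorElement_eq_one_iff_mul_comm, hmkmul, hmkmul] at hm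
    have h2 : (0 : ZMod 2) + 0 + β w v = 0 + 0 + β v w := congrArg Prod.fst (hmk.1 hm)
    rw [hpolar]
    linear_combination h2 + add_self_zmod (β v w)
  have hfr : frattini Q = Subgroup.center Q := by
    refine le_antisymm (H6.frattini_le_of_quotient (p := 2) _ hle fun a => hkerχ ▸ hsq a) ?_
    rw [← hge]
    exact H6.commutator_le_frattini hQp
  refine ⟨R, inferInstance, inferInstance, Q, inferInstance,
    QuotientGroup.quotientKerEquivOfSurjective f hfsurj, χ, ⟨⟨hQp, hfr, hge⟩, hcent⟩, hQcard, hχs,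
    hkerχ, ?_, ?_⟩
  · intro r a
    obtain ⟨⟨t, w⟩, rfl⟩ := hmk.2 a
    show χ _ = Multiplicative.ofAdd (ρ (κ r) (Multiplicative.toAdd (χ (mk (t, w)))))
    rw [hχ]
    have hval : (⟨r * (mk (t, w) : Q) * r⁻¹, (inferInstance : Q.Normal).conj_mem _ (mk (t, w)).2 r⟩ : Q) =
        mk (t + σ r w, ρ (κ r) w) := by
      refine Subtype.ext (Subtype.ext (Units.ext ?_))
      show r.1.val * (sgn t • P w) * (r.1⁻¹).val = sgn (t + σ r w) • P (ρ (κ r) w)
      rw [Matrix.mul_smul, hκ, smul_smul, ← sgn_add, Matrix.smul_mul, mul_assoc, Units.mul_inv, mul_one]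
    rw [hval]
    exact congrArg Multiplicative.ofAdd (congrArg Prod.snd (hE _))
  · intro a
    obtain ⟨⟨t, w⟩, rfl⟩ := hmk.2 a
    rw [hχ, hmkmul, hdbl, hβ, ← mk0]
    refine ⟨fun h => ?_, fun h => ?_⟩
    · have h1 : t + t + β w w = 0 := congrArg Prod.fst (hmk.1 h)
      rwa [add_self_zmod, zero_add] at h1
    · simp only [add_self_zmod, h, add_zero]

end lift

end H79.CliffordLift
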