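import Cfsg.Agent.H79.Basic
import Cfsg.Agent.H6.Extraspecial
import Cfsg.Agent.H11.Replacement
import Cfsg.Agent.H1.CoprimeAction
import Cfsg.Agent.H1.SchurZassenhausConj
import Cfsg.Agent.H5.PResidual
import Cfsg.Agent.H76.SPE

set_option autoImplicit false

/-!
In an extraspecial Sylow subgroup of order p³ and exponent p², p odd, the centre is strongly closed.
-/

namespace H79

open Subgroup
open scoped commutatorElement Pointwise

section group
variable {X : Type*} [Group X] [Finite X] {p : ℕ} [Fact p.Prime]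

theorem exists_commutator_eq (hE : Cfsg.IsExtraspecial p X) {u : X} (hu : u ∉ center X) {w : X}
    (hw : w ∈ center X) : ∃ a : X, a * u * a⁻¹ * u⁻¹ = w := by
  have hc : ∀ a c : X, ⁅a, c⁆ ∈ center X := H6.extraspecial_commutator_mem_center hE
  let φ : X →* center X := MonoidHom.mk' (fun a => ⟨⁅a, u⁆, hc a u⟩) fun a c => Subtype.ext (by
    show ⁅a * c, u⁆ = ⁅a, u⁆ * ⁅c, u⁆
    have e : ⁅a * c, u⁆ = a * ⁅c, u⁆ * a⁻¹ * ⁅a, u⁆ := by simp only [commutatorElement_def]; group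
    rw [e, mem_center_iff.mp (hc c u) a, mul_inv_cancel_right, mem_center_iff.mp (hc a u) ⁅c, u⁆])
  have htop : φ.range = ⊤ := by
    haveI : Fact (Nat.card (center X)).Prime := ⟨hE.2.symm ▸ Fact.out⟩
    rcases φ.range.eq_bot_or_eq_top_of_prime_card with h | h
    · exfalso
      refine hu (mem_center_iff.mpr fun a => ?_)
      have h1 : φ a = 1 := mem_bot.mp (h ▸ ⟨a, rfl⟩)
      exact commutatorElement_eq_one_iff_mul_comm.mp (congrArg Subtype.val h1)
    · exact h
  obtain ⟨a, ha⟩ : (⟨w, hw⟩ : center X) ∈ φ.range := htop ▸ mem_top _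
  exact ⟨a, congrArg Subtype.val ha⟩

/-- In an extraspecial group of exponent p² and order p³, p odd, all elements killed by p commute. -/
theorem mem_of_pow_eq_one (hp : p ≠ 2) (hE : Cfsg.IsExtraspecial p X) (hcard : Nat.card X = p ^ 3)
    (hexp : Monoid.exponent X = p ^ 2) (E : Subgroup X) (hEc : Nat.card E = p ^ 2)
    (hEp : ∀ e ∈ E, e ^ p = 1) {x : X} (hx : x ^ p = 1) : x ∈ E := by
  have hpr : p.Prime := Fact.out
  have hc : ∀ a c : X, ⁅a, c⁆ ∈ center X := H6.extraspecial_commutator_mem_center hE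
  let T : Subgroup X :=
    { carrier := {x | x ^ p = 1}
      one_mem' := one_pow p
      mul_mem' := fun {u v} hu hv => by
        obtain ⟨j, hj⟩ : p ∣ p.choose 2 := hpr.dvd_choose_self two_ne_zero
          (lt_of_le_of_ne hpr.two_le (Ne.symm hp))
        show (u * v) ^ p = 1
        rw [H11.mul_pow_of_commutator_central (x := u) (y := v) (c := ⁅v, u⁆)
          (by simp only [commutatorElement_def]; group)
          ((mem_center_iff.mp (hc v u) u).symm) ((mem_center_iff.mp (hc v u) v).symm) p,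
          show u ^ p = 1 from hu, show v ^ p = 1 from hv, hj, pow_mul]
        have hcc : ⁅v, u⁆ ^ p = 1 := by
          rw [← hE.2]
          exact congrArg Subtype.val (pow_card_eq_one' (G := center X) (x := ⟨_, hc v u⟩))
        rw [hcc, one_pow, one_mul, one_mul]
      inv_mem' := fun {u} hu => by
        show u⁻¹ ^ p = 1
        rw [inv_pow, show u ^ p = 1 from hu, inv_one] }
  have hET : E ≤ T := hEp
  obtain ⟨k, hk, hkc⟩ := (Nat.dvd_prime_pow hpr).mp (hcard ▸ card_subgroup_dvd_card T)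
  have hk3 : k ≠ 3 := by
    intro h
    have htop : T = ⊤ := eq_top_of_card_eq _ (by rw [hkc, hcard, h])
    have hd : Monoid.exponent X ∣ p :=
      Monoid.exponent_dvd_of_forall_pow_eq_one fun x => (htop ▸ mem_top x : x ∈ T)
    rw [hexp, pow_two] at hd
    exact absurd (Nat.le_of_dvd hpr.pos hd) (not_le.mpr (lt_mul_self hpr.one_lt))
  have : E = T := eq_of_le_of_card_ge hET (by
    rw [hkc, hEc]; exact Nat.pow_le_pow_right hpr.pos (by omega))
  exact this ▸ hx

end group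

variable {G : Type*} [Group G] [Finite G] {p : ℕ} [Fact p.Prime]

theorem center_stronglyClosed (hp : p ≠ 2) (P : Sylow p G) (hE : Cfsg.IsExtraspecial p ↥(P : Subgroup G))
    (hcard : Nat.card ↥(P : Subgroup G) = p ^ 3) (hexp : Monoid.exponent ↥(P : Subgroup G) = p ^ 2) :
    Cfsg.IsStronglyClosed ((center ↥(P : Subgroup G)).map (P : Subgroup G).subtype) (P : Subgroup G) := by
  have hpr : p.Prime := Fact.out
  refine ⟨map_subtype_le _, ?_⟩
  rintro _ ⟨zP, hzP, rfl⟩ g hyP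
  set z : G := (zP : G) with hzdef
  set y := g * z * g⁻¹ with hydef
  by_contra hy
  have hz1 : z ≠ 1 := fun h => hy (by
    show y ∈ _
    rw [hydef, h, mul_one, mul_inv_cancel]; exact one_mem _)
  set yP : ↥(P : Subgroup G) := ⟨y, hyP⟩ with hyPdef
  have hyZ : yP ∉ center ↥(P : Subgroup G) := fun h => hy ⟨yP, h, rfl⟩
  haveI hZp : Fact (Nat.card (center ↥(P : Subgroup G))).Prime := ⟨hE.2.symm ▸ hpr⟩
  have hzgen : zpowers zP = center ↥(P : Subgroup G) := by
    refine eq_of_le_of_card_ge (zpowers_le.mpr hzP) ?_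
    rw [hE.2, Nat.card_zpowers]
    rcases (Nat.dvd_prime hpr).mp (hE.2 ▸ orderOf_mk zP hzP ▸ orderOf_dvd_natCard (⟨zP, hzP⟩ : center ↥(P : Subgroup G))) with h | h
    · exact absurd (congrArg Subtype.val (orderOf_eq_one_iff.mp h)) hz1
    · exact h.ge
  have hzo : orderOf zP = p := by rw [← Nat.card_zpowers, hzgen, hE.2]
  have hyo : orderOf yP = p := by
    have e : orderOf yP = orderOf zP := by
      rw [← orderOf_coe zP, ← orderOf_coe yP]
      show orderOf y = orderOf z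
      rw [hydef, show g * z * g⁻¹ = MulAut.conj g z from rfl, MulEquiv.orderOf_eq]
    exact e.trans hzo
  -- the elementary abelian subgroup of order `p²`
  set E := zpowers zP ⊔ zpowers yP with hEdef
  have hzc : ∀ x : ↥(P : Subgroup G), x * zP = zP * x := fun x => mem_center_iff.mp hzP x
  have hEcomm : E ≤ centralizer ({yP} : Set ↥(P : Subgroup G)) :=
    sup_le (zpowers_le.mpr (mem_centralizer_singleton_iff.mpr (hzc yP).symm))
      (zpowers_le.mpr (mem_centralizer_singleton_iff.mpr rfl))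
  have hEpow : ∀ e ∈ E, e ^ p = 1 := by
    intro e he
    haveI : (zpowers zP).Normal := by rw [hzgen]; infer_instance
    obtain ⟨a, ha, c, hc, rfl⟩ := mem_sup_of_normal_left.mp he
    obtain ⟨i, rfl⟩ := mem_zpowers_iff.mp ha
    obtain ⟨j, rfl⟩ := mem_zpowers_iff.mp hc
    have hco : Commute (zP ^ i) (yP ^ j) :=
      (show Commute zP yP from (hzc yP).symm).zpow_zpow i j
    have e1 : zP ^ p = 1 := orderOf_dvd_iff_pow_eq_one.mp hzo.dvd
    have e2 : yP ^ p = 1 := orderOf_dvd_iff_pow_eq_one.mp hyo.dvd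
    rw [hco.mul_pow, ← zpow_natCast (zP ^ i), ← zpow_mul, mul_comm, zpow_mul, zpow_natCast, e1,
      one_zpow, one_mul, ← zpow_natCast (yP ^ j), ← zpow_mul, mul_comm, zpow_mul, zpow_natCast, e2,
      one_zpow]
  have hEcard : Nat.card E = p ^ 2 := by
    obtain ⟨k, hk, hkc⟩ := (Nat.dvd_prime_pow hpr).mp (hcard ▸ card_subgroup_dvd_card E)
    have h2 : k ≠ 3 := fun h => by
      have htop : E = ⊤ := eq_top_of_card_eq _ (by rw [hkc, hcard, h])
      apply hyZ
      refine mem_center_iff.mpr fun x => ?_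
      exact mem_centralizer_singleton_iff.mp (hEcomm (htop ▸ mem_top x))
    have h1 : 1 < k := by
      by_contra h
      have hle : E ≤ zpowers zP := (eq_of_le_of_card_ge le_sup_left (by
        rw [hkc, Nat.card_zpowers, hzo]
        exact (Nat.pow_le_pow_right hpr.pos (show k ≤ 1 by omega)).trans (pow_one p).le)).ge
      exact hyZ (hzgen ▸ hle (mem_sup_right (mem_zpowers yP)))
    rw [hkc, show k = 2 by omega]
  have hEmem : ∀ x : ↥(P : Subgroup G), x ^ p = 1 → x ∈ E :=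
    fun x hx => mem_of_pow_eq_one hp hE hcard hexp E hEcard hEpow hx
  set Eg := E.map (P : Subgroup G).subtype with hEg
  have hEgP : Eg ≤ (P : Subgroup G) := map_subtype_le _
  have hzE : z ∈ Eg := ⟨zP, mem_sup_left (mem_zpowers _), rfl⟩
  have hyE : y ∈ Eg := ⟨yP, mem_sup_right (mem_zpowers _), rfl⟩
  have hgen : ∀ K : Subgroup G, z ∈ K → y ∈ K → Eg ≤ K := fun K h1 h2 => by
    rw [hEg, Subgroup.map_le_iff_le_comap]
    exact sup_le (zpowers_le.mpr h1) (zpowers_le.mpr h2)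
  -- a second Sylow subgroup
  set R := (P : Subgroup G).map (MulAut.conj g).toMonoidHom with hR
  have hRC : R ≤ centralizer ({y} : Set G) := by
    rintro _ ⟨x, hx, rfl⟩
    refine mem_centralizer_singleton_iff.mpr ?_
    show g * x * g⁻¹ * (g * z * g⁻¹) = g * z * g⁻¹ * (g * x * g⁻¹)
    have h : x * z = z * x := congrArg Subtype.val (hzc ⟨x, hx⟩)
    calc g * x * g⁻¹ * (g * z * g⁻¹) = g * (x * z) * g⁻¹ := by group
      _ = g * (z * x) * g⁻¹ := by rw [h]
      _ = g * z * g⁻¹ * (g * x * g⁻¹) := by group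
  have hEC : Eg ≤ centralizer ({y} : Set G) :=
    hgen _ (mem_centralizer_singleton_iff.mpr (congrArg Subtype.val (hzc yP)).symm)
      (mem_centralizer_singleton_iff.mpr rfl)
  obtain ⟨c, hc, hcE⟩ := H76.exists_conj_mem_sylow ((g • P).subtype (show (g • P : Sylow p G).toSubgroup ≤ centralizer ({y} : Set G) from hRC)) hEC (P.isPGroup'.to_le hEgP)
  set h := c⁻¹ * g with hh
  have hmemh : ∀ e ∈ Eg, h⁻¹ * e * h ∈ (P : Subgroup G) := by
    intro e he
    obtain ⟨t, ht, hte⟩ := hcE e he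
    obtain ⟨x, hx, hxt⟩ : (t : G) ∈ R := ht
    have e2 : h⁻¹ * e * h = x := by
      have h3 : c * e * c⁻¹ = g * x * g⁻¹ := hte.symm.trans hxt.symm
      calc h⁻¹ * e * h = g⁻¹ * (c * e * c⁻¹) * g := by rw [hh]; group
        _ = x := by rw [h3]; group
    exact e2 ▸ hx
  have hhz : h * z * h⁻¹ = y := by
    have h1 : c * y = y * c := mem_centralizer_singleton_iff.mp hc
    have e : h * z * h⁻¹ = c⁻¹ * (g * z * g⁻¹) * c := by rw [hh]; group
    rw [e, ← hydef, mul_assoc, ← h1, inv_mul_cancel_left]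
  -- the two transvections
  set z' : ↥(P : Subgroup G) := ⟨h⁻¹ * z * h, hmemh z hzE⟩ with hz'
  have hz'c : z' ∉ center ↥(P : Subgroup G) := by
    intro hcz
    rw [← hzgen] at hcz
    obtain ⟨i, hi⟩ := mem_zpowers_iff.mp hcz
    have h1 : y ^ i = z := by
      have h2 : z ^ i = h⁻¹ * z * h := congrArg Subtype.val hi
      rw [← hhz, conj_zpow, h2]; group
    apply hy
    obtain ⟨m, hm⟩ : yP ∈ zpowers zP := by
      have hzy : zpowers zP ≤ zpowers yP := zpowers_le.mpr ⟨i, Subtype.ext h1⟩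
      rw [eq_of_le_of_card_ge hzy (by rw [Nat.card_zpowers, Nat.card_zpowers, hyo, hzo])]
      exact mem_zpowers _
    exact ⟨yP, hzgen ▸ ⟨m, hm⟩, rfl⟩
  obtain ⟨a₀, ha₀⟩ := exists_commutator_eq hE hyZ hzP
  obtain ⟨b₀, hb₀⟩ := exists_commutator_eq hE hz'c (inv_mem hzP)
  set a : G := (a₀ : G) with hadef
  set b : G := h * (b₀ : G) * h⁻¹ with hbdef
  have az : a * z * a⁻¹ = z := by
    have h1 : a * z = z * a := congrArg Subtype.val (hzc a₀)
    rw [h1, mul_inv_cancel_right]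
  have ay : a * y * a⁻¹ = z * y := by
    have h1 : a * y * a⁻¹ * y⁻¹ = z := congrArg Subtype.val ha₀
    rw [← h1, inv_mul_cancel_right]
  have by' : b * y * b⁻¹ = y := by
    have h1 : (b₀ : G) * z = z * b₀ := congrArg Subtype.val (hzc b₀)
    rw [← hhz, hbdef]
    calc h * b₀ * h⁻¹ * (h * z * h⁻¹) * (h * b₀ * h⁻¹)⁻¹ = h * ((b₀ : G) * z) * (b₀ : G)⁻¹ * h⁻¹ := by group
      _ = h * z * h⁻¹ := by rw [h1]; group
  have bz : b * z * b⁻¹ = y⁻¹ * z := by
    have h1 : (b₀ : G) * (h⁻¹ * z * h) * (b₀ : G)⁻¹ * (h⁻¹ * z * h)⁻¹ = z⁻¹ := congrArg Subtype.val hb₀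
    calc b * z * b⁻¹ = h * ((b₀ : G) * (h⁻¹ * z * h) * (b₀ : G)⁻¹ * (h⁻¹ * z * h)⁻¹) * h⁻¹ * z := by
          rw [hbdef]; group
      _ = y⁻¹ * z := by rw [h1, ← hhz]; group
  have hyz : y * z = z * y := congrArg Subtype.val (hzc yP)
  set s := a * b * a with hs
  have conj3 : ∀ w, s * w * s⁻¹ = a * (b * (a * w * a⁻¹) * b⁻¹) * a⁻¹ := fun w => by rw [hs]; group
  have sz : s * z * s⁻¹ = y⁻¹ := by
    rw [conj3, az, bz, show a * (y⁻¹ * z) * a⁻¹ = (a * y * a⁻¹)⁻¹ * (a * z * a⁻¹) by group, ay, az]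
    group
  have sy : s * y * s⁻¹ = z := by
    rw [conj3, ay, show b * (z * y) * b⁻¹ = (b * z * b⁻¹) * (b * y * b⁻¹) by group, bz, by',
      show a * (y⁻¹ * z * y) * a⁻¹ = a * (y⁻¹ * (z * y)) * a⁻¹ by group, ← hyz, inv_mul_cancel_left, az]
  set i := s * s with hi
  have conj2 : ∀ w, i * w * i⁻¹ = s * (s * w * s⁻¹) * s⁻¹ := fun w => by rw [hi]; group
  have iz : i * z * i⁻¹ = z⁻¹ := by
    rw [conj2, sz, show s * y⁻¹ * s⁻¹ = (s * y * s⁻¹)⁻¹ by group, sy]
  have iy : i * y * i⁻¹ = y⁻¹ := by rw [conj2, sy, sz]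
  set C := centralizer (Eg : Set G) with hC
  have hEgc : ∀ u ∈ Eg, ∀ w ∈ Eg, u * w = w * u := by
    have hle : Eg ≤ C := hgen C
      (mem_centralizer_iff.mpr fun e he => mem_centralizer_singleton_iff.mp
        (hgen (centralizer ({z} : Set G)) (mem_centralizer_singleton_iff.mpr rfl)
          (mem_centralizer_singleton_iff.mpr hyz) he))
      (mem_centralizer_iff.mpr fun e he => mem_centralizer_singleton_iff.mp (hEC he))
    exact fun u hu w hw => mem_centralizer_iff.mp (hle hw) u hu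
  have hinv : ∀ e ∈ Eg, i * e * i⁻¹ = e⁻¹ := by
    let K : Subgroup G :=
      { carrier := {e | e ∈ Eg ∧ i * e * i⁻¹ = e⁻¹}
        one_mem' := ⟨one_mem _, by group⟩
        mul_mem' := fun {u w} hu hw => ⟨mul_mem hu.1 hw.1, by
          rw [show i * (u * w) * i⁻¹ = (i * u * i⁻¹) * (i * w * i⁻¹) by group, hu.2, hw.2,
            ← mul_inv_rev, hEgc w hw.1 u hu.1]⟩
        inv_mem' := fun {u} hu => ⟨inv_mem hu.1, by
          rw [show i * u⁻¹ * i⁻¹ = (i * u * i⁻¹)⁻¹ by group, hu.2]⟩ }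
    exact fun e he => (hgen K ⟨hzE, iz⟩ ⟨hyE, iy⟩ he).2
  have hPE : ∀ x ∈ (P : Subgroup G), ∀ e ∈ Eg, x * e * x⁻¹ ∈ Eg := by
    rintro x hx _ ⟨e, he, rfl⟩
    refine ⟨⟨x, hx⟩ * e * (⟨x, hx⟩)⁻¹, hEmem _ ?_, rfl⟩
    rw [conj_pow, hEpow e he, mul_one, mul_inv_cancel]
  set N := normalizer (Eg : Set G) with hN
  have hPN : (P : Subgroup G) ≤ N := le_normalizer_of_conj_mem hPE
  have hiN : i ∈ N := H11.mem_normalizer_of_forall fun e he => hinv e he ▸ inv_mem he
  set Y := C ⊔ (P : Subgroup G) with hY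
  have hPC : (P : Subgroup G) ≤ normalizer (C : Set G) :=
    hPN.trans (le_normalizer_of_conj_mem fun n hn x hx => mem_centralizer_iff.mpr fun e he => by
      have h1 := mem_centralizer_iff.mp hx (n⁻¹ * e * n) ((mem_normalizer_iff''.mp hn e).mp he)
      calc e * (n * x * n⁻¹) = n * ((n⁻¹ * e * n) * x) * n⁻¹ := by group
        _ = n * (x * (n⁻¹ * e * n)) * n⁻¹ := by rw [h1]
        _ = n * x * n⁻¹ * e := by group)
  have hdiff : ∀ x ∈ (P : Subgroup G), i * x * i⁻¹ * x⁻¹ ∈ C := by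
    intro x hx
    refine mem_centralizer_iff.mpr fun e he => ?_
    set e' := x⁻¹ * e * x with he'
    have he'E : e' ∈ Eg := by simpa [he'] using hPE x⁻¹ (inv_mem hx) e he
    have hfix : i * x * i⁻¹ * x⁻¹ * e * (i * x * i⁻¹ * x⁻¹)⁻¹ = e := by
      calc i * x * i⁻¹ * x⁻¹ * e * (i * x * i⁻¹ * x⁻¹)⁻¹
          = i * (x * (i⁻¹ * e' * i) * x⁻¹) * i⁻¹ := by rw [he']; group
        _ = i * (x * e'⁻¹ * x⁻¹) * i⁻¹ := by
            have : i⁻¹ * e' * i = e'⁻¹ := by
              have h1 := hinv e'⁻¹ (inv_mem he'E)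
              rw [inv_inv] at h1
              conv_lhs => rw [← h1]
              group
            rw [this]
        _ = i * e⁻¹ * i⁻¹ := by rw [he']; group
        _ = e := by rw [hinv e⁻¹ (inv_mem he), inv_inv]
    exact (mul_inv_eq_iff_eq_mul.mp hfix).symm
  have hiPY : (P : Subgroup G).map (MulAut.conj i).toMonoidHom ≤ Y := by
    rintro _ ⟨x, hx, rfl⟩
    show i * x * i⁻¹ ∈ Y
    rw [show i * x * i⁻¹ = (i * x * i⁻¹ * x⁻¹) * x by rw [inv_mul_cancel_right]]
    exact mul_mem (mem_sup_left (hdiff x hx)) (mem_sup_right hx)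
  obtain ⟨d, hd, hdP⟩ := H76.exists_conj_mem_sylow (P.subtype (le_sup_right : (P : Subgroup G) ≤ Y)) hiPY
    (P.isPGroup'.map _)
  obtain ⟨c₁, hc₁, s', hs', hd'⟩ := H1.exists_mul_of_mem_sup hPC hd
  subst hd'
  set c' := s'⁻¹ * c₁ * s' with hc'def
  have hc' : c' ∈ C := (mem_normalizer_iff''.mp (hPC hs') c₁).mp hc₁
  set n := c' * i with hn
  have hnP : n ∈ normalizer ((P : Subgroup G) : Set G) := by
    refine H11.mem_normalizer_of_forall fun x hx => ?_
    have h1 : s' * c' * (i * x * i⁻¹) * (s' * c')⁻¹ ∈ (P : Subgroup G) := by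
      obtain ⟨t, ht, hte⟩ := hdP _ ⟨x, hx, rfl⟩
      rw [show s' * c' = c₁ * s' by rw [hc'def]; group]
      exact hte ▸ ht
    have h2 := mul_mem (mul_mem (inv_mem hs') h1) hs'
    rw [hn]
    simpa [mul_assoc] using h2
  have hninv : ∀ e ∈ Eg, n * e * n⁻¹ = e⁻¹ := fun e he => by
    have h1 := mem_centralizer_iff.mp hc' e⁻¹ (inv_mem he)
    calc n * e * n⁻¹ = c' * (i * e * i⁻¹) * c'⁻¹ := by rw [hn]; group
      _ = c' * e⁻¹ * c'⁻¹ := by rw [hinv e he]
      _ = e⁻¹ := by rw [← h1, mul_inv_cancel_right]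
  obtain ⟨k, hk⟩ := H5.exists_pow_prime_pow_coprime (p := p) n
  set v := n ^ p ^ k with hv
  have hodd : Odd (p ^ k) := (hpr.odd_of_ne_two hp).pow
  have hvinv : ∀ e ∈ Eg, v * e * v⁻¹ = e⁻¹ := by
    have key : ∀ m : ℕ, ∀ e ∈ Eg, n ^ (2 * m + 1) * e * (n ^ (2 * m + 1))⁻¹ = e⁻¹ := by
      intro m
      induction m with
      | zero => simpa using hninv
      | succ m ihm =>
        intro e he
        rw [show 2 * (m + 1) + 1 = (2 * m + 1) + 2 by ring, pow_add, pow_two]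
        calc n ^ (2 * m + 1) * (n * n) * e * (n ^ (2 * m + 1) * (n * n))⁻¹
            = n ^ (2 * m + 1) * (n * (n * e * n⁻¹) * n⁻¹) * (n ^ (2 * m + 1))⁻¹ := by group
          _ = e⁻¹ := by rw [hninv e he, hninv e⁻¹ (inv_mem he), inv_inv, ihm e he]
    obtain ⟨m, hm⟩ := hodd
    rw [hv, hm]
    exact key m
  have hvP : v ∈ normalizer ((P : Subgroup G) : Set G) := pow_mem hnP _
  have hvE : v ∈ N := H11.mem_normalizer_of_forall fun e he => hvinv e he ▸ inv_mem he
  have hvfix : ∀ x ∈ (P : Subgroup G), ∀ e ∈ Eg,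
      (v * x * v⁻¹ * x⁻¹) * e = e * (v * x * v⁻¹ * x⁻¹) := by
    intro x hx e he
    have he'E : x⁻¹ * e * x ∈ Eg := by simpa using hPE x⁻¹ (inv_mem hx) e he
    set e' := x⁻¹ * e * x with he'
    have h2 : v⁻¹ * e' * v = e'⁻¹ := by
      have h1 := hvinv e'⁻¹ (inv_mem he'E)
      rw [inv_inv] at h1
      conv_lhs => rw [← h1]
      group
    refine mul_inv_eq_iff_eq_mul.mp ?_
    calc v * x * v⁻¹ * x⁻¹ * e * (v * x * v⁻¹ * x⁻¹)⁻¹
        = v * (x * (v⁻¹ * e' * v) * x⁻¹) * v⁻¹ := by rw [he']; group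
      _ = v * (x * e'⁻¹ * x⁻¹) * v⁻¹ := by rw [h2]
      _ = v * e⁻¹ * v⁻¹ := by rw [he']; group
      _ = e := by rw [hvinv e⁻¹ (inv_mem he), inv_inv]
  have hvdiff : ∀ x ∈ (P : Subgroup G), x⁻¹ * (v * x * v⁻¹) ∈ Eg := by
    intro x hx
    have h1 : v * x * v⁻¹ * x⁻¹ ∈ (P : Subgroup G) :=
      mul_mem ((mem_normalizer_iff.mp hvP x).mp hx) (inv_mem hx)
    suffices h2 : v * x * v⁻¹ * x⁻¹ ∈ Eg by
      have := hPE x⁻¹ (inv_mem hx) _ h2
      simpa [mul_assoc] using this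
    set w : ↥(P : Subgroup G) := ⟨_, h1⟩
    refine ⟨w, ?_, rfl⟩
    have hle : E ≤ centralizer ({yP} : Set ↥(P : Subgroup G)) := hEcomm
    have heq : E = centralizer ({yP} : Set ↥(P : Subgroup G)) := by
      refine eq_of_le_of_card_ge hle ?_
      obtain ⟨m, hm, hmc⟩ := (Nat.dvd_prime_pow hpr).mp
        (hcard ▸ card_subgroup_dvd_card (centralizer ({yP} : Set ↥(P : Subgroup G))))
      rw [hEcard, hmc]
      refine Nat.pow_le_pow_right hpr.pos ?_
      by_contra hm2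
      apply hyZ
      refine mem_center_iff.mpr fun q => mem_centralizer_singleton_iff.mp ?_
      rw [eq_top_of_card_eq (centralizer ({yP} : Set ↥(P : Subgroup G)))
        (by rw [hmc, hcard, show m = 3 by omega])]
      exact mem_top q
    rw [SetLike.mem_coe, heq, mem_centralizer_singleton_iff]
    exact Subtype.ext (hvfix x hx y hyE)
  have hEne : E ≠ ⊤ := fun e => by
    have : p ^ 2 = p ^ 3 := by rw [← hEcard, ← hcard, e, card_top]
    have := Nat.pow_right_injective hpr.two_le this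
    omega
  obtain ⟨x, hx⟩ : ∃ x : ↥(P : Subgroup G), x ∉ E := by
    by_contra hall
    push_neg at hall
    exact hEne (eq_top_iff.mpr fun x _ => hall x)
  haveI : IsMulCommutative ↥(zpowers v) := inferInstance
  have hv0 : zpowers v ≤ normalizer (Eg : Set G) := zpowers_le.mpr hvE
  obtain ⟨t, ht, htx⟩ := H1.exists_fixed_mem_coset_of_le (K := (P : Subgroup G)) (N := Eg)
    (A := zpowers v) hEgP hv0
    (by
      rw [Nat.card_zpowers, hcard]
      exact hk.pow_right 3)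
    (Or.inl (Group.isSolvable_of_comm fun u w => mul_comm' u w)) x.2
    (fun w hw => by
      obtain ⟨m, hm⟩ := mem_powers_iff_mem_zpowers.mpr hw
      replace hm : v ^ m = w := hm
      subst hm
      clear hw
      induction m with
      | zero => simpa using one_mem Eg
      | succ m ihm =>
        have h1 := (mem_normalizer_iff.mp hvE _).mp ihm
        have h2 := hvdiff (x : G) x.2
        have := mul_mem h2 (show (v * (x : G)⁻¹ * v⁻¹) * (v * (v ^ m * x * (v ^ m)⁻¹) * v⁻¹) ∈ Eg by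
          have e : (v * (x : G)⁻¹ * v⁻¹) * (v * (v ^ m * x * (v ^ m)⁻¹) * v⁻¹) =
              v * ((x : G)⁻¹ * (v ^ m * x * (v ^ m)⁻¹)) * v⁻¹ := by group
          exact e ▸ h1)
        convert this using 1
        show (x : G)⁻¹ * (v ^ (m + 1) * x * (v ^ (m + 1))⁻¹) = _
        rw [pow_succ']
        group)
  have htv : v * t = t * v := mem_centralizer_iff.mp ht.2 v (mem_zpowers v)
  set tP : ↥(P : Subgroup G) := ⟨t, ht.1⟩
  have htpE : tP ^ p ∈ E := by
    refine hEmem _ ?_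
    rw [← pow_mul, ← pow_two, ← hexp, Monoid.pow_exponent_eq_one]
  have h1 : v * t ^ p * v⁻¹ = t ^ p := by
    rw [(Commute.pow_right htv p).eq, mul_inv_cancel_right]
  have h2 : v * t ^ p * v⁻¹ = (t ^ p)⁻¹ := hvinv _ ⟨tP ^ p, htpE, rfl⟩
  have h3 : t ^ p = 1 := by
    have hsq : (tP ^ p) ^ 2 = 1 := by
      apply Subtype.ext
      show (t ^ p) ^ 2 = 1
      rw [pow_two]
      conv_lhs => arg 1; rw [← h1, h2]
      exact inv_mul_cancel _
    have hpp : (tP ^ p) ^ p = 1 := hEpow _ htpE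
    exact congrArg Subtype.val (orderOf_eq_one_iff.mp (Nat.eq_one_of_dvd_coprimes
      ((Nat.coprime_primes Nat.prime_two hpr).mpr (Ne.symm hp)) (orderOf_dvd_of_pow_eq_one hsq)
      (orderOf_dvd_of_pow_eq_one hpp)))
  have htE : tP ∈ E := hEmem tP (Subtype.ext h3)
  apply hx
  have hxt : (x : G)⁻¹ * t ∈ Eg := htx
  obtain ⟨q, hq, hqe⟩ := hxt
  have : x⁻¹ * tP ∈ E := by
    have hh : q = x⁻¹ * tP := Subtype.ext hqe
    exact hh ▸ hq
  have := E.mul_mem htE (E.inv_mem this)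
  simpa using this

end H79
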