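import Cfsg.Agent.H79.Basic
import Cfsg.Prelude.Def_DStar

set_option autoImplicit false

/-!
The D*-family inside an ambient group: members commute, the join is a member.
-/

namespace H79

open Subgroup
open scoped commutatorElement

variable {G : Type*} [Group G]

/-- `A` is a member of the D*-family of the subgroup `M`. -/
def DMem (M A : Subgroup G) : Prop :=
  A ≤ M ∧ IsMulCommutative A ∧ ∀ x ∈ M,
    ⁅⁅A ⊔ zpowers x, A ⊔ zpowers x⁆, A ⊔ zpowers x⁆ = ⊥ → ∀ a ∈ A, a * x = x * a

/-- The join of the D*-family of `M`. -/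
def DJoin (M : Subgroup G) : Subgroup G := sSup {A | DMem M A}

theorem DMem.mono {M N A : Subgroup G} (h : DMem M A) (hA : A ≤ N) (hN : N ≤ M) : DMem N A :=
  ⟨hA, h.2.1, fun x hx => h.2.2 x (hN hx)⟩

theorem DMem.conj {M A : Subgroup G} (h : DMem M A) {g : G} (hg : g ∈ normalizer (M : Set G)) :
    DMem M (A.map (MulAut.conj g).toMonoidHom) := by
  set f := (MulAut.conj g).toMonoidHom with hf
  have hfi : Function.Injective f := (MulAut.conj g).injective
  refine ⟨?_, ?_, ?_⟩
  · rintro _ ⟨a, ha, rfl⟩
    exact (mem_normalizer_iff.mp hg a).mp (h.1 ha)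
  · haveI := h.2.1
    exact map_isMulCommutative A f
  · intro x hx hcl
    rintro _ ⟨a, ha, rfl⟩
    have hy : g⁻¹ * x * g ∈ M := (mem_normalizer_iff''.mp hg x).mp hx
    have hfy : f (g⁻¹ * x * g) = x := by simp [hf, mul_assoc]
    have key := h.2.2 _ hy (by
      apply map_injective hfi
      rw [map_commutator, map_commutator, Subgroup.map_sup, MonoidHom.map_zpowers, hfy, hcl, Subgroup.map_bot]) a ha
    have := congrArg f key
    rwa [map_mul f a, map_mul f (g⁻¹ * x * g), hfy] at this

theorem DMem.commute [Finite G] {p : ℕ} [Fact p.Prime] {M A B : Subgroup G} (hM : IsPGroup p M)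
    (hA : DMem M A) (hB : DMem M B) : A ≤ centralizer (B : Set G) := by
  induction hn : Nat.card M using Nat.strong_induction_on generalizing M A B with
  | _ n ih =>
    have ih' : ∀ N : Subgroup G, N < M → ∀ A' B' : Subgroup G, DMem M A' → DMem M B' →
        A' ≤ N → B' ≤ N → A' ≤ centralizer (B' : Set G) := by
      intro N hN A' B' hA' hB' h1 h2
      have hlt : Nat.card N < Nat.card M :=
        Set.Finite.card_lt_card (Set.toFinite _) (SetLike.coe_ssubset_coe.mpr hN)
      exact ih (Nat.card N) (hn ▸ hlt) (hM.to_le hN.le) (hA'.mono h1 hN.le) (hB'.mono h2 hN.le) rfl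
    by_cases hAB : A ⊔ B < M
    · exact ih' _ hAB A B hA hB le_sup_left le_sup_right
    have hMeq : A ⊔ B = M := eq_of_le_of_not_lt (sup_le hA.1 hB.1) hAB
    haveI := hA.2.1
    haveI := hB.2.1
    by_cases hAM : A = M
    · subst hAM
      exact le_centralizer_iff.mp (hB.1.trans (le_centralizer A))
    by_cases hBM : B = M
    · subst hBM
      exact hA.1.trans (le_centralizer B)
    have close : ∀ C : Subgroup G, DMem M C → C < M → ∃ C' : Subgroup G,
        C ≤ C' ∧ C' ≤ M ∧ IsMulCommutative C' ∧ M ≤ normalizer (C' : Set G) := by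
      intro C hC hlt
      obtain ⟨N, hCN, hNM, hnorm⟩ := exists_proper_normalized hM hlt
      set F := {X : Subgroup G | ∃ m ∈ M, X = C.map (MulAut.conj m).toMonoidHom} with hF
      have hmem : ∀ X ∈ F, DMem M X := by
        rintro X ⟨m, hm, rfl⟩
        exact hC.conj (le_normalizer hm)
      have hN : ∀ X ∈ F, X ≤ N := by
        rintro X ⟨m, hm, rfl⟩
        rintro _ ⟨c, hc, rfl⟩
        exact conj_mem_of_le_normalizer hnorm hm (hCN hc)
      refine ⟨sSup F, ?_, sSup_le fun X hX => (hmem X hX).1, ?_, ?_⟩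
      · refine le_sSup ⟨1, M.one_mem, ?_⟩
        ext y
        simp
      · rw [← le_centralizer_iff_isMulCommutative]
        refine sSup_le fun X hX => ?_
        rw [le_centralizer_iff]
        refine sSup_le fun Y hY => ?_
        exact ih' N hNM Y X (hmem Y hY) (hmem X hX) (hN Y hY) (hN X hX)
      · refine le_normalizer_of_conj_mem fun k hk x hx => ?_
        have hmap : (sSup F).map (MulAut.conj k).toMonoidHom ≤ sSup F := by
          rw [map_le_iff_le_comap]
          refine sSup_le fun X hX => ?_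
          obtain ⟨m, hm, rfl⟩ := hX
          rw [← map_le_iff_le_comap, map_map]
          refine le_sSup ⟨k * m, M.mul_mem hk hm, ?_⟩
          congr 1
          ext y
          simp [mul_assoc]
        exact hmap ⟨x, hx, rfl⟩
    obtain ⟨A', hAA', hA'M, hA'c, hA'n⟩ := close A hA (lt_of_le_of_ne hA.1 hAM)
    obtain ⟨B', hBB', hB'M, hB'c, hB'n⟩ := close B hB (lt_of_le_of_ne hB.1 hBM)
    haveI := hA'c
    haveI := hB'c
    have hcls := triple_commutator_eq_bot (X := A') (Y := B') (hB'M.trans hA'n) (hA'M.trans hB'n)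
    intro a ha
    refine mem_centralizer_iff.mpr fun b hb => ?_
    refine (hA.2.2 b (hB.1 hb) ?_ a ha).symm
    refine eq_bot_iff.mpr (le_trans ?_ hcls.le)
    have hle : A ⊔ zpowers b ≤ A' ⊔ B' := sup_le_sup hAA' (zpowers_le.mpr (hBB' hb))
    exact commutator_mono (commutator_mono hle hle) hle

theorem DJoin_dmem [Finite G] {p : ℕ} [Fact p.Prime] {M : Subgroup G} (hM : IsPGroup p M) :
    DMem M (DJoin M) := by
  refine ⟨sSup_le fun A hA => hA.1, ?_, ?_⟩
  · rw [← le_centralizer_iff_isMulCommutative]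
    refine sSup_le fun X hX => ?_
    rw [le_centralizer_iff]
    exact sSup_le fun Y hY => DMem.commute hM hY hX
  · intro x hx hcl a ha
    have hle : DJoin M ≤ centralizer ((zpowers x : Subgroup G) : Set G) := by
      refine sSup_le fun A hA => ?_
      rw [le_centralizer_iff, zpowers_le]
      refine mem_centralizer_iff.mpr fun a ha => ?_
      refine hA.2.2 x hx ?_ a ha
      refine eq_bot_iff.mpr (le_trans ?_ hcl.le)
      have hle : A ⊔ zpowers x ≤ DJoin M ⊔ zpowers x := sup_le_sup_right (le_sSup hA) _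
      exact commutator_mono (commutator_mono hle hle) hle
    exact (mem_centralizer_iff.mp (hle ha) x (mem_zpowers x)).symm

theorem DJoin_conj {M : Subgroup G} : normalizer (M : Set G) ≤ normalizer (DJoin M : Set G) := by
  refine le_normalizer_of_conj_mem fun g hg x hx => ?_
  have hmap : (DJoin M).map (MulAut.conj g).toMonoidHom ≤ DJoin M := by
    rw [map_le_iff_le_comap]
    refine sSup_le fun A hA => ?_
    rw [← map_le_iff_le_comap]
    exact le_sSup (hA.conj hg)
  exact hmap ⟨x, hx, rfl⟩

theorem dmem_map_iff {H : Subgroup G} (A : Subgroup H) :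
    DMem H (A.map H.subtype) ↔ A ∈ Cfsg.dStarFamily H := by
  have hi : Function.Injective H.subtype := H.subtype_injective
  constructor
  · rintro ⟨-, hc, hh⟩
    refine ⟨?_, ?_⟩
    · rw [← le_centralizer_iff_isMulCommutative]
      intro a ha
      refine mem_centralizer_iff.mpr fun b hb => ?_
      haveI := hc
      exact hi (by
        simpa using mem_centralizer_iff.mp (le_centralizer (A.map H.subtype) ⟨a, ha, rfl⟩)
          (b : G) ⟨b, hb, rfl⟩)
    · intro x hcl a ha
      have e : A.map H.subtype ⊔ zpowers (x : G) = (A ⊔ zpowers x).map H.subtype := by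
        rw [Subgroup.map_sup, MonoidHom.map_zpowers]; rfl
      apply hi
      simpa using hh (x : G) x.2 (by rw [e, ← map_commutator, ← map_commutator, hcl, Subgroup.map_bot])
        (a : G) ⟨a, ha, rfl⟩
  · rintro ⟨hc, hh⟩
    haveI := hc
    refine ⟨map_subtype_le A, map_isMulCommutative A _, ?_⟩
    intro x hx hcl
    rintro _ ⟨a, ha, rfl⟩
    have := hh ⟨x, hx⟩ (by
      apply map_injective hi
      rw [map_commutator, map_commutator, Subgroup.map_sup, MonoidHom.map_zpowers, Subgroup.map_bot]
      exact hcl) a ha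
    simpa using congrArg Subtype.val this

theorem dStarOf_eq (H : Subgroup G) : Cfsg.dStarOf H = DJoin H := by
  apply le_antisymm
  · rw [Cfsg.dStarOf, map_le_iff_le_comap]
    refine sSup_le fun A hA => ?_
    rw [← map_le_iff_le_comap]
    exact le_sSup ((dmem_map_iff A).mpr hA)
  · refine sSup_le fun A hA => ?_
    have e : (A.subgroupOf H).map H.subtype = A := by
      rw [subgroupOf_map_subtype, inf_of_le_left hA.1]
    rw [← e] at hA ⊢
    exact map_mono (le_sSup ((dmem_map_iff _).mp hA))

theorem dmem_top_iff (A : Subgroup G) : DMem ⊤ A ↔ A ∈ Cfsg.dStarFamily G :=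
  ⟨fun h => ⟨h.2.1, fun x => h.2.2 x trivial⟩, fun h => ⟨le_top, h.1, fun x _ => h.2 x⟩⟩

theorem dStar_eq : Cfsg.dStar G = DJoin (⊤ : Subgroup G) := by
  simp [Cfsg.dStar, DJoin, dmem_top_iff]

theorem dStar_mem_family [Finite G] {p : ℕ} [Fact p.Prime] (h : IsPGroup p G) :
    Cfsg.dStar G ∈ Cfsg.dStarFamily G := by
  rw [dStar_eq, ← dmem_top_iff]
  exact DJoin_dmem (h.to_subgroup ⊤)

theorem dStarOf_mem [Finite G] {p : ℕ} [Fact p.Prime] {H : Subgroup G} (h : IsPGroup p H) :
    DMem H (Cfsg.dStarOf H) := by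
  rw [dStarOf_eq]
  exact DJoin_dmem h

theorem center_mem_family : center G ∈ Cfsg.dStarFamily G :=
  ⟨inferInstance, fun x _ _ ha => (mem_center_iff.mp ha x).symm⟩

theorem dStar_normal : (Cfsg.dStar G).Normal := by
  rw [← normalizer_eq_top_iff, eq_top_iff, dStar_eq]
  refine le_trans ?_ DJoin_conj
  exact le_normalizer_of_conj_mem fun k _ x _ => mem_top _

end H79
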