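import Cfsg.Agent.H31.ExtraspecialTwo
import Cfsg.Prelude.Def_KGroupFacts
import Cfsg.Prelude.Def_Local

/-!
The inner automorphisms of an extraspecial 2-group with three hyperbolic pairs of involutions
have no complement in the automorphism group.

Obstruction: the products `σ = t(x₃y₃) t(x₂y₂)` and `τ = t(x₁x₃y₃) t(x₁x₂y₂) t(x₂y₂)` of
pairwise commuting transvections have no commuting involutory lifts, whatever signs are chosen.
-/

set_option autoImplicit false
set_option linter.all false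

namespace H79.ExtraNonsplit

variable {Q : Type*} [Group Q]

/-- Data of a central involution `z` containing all squares and commutators. -/
structure Data (z : Q) : Prop where
  zc : ∀ g : Q, Commute z g
  zz : z * z = 1
  z1 : z ≠ 1
  cases : ∀ a b : Q, a * b = b * a ∨ a * b = z * (b * a)
  sqc : ∀ a : Q, a * a = 1 ∨ a * a = z
  cen : ∀ w ∈ Subgroup.center Q, w = 1 ∨ w = z

variable {z : Q}

theorem anti (d : Data z) {a b : Q} (h : ¬ Commute a b) : a * b = z * (b * a) :=
  (d.cases a b).resolve_left h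

theorem anti' (d : Data z) {a b : Q} (h : a * b = z * (b * a)) : ¬ Commute a b := fun hc => by
  refine d.z1 (mul_right_cancel (b := b * a) ?_)
  rw [one_mul, ← h, hc.eq]

theorem comm_mul (d : Data z) {a b c : Q} (ha : ¬ Commute a c) (hb : ¬ Commute b c) :
    Commute (a * b) c := by
  show a * b * c = c * (a * b)
  rw [mul_assoc, anti d hb, ← mul_assoc a z, ← (d.zc a).eq, mul_assoc z, ← mul_assoc a c,
    anti d ha, mul_assoc z, ← mul_assoc z z, d.zz, one_mul, mul_assoc]

theorem ncomm_mul {a b c : Q} (ha : Commute a c) (hb : ¬ Commute b c) :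
    ¬ Commute (a * b) c := fun h => hb (by
  have := ha.inv_left.mul_left h
  rwa [inv_mul_cancel_left] at this)

theorem ncomm_mul' {a b c : Q} (ha : ¬ Commute a c) (hb : Commute b c) :
    ¬ Commute (a * b) c := fun h => ha (by
  have := h.mul_left hb.inv_left
  rwa [mul_inv_cancel_right] at this)

open Classical in
/-- The map `g ↦ g` or `g * v` according as `g` commutes with `v` or not. -/
noncomputable def tFun (v g : Q) : Q := if Commute g v then g else g * v

theorem tFun_pos {v g : Q} (h : Commute g v) : tFun v g = g := if_pos h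
theorem tFun_neg {v g : Q} (h : ¬ Commute g v) : tFun v g = g * v := if_neg h

theorem tFun_mul (d : Data z) {v : Q} (hv : v * v = z) (g h : Q) :
    tFun v (g * h) = tFun v g * tFun v h := by
  by_cases hg : Commute g v <;> by_cases hh : Commute h v
  · rw [tFun_pos hg, tFun_pos hh, tFun_pos (hg.mul_left hh)]
  · rw [tFun_pos hg, tFun_neg hh, tFun_neg (ncomm_mul hg hh), mul_assoc]
  · rw [tFun_neg hg, tFun_pos hh, tFun_neg (ncomm_mul' hg hh), mul_assoc, hh.eq, mul_assoc]
  · rw [tFun_neg hg, tFun_neg hh, tFun_pos (comm_mul d hg hh)]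
    have e := anti d (fun e : Commute v h => hh e.symm)
    symm
    calc g * v * (h * v) = g * (v * h) * v := by simp only [mul_assoc]
      _ = g * (z * (h * v)) * v := by rw [e]
      _ = g * z * h * (v * v) := by simp only [mul_assoc]
      _ = g * h := by
        rw [hv, mul_assoc g z h, (d.zc h).eq, mul_assoc g, mul_assoc h, d.zz, mul_one]

theorem tFun_inj (d : Data z) {v : Q} (hv : v * v = z) : Function.Injective (tFun v) := by
  refine (injective_iff_map_eq_one (MonoidHom.mk' (tFun v) (tFun_mul d hv))).mpr fun g hg => ?_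
  change tFun v g = 1 at hg
  by_cases h : Commute g v
  · rwa [tFun_pos h] at hg
  · rw [tFun_neg h] at hg
    rw [eq_inv_of_mul_eq_one_left hg] at h
    exact absurd (Commute.refl v).inv_left h

variable [Finite Q]

/-- The orthogonal transvection attached to an element squaring to `z`. -/
noncomputable def T (d : Data z) {v : Q} (hv : v * v = z) : MulAut Q :=
  MulEquiv.ofBijective (MonoidHom.mk' (tFun v) (tFun_mul d hv))
    ⟨tFun_inj d hv, Finite.surjective_of_injective (tFun_inj d hv)⟩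

theorem T_pos (d : Data z) {v g : Q} (hv : v * v = z) (h : Commute g v) : T d hv g = g :=
  tFun_pos h

theorem T_neg (d : Data z) {v g : Q} (hv : v * v = z) (h : ¬ Commute g v) :
    T d hv g = g * v := tFun_neg h

theorem T_sq (d : Data z) {v : Q} (hv : v * v = z) : T d hv * T d hv = MulAut.conj v := by
  ext g
  show T d hv (T d hv g) = v * g * v⁻¹
  by_cases h : Commute g v
  · rw [T_pos d hv h, T_pos d hv h, ← h.eq, mul_inv_cancel_right]
  · rw [T_neg d hv h, T_neg d hv (ncomm_mul' h (Commute.refl v)), eq_mul_inv_iff_mul_eq,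
      anti d (fun e : Commute v g => h e.symm)]
    rw [mul_assoc g v v, hv, ← (d.zc g).eq, mul_assoc]

theorem T_comm (d : Data z) {v w : Q} (hv : v * v = z) (hw : w * w = z) (hvw : Commute v w) :
    T d hv * T d hw = T d hw * T d hv := by
  ext g
  show T d hv (T d hw g) = T d hw (T d hv g)
  by_cases hgv : Commute g v <;> by_cases hgw : Commute g w
  · rw [T_pos d hw hgw, T_pos d hv hgv, T_pos d hw hgw]
  · rw [T_neg d hw hgw, T_pos d hv hgv, T_neg d hw hgw, T_pos d hv (hgv.mul_left hvw.symm)]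
  · rw [T_pos d hw hgw, T_neg d hv hgv, T_pos d hw (hgw.mul_left hvw)]
  · rw [T_neg d hw hgw, T_neg d hv hgv, T_neg d hw (ncomm_mul' hgw hvw),
      T_neg d hv (ncomm_mul' hgv hvw.symm), mul_assoc, mul_assoc, hvw.eq]

/-- A sign is `1` or `z`. -/
def Sgn (z p : Q) : Prop := p = 1 ∨ p = z

theorem Sgn.sq (d : Data z) {p : Q} (h : Sgn z p) : p * p = 1 := by
  rcases h with rfl | rfl
  exacts [one_mul 1, d.zz]

theorem Sgn.comm (d : Data z) {p : Q} (h : Sgn z p) (g : Q) : Commute p g := by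
  rcases h with rfl | rfl
  exacts [Commute.one_left g, d.zc g]

theorem Sgn.fix (d : Data z) {p : Q} (h : Sgn z p) (s : MulAut Q) : s p = p := by
  rcases h with rfl | rfl
  · exact map_one s
  · have hm : s p ∈ Subgroup.center Q := by
      refine Subgroup.mem_center_iff.mpr fun g => ?_
      have := congrArg s ((d.zc (s.symm g)).eq)
      rw [map_mul, map_mul, MulEquiv.apply_symm_apply] at this
      exact this.symm
    exact (d.cen _ hm).resolve_left fun e => d.z1 ((MulEquiv.map_eq_one_iff s).mp e)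

/-- Collecting signs. -/
theorem collect (d : Data z) {p q a b : Q} (hq : Sgn z q) :
    p * a * (q * b) = p * q * (a * b) :=
  Commute.mul_mul_mul_comm (hq.comm d a).symm p b

/-- Three hyperbolic pairs of involutions in pairwise orthogonal position. -/
structure Pairs (z x1 y1 x2 y2 x3 y3 : Q) : Prop where
  sx1 : x1 * x1 = 1
  sx2 : x2 * x2 = 1
  sy2 : y2 * y2 = 1
  sx3 : x3 * x3 = 1
  sy3 : y3 * y3 = 1
  h1 : ¬ Commute x1 y1
  h2 : ¬ Commute x2 y2
  h3 : ¬ Commute x3 y3
  c12 : Commute x1 x2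
  c12' : Commute x1 y2
  c13 : Commute x1 x3
  c13' : Commute x1 y3
  d12 : Commute y1 x2
  d12' : Commute y1 y2
  d13 : Commute y1 x3
  d13' : Commute y1 y3
  c23 : Commute x2 x3
  c23' : Commute x2 y3
  d23 : Commute y2 x3
  d23' : Commute y2 y3

theorem hyp_sq (d : Data z) {x y : Q} (hx : x * x = 1) (hy : y * y = 1) (h : ¬ Commute x y) :
    (x * y) * (x * y) = z := by
  calc (x * y) * (x * y) = (x * y) * (z * (y * x)) := by rw [← anti d h]
    _ = z * (x * y * (y * x)) := by rw [← mul_assoc, ← (d.zc (x * y)).eq, mul_assoc]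
    _ = z := by rw [mul_assoc x, ← mul_assoc y, hy, one_mul, hx, mul_one]

theorem hyp_right (d : Data z) {x y : Q} (hy : y * y = 1) (h : ¬ Commute x y) :
    y * (x * y) = z * x := by
  rw [anti d h, ← mul_assoc, ← (d.zc y).eq, mul_assoc, ← mul_assoc y y, hy, one_mul]

/-- Two automorphisms moving the six generators as `σ` and `τ` cannot be commuting involutions. -/
theorem obstruction (d : Data z) {x1 y1 x2 y2 x3 y3 : Q} (P : Pairs z x1 y1 x2 y2 x3 y3)
    (s t : MulAut Q) (hs : s * s = 1) (ht : t * t = 1) (hst : s * t = t * s)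
    {p0 p2 p4 p5 r1 r2 r3 r4 r5 : Q} (a0 : Sgn z p0) (a2 : Sgn z p2) (a4 : Sgn z p4)
    (a5 : Sgn z p5) (b1 : Sgn z r1) (b2 : Sgn z r2) (b3 : Sgn z r3) (b4 : Sgn z r4)
    (b5 : Sgn z r5)
    (s1 : s x1 = p0 * x1) (s2 : s x2 = p2 * y2) (s2' : ∃ q, Sgn z q ∧ s y2 = q * x2)
    (s3 : s x3 = p4 * y3) (s3' : s y3 = p5 * x3)
    (t1' : t y1 = r1 * (y1 * ((x2 * y2) * (x3 * y3))))
    (t2 : t x2 = r2 * (x1 * x2)) (t2' : t y2 = r3 * (x1 * y2))
    (t3 : t x3 = r4 * (x1 * y3)) (t3' : t y3 = r5 * (x1 * x3)) : False := by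
  -- `s² x₃ = x₃`
  have e4 : p4 * p5 = 1 := by
    have := DFunLike.congr_fun hs x3
    change s (s x3) = x3 at this
    rw [s3, map_mul, a4.fix d s, s3', ← mul_assoc] at this
    exact mul_eq_right.mp this
  -- `s t x₃ = t s x₃`
  have e3 : r4 * (p0 * p5) = p4 * r5 := by
    have := DFunLike.congr_fun hst x3
    change s (t x3) = t (s x3) at this
    rw [t3, map_mul, map_mul, b4.fix d s, s1, s3', collect d a5, s3, map_mul, a4.fix d t, t3',
      ← mul_assoc, ← mul_assoc p4] at this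
    exact mul_right_cancel this
  -- `s t x₂ = t s x₂`
  have e2 : r2 * (p0 * p2) = p2 * r3 := by
    have := DFunLike.congr_fun hst x2
    change s (t x2) = t (s x2) at this
    rw [t2, map_mul, map_mul, b2.fix d s, s1, s2, collect d a2, map_mul, a2.fix d t, t2',
      ← mul_assoc, ← mul_assoc p2] at this
    exact mul_right_cancel this
  -- `t² y₁ = y₁`
  have e1 : r2 * r3 * (r4 * r5) * z = 1 := by
    have := DFunLike.congr_fun ht y1
    change t (t y1) = y1 at this
    simp only [t1', map_mul, b1.fix d t, t2, t2', t3, t3'] at this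
    have f2 : (r2 * (x1 * x2)) * (r3 * (x1 * y2)) = (r2 * r3) * (x2 * y2) := by
      rw [collect d b3, mul_assoc x1 x2, ← mul_assoc x2 x1, ← P.c12.eq, mul_assoc x1 x2,
        ← mul_assoc x1 x1, P.sx1, one_mul]
    have f3 : (r4 * (x1 * y3)) * (r5 * (x1 * x3)) = (r4 * r5) * (y3 * x3) := by
      rw [collect d b5, mul_assoc x1 y3, ← mul_assoc y3 x1, ← P.c13'.eq, mul_assoc x1 y3,
        ← mul_assoc x1 x1, P.sx1, one_mul]
    have hB : Sgn z (r4 * r5) := by
      rcases b4 with rfl | rfl <;> rcases b5 with rfl | rfl <;>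
        simp [Sgn, d.zz]
    have hA : Sgn z (r2 * r3) := by
      rcases b2 with rfl | rfl <;> rcases b3 with rfl | rfl <;>
        simp [Sgn, d.zz]
    have hR : Sgn z (r2 * r3 * (r4 * r5)) := by
      rcases hA with hA | hA <;> rcases hB with hB | hB <;> simp [Sgn, hA, hB, d.zz]
    rw [f2, f3, collect d hB] at this
    set A := x2 * y2 with hAdef
    have hA3 : Commute (x3 * y3) A :=
      ((P.c23.mul_left P.d23).mul_right (P.c23'.mul_left P.d23')).symm
    have h4 : (A * (x3 * y3)) * (A * (y3 * x3)) = z := by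
      rw [hA3.mul_mul_mul_comm, hAdef, hyp_sq d P.sx2 P.sy2 P.h2, mul_assoc x3 y3,
        ← mul_assoc y3 y3, P.sy3, one_mul, P.sx3, mul_one]
    set R := r2 * r3 * (r4 * r5) with hRdef
    have h5 : r1 * (r1 * (y1 * (A * (x3 * y3))) * (R * (A * (y3 * x3)))) = y1 := this
    rw [collect d hR, mul_assoc y1, h4, (d.zc y1).symm.eq, ← mul_assoc, ← mul_assoc r1 r1,
      b1.sq d, one_mul, ← mul_assoc] at h5
    exact mul_eq_right.mp h5
  have h5 : p4 = p5 := by
    rcases a4 with rfl | rfl <;> rcases a5 with rfl | rfl <;> simp_all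
  have hr3 : r3 = r2 * p0 := by
    rw [← mul_assoc, (a2.comm d r3).eq] at e2
    exact (mul_right_cancel e2).symm
  have hr5 : r5 = r4 * p0 := by
    rw [h5, ← mul_assoc, (a5.comm d r5).eq] at e3
    exact (mul_right_cancel e3).symm
  rw [hr3, hr5, ← mul_assoc r2, b2.sq d, one_mul, ← mul_assoc r4, b4.sq d, one_mul, a0.sq d,
    one_mul] at e1
  exact d.z1 e1

theorem conj_sgn (d : Data z) (u h : Q) : ∃ p, Sgn z p ∧ MulAut.conj u h = p * h := by
  rw [MulAut.conj_apply]
  rcases d.cases u h with e | e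
  · exact ⟨1, Or.inl rfl, by rw [e, mul_inv_cancel_right, one_mul]⟩
  · exact ⟨z, Or.inr rfl, by rw [e, mul_assoc, mul_inv_cancel_right]⟩

theorem not_complement_of_pairs (d : Data z) {x1 y1 x2 y2 x3 y3 : Q}
    (P : Pairs z x1 y1 x2 y2 x3 y3) (L : Subgroup (MulAut Q)) :
    ¬ (Cfsg.Inn Q).IsComplement' L := by
  intro hL
  haveI hN : (Cfsg.Inn Q).Normal := by
    refine ⟨?_⟩
    rintro _ ⟨u, rfl⟩ φ
    refine ⟨φ u, ?_⟩
    ext g
    show φ u * g * (φ u)⁻¹ = φ (u * φ⁻¹ g * u⁻¹)
    rw [map_mul, map_mul, map_inv]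
    rw [show φ (φ⁻¹ g) = g from φ.apply_symm_apply g]
  have v2 := hyp_sq d P.sx2 P.sy2 P.h2
  have v3 := hyp_sq d P.sx3 P.sy3 P.h3
  have k2 : Commute x1 (x2 * y2) := P.c12.mul_right P.c12'
  have k3 : Commute x1 (x3 * y3) := P.c13.mul_right P.c13'
  have v12 : (x1 * (x2 * y2)) * (x1 * (x2 * y2)) = z := by
    rw [k2.symm.mul_mul_mul_comm, P.sx1, one_mul, v2]
  have v13 : (x1 * (x3 * y3)) * (x1 * (x3 * y3)) = z := by
    rw [k3.symm.mul_mul_mul_comm, P.sx1, one_mul, v3]
  have K : Commute (x2 * y2) (x3 * y3) :=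
    (P.c23.mul_left P.d23).mul_right (P.c23'.mul_left P.d23')
  set T2 := T d v2 with hT2
  set T3 := T d v3 with hT3
  set T12 := T d v12 with hT12
  set T13 := T d v13 with hT13
  set σ := T3 * T2 with hσ
  set τ := T13 * T12 * T2 with hτ
  -- images of the generators
  have n2 : ¬ Commute x2 (x2 * y2) := fun e =>
    ncomm_mul (Commute.refl x2) (fun h => P.h2 h.symm) e.symm
  have n2' : ¬ Commute y2 (x2 * y2) := fun e => ncomm_mul' P.h2 (Commute.refl y2) e.symm
  have n3 : ¬ Commute x3 (x3 * y3) := fun e =>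
    ncomm_mul (Commute.refl x3) (fun h => P.h3 h.symm) e.symm
  have n3' : ¬ Commute y3 (x3 * y3) := fun e => ncomm_mul' P.h3 (Commute.refl y3) e.symm
  have σ1 : σ x1 = x1 := by
    show T3 (T2 x1) = x1
    rw [hT2, T_pos d v2 k2, hT3, T_pos d v3 k3]
  have σ2 : σ x2 = y2 := by
    show T3 (T2 x2) = y2
    rw [hT2, T_neg d v2 n2, ← mul_assoc, P.sx2, one_mul, hT3,
      T_pos d v3 (P.d23.mul_right P.d23')]
  have σ2' : σ y2 = z * x2 := by
    show T3 (T2 y2) = z * x2
    rw [hT2, T_neg d v2 n2', hyp_right d P.sy2 P.h2, hT3,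
      T_pos d v3 ((d.zc _).mul_left (P.c23.mul_right P.c23'))]
  have σ3 : σ x3 = y3 := by
    show T3 (T2 x3) = y3
    rw [hT2, T_pos d v2 (P.c23.symm.mul_right P.d23.symm), hT3, T_neg d v3 n3, ← mul_assoc,
      P.sx3, one_mul]
  have σ3' : σ y3 = z * x3 := by
    show T3 (T2 y3) = z * x3
    rw [hT2, T_pos d v2 (P.c23'.symm.mul_right P.d23'.symm), hT3, T_neg d v3 n3',
      hyp_right d P.sy3 P.h3]
  have τy1 : τ y1 = y1 * ((x2 * y2) * (x3 * y3)) := by
    show T13 (T12 (T2 y1)) = _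
    have hn : ∀ w, Commute y1 w → ¬ Commute y1 (x1 * w) := fun w hw e =>
      ncomm_mul' P.h1 hw.symm e.symm
    rw [hT2, T_pos d v2 (P.d12.mul_right P.d12'), hT12, T_neg d v12 (hn _ (P.d12.mul_right P.d12')),
      hT13, T_neg d v13 (ncomm_mul' (hn _ (P.d13.mul_right P.d13'))
        (((Commute.refl x1).mul_right k3).mul_left (k2.symm.mul_right K))), mul_assoc]
    rw [k2.symm.mul_mul_mul_comm, P.sx1, one_mul]
  have n12 : ¬ Commute y2 (x1 * (x2 * y2)) := fun e => ncomm_mul P.c12' (fun h => n2' h.symm) e.symm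
  have n12' : ¬ Commute x2 (x1 * (x2 * y2)) := fun e => ncomm_mul P.c12 (fun h => n2 h.symm) e.symm
  have n13 : ¬ Commute x3 (x1 * (x3 * y3)) := fun e => ncomm_mul P.c13 (fun h => n3 h.symm) e.symm
  have n13' : ¬ Commute y3 (x1 * (x3 * y3)) := fun e =>
    ncomm_mul P.c13' (fun h => n3' h.symm) e.symm
  have τ2 : τ x2 = z * (x1 * x2) := by
    show T13 (T12 (T2 x2)) = _
    rw [hT2, T_neg d v2 n2, ← mul_assoc, P.sx2, one_mul, hT12, T_neg d v12 n12,
      ← mul_assoc y2 x1, ← P.c12'.eq, mul_assoc x1, hyp_right d P.sy2 P.h2, ← mul_assoc x1,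
      ← (d.zc x1).eq, mul_assoc, hT13,
      T_pos d v13 ((d.zc _).mul_left (((Commute.refl x1).mul_right k3).mul_left
        (P.c12.symm.mul_right (P.c23.mul_right P.c23'))))]
  have τ2' : τ y2 = z * (x1 * y2) := by
    show T13 (T12 (T2 y2)) = _
    rw [hT2, T_neg d v2 n2', hyp_right d P.sy2 P.h2, hT12,
      T_neg d v12 (ncomm_mul (d.zc _) n12'), mul_assoc, ← mul_assoc x2 x1, ← P.c12.eq,
      mul_assoc x1 x2, ← mul_assoc x2 x2, P.sx2, one_mul, hT13,
      T_pos d v13 ((d.zc _).mul_left (((Commute.refl x1).mul_right k3).mul_left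
        (P.c12'.symm.mul_right (P.d23.mul_right P.d23'))))]
  have τ3 : τ x3 = x1 * y3 := by
    show T13 (T12 (T2 x3)) = _
    have c : Commute x3 (x2 * y2) := P.c23.symm.mul_right P.d23.symm
    rw [hT2, T_pos d v2 c, hT12, T_pos d v12 (P.c13.symm.mul_right c), hT13, T_neg d v13 n13,
      ← mul_assoc x3 x1, ← P.c13.eq, mul_assoc, ← mul_assoc x3 x3, P.sx3, one_mul]
  have τ3' : τ y3 = z * (x1 * x3) := by
    show T13 (T12 (T2 y3)) = _
    have c : Commute y3 (x2 * y2) := P.c23'.symm.mul_right P.d23'.symm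
    rw [hT2, T_pos d v2 c, hT12, T_pos d v12 (P.c13'.symm.mul_right c), hT13, T_neg d v13 n13',
      ← mul_assoc y3 x1, ← P.c13'.eq, mul_assoc, hyp_right d P.sy3 P.h3, ← mul_assoc x1,
      ← (d.zc x1).eq, mul_assoc]
  -- relations modulo inner automorphisms
  let π := QuotientGroup.mk' (Cfsg.Inn Q)
  have q : ∀ {v : Q} (hv : v * v = z), π (T d hv) * π (T d hv) = 1 := fun {v} hv => by
    rw [← map_mul, T_sq]
    exact (QuotientGroup.eq_one_iff _).mpr ⟨v, rfl⟩
  have c23 : Commute T2 T3 := T_comm d v2 v3 K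
  have k212 : Commute (x2 * y2) (x1 * (x2 * y2)) := k2.symm.mul_right (Commute.refl _)
  have k213 : Commute (x2 * y2) (x1 * (x3 * y3)) := k2.symm.mul_right K
  have k312 : Commute (x3 * y3) (x1 * (x2 * y2)) := k3.symm.mul_right K.symm
  have k313 : Commute (x3 * y3) (x1 * (x3 * y3)) := k3.symm.mul_right (Commute.refl _)
  have k1213 : Commute (x1 * (x2 * y2)) (x1 * (x3 * y3)) :=
    ((Commute.refl x1).mul_right k3).mul_left k213
  have c212 : Commute T2 T12 := T_comm d v2 v12 k212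
  have c213 : Commute T2 T13 := T_comm d v2 v13 k213
  have c312 : Commute T3 T12 := T_comm d v3 v12 k312
  have c313 : Commute T3 T13 := T_comm d v3 v13 k313
  have c1213 : Commute T12 T13 := T_comm d v12 v13 k1213
  have hcomm : Commute σ τ :=
    ((c313.mul_right c312).mul_right c23.symm).mul_left
      ((c213.mul_right c212).mul_right (Commute.refl T2))
  have πσ : π σ * π σ = 1 := by
    rw [hσ, map_mul, (c23.map π).mul_mul_mul_comm, q v3, q v2, one_mul]
  have πτ : π τ * π τ = 1 := by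
    rw [hτ, map_mul, ((c213.mul_right c212).map π).mul_mul_mul_comm, map_mul,
      (c1213.map π).mul_mul_mul_comm, q v13, q v12, q v2, one_mul, one_mul]
  -- lifts in the complement
  have lift : ∀ φ : MulAut Q, ∃ l ∈ L, ∃ u : Q, l = MulAut.conj u * φ := by
    intro φ
    obtain ⟨⟨⟨i, ⟨u, rfl⟩⟩, ⟨l, hl⟩⟩, e⟩ := hL.2 φ
    change MulAut.conj u * l = φ at e
    exact ⟨l, hl, u⁻¹, by rw [← e, ← mul_assoc, ← map_mul, inv_mul_cancel, map_one, one_mul]⟩
  obtain ⟨s, hs, u, hu⟩ := lift σ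
  obtain ⟨t, ht, v, hv⟩ := lift τ
  have πs : π s = π σ := by
    rw [hu, map_mul, show π (MulAut.conj u) = 1 from (QuotientGroup.eq_one_iff _).mpr ⟨u, rfl⟩,
      one_mul]
  have πt : π t = π τ := by
    rw [hv, map_mul, show π (MulAut.conj v) = 1 from (QuotientGroup.eq_one_iff _).mpr ⟨v, rfl⟩,
      one_mul]
  have triv : ∀ l ∈ L, π l = 1 → l = 1 := fun l hl he =>
    Subgroup.disjoint_def.mp hL.disjoint ((QuotientGroup.eq_one_iff _).mp he) hl
  have hss : s * s = 1 := triv _ (L.mul_mem hs hs) (by rw [map_mul, πs, πσ])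
  have htt : t * t = 1 := triv _ (L.mul_mem ht ht) (by rw [map_mul, πt, πτ])
  have hst : s * t = t * s := by
    refine mul_inv_eq_one.mp (triv _ (L.mul_mem (L.mul_mem hs ht) (L.inv_mem (L.mul_mem ht hs))) ?_)
    rw [map_mul, map_inv, map_mul, map_mul, πs, πt, (hcomm.map π).eq, mul_inv_cancel]
  have sg : ∀ {φ l : MulAut Q} {w : Q}, l = MulAut.conj w * φ → ∀ {g h p : Q}, Sgn z p →
      φ g = p * h → ∃ p', Sgn z p' ∧ l g = p' * h := by
    intro φ l w hl g h p hp hg
    obtain ⟨r, hr, e⟩ := conj_sgn d w h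
    refine ⟨p * r, ?_, ?_⟩
    · rcases hp with rfl | rfl <;> rcases hr with rfl | rfl <;> simp [Sgn, d.zz]
    · rw [hl]
      show MulAut.conj w (φ g) = _
      rw [hg, map_mul, hp.fix d, e, mul_assoc]
  have o : ∀ {g : Q}, g = 1 * g := fun {g} => (one_mul g).symm
  obtain ⟨p0, a0, e0⟩ := sg hu (Or.inl rfl) (σ1.trans o)
  obtain ⟨p2, a2, e2⟩ := sg hu (Or.inl rfl) (σ2.trans o)
  obtain ⟨p3, a3, e3⟩ := sg hu (Or.inr rfl) σ2'
  obtain ⟨p4, a4, e4⟩ := sg hu (Or.inl rfl) (σ3.trans o)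
  obtain ⟨p5, a5, e5⟩ := sg hu (Or.inr rfl) σ3'
  obtain ⟨r1, b1, f1⟩ := sg hv (Or.inl rfl) (τy1.trans o)
  obtain ⟨r2, b2, f2⟩ := sg hv (Or.inr rfl) τ2
  obtain ⟨r3, b3, f3⟩ := sg hv (Or.inr rfl) τ2'
  obtain ⟨r4, b4, f4⟩ := sg hv (Or.inl rfl) (τ3.trans o)
  obtain ⟨r5, b5, f5⟩ := sg hv (Or.inr rfl) τ3'
  exact obstruction d P s t hss htt hst a0 a2 a4 a5 b1 b2 b3 b4 b5 e0 e2 ⟨p3, a3, e3⟩ e4 e5
    f1 f2 f3 f4 f5

/-- An element correcting `g` to commute with a hyperbolic pair `(a, b)`. -/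
theorem fix_pair (d : Data z) {a b : Q} (h : ¬ Commute a b) (g : Q) :
    ∃ c, Commute (g * c) a ∧ Commute (g * c) b ∧
      ∀ w, Commute w a → Commute w b → Commute c w := by
  have hba : ¬ Commute b a := fun e => h e.symm
  by_cases ha : Commute g a <;> by_cases hb : Commute g b
  · exact ⟨1, by rwa [mul_one], by rwa [mul_one], fun w _ _ => Commute.one_left w⟩
  · exact ⟨a, ha.mul_left (Commute.refl a), comm_mul d hb h, fun w e _ => e.symm⟩
  · exact ⟨b, comm_mul d ha hba, hb.mul_left (Commute.refl b), fun w _ e => e.symm⟩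
  · exact ⟨a * b, comm_mul d ha (ncomm_mul (Commute.refl a) hba),
      comm_mul d hb (ncomm_mul' h (Commute.refl b)), fun w e f => (e.mul_right f).symm⟩

/-- Hypothesis on a partner `y` of `x`, adjusted to be an involution. -/
theorem partner (d : Data z) {x g : Q} (hx : x * x = 1) (h : ¬ Commute x g) :
    ∃ y, (y = g ∨ y = x * g) ∧ y * y = 1 ∧ ¬ Commute x y := by
  rcases d.sqc g with e | e
  · exact ⟨g, Or.inl rfl, e, h⟩
  · refine ⟨x * g, Or.inr rfl, ?_, fun c => ncomm_mul (Commute.refl x) (fun k => h k.symm) c.symm⟩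
    calc x * g * (x * g) = z * (g * x) * (x * g) := by rw [← anti d h]
      _ = 1 := by rw [mul_assoc, mul_assoc g, ← mul_assoc x x, hx, one_mul, e, d.zz]

/-- Half of an elementary abelian subgroup commutes with any given element. -/
theorem card_le_two_mul (d : Data z) (E : Subgroup Q) (y : Q) :
    Nat.card E ≤ 2 * Nat.card (E ⊓ Subgroup.centralizer {y} : Subgroup Q) := by
  classical
  set C := E ⊓ Subgroup.centralizer {y} with hC
  have memC : ∀ {e}, e ∈ E → Commute e y → e ∈ C := fun he hc =>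
    ⟨he, Subgroup.mem_centralizer_singleton_iff.mpr hc⟩
  by_cases h : ∀ e ∈ E, Commute e y
  · have : E ≤ C := fun e he => memC he (h e he)
    have := Subgroup.card_le_of_le this
    omega
  push Not at h
  obtain ⟨e0, h0, hn0⟩ := h
  have key : ∀ e : E, ¬ Commute (e : Q) y → e0⁻¹ * e ∈ C := fun e he =>
    memC (E.mul_mem (E.inv_mem h0) e.2) (comm_mul d (fun c => hn0 (by simpa using c.inv_left)) he)
  let f : E → C × Bool := fun e =>
    if he : Commute (e : Q) y then (⟨e, memC e.2 he⟩, true) else (⟨_, key e he⟩, false)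
  have hf : Function.Injective f := by
    intro a b hab
    simp only [f] at hab
    split_ifs at hab with ha hb hb <;>
      simp only [Prod.mk.injEq, Subtype.mk.injEq, mul_right_inj, Bool.true_eq_false,
        Bool.false_eq_true, and_false, and_true] at hab
    · exact Subtype.ext hab
    · exact Subtype.ext hab
  have := Nat.card_le_card_of_injective f hf
  rwa [Nat.card_prod, Nat.card_eq_fintype_card (α := Bool), Fintype.card_bool, mul_comm] at this

theorem exists_pairs (d : Data z) (E : Subgroup Q) (hab : ∀ a ∈ E, ∀ b ∈ E, Commute a b)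
    (hexp : ∀ a ∈ E, a * a = 1) (hcard : 16 ≤ Nat.card E) :
    ∃ x1 y1 x2 y2 x3 y3 : Q, Pairs z x1 y1 x2 y2 x3 y3 := by
  classical
  have pick : ∀ F : Subgroup Q, 3 ≤ Nat.card F → ∃ x ∈ F, ∃ g, ¬ Commute x g := by
    intro F hF
    by_contra hcon
    push Not at hcon
    have : ∀ w : F, (w : Q) = 1 ∨ (w : Q) = z := fun w =>
      d.cen _ (Subgroup.mem_center_iff.mpr fun g => (hcon w w.2 g).symm)
    have hf : Function.Injective (fun w : F => decide ((w : Q) = 1)) := by
      intro a b hab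
      simp only [decide_eq_decide] at hab
      apply Subtype.ext
      rcases this a with e | e <;> rcases this b with f | f <;> rw [e, f] at hab ⊢
      · exact absurd (hab.mp rfl) d.z1
      · exact absurd (hab.mpr rfl) d.z1
    have := Nat.card_le_card_of_injective _ hf
    rw [Nat.card_eq_fintype_card (α := Bool), Fintype.card_bool] at this
    omega
  obtain ⟨x1, hx1, g1, hg1⟩ := pick E (by omega)
  obtain ⟨y1, -, sy1, h1⟩ := partner d (hexp _ hx1) hg1
  set E1 := E ⊓ Subgroup.centralizer {y1} with hE1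
  have c1 := card_le_two_mul d E y1
  rw [← hE1] at c1
  obtain ⟨x2, hx2, g2, hg2⟩ := pick E1 (by omega)
  have x2E : x2 ∈ E := hx2.1
  have x2y1 : Commute x2 y1 := Subgroup.mem_centralizer_singleton_iff.mp hx2.2
  have x2x1 : Commute x2 x1 := hab _ x2E _ hx1
  obtain ⟨k, hk1, hk1', hk⟩ := fix_pair d h1 g2
  have hg2' : ¬ Commute x2 (g2 * k) := fun e => ncomm_mul' (fun c => hg2 c.symm)
    (hk _ x2x1 x2y1) e.symm
  obtain ⟨y2, hy2, sy2, h2⟩ := partner d (hexp _ x2E) hg2'
  have y2x1 : Commute y2 x1 := by rcases hy2 with rfl | rfl; exacts [hk1, x2x1.mul_left hk1]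
  have y2y1 : Commute y2 y1 := by rcases hy2 with rfl | rfl; exacts [hk1', x2y1.mul_left hk1']
  set E2 := E1 ⊓ Subgroup.centralizer {y2} with hE2
  have c2 := card_le_two_mul d E1 y2
  rw [← hE2] at c2
  obtain ⟨x3, hx3, g3, hg3⟩ := pick E2 (by omega)
  have x3E : x3 ∈ E := hx3.1.1
  have x3y1 : Commute x3 y1 := Subgroup.mem_centralizer_singleton_iff.mp hx3.1.2
  have x3y2 : Commute x3 y2 := Subgroup.mem_centralizer_singleton_iff.mp hx3.2
  have x3x1 : Commute x3 x1 := hab _ x3E _ hx1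
  have x3x2 : Commute x3 x2 := hab _ x3E _ x2E
  obtain ⟨k1, ha1, hb1, hka⟩ := fix_pair d h1 g3
  obtain ⟨k2, ha2, hb2, hkb⟩ := fix_pair d h2 (g3 * k1)
  set w := g3 * k1 * k2 with hw
  have hw1 : Commute w x1 := ha1.mul_left (hkb _ x2x1.symm y2x1.symm)
  have hw1' : Commute w y1 := hb1.mul_left (hkb _ x2y1.symm y2y1.symm)
  have hw3 : ¬ Commute x3 w := fun e => ncomm_mul'
    (ncomm_mul' (fun c => hg3 c.symm) (hka _ x3x1 x3y1)) (hkb _ x3x2 x3y2) e.symm
  obtain ⟨y3, hy3, sy3, h3⟩ := partner d (hexp _ x3E) hw3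
  have m : ∀ {g}, Commute w g → Commute x3 g → Commute y3 g := fun a b => by
    rcases hy3 with rfl | rfl; exacts [a, b.mul_left a]
  exact ⟨x1, y1, x2, y2, x3, y3,
    { sx1 := hexp _ hx1, sx2 := hexp _ x2E, sy2 := sy2, sx3 := hexp _ x3E, sy3 := sy3
      h1 := h1, h2 := h2, h3 := h3
      c12 := x2x1.symm, c12' := y2x1.symm, c13 := x3x1.symm, c13' := (m hw1 x3x1).symm
      d12 := x2y1.symm, d12' := y2y1.symm, d13 := x3y1.symm, d13' := (m hw1' x3y1).symm
      c23 := x3x2.symm, c23' := (m ha2 x3x2).symm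
      d23 := x3y2.symm, d23' := (m hb2 x3y2).symm }⟩

theorem data_of_extraspecial (hQ : Cfsg.IsExtraspecial 2 Q) : ∃ z : Q, Data z := by
  haveI : Fact (Nat.Prime 2) := ⟨Nat.prime_two⟩
  obtain ⟨z, hzc, hz1, hzz, hz⟩ := H31.Extra2.center_data hQ
  exact ⟨z, fun g => (Subgroup.mem_center_iff.mp hzc g).symm, hzz, hz1,
    fun a b => H31.Extra2.comm_cases hQ hz a b,
    fun a => hz _ (by rw [← pow_two]; exact H6.extraspecial_pow_mem_center hQ a), hz⟩

theorem main {n : ℕ} (hn : 3 ≤ n) (hQ : Cfsg.IsExtraspecial 2 Q)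
    (hplus : ∃ E : Subgroup Q, Cfsg.IsElementaryAbelian 2 E ∧ Nat.card ↥E = 2 ^ (n + 1))
    (L : Subgroup (MulAut Q)) : ¬ (Cfsg.Inn Q).IsComplement' L := by
  obtain ⟨z, d⟩ := data_of_extraspecial hQ
  obtain ⟨E, hE, hEc⟩ := hplus
  obtain ⟨x1, y1, x2, y2, x3, y3, P⟩ := exists_pairs d E
    (fun a ha b hb => congrArg Subtype.val (hE.1.is_comm.comm (⟨a, ha⟩ : E) ⟨b, hb⟩))
    (fun a ha => by rw [← pow_two]; exact hE.2 a ha)
    (by rw [hEc]; exact le_trans (by norm_num) (Nat.pow_le_pow_right (by norm_num)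
      (show 4 ≤ n + 1 by omega)))
  exact not_complement_of_pairs d P L

end H79.ExtraNonsplit
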