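import Cfsg.Agent.H79.TorusPartition
import Cfsg.Agent.H79.CubeFusion
import Cfsg.Agent.H40.TwoByTwo

/-!
Extraspecial Sylow subgroups of order `p³` and exponent `p`: the diagonal elements of the normalizer
attached to subgroups of order `p²`, counted as tori of a `p'`-subgroup of `GL₂(p)`.
-/

set_option autoImplicit false
set_option linter.unusedSectionVars false
set_option linter.style.haveILetI false

namespace H79.ExtraspecialTori

open Subgroup Matrix
open scoped commutatorElement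

variable {p : ℕ} [Fact p.Prime]

section pow

variable {G K : Type*} [Group G] [Group K] {x : G}

/-- Powers by residues modulo `p`. -/
def zp (x : G) (i : ZMod p) : G := x ^ i.val

theorem zp_add (hx : x ^ p = 1) (i j : ZMod p) : zp x (i + j) = zp x i * zp x j := by
  rw [zp, zp, zp, ← pow_add, ZMod.val_add, ← pow_eq_pow_mod _ hx]

theorem zp_natCast (hx : x ^ p = 1) (n : ℕ) : zp x (n : ZMod p) = x ^ n := by
  rw [zp, ZMod.val_natCast, ← pow_eq_pow_mod _ hx]

theorem zp_mul (hx : x ^ p = 1) (i j : ZMod p) : zp (zp x i) j = zp x (i * j) := by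
  rw [zp, zp, zp, ← pow_mul, ZMod.val_mul, ← pow_eq_pow_mod _ hx]

@[simp] theorem zp_zero : zp x (0 : ZMod p) = 1 := by simp [zp]

@[simp] theorem zp_one : zp x (1 : ZMod p) = x := by simp [zp, ZMod.val_one]

theorem zp_pow (hx : x ^ p = 1) (i : ZMod p) : zp x i ^ p = 1 := by
  rw [zp, ← pow_mul, mul_comm, pow_mul, hx, one_pow]

theorem zp_neg (hx : x ^ p = 1) (i : ZMod p) : zp x (-i) = (zp x i)⁻¹ :=
  eq_inv_of_mul_eq_one_left (by rw [← zp_add hx, neg_add_cancel, zp_zero])

theorem map_zp {F : Type*} [FunLike F G K] [MonoidHomClass F G K] (f : F) (x : G) (i : ZMod p) :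
    f (zp x i) = zp (f x) i := map_pow f x _

theorem commute_zp {y : G} (h : Commute x y) (i j : ZMod p) : Commute (zp x i) (zp y j) :=
  h.pow_pow _ _

theorem zp_injective (hx : orderOf x = p) : Function.Injective (zp (p := p) x) := by
  intro i j h
  rw [zp, zp, pow_inj_mod, hx, Nat.mod_eq_of_lt (ZMod.val_lt i), Nat.mod_eq_of_lt (ZMod.val_lt j)] at h
  exact ZMod.val_injective p h

theorem zp_mem {S : Subgroup G} (hx : x ∈ S) (i : ZMod p) : zp x i ∈ S := pow_mem hx _

end pow

/-- The determinant of two vectors. -/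
def det2 (e f : Fin 2 → ZMod p) : ZMod p := e 0 * f 1 - e 1 * f 0

section frame

/-- Coordinates on an extraspecial group of order `p³` and exponent `p`. -/
structure Frame (X : Type*) [Group X] (p : ℕ) [Fact p.Prime] where
  z : X
  u : X
  v : X
  coord : X → Fin 2 → ZMod p
  z_center : z ∈ center X
  z_order : orderOf z = p
  center_eq : ∀ w ∈ center X, ∃ k : ZMod p, w = zp z k
  pow_p : ∀ x : X, x ^ p = 1
  coord_mul : ∀ x y, coord (x * y) = coord x + coord y
  coord_u : coord u = ![1, 0]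
  coord_v : coord v = ![0, 1]
  coord_eq_zero : ∀ x, coord x = 0 ↔ x ∈ center X
  comm : ∀ x y, ⁅x, y⁆ = zp z (det2 (coord x) (coord y))

variable {X : Type*} [Group X] [Finite X]

theorem exists_frame (hE : Cfsg.IsExtraspecial p X) (hcard : Nat.card X = p ^ 3)
    (hexp : Monoid.exponent X = p) : Nonempty (Frame X p) := by
  classical
  have hpr : p.Prime := Fact.out
  have hpow : ∀ x : X, x ^ p = 1 := fun x => by rw [← hexp]; exact Monoid.pow_exponent_eq_one x
  haveI : Fact (Nat.card (center X)).Prime := ⟨hE.2.symm ▸ hpr⟩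
  obtain ⟨⟨z, hz⟩, hz1⟩ : ∃ w : center X, w ≠ 1 := by
    haveI : Nontrivial (center X) := Finite.one_lt_card_iff_nontrivial.mp (hE.2.symm ▸ hpr.one_lt)
    exact exists_ne 1
  have hzo : orderOf z = p := orderOf_eq_prime (hpow z) (fun h => hz1 (Subtype.ext h))
  have hzk : ∀ w ∈ center X, ∃ k : ZMod p, w = zp z k := by
    haveI : Fintype (center X) := Fintype.ofFinite _
    let f : ZMod p → center X := fun k => ⟨zp z k, zp_mem hz k⟩
    have hf : Function.Bijective f := (Fintype.bijective_iff_injective_and_card f).mpr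
      ⟨fun i j h => zp_injective hzo (congrArg Subtype.val h),
        by rw [ZMod.card, ← Nat.card_eq_fintype_card, hE.2]⟩
    intro w hw
    obtain ⟨k, hk⟩ := hf.2 ⟨w, hw⟩
    exact ⟨k, (congrArg Subtype.val hk).symm⟩
  have hcz : ∀ x y : X, ⁅x, y⁆ ∈ center X := H6.extraspecial_commutator_mem_center hE
  choose c hc using fun x y => hzk _ (hcz x y)
  have huniq : ∀ {i j : ZMod p}, zp z i = zp z j → i = j := fun h => zp_injective hzo h
  have hzp : z ^ p = 1 := hpow z
  have c_mul : ∀ x y w, c (x * y) w = c x w + c y w := fun x y w => huniq (by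
    rw [zp_add hzp, ← hc, ← hc, ← hc]
    calc ⁅x * y, w⁆ = x * ⁅y, w⁆ * x⁻¹ * ⁅x, w⁆ := by simp only [commutatorElement_def]; group
      _ = ⁅y, w⁆ * ⁅x, w⁆ := by rw [mem_center_iff.mp (hcz y w) x, mul_inv_cancel_right]
      _ = ⁅x, w⁆ * ⁅y, w⁆ := mem_center_iff.mp (hcz x w) _)
  have c_anti : ∀ x y, c x y = - c y x := fun x y => huniq (by
    rw [zp_neg hzp, ← hc, ← hc, commutatorElement_inv])
  have c_mul' : ∀ x y w, c w (x * y) = c w x + c w y := fun x y w => by
    rw [c_anti w, c_mul, c_anti x, c_anti y]; ring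
  have c_self : ∀ x, c x x = 0 := fun x => huniq (by
    rw [← hc, zp_zero, commutatorElement_self])
  have c_zero : ∀ x ∈ center X, ∀ w, c x w = 0 := fun x hx w => huniq (by
    rw [← hc, zp_zero, commutatorElement_eq_one_iff_mul_comm]
    exact (mem_center_iff.mp hx w).symm)
  obtain ⟨v, hv⟩ : ∃ v : X, v ∉ center X := by
    by_contra! h
    have : Nat.card (center X) = Nat.card X := by
      rw [show center X = ⊤ from eq_top_iff.mpr fun x _ => h x, card_top]
    rw [hE.2, hcard] at this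
    have := Nat.pow_right_injective hpr.two_le ((pow_one p).trans this : p ^ 1 = p ^ 3)
    omega
  obtain ⟨u, hu⟩ := exists_commutator_eq hE hv hz
  have cuv : c u v = 1 := huniq (by rw [← hc, zp_one]; exact hu)
  let π : X → Fin 2 → ZMod p := fun x => ![c x v, c u x]
  have π_mul : ∀ x y, π (x * y) = π x + π y := fun x y => by
    ext i; fin_cases i <;> simp [π, c_mul, c_mul']
  have π_pow : ∀ (x : X) (n : ℕ), π (x ^ n) = (n : ZMod p) • π x := by
    intro x n
    induction n with
    | zero =>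
      have h : π (1 * 1) = π 1 + π 1 := π_mul 1 1
      rw [one_mul, left_eq_add] at h
      simp [h]
    | succ n ih => rw [pow_succ, π_mul, ih, Nat.cast_succ, add_smul, one_smul]
  have π_zp : ∀ (x : X) (i : ZMod p), π (zp x i) = i • π x := fun x i => by
    rw [zp, π_pow, ZMod.natCast_zmod_val]
  have π_u : π u = ![1, 0] := by ext i; fin_cases i <;> simp [π, cuv, c_self]
  have π_v : π v = ![0, 1] := by ext i; fin_cases i <;> simp [π, cuv, c_self]
  have π_center : ∀ x ∈ center X, π x = 0 := fun x hx => by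
    ext i; fin_cases i <;> simp [π, c_zero x hx, c_anti u x]
  let f : ZMod p × ZMod p × ZMod p → X := fun t => zp z t.1 * zp u t.2.1 * zp v t.2.2
  have π_f : ∀ t, π (f t) = ![t.2.1, t.2.2] := fun t => by
    simp only [f, π_mul, π_zp, π_u, π_v, π_center z hz]
    ext i; fin_cases i <;> simp
  haveI : Fintype X := Fintype.ofFinite X
  have hf : Function.Bijective f := by
    refine (Fintype.bijective_iff_injective_and_card f).mpr ⟨fun t s h => ?_, ?_⟩
    · have h1 := congrArg π h
      rw [π_f, π_f] at h1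
      obtain ⟨k, i, j⟩ := t
      obtain ⟨k', i', j'⟩ := s
      have e0 : i = i' := by simpa using congrFun h1 0
      have e1 : j = j' := by simpa using congrFun h1 1
      subst e0 e1
      have : zp z k = zp z k' := by simpa [f] using h
      rw [huniq this]
    · rw [← Nat.card_eq_fintype_card, ← Nat.card_eq_fintype_card, hcard, Nat.card_prod, Nat.card_prod,
        Nat.card_zmod]
      ring
  refine ⟨⟨z, u, v, π, hz, hzo, hzk, hpow, π_mul, π_u, π_v, fun x => ⟨fun h => ?_, π_center x⟩,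
    fun x y => ?_⟩⟩
  · obtain ⟨⟨k, i, j⟩, rfl⟩ := hf.2 x
    rw [π_f] at h
    have e0 : i = 0 := by simpa using congrFun h 0
    have e1 : j = 0 := by simpa using congrFun h 1
    subst e0 e1
    simpa [f] using zp_mem hz k
  · rw [hc x y]
    congr 1
    obtain ⟨⟨k, i, j⟩, rfl⟩ := hf.2 x
    have h := π_f (k, i, j)
    have c_pow : ∀ (x : X) (n : ℕ) (w : X), c (x ^ n) w = n * c x w := by
      intro x n w
      induction n with
      | zero => simpa using c_zero 1 (one_mem _) w
      | succ n ih => rw [pow_succ, c_mul, ih, Nat.cast_succ]; ring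
    rw [det2, h]
    show c (zp z k * zp u i * zp v j) y = i * c u y - j * c y v
    rw [c_mul, c_mul, c_zero _ (zp_mem hz k), zero_add, zp, zp, c_pow, c_pow, ZMod.natCast_zmod_val,
      ZMod.natCast_zmod_val, c_anti v y]
    ring

variable (F : Frame X p)

theorem Frame.coord_one : F.coord 1 = 0 := (F.coord_eq_zero 1).mpr (one_mem _)

theorem Frame.coord_zp (x : X) (i : ZMod p) : F.coord (zp x i) = i • F.coord x := by
  have : ∀ n : ℕ, F.coord (x ^ n) = (n : ZMod p) • F.coord x := by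
    intro n
    induction n with
    | zero => simp [F.coord_one]
    | succ n ih => rw [pow_succ, F.coord_mul, ih, Nat.cast_succ, add_smul, one_smul]
  rw [zp, this, ZMod.natCast_zmod_val]

theorem Frame.coord_inv (x : X) : F.coord x⁻¹ = - F.coord x :=
  eq_neg_of_add_eq_zero_left (by rw [← F.coord_mul, inv_mul_cancel, F.coord_one])

theorem Frame.coord_eq_iff (x y : X) : F.coord x = F.coord y ↔ x * y⁻¹ ∈ center X := by
  rw [← F.coord_eq_zero, F.coord_mul, F.coord_inv, ← sub_eq_add_neg, sub_eq_zero]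

/-- The matrix of an automorphism on the central quotient. -/
def Frame.mat (σ : MulAut X) : Matrix (Fin 2) (Fin 2) (ZMod p) :=
  Matrix.of fun i j => F.coord (σ (![F.u, F.v] j)) i

theorem Frame.coord_apply (σ : MulAut X) (x : X) : F.coord (σ x) = F.mat σ *ᵥ F.coord x := by
  set x' := zp F.u (F.coord x 0) * zp F.v (F.coord x 1) with hx'
  have h1 : F.coord x' = F.coord x := by
    rw [hx', F.coord_mul, F.coord_zp, F.coord_zp, F.coord_u, F.coord_v]
    ext i; fin_cases i <;> simp
  obtain ⟨k, hk⟩ := F.center_eq _ ((F.coord_eq_iff x x').mp h1.symm)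
  have hσ : σ F.z ∈ center X := mem_center_iff.mpr fun g => by
    obtain ⟨g, rfl⟩ := σ.surjective g
    rw [← map_mul, ← map_mul, mem_center_iff.mp F.z_center g]
  have hx : x = zp F.z k * x' := by rw [← hk, inv_mul_cancel_right]
  conv_lhs => rw [hx, map_mul, F.coord_mul, map_zp, F.coord_zp, (F.coord_eq_zero _).mpr hσ,
    smul_zero, zero_add, hx', map_mul, F.coord_mul, map_zp, map_zp, F.coord_zp, F.coord_zp]
  ext i
  simp [Frame.mat, Matrix.mulVec, dotProduct, Fin.sum_univ_two]
  ring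

/-- The representation on the central quotient. -/
def Frame.rep : MulAut X →* Matrix (Fin 2) (Fin 2) (ZMod p) where
  toFun := F.mat
  map_one' := by
    ext i j
    fin_cases i <;> fin_cases j <;> simp [Frame.mat, F.coord_u, F.coord_v]
  map_mul' σ τ := by
    ext i j
    have h := congrFun (F.coord_apply σ (τ (![F.u, F.v] j))) i
    simp only [Frame.mat, Matrix.of_apply, MulAut.mul_apply] at h ⊢
    rw [h]
    simp [Matrix.mulVec, dotProduct, Matrix.mul_apply]

theorem Frame.det_mat (σ : MulAut X) {l : ZMod p} (h : σ F.z = zp F.z l) : (F.mat σ).det = l := by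
  have huv : ⁅F.u, F.v⁆ = F.z := by
    rw [F.comm, F.coord_u, F.coord_v]
    simp [det2]
  have h1 : ⁅σ F.u, σ F.v⁆ = zp F.z l := by rw [← map_commutatorElement, huv, h]
  rw [F.comm] at h1
  rw [← zp_injective F.z_order h1, Matrix.det_fin_two]
  simp [Frame.mat, det2]
  ring

theorem Frame.mat_conj (x : X) : F.mat (MulAut.conj x) = 1 := by
  ext i j
  have h : ∀ w, F.coord (x * w * x⁻¹) = F.coord w := fun w => by
    rw [F.coord_mul, F.coord_mul, F.coord_inv, add_neg_cancel_comm]
  fin_cases i <;> fin_cases j <;> simp [Frame.mat, h, F.coord_u, F.coord_v]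

end frame

section matrices

variable (p) in
/-- The scalar matrices. -/
noncomputable def scalars : Subgroup (GL (Fin 2) (ZMod p)) :=
  (Units.map ((Matrix.scalar (Fin 2)).toMonoidHom :
    ZMod p →* Matrix (Fin 2) (Fin 2) (ZMod p))).range

theorem mem_scalars {g : GL (Fin 2) (ZMod p)} :
    g ∈ scalars p ↔ H40.IsScalar2 (g : Matrix (Fin 2) (Fin 2) (ZMod p)) := by
  constructor
  · rintro ⟨s, rfl⟩
    simp [H40.IsScalar2]
  · rintro ⟨h1, h2, h3⟩
    have hd : (g : Matrix (Fin 2) (Fin 2) (ZMod p)).det ≠ 0 :=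
      ((Matrix.isUnit_iff_isUnit_det _).mp g.isUnit).ne_zero
    have h0 : (g : Matrix (Fin 2) (Fin 2) (ZMod p)) 0 0 ≠ 0 := fun h => hd (by
      rw [Matrix.det_fin_two, h, h1]; ring)
    refine ⟨Units.mk0 _ h0, Units.ext ?_⟩
    ext i j
    fin_cases i <;> fin_cases j <;> simp [h1, h2, h3]

theorem scalars_le_center : scalars p ≤ center (GL (Fin 2) (ZMod p)) := by
  rintro _ ⟨s, rfl⟩
  refine mem_center_iff.mpr fun g => Units.ext ?_
  show (g : Matrix (Fin 2) (Fin 2) (ZMod p)) * Matrix.scalar (Fin 2) (s : ZMod p) =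
    Matrix.scalar (Fin 2) (s : ZMod p) * g
  exact ((Matrix.scalar_commute _ (fun r => Commute.all _ r) _).eq).symm

theorem scalars_pow {g : GL (Fin 2) (ZMod p)} (hg : g ∈ scalars p) : g ^ (p - 1) = 1 := by
  obtain ⟨s, rfl⟩ := hg
  rw [← map_pow, ZMod.units_pow_card_sub_one_eq_one, map_one]

/-- A matrix with three pairwise independent eigenvectors is scalar. -/
theorem isScalar2_of_three {M : Matrix (Fin 2) (Fin 2) (ZMod p)} {e f g : Fin 2 → ZMod p}
    {a b c : ZMod p} (he : M *ᵥ e = a • e) (hf : M *ᵥ f = b • f) (hg : M *ᵥ g = c • g)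
    (hef : det2 e f ≠ 0) (heg : det2 e g ≠ 0) (hfg : det2 f g ≠ 0) : H40.IsScalar2 M := by
  have e0 := congrFun he 0
  have e1 := congrFun he 1
  have f0 := congrFun hf 0
  have f1 := congrFun hf 1
  have g0 := congrFun hg 0
  have g1 := congrFun hg 1
  simp [Matrix.mulVec, dotProduct, Fin.sum_univ_two] at e0 e1 f0 f1 g0 g1
  unfold det2 at hef heg hfg
  have hac : (a - c) * ((f 0 * g 1 - f 1 * g 0) * (e 0 * f 1 - e 1 * f 0)) = 0 := by
    linear_combination (-(f 0 * g 1 - f 1 * g 0) * f 1) * e0 + ((f 0 * g 1 - f 1 * g 0) * f 0) * e1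
      + ((e 0 * g 1 - e 1 * g 0) * f 1) * f0 - ((e 0 * g 1 - e 1 * g 0) * f 0) * f1
      + (-(e 0 * f 1 - e 1 * f 0) * f 1) * g0 + ((e 0 * f 1 - e 1 * f 0) * f 0) * g1
  have hbc : (b - c) * ((e 0 * g 1 - e 1 * g 0) * (e 0 * f 1 - e 1 * f 0)) = 0 := by
    linear_combination (-(f 0 * g 1 - f 1 * g 0) * e 1) * e0 + ((f 0 * g 1 - f 1 * g 0) * e 0) * e1
      + ((e 0 * g 1 - e 1 * g 0) * e 1) * f0 - ((e 0 * g 1 - e 1 * g 0) * e 0) * f1
      + (-(e 0 * f 1 - e 1 * f 0) * e 1) * g0 + ((e 0 * f 1 - e 1 * f 0) * e 0) * g1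
  have hac' : a = c := sub_eq_zero.mp ((mul_eq_zero.mp hac).resolve_right (mul_ne_zero hfg hef))
  have hbc' : b = c := sub_eq_zero.mp ((mul_eq_zero.mp hbc).resolve_right (mul_ne_zero heg hef))
  subst hac' hbc'
  have q : ∀ {t : ZMod p}, t * (e 0 * f 1 - e 1 * f 0) = 0 → t = 0 := fun h =>
    (mul_eq_zero.mp h).resolve_right hef
  refine ⟨q (by linear_combination (-f 0) * e0 + e 0 * f0), q (by linear_combination f 1 * e1 - e 1 * f1), ?_⟩
  exact sub_eq_zero.mp (q (by
    linear_combination f 1 * e0 - e 1 * f0 + f 0 * e1 - e 0 * f1))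

variable {H : Subgroup (GL (Fin 2) (ZMod p))}

theorem mem_centralizer_iff_val {g x : H} :
    x ∈ centralizer ({g} : Set H) ↔
      (x : GL (Fin 2) (ZMod p)).val * (g : GL (Fin 2) (ZMod p)).val =
        (g : GL (Fin 2) (ZMod p)).val * (x : GL (Fin 2) (ZMod p)).val := by
  rw [mem_centralizer_singleton_iff]
  exact ⟨fun h => congrArg (fun w : H => (w : GL (Fin 2) (ZMod p)).val) h,
    fun h => Subtype.ext (Units.ext h)⟩

theorem hyp_of_coprime (hp : p ≠ 2) (hcop : ∀ g ∈ H, (orderOf g).Coprime p) :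
    TorusPartition.Hyp ((scalars p).subgroupOf H) := by
  classical
  have hns : ∀ g : H, g ∉ (scalars p).subgroupOf H →
      ¬ H40.IsScalar2 (g : GL (Fin 2) (ZMod p)).val := fun g hg h =>
    hg (mem_subgroupOf.mpr (mem_scalars.mpr h))
  refine ⟨fun x hx => mem_center_iff.mpr fun y => Subtype.ext
    (mem_center_iff.mp (scalars_le_center (mem_subgroupOf.mp hx)) y), ?_, ?_⟩
  · intro g hg x hx y hy
    obtain ⟨a, b, hx'⟩ := H40.comm_eq_poly (hns g hg) (mem_centralizer_iff_val.mp hx)
    obtain ⟨c, d, hy'⟩ := H40.comm_eq_poly (hns g hg) (mem_centralizer_iff_val.mp hy)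
    refine Subtype.ext (Units.ext ?_)
    show (x : GL (Fin 2) (ZMod p)).val * (y : GL (Fin 2) (ZMod p)).val = _ * _
    rw [hx', hy']
    simp [Matrix.add_mul, Matrix.mul_add, smul_smul, mul_comm]
    abel
  · intro g hg
    set M := (g : GL (Fin 2) (ZMod p)).val with hM
    set A := centralizer ({g} : Set H) with hA
    set s : ZMod p := M.trace / 2 with hs
    have h2 : (2 : ZMod p) ≠ 0 := by
      intro h
      rw [show (2 : ZMod p) = ((2 : ℕ) : ZMod p) by norm_num, ZMod.natCast_eq_zero_iff] at h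
      exact hp ((Nat.prime_dvd_prime_iff_eq Fact.out Nat.prime_two).mp h)
    have htr : M.trace = 2 * s := by rw [hs]; field_simp
    have hdisc : s ^ 2 - M.det ≠ 0 := by
      intro h
      set N := M - s • (1 : Matrix (Fin 2) (Fin 2) (ZMod p)) with hN
      have hN2 : N * N = 0 := by
        rw [Matrix.det_fin_two] at h
        rw [Matrix.trace_fin_two] at htr
        ext i j
        fin_cases i <;> fin_cases j <;> simp [hN, Matrix.mul_apply, Fin.sum_univ_two]
        · linear_combination h + M 0 0 * htr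
        · linear_combination M 0 1 * htr
        · linear_combination M 1 0 * htr
        · linear_combination h + M 1 1 * htr
      have hMp : M ^ p = (s • (1 : Matrix (Fin 2) (Fin 2) (ZMod p))) ^ p := by
        conv_lhs => rw [show M = s • (1 : Matrix (Fin 2) (Fin 2) (ZMod p)) + N by rw [hN]; abel]
        have hNp : N ^ p = 0 := pow_eq_zero_of_le (Fact.out : p.Prime).two_le (by rw [pow_two, hN2])
        rw [add_pow_char_of_commute p ((Commute.one_left N).smul_left s), hNp, add_zero]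
      have hsc : (g : GL (Fin 2) (ZMod p)) ^ p ∈ scalars p := by
        rw [mem_scalars, Units.val_pow_eq_pow_val, ← hM, hMp, smul_pow, one_pow]
        simp [H40.IsScalar2]
      obtain ⟨m, hm⟩ := exists_pow_eq_self_of_coprime
        (x := (g : GL (Fin 2) (ZMod p))) (hcop _ g.2).symm
      exact hg (mem_subgroupOf.mpr (hm ▸ pow_mem hsc m))
    set T : Finset (Matrix (Fin 2) (Fin 2) (ZMod p)) :=
      {M, M.trace • (1 : Matrix (Fin 2) (Fin 2) (ZMod p)) - M} with hT
    set Nm := normalizer (A : Set H)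
    have hin : ∀ n ∈ Nm, ((n * g * n⁻¹ : H) : GL (Fin 2) (ZMod p)).val ∈ T := by
      intro n hn
      have h1 : n * g * n⁻¹ ∈ A :=
        (mem_normalizer_iff.mp hn g).mp (mem_centralizer_singleton_iff.mpr rfl)
      obtain ⟨a, b, hab⟩ := H40.comm_eq_poly (hns g hg) (mem_centralizer_iff_val.mp h1)
      have ht : ((n * g * n⁻¹ : H) : GL (Fin 2) (ZMod p)).val.trace = M.trace :=
        Matrix.trace_units_conj (n : GL (Fin 2) (ZMod p)) M
      have hd : ((n * g * n⁻¹ : H) : GL (Fin 2) (ZMod p)).val.det = M.det :=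
        Matrix.det_units_conj (n : GL (Fin 2) (ZMod p)) M
      rw [← hM] at hab
      rw [hab] at ht hd ⊢
      rw [H40.det_poly] at hd
      simp [Matrix.trace_fin_two] at ht
      rw [htr] at hd
      have hMt : M 0 0 + M 1 1 = 2 * s := by rw [← Matrix.trace_fin_two]; exact htr
      have ha : a = s * (1 - b) := mul_left_cancel₀ h2 (by linear_combination ht + (1 - b) * hMt)
      subst ha
      have hb : (b - 1) * (b + 1) = 0 := (mul_eq_zero.mp (show (b - 1) * (b + 1) * (s ^ 2 - M.det) = 0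
        by linear_combination -hd)).resolve_right hdisc
      rw [hT, Finset.mem_insert, Finset.mem_singleton]
      rcases mul_eq_zero.mp hb with hb | hb
      · left
        rw [sub_eq_zero.mp hb]
        simp
      · right
        rw [eq_neg_of_add_eq_zero_left hb, htr, show s * (1 - -1) = 2 * s by ring]
        module
    let f : Nm → {x // x ∈ T} := fun n => ⟨_, hin _ n.2⟩
    have hf : ∀ m n : Nm, f m = f n → m⁻¹ * n ∈ A.subgroupOf Nm := by
      intro m n h
      have h1 : (m : H) * g * (m : H)⁻¹ = (n : H) * g * (n : H)⁻¹ :=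
        Subtype.ext (Units.ext (congrArg Subtype.val h))
      refine mem_subgroupOf.mpr (mem_centralizer_singleton_iff.mpr ?_)
      show ((m : H)⁻¹ * n) * g = g * ((m : H)⁻¹ * n)
      calc (m : H)⁻¹ * n * g = (m : H)⁻¹ * ((n : H) * g * (n : H)⁻¹) * n := by group
        _ = (m : H)⁻¹ * ((m : H) * g * (m : H)⁻¹) * n := by rw [h1]
        _ = g * ((m : H)⁻¹ * n) := by group
    calc A.relIndex Nm = Nat.card (Nm ⧸ A.subgroupOf Nm) := rfl
      _ ≤ Nat.card {x // x ∈ T} := Nat.card_le_card_of_injective (fun q => f q.out) (fun q r h => by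
          rw [← q.out_eq, ← r.out_eq]
          exact QuotientGroup.eq.mpr (hf _ _ h))
      _ ≤ 2 := by
          rw [Nat.card_eq_finsetCard]
          exact Finset.card_le_two

/-- Few lines are eigenlines of elements of large order modulo scalars. -/
theorem card_lines_le (hp : p ≠ 2) (hcop : ∀ g ∈ H, (orderOf g).Coprime p) {ι : Type*} [Fintype ι]
    (g : ι → H) (e : ι → Fin 2 → ZMod p) (μ : ι → ZMod p)
    (heig : ∀ i, (g i : GL (Fin 2) (ZMod p)).val *ᵥ e i = μ i • e i)
    (hind : ∀ i j, i ≠ j → det2 (e i) (e j) ≠ 0) {m : ℕ} (hm : 4 ≤ m)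
    (hord : ∀ i k, 0 < k → k < m → ¬ H40.IsScalar2 ((g i : GL (Fin 2) (ZMod p)).val ^ k)) :
    Fintype.card ι ≤ 12 ∧ (6 ≤ m → Fintype.card ι ≤ 2) := by
  classical
  set Z := (scalars p).subgroupOf H
  have hyp := hyp_of_coprime hp hcop
  have hns : ∀ i, ¬ H40.IsScalar2 (g i : GL (Fin 2) (ZMod p)).val := fun i => by
    simpa using hord i 1 one_pos (by omega)
  have hgZ : ∀ i, g i ∉ Z := fun i h => hns i (mem_scalars.mp (mem_subgroupOf.mp h))
  let T : ι → Subgroup H := fun i => centralizer ({g i} : Set H)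
  have hratio : ∀ i, (m : ℚ) ≤ TorusPartition.ratio Z (T i) := by
    intro i
    rw [TorusPartition.ratio, TorusPartition.ratio_mul_relIndex _ (hyp.le_centralizer _),
      mul_div_cancel_left₀ _ (Nat.cast_ne_zero.mpr Nat.card_pos.ne'), Nat.cast_le]
    have hgT : g i ∈ T i := mem_centralizer_singleton_iff.mpr rfl
    let f : Fin m → T i ⧸ Z.subgroupOf (T i) := fun k => QuotientGroup.mk ⟨g i ^ (k : ℕ), pow_mem hgT _⟩
    have hf : Function.Injective f := by
      have aux : ∀ a b : Fin m, a ≤ b → f a = f b → a = b := by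
        intro a b hab h
        have h0 := mem_subgroupOf.mp (QuotientGroup.eq.mp (show f a = f b from h))
        have h1 : (g i ^ (a : ℕ))⁻¹ * g i ^ (b : ℕ) ∈ Z := h0
        rw [← Nat.add_sub_cancel' (Fin.le_def.mp hab), pow_add, inv_mul_cancel_left] at h1
        by_contra hne
        have hlt : (a : ℕ) < b := lt_of_le_of_ne hab fun h => hne (Fin.ext h)
        refine hord i ((b : ℕ) - a) (by omega) (by omega) ?_
        simpa using mem_scalars.mp (mem_subgroupOf.mp h1)
      intro a b h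
      rcases le_total a b with hab | hab
      · exact aux a b hab h
      · exact (aux b a hab h.symm).symm
    have := Nat.card_le_card_of_injective f hf
    rwa [Nat.card_fin] at this
  have hm4 : (4 : ℚ) ≤ m := by exact_mod_cast hm
  have hfib : ∀ b ∈ Finset.univ.image T, (Finset.univ.filter fun i => T i = b).card ≤ 2 := by
    intro b _
    by_contra h
    obtain ⟨i, j, k, hi, hj, hk, hij, hik, hjk⟩ := Finset.two_lt_card_iff.mp (not_le.mp h)
    simp only [Finset.mem_filter, Finset.mem_univ, true_and] at hi hj hk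
    have key : ∀ r, T r = b → ∃ c : ZMod p, (g i : GL (Fin 2) (ZMod p)).val *ᵥ e r = c • e r := by
      intro r hr
      have h1 : g i ∈ T r := by
        rw [hr, ← hi]; exact mem_centralizer_singleton_iff.mpr rfl
      obtain ⟨a, c, hac⟩ := H40.comm_eq_poly (hns r) (mem_centralizer_iff_val.mp h1)
      refine ⟨a + c * μ r, ?_⟩
      rw [hac, Matrix.add_mulVec, Matrix.smul_mulVec, Matrix.smul_mulVec, Matrix.one_mulVec,
        heig r, smul_smul, ← add_smul]
    obtain ⟨a, ha⟩ := key i hi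
    obtain ⟨c, hc⟩ := key j hj
    obtain ⟨d, hd⟩ := key k hk
    exact hns i (isScalar2_of_three ha hc hd (hind i j hij) (hind i k hik) (hind j k hjk))
  have hS : ∀ A ∈ Finset.univ.image T, TorusPartition.IsTorus Z A ∧ 4 ≤ TorusPartition.ratio Z A := by
    intro A hA
    obtain ⟨i, -, rfl⟩ := Finset.mem_image.mp hA
    exact ⟨⟨g i, hgZ i, rfl⟩, hm4.trans (hratio i)⟩
  have hcard : Fintype.card ι ≤ 2 * (Finset.univ.image T).card :=
    Finset.card_le_mul_card_image _ _ hfib
  rcases isEmpty_or_nonempty ι with hι | hι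
  · simp [Fintype.card_eq_zero]
  obtain ⟨i₀⟩ := hι
  have key := hyp.card_le (A₀ := T i₀) ⟨g i₀, hgZ i₀, rfl⟩ (hm4.trans (hratio i₀)) _ hS
  refine ⟨by omega, fun h6 => ?_⟩
  have h6' : (6 : ℚ) ≤ m := by exact_mod_cast h6
  have := key.2 (h6'.trans (hratio i₀))
  omega

end matrices

section groups

variable {G : Type*} [Group G] [Finite G]

/-- A transvection pair yields a diagonal element in the normalizer of the Sylow subgroup. -/
theorem exists_diagonal (P : Sylow p G) {z a x y : G}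
    (hzp : z ^ p = 1) (hap : a ^ p = 1) (hza : Commute z a)
    (hx : x ∈ (P : Subgroup G)) (hxz : x * z * x⁻¹ = z) (hxa : x * a * x⁻¹ = z * a)
    (hya : y * a * y⁻¹ = a) (hyz : y * z * y⁻¹ = a * z)
    (hP : ∀ w ∈ (P : Subgroup G), w * z * w⁻¹ = z ∧ ∃ s : ZMod p, w * a * w⁻¹ = zp z s * a)
    {l : ZMod p} (hl : l ≠ 0) :
    ∃ n ∈ normalizer ((P : Subgroup G) : Set G), n * z * n⁻¹ = zp z l ∧ n * a * n⁻¹ = zp a l⁻¹ := by
  let ψ : ZMod p → ZMod p → G := fun i j => zp z i * zp a j
  have ψ_mul : ∀ i j i' j', ψ i j * ψ i' j' = ψ (i + i') (j + j') := by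
    intro i j i' j'
    simp only [ψ, zp_add hzp, zp_add hap]
    exact (commute_zp hza i' j).symm.mul_mul_mul_comm _ _
  have ψ_conj : ∀ (g : G) (i j : ZMod p),
      g * ψ i j * g⁻¹ = zp (g * z * g⁻¹) i * zp (g * a * g⁻¹) j := by
    intro g i j
    simp only [ψ, zp, conj_pow]
    group
  have ψ_zp : ∀ i j k : ZMod p, zp (ψ i j) k = ψ (i * k) (j * k) := by
    intro i j k
    simp only [ψ]
    rw [← zp_mul hzp, ← zp_mul hap]
    exact (commute_zp hza i j).mul_pow _
  have hz' : z = ψ 1 0 := by simp [ψ]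
  have ha' : a = ψ 0 1 := by simp [ψ]
  have act : ∀ (g : G) (i₁ j₁ i₂ j₂ : ZMod p), g * z * g⁻¹ = ψ i₁ j₁ → g * a * g⁻¹ = ψ i₂ j₂ →
      ∀ i j, g * ψ i j * g⁻¹ = ψ (i₁ * i + i₂ * j) (j₁ * i + j₂ * j) := by
    intro g i₁ j₁ i₂ j₂ h1 h2 i j
    rw [ψ_conj, h1, h2, ψ_zp, ψ_zp, ψ_mul]
  have hU1 := act x 1 0 1 1 (by rw [hxz, ← hz']) (by rw [hxa]; simp [ψ])
  have hL1 := act y 1 1 0 1 (by rw [hyz, hza.symm.eq]; simp [ψ]) (by rw [hya, ← ha'])
  have hUn : ∀ n : ℕ, ∀ i j, x ^ n * ψ i j * (x ^ n)⁻¹ = ψ (i + n * j) j := by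
    intro n
    induction n with
    | zero => simp
    | succ n ih =>
      intro i j
      calc x ^ (n + 1) * ψ i j * (x ^ (n + 1))⁻¹ = x ^ n * (x * ψ i j * x⁻¹) * (x ^ n)⁻¹ := by
            rw [pow_succ]; group
        _ = _ := by rw [hU1, ih]; push_cast; congr 1 <;> ring
  have hLn : ∀ n : ℕ, ∀ i j, y ^ n * ψ i j * (y ^ n)⁻¹ = ψ i (j + n * i) := by
    intro n
    induction n with
    | zero => simp
    | succ n ih =>
      intro i j
      calc y ^ (n + 1) * ψ i j * (y ^ (n + 1))⁻¹ = y ^ n * (y * ψ i j * y⁻¹) * (y ^ n)⁻¹ := by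
            rw [pow_succ]; group
        _ = _ := by rw [hL1, ih]; push_cast; congr 1 <;> ring
  let w : ZMod p → G := fun c => x ^ c.val * y ^ (-c⁻¹).val * x ^ c.val
  have hw : ∀ c : ZMod p, c ≠ 0 → ∀ i j, w c * ψ i j * (w c)⁻¹ = ψ (c * j) (-c⁻¹ * i) := by
    intro c hc i j
    calc w c * ψ i j * (w c)⁻¹ = x ^ c.val * (y ^ (-c⁻¹).val * (x ^ c.val * ψ i j * (x ^ c.val)⁻¹) *
          (y ^ (-c⁻¹).val)⁻¹) * (x ^ c.val)⁻¹ := by simp only [w]; group
      _ = _ := by
          rw [hUn, hLn, hUn, ZMod.natCast_zmod_val, ZMod.natCast_zmod_val]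
          congr 1 <;> field_simp <;> ring
  set k := w l * w (-1) with hk
  have hkact : ∀ i j, k * ψ i j * k⁻¹ = ψ (l * i) (l⁻¹ * j) := by
    intro i j
    calc k * ψ i j * k⁻¹ = w l * (w (-1) * ψ i j * (w (-1))⁻¹) * (w l)⁻¹ := by rw [hk]; group
      _ = _ := by
          rw [hw _ (neg_ne_zero.mpr one_ne_zero), hw _ hl]
          congr 1 <;> simp
  set C := centralizer (Set.range fun ij : ZMod p × ZMod p => ψ ij.1 ij.2) with hC
  have memC : ∀ c, c ∈ C ↔ ∀ i j, c * ψ i j * c⁻¹ = ψ i j := by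
    intro c
    rw [hC, mem_centralizer_iff]
    constructor
    · intro h i j
      rw [← h _ ⟨(i, j), rfl⟩, mul_inv_cancel_right]
    · rintro h _ ⟨⟨i, j⟩, rfl⟩
      exact (mul_inv_eq_iff_eq_mul.mp (h i j)).symm
  have hPact : ∀ q ∈ (P : Subgroup G), ∃ s : ZMod p, ∀ i j, q * ψ i j * q⁻¹ = ψ (i + s * j) j := by
    intro q hq
    obtain ⟨h1, s, h2⟩ := hP q hq
    refine ⟨s, fun i j => ?_⟩
    rw [act q 1 0 s 1 (h1.trans hz') (h2.trans (by simp [ψ]))]
    congr 1 <;> ring
  have hPC : (P : Subgroup G) ≤ normalizer (C : Set G) := le_normalizer_of_conj_mem fun q hq c hc => by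
    obtain ⟨s, hs⟩ := hPact q⁻¹ (inv_mem hq)
    rw [memC] at hc ⊢
    intro i j
    have h1 := hs i j
    rw [inv_inv] at h1
    calc q * c * q⁻¹ * ψ i j * (q * c * q⁻¹)⁻¹ = q * (c * (q⁻¹ * ψ i j * q) * c⁻¹) * q⁻¹ := by group
      _ = q * (q⁻¹ * ψ i j * q) * q⁻¹ := by rw [h1, hc]
      _ = ψ i j := by group
  set Y := C ⊔ (P : Subgroup G) with hY
  have hkY : (P : Subgroup G).map (MulAut.conj k).toMonoidHom ≤ Y := by
    rintro _ ⟨q, hq, rfl⟩
    show k * q * k⁻¹ ∈ Y
    obtain ⟨s, hs⟩ := hPact q hq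
    set r := x ^ (s * l ^ 2).val
    have h1 : k * q * k⁻¹ * r⁻¹ ∈ C := by
      rw [memC]
      intro i j
      have hr : r⁻¹ * ψ i j * r = ψ (i - s * l ^ 2 * j) j := by
        have := hUn (s * l ^ 2).val (i - s * l ^ 2 * j) j
        rw [ZMod.natCast_zmod_val, sub_add_cancel] at this
        simp only [r]
        rw [← this]; group
      have hk' : k⁻¹ * ψ (i - s * l ^ 2 * j) j * k = ψ (l⁻¹ * (i - s * l ^ 2 * j)) (l * j) := by
        have := hkact (l⁻¹ * (i - s * l ^ 2 * j)) (l * j)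
        rw [mul_inv_cancel_left₀ hl, inv_mul_cancel_left₀ hl] at this
        rw [← this]; group
      calc k * q * k⁻¹ * r⁻¹ * ψ i j * (k * q * k⁻¹ * r⁻¹)⁻¹
          = k * (q * (k⁻¹ * (r⁻¹ * ψ i j * r) * k) * q⁻¹) * k⁻¹ := by group
        _ = ψ i j := by
            rw [hr, hk', hs, hkact]
            congr 1 <;> field_simp <;> ring
    rw [show k * q * k⁻¹ = k * q * k⁻¹ * r⁻¹ * r by group]
    exact mul_mem (mem_sup_left h1) (mem_sup_right (pow_mem hx _))
  obtain ⟨d, hd, hdP⟩ := H76.exists_conj_mem_sylow (P.subtype (le_sup_right : (P : Subgroup G) ≤ Y)) hkY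
    (P.isPGroup'.map _)
  obtain ⟨c₁, hc₁, s', hs', hd'⟩ := H1.exists_mul_of_mem_sup hPC hd
  subst hd'
  set c' := s'⁻¹ * c₁ * s' with hc'def
  have hc' : c' ∈ C := (mem_normalizer_iff''.mp (hPC hs') c₁).mp hc₁
  refine ⟨c' * k, H11.mem_normalizer_of_forall fun q hq => ?_, ?_, ?_⟩
  · have h1 : s' * c' * (k * q * k⁻¹) * (s' * c')⁻¹ ∈ (P : Subgroup G) := by
      obtain ⟨t, ht, hte⟩ := hdP _ ⟨q, hq, rfl⟩
      rw [show s' * c' = c₁ * s' by rw [hc'def]; group]
      exact hte ▸ ht
    have h2 := mul_mem (mul_mem (inv_mem hs') h1) hs'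
    simpa [mul_assoc] using h2
  · calc c' * k * z * (c' * k)⁻¹ = c' * (k * ψ 1 0 * k⁻¹) * c'⁻¹ := by rw [← hz']; group
      _ = ψ l 0 := by rw [hkact, mul_one, mul_zero, (memC _).mp hc']
      _ = zp z l := by simp [ψ]
  · calc c' * k * a * (c' * k)⁻¹ = c' * (k * ψ 0 1 * k⁻¹) * c'⁻¹ := by rw [← ha']; group
      _ = ψ 0 l⁻¹ := by rw [hkact, mul_one, mul_zero, (memC _).mp hc']
      _ = zp a l⁻¹ := by simp [ψ]

variable (p) in
/-- A residue of multiplicative order `p - 1`. -/
theorem exists_primitive : ∃ l : ZMod p, l ≠ 0 ∧ ∀ n : ℕ, l ^ n = 1 → p - 1 ∣ n := by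
  obtain ⟨u, hu⟩ := IsCyclic.exists_generator (α := (ZMod p)ˣ)
  refine ⟨(u : ZMod p), Units.ne_zero u, fun n hn => ?_⟩
  have h1 : orderOf u = p - 1 := by
    rw [orderOf_eq_card_of_forall_mem_zpowers hu, Nat.card_eq_fintype_card, ZMod.card_units]
  rw [← h1]
  refine orderOf_dvd_of_pow_eq_one (Units.ext ?_)
  simpa using hn

/-- A vector annihilated by a nonzero one under `det2` is a multiple of it. -/
theorem exists_smul_of_det2 {e f : Fin 2 → ZMod p} (he : e ≠ 0) (h : det2 f e = 0) :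
    ∃ c : ZMod p, f = c • e := by
  unfold det2 at h
  by_cases h0 : e 0 = 0
  · have h1 : e 1 ≠ 0 := fun h1 => he (by ext j; fin_cases j <;> assumption)
    refine ⟨f 1 / e 1, ?_⟩
    rw [h0, mul_zero, sub_zero] at h
    ext j; fin_cases j <;> simp [h0, h1, (mul_eq_zero.mp h).resolve_right h1]
  · refine ⟨f 0 / e 0, ?_⟩
    ext j; fin_cases j <;> simp [h0]
    field_simp
    linear_combination -h

/-- The bound on the number of subgroups of order `p²` carrying two transvections. -/
theorem card_le (hp : p ≠ 2) (P : Sylow p G) (F : Frame ↥(P : Subgroup G) p) {ι : Type*} [Fintype ι]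
    (a : ι → ↥(P : Subgroup G)) (hind : ∀ i j, i ≠ j → det2 (F.coord (a i)) (F.coord (a j)) ≠ 0)
    (hne : ∀ i, a i ∉ center ↥(P : Subgroup G))
    (hy : ∀ i, ∃ y : G, y * (a i : G) * y⁻¹ = a i ∧ y * (F.z : G) * y⁻¹ = (a i : G) * F.z)
    {l : ZMod p} (hl : l ≠ 0) {m : ℕ} (hm : 4 ≤ m) (hlm : ∀ k, 0 < k → k < m → l ^ (3 * k) ≠ 1) :
    Fintype.card ι ≤ 12 ∧ (6 ≤ m → Fintype.card ι ≤ 2) := by
  classical
  have hpr : p.Prime := Fact.out
  set N := normalizer ((P : Subgroup G) : Set G) with hN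
  let ρ : N →* GL (Fin 2) (ZMod p) := (F.rep.comp (P : Subgroup G).normalizerMonoidHom).toHomUnits
  have hdiag : ∀ i, ∃ n : N, ((P : Subgroup G).normalizerMonoidHom n) F.z = zp F.z l ∧
      ((P : Subgroup G).normalizerMonoidHom n) (a i) = zp (a i) l⁻¹ := by
    intro i
    obtain ⟨y, hy1, hy2⟩ := hy i
    have hzc : ∀ w : ↥(P : Subgroup G), w * F.z * w⁻¹ = F.z := fun w => by
      rw [mem_center_iff.mp F.z_center w, mul_inv_cancel_right]
    have hcomm : ∀ w : ↥(P : Subgroup G), w * a i * w⁻¹ = zp F.z (det2 (F.coord w) (F.coord (a i))) * a i :=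
      fun w => by rw [← F.comm, commutatorElement_def, inv_mul_cancel_right]
    obtain ⟨x, hx⟩ : ∃ x : ↥(P : Subgroup G), det2 (F.coord x) (F.coord (a i)) = 1 := by
      by_cases h1 : F.coord (a i) 1 = 0
      · have h0 : F.coord (a i) 0 ≠ 0 := fun h0 => hne i ((F.coord_eq_zero _).mp (by
          ext j; fin_cases j
          · exact h0
          · exact h1))
        refine ⟨zp F.v (-(F.coord (a i) 0)⁻¹), ?_⟩
        rw [F.coord_zp, F.coord_v]
        simp [det2, h0]
      · refine ⟨zp F.u (F.coord (a i) 1)⁻¹, ?_⟩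
        rw [F.coord_zp, F.coord_u]
        simp [det2, h1]
    have hpw : ∀ w : ↥(P : Subgroup G), (w : G) ^ p = 1 := fun w => by
      rw [← Subgroup.coe_pow, F.pow_p]; rfl
    have cz : ∀ (w : ↥(P : Subgroup G)) (s : ZMod p), ((zp w s : ↥(P : Subgroup G)) : G) = zp (w : G) s :=
      fun w s => map_zp (P : Subgroup G).subtype w s
    obtain ⟨n, hn, hnz, hna⟩ := exists_diagonal P (hpw (F.z)) (hpw (a i))
      (congrArg Subtype.val (mem_center_iff.mp F.z_center (a i)).symm) x.2
      (congrArg Subtype.val (hzc x))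
      (by
        have h := congrArg Subtype.val (hcomm x)
        rw [hx, zp_one] at h
        exact h)
      hy1 hy2
      (fun w hw => ⟨congrArg Subtype.val (hzc ⟨w, hw⟩), det2 (F.coord ⟨w, hw⟩) (F.coord (a i)), by
        have h := congrArg Subtype.val (hcomm ⟨w, hw⟩)
        simpa [cz] using h⟩) hl
    refine ⟨⟨n, hn⟩, Subtype.ext ?_, Subtype.ext ?_⟩
    · rw [cz]; exact hnz
    · rw [cz]; exact hna
  choose n hnz hna using hdiag
  set H := ρ.range ⊔ scalars p with hH
  have hcop : ∀ g ∈ H, (orderOf g).Coprime p := by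
    intro g hg
    haveI : (scalars p).Normal := ⟨fun s hs t => by
      rw [mem_center_iff.mp (scalars_le_center hs) t, mul_inv_cancel_right]; exact hs⟩
    obtain ⟨r, hr, s, hs, rfl⟩ := mem_sup_of_normal_right.mp hg
    have h1 : r ^ Nat.card ρ.range = 1 := by
      have := congrArg Subtype.val (pow_card_eq_one' (G := ρ.range) (x := ⟨r, hr⟩))
      simpa using this
    have h2 : (r * s) ^ (Nat.card ρ.range * (p - 1)) = 1 := by
      rw [(show Commute r s from mem_center_iff.mp (scalars_le_center hs) r).mul_pow, pow_mul r, h1,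
        one_pow, one_mul, mul_comm, pow_mul, scalars_pow hs, one_pow]
    refine Nat.Coprime.coprime_dvd_left (orderOf_dvd_of_pow_eq_one h2) (Nat.Coprime.mul_left ?_ ?_)
    · refine Nat.coprime_comm.mp (hpr.coprime_iff_not_dvd.mpr fun hd => ?_)
      have hker : (P : Subgroup G).subgroupOf N ≤ ρ.ker := fun q hq => Units.ext (by
        have e : (P : Subgroup G).normalizerMonoidHom q = MulAut.conj ⟨(q : G), mem_subgroupOf.mp hq⟩ :=
          MulEquiv.ext fun w => Subtype.ext rfl
        show F.mat ((P : Subgroup G).normalizerMonoidHom q) = 1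
        rw [e, F.mat_conj])
      have h3 : Nat.card ρ.range ∣ (P : Subgroup G).relIndex N := by
        rw [← index_ker ρ]; exact index_dvd_of_le hker
      refine P.not_dvd_index (hd.trans (h3.trans ?_))
      exact ⟨N.index, (relIndex_mul_index le_normalizer).symm⟩
    · refine Nat.coprime_comm.mp (hpr.coprime_iff_not_dvd.mpr fun hd => ?_)
      have := Nat.le_of_dvd (Nat.sub_pos_of_lt hpr.one_lt) hd
      have := hpr.two_le
      omega
  let g : ι → H := fun i => ⟨ρ (n i), mem_sup_left ⟨n i, rfl⟩⟩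
  have hval : ∀ i, (g i : GL (Fin 2) (ZMod p)).val = F.mat ((P : Subgroup G).normalizerMonoidHom (n i)) :=
    fun i => rfl
  have heig : ∀ i, (g i : GL (Fin 2) (ZMod p)).val *ᵥ F.coord (a i) = l⁻¹ • F.coord (a i) := fun i => by
    rw [hval, ← F.coord_apply, hna, F.coord_zp]
  refine card_lines_le hp hcop g (fun i => F.coord (a i)) (fun _ => l⁻¹) heig hind hm ?_
  intro i k hk hkm hsc
  set M := (g i : GL (Fin 2) (ZMod p)).val with hM
  have hdet : M.det = l := by rw [hM, hval, F.det_mat _ (hnz i)]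
  have heigk : ∀ k : ℕ, (M ^ k) *ᵥ F.coord (a i) = (l⁻¹) ^ k • F.coord (a i) := by
    intro k
    induction k with
    | zero => simp
    | succ k ih => rw [pow_succ, ← Matrix.mulVec_mulVec, hM, heig, Matrix.mulVec_smul, ← hM, ih,
        smul_smul, pow_succ']
  have hk0 : (M ^ k) 0 0 = (l⁻¹) ^ k := by
    obtain ⟨h01, h10, h11⟩ := hsc
    have e0 := congrFun (heigk k) 0
    have e1 := congrFun (heigk k) 1
    simp [Matrix.mulVec, dotProduct, Fin.sum_univ_two, h01, h10, ← h11] at e0 e1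
    by_cases h : F.coord (a i) 0 = 0
    · have h' : F.coord (a i) 1 ≠ 0 := fun h' => hne i ((F.coord_eq_zero _).mp (by
        ext j; fin_cases j
        · exact h
        · exact h'))
      simpa [h'] using e1
    · simpa [h] using e0
  have hd : (M ^ k).det = ((l⁻¹) ^ k) ^ 2 := by
    rw [Matrix.det_fin_two, hsc.1, hsc.2.1, ← hsc.2.2, hk0]; ring
  rw [Matrix.det_pow, hdet, inv_pow] at hd
  apply hlm k hk hkm
  have hlk : l ^ k ≠ 0 := pow_ne_zero _ hl
  rw [mul_comm 3, pow_mul]
  field_simp at hd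
  linear_combination hd

end groups

end H79.ExtraspecialTori
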