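import Cfsg.Agent.H79.FusionControl

/-!
Control of strong fusion from factorizations in normalizers of a conjugation closed class of subgroups
containing all those over `Z(P)`.
-/

set_option autoImplicit false

namespace H79

open Subgroup

variable {G : Type*} [Group G] [Finite G] {p : ℕ} [Fact p.Prime]

/-- The normalizer of `T` in `P` normalizes `T C_P(T)`. -/
theorem inf_normalizer_le_sup (P : Subgroup G) {T : Subgroup G} (hTP : T ≤ P) :
    P ⊓ normalizer (T : Set G) ≤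
      P ⊓ normalizer ((T ⊔ (P ⊓ centralizer (T : Set G)) : Subgroup G) : Set G) := by
  refine le_inf inf_le_left fun r hr => ?_
  have key : ∀ r ∈ P ⊓ normalizer (T : Set G),
      (T ⊔ (P ⊓ centralizer (T : Set G))).map (MulAut.conj r).toMonoidHom ≤
        T ⊔ (P ⊓ centralizer (T : Set G)) := by
    intro r hr
    rw [Subgroup.map_sup]
    refine sup_le (le_sup_of_le_left ?_) (le_sup_of_le_right ?_)
    · rintro _ ⟨t, ht, rfl⟩
      exact (mem_normalizer_iff.mp hr.2 t).mp ht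
    · rintro _ ⟨x, hx, rfl⟩
      refine ⟨P.mul_mem (P.mul_mem hr.1 hx.1) (P.inv_mem hr.1), mem_centralizer_iff.mpr fun t ht => ?_⟩
      show t * (r * x * r⁻¹) = r * x * r⁻¹ * t
      have h1 : r⁻¹ * t * r ∈ T := by
        have := (mem_normalizer_iff.mp (inv_mem hr.2) t).mp ht
        simpa using this
      have h2 := mem_centralizer_iff.mp hx.2 _ h1
      calc t * (r * x * r⁻¹) = r * ((r⁻¹ * t * r) * x) * r⁻¹ := by group
        _ = r * (x * (r⁻¹ * t * r)) * r⁻¹ := by rw [h2]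
        _ = r * x * r⁻¹ * t := by group
  exact mem_normalizer_iff_map_conj_eq.mpr (eq_of_le_of_card_ge (key r hr)
    (by rw [card_map_of_injective (MulAut.conj r).injective]))

/-- Frattini argument on the centralizer of a fully normalized subgroup. -/
theorem Full.exists_factor (P : Sylow p G) {T : Subgroup G} (hT : Full p (P : Subgroup G) T)
    (hTP : T ≤ (P : Subgroup G)) (c : G) (hc : c ∈ normalizer (T : Set G)) :
    ∃ m ∈ normalizer ((T ⊔ ((P : Subgroup G) ⊓ centralizer (T : Set G)) : Subgroup G) : Set G),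
      ∀ t ∈ T, c * t * c⁻¹ = m * t * m⁻¹ := by
  set K := centralizer (T : Set G) with hK
  set R := (P : Subgroup G) ⊓ K with hR
  have hKN : K ≤ normalizer (T : Set G) := centralizer_le_normalizer _
  obtain ⟨S, hS⟩ := ((P.isPGroup'.to_inf_left (K := K)).comap_of_injective K.subtype
    K.subtype_injective).exists_le_sylow
  have hRS : R = (S : Subgroup K).map K.subtype := by
    have hle : R ≤ (S : Subgroup K).map K.subtype := fun x hx => ⟨⟨x, hx.2⟩, hS hx, rfl⟩
    refine eq_of_le_of_card_ge hle ?_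
    obtain ⟨d, hd, hdS⟩ := hT.exists_conj P.isPGroup' (S.isPGroup'.map _)
      ((map_subtype_le _).trans hKN)
    refine Nat.card_le_card_of_injective (fun y : (S : Subgroup K).map K.subtype =>
      (⟨d * y * d⁻¹, (hdS y y.2).1, ?_⟩ : R)) ?_
    · refine mem_centralizer_iff.mpr fun t ht => ?_
      have h1 : d⁻¹ * t * d ∈ T := by
        have := (mem_normalizer_iff.mp (inv_mem hd) t).mp ht
        simpa using this
      have h2 := mem_centralizer_iff.mp (map_subtype_le _ y.2) _ h1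
      calc t * (d * (y : G) * d⁻¹) = d * ((d⁻¹ * t * d) * y) * d⁻¹ := by group
        _ = d * (y * (d⁻¹ * t * d)) * d⁻¹ := by rw [h2]
        _ = d * y * d⁻¹ * t := by group
    · intro a b h
      exact Subtype.ext (mul_left_cancel (mul_right_cancel (congrArg Subtype.val h :)))
  have hcR : R.map (MulAut.conj c).toMonoidHom ≤ K := by
    rintro _ ⟨x, hx, rfl⟩
    refine mem_centralizer_iff.mpr fun t ht => ?_
    show t * (c * x * c⁻¹) = c * x * c⁻¹ * t
    have h1 : c⁻¹ * t * c ∈ T := by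
      have := (mem_normalizer_iff.mp (inv_mem hc) t).mp ht
      simpa using this
    have h2 := mem_centralizer_iff.mp hx.2 _ h1
    calc t * (c * x * c⁻¹) = c * ((c⁻¹ * t * c) * x) * c⁻¹ := by group
      _ = c * (x * (c⁻¹ * t * c)) * c⁻¹ := by rw [h2]
      _ = c * x * c⁻¹ * t := by group
  obtain ⟨k, hk, hkS⟩ := H76.exists_conj_mem_sylow S hcR (P.isPGroup'.to_inf_left.map _)
  refine ⟨k * c, mem_normalizer_iff_map_conj_eq.mpr (eq_of_le_of_card_ge ?_
    (by rw [card_map_of_injective (MulAut.conj (k * c)).injective])), fun t ht => ?_⟩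
  · rw [Subgroup.map_sup]
    refine sup_le (le_sup_of_le_left ?_) (le_sup_of_le_right ?_)
    · rintro _ ⟨t, ht, rfl⟩
      show k * c * t * (k * c)⁻¹ ∈ T
      rw [show k * c * t * (k * c)⁻¹ = k * (c * t * c⁻¹) * k⁻¹ by group]
      exact (mem_normalizer_iff.mp (hKN hk) _).mp ((mem_normalizer_iff.mp hc t).mp ht)
    · rintro _ ⟨x, hx, rfl⟩
      show k * c * x * (k * c)⁻¹ ∈ R
      rw [show k * c * x * (k * c)⁻¹ = k * (c * x * c⁻¹) * k⁻¹ by group]
      exact hRS ▸ hkS _ ⟨x, hx, rfl⟩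
  · have h1 : c * t * c⁻¹ ∈ T := (mem_normalizer_iff.mp hc t).mp ht
    have h2 := mem_centralizer_iff.mp hk _ h1
    calc c * t * c⁻¹ = k * (c * t * c⁻¹) * k⁻¹ := by rw [← h2]; group
      _ = _ := by group

/-- From local factorizations to control of strong fusion. -/
theorem induced_of_local_class (P : Sylow p G) (C : Subgroup G → Prop)
    (hCc : ∀ (T : Subgroup G) (g : G), C T → C (T.map (MulAut.conj g).toMonoidHom))
    (hC0 : ∀ T : Subgroup G, T ≤ (P : Subgroup G) →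
      (P : Subgroup G) ⊓ centralizer ((P : Subgroup G) : Set G) ≤ T → C T) (F : Subgroup G → Subgroup G)
    (hle : ∀ S : Subgroup G, S ≤ (P : Subgroup G) → F S ≤ S)
    (hnorm : ∀ S : Subgroup G, S ≤ (P : Subgroup G) →
      normalizer (S : Set G) ≤ normalizer (F S : Set G))
    (hne : ∀ T : Subgroup G, T ≤ (P : Subgroup G) → C T → Full p (P : Subgroup G) T →
      C (F ((P : Subgroup G) ⊓ normalizer (T : Set G))))
    (hloc : ∀ T : Subgroup G, T ≤ (P : Subgroup G) → C T → Full p (P : Subgroup G) T →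
      ∀ n ∈ normalizer (T : Set G), ∀ U ≤ (P : Subgroup G) ⊓ normalizer (T : Set G),
        (∀ u ∈ U, n * u * n⁻¹ ∈ (P : Subgroup G) ⊓ normalizer (T : Set G)) →
        ∃ m ∈ normalizer (T : Set G) ⊓
            normalizer (F ((P : Subgroup G) ⊓ normalizer (T : Set G)) : Set G),
          ∀ u ∈ U, n * u * n⁻¹ = m * u * m⁻¹) :
    ∀ U : Subgroup G, U ≤ (P : Subgroup G) → ∀ g : G, (∀ u ∈ U, g * u * g⁻¹ ∈ (P : Subgroup G)) →
      Induced (F (P : Subgroup G)) U g := by
  suffices main : ∀ m k : ℕ, Nat.card (P : Subgroup G) + 1 ≤ k + m →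
      (∀ U : Subgroup G, U ≤ (P : Subgroup G) → k ≤ Nat.card U → ∀ g : G,
        (∀ u ∈ U, g * u * g⁻¹ ∈ (P : Subgroup G)) → Induced (F (P : Subgroup G)) U g) ∧
      (∀ T : Subgroup G, T ≤ (P : Subgroup G) → C T → Full p (P : Subgroup G) T →
        k ≤ Nat.card ↥((P : Subgroup G) ⊓ normalizer (T : Set G)) →
        ∀ n ∈ normalizer (T : Set G), ∀ U ≤ (P : Subgroup G) ⊓ normalizer (T : Set G),
          (∀ u ∈ U, n * u * n⁻¹ ∈ (P : Subgroup G) ⊓ normalizer (T : Set G)) →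
          Induced (F (P : Subgroup G)) U n) by
    intro U hU
    exact (main _ 0 (by rw [zero_add])).1 U hU (Nat.zero_le _)
  intro m
  induction m with
  | zero =>
    intro k hk
    refine ⟨fun U hU hkU => ?_, fun T _ _ _ hkT => ?_⟩
    · have := card_le_of_le hU
      omega
    · have := card_le_of_le (show (P : Subgroup G) ⊓ normalizer (T : Set G) ≤ P from inf_le_left)
      omega
  | succ m ih =>
    intro k hk
    obtain ⟨ihA, ihB⟩ := ih (k + 1) (by omega)
    refine ⟨fun U hU hkU g hg => ?_, fun T hT hT1 hTf hkT n hn U hU hnU => ?_⟩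
    · by_cases hlt : k + 1 ≤ Nat.card U
      · exact ihA U hU hlt g hg
      have hcard : Nat.card U = k := by omega
      by_cases hU1 : U = ⊥
      · refine ⟨1, one_mem _, fun u hu => ?_⟩
        rw [hU1, mem_bot] at hu
        simp [hu]
      by_cases hUP : U = (P : Subgroup G)
      · subst hUP
        refine ⟨g, hnorm _ le_rfl ?_, fun u _ => rfl⟩
        exact mem_normalizer_iff_map_conj_eq.mpr (eq_of_le_of_card_ge
          (by rintro _ ⟨u, hu, rfl⟩; exact hg u hu)
          (by rw [card_map_of_injective (MulAut.conj g).injective]))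
      obtain ⟨h, hh, hfull⟩ := exists_full_conj P hU
      set T := U.map (MulAut.conj h).toMonoidHom with hTdef
      have hTP : T ≤ (P : Subgroup G) := by
        rintro _ ⟨u, hu, rfl⟩
        exact hh u ⟨hU hu, le_normalizer hu⟩
      have hT1 : T ≠ ⊥ := fun h0 =>
        hU1 ((map_eq_bot_iff_of_injective _ (MulAut.conj h).injective).mp h0)
      have hlt1 := lt_inf_normalizer_of_lt P.isPGroup' (lt_of_le_of_ne hU hUP)
      obtain ⟨x₁, hx₁, hx₁'⟩ := ihA _ inf_le_left
        (by have := Set.Finite.card_lt_card (Set.toFinite _) (SetLike.coe_ssubset_coe.mpr hlt1)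
            exact hcard ▸ this) h hh
      set U₂ := U.map (MulAut.conj g).toMonoidHom with hU₂
      have hU₂P : U₂ ≤ (P : Subgroup G) := by
        rintro _ ⟨u, hu, rfl⟩
        exact hg u hu
      have hcard₂ : Nat.card U₂ = k := by
        rw [hU₂, card_map_of_injective (MulAut.conj g).injective, hcard]
      have hU₂P' : U₂ ≠ (P : Subgroup G) := fun e => by
        apply hUP
        refine eq_of_le_of_card_ge hU ?_
        rw [hcard, ← hcard₂, e]
      have hlt2 := lt_inf_normalizer_of_lt P.isPGroup' (lt_of_le_of_ne hU₂P hU₂P')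
      have hk2 : k + 1 ≤ Nat.card ↥((P : Subgroup G) ⊓ normalizer (U₂ : Set G)) := by
        have := Set.Finite.card_lt_card (Set.toFinite _) (SetLike.coe_ssubset_coe.mpr hlt2)
        exact hcard₂ ▸ this
      have hmove : ((P : Subgroup G) ⊓ normalizer (U₂ : Set G)).map
          (MulAut.conj (h * g⁻¹)).toMonoidHom ≤ normalizer (T : Set G) := by
        have h1 := conj_map_le_normalizer (T := U₂) (h * g⁻¹)
          (show (P : Subgroup G) ⊓ normalizer (U₂ : Set G) ≤ _ from inf_le_right)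
        rwa [hU₂, map_map, show ((MulAut.conj (h * g⁻¹)).toMonoidHom.comp
          (MulAut.conj g).toMonoidHom) = (MulAut.conj h).toMonoidHom from
            MonoidHom.ext fun x => by simp [mul_assoc]] at h1
      obtain ⟨c, hc, hcmem⟩ := hfull.exists_conj P.isPGroup'
        (P.isPGroup'.to_inf_left.map _) hmove
      obtain ⟨x₃, hx₃, hx₃'⟩ := ihA _ inf_le_left hk2 (c * (h * g⁻¹)) (fun r hr => by
        show c * (h * g⁻¹) * r * (c * (h * g⁻¹))⁻¹ ∈ (P : Subgroup G)
        have := mem_inf.mp (hcmem _ ⟨r, hr, rfl⟩)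
        simpa [mul_assoc] using this.1)
      have hmem2 : ∀ u ∈ U, g * u * g⁻¹ ∈ (P : Subgroup G) ⊓ normalizer (U₂ : Set G) :=
        fun u hu => ⟨hg u hu, le_normalizer ⟨u, hu, rfl⟩⟩
      have hkT : k + 1 ≤ Nat.card ↥((P : Subgroup G) ⊓ normalizer (T : Set G)) :=
        le_trans hk2 ((card_map_of_injective (MulAut.conj (h * g⁻¹)).injective).symm.trans_le
          (hfull _ (P.isPGroup'.to_inf_left.map _) hmove))
      obtain ⟨m₀, hm₀, hm₀T⟩ := hfull.exists_factor P hTP c hc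
      set T₂ := T ⊔ ((P : Subgroup G) ⊓ centralizer (T : Set G)) with hT₂def
      have hT₂P : T₂ ≤ (P : Subgroup G) := sup_le hTP inf_le_left
      have hC₂ : C T₂ := hC0 T₂ hT₂P (le_trans
        (inf_le_inf_left _ (centralizer_le hTP)) le_sup_right)
      obtain ⟨h₂, hh₂, hfull₂⟩ := exists_full_conj P hT₂P
      set W₁ := T₂.map (MulAut.conj h₂).toMonoidHom with hW₁
      have hW₁P : W₁ ≤ (P : Subgroup G) := by
        rintro _ ⟨w, hw, rfl⟩
        exact hh₂ w ⟨hT₂P hw, le_normalizer hw⟩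
      have hNle := inf_normalizer_le_sup (P : Subgroup G) hTP
      have hk3 : k + 1 ≤ Nat.card ↥((P : Subgroup G) ⊓ normalizer (T₂ : Set G)) :=
        le_trans hkT (card_le_of_le hNle)
      obtain ⟨y₁, hy₁, hy₁'⟩ := ihA _ inf_le_left hk3 h₂ hh₂
      have hconj : ∀ r ∈ normalizer (T₂ : Set G), h₂ * r * h₂⁻¹ ∈ normalizer (W₁ : Set G) :=
        fun r hr => le_normalizer_map _ ⟨r, hr, rfl⟩
      have hTR : ∀ t ∈ T, t ∈ (P : Subgroup G) ⊓ normalizer (T₂ : Set G) :=
        fun t ht => hNle ⟨hTP ht, le_normalizer ht⟩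
      have hcT : ∀ t ∈ T, c * t * c⁻¹ ∈ T := fun t ht => (mem_normalizer_iff.mp hc t).mp ht
      obtain ⟨y₂, hy₂, hy₂'⟩ := ihB W₁ hW₁P (hCc _ h₂ hC₂) hfull₂
        (le_trans hk3 ((card_map_of_injective (MulAut.conj h₂).injective).symm.trans_le
          (hfull₂ _ (P.isPGroup'.to_inf_left.map _) (conj_map_le_normalizer h₂ inf_le_right))))
        (h₂ * m₀ * h₂⁻¹) (hconj m₀ hm₀) (T.map (MulAut.conj h₂).toMonoidHom)
        (by
          rintro _ ⟨t, ht, rfl⟩
          exact ⟨hh₂ t (hTR t ht), hconj t (hTR t ht).2⟩)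
        (by
          rintro _ ⟨t, ht, rfl⟩
          show h₂ * m₀ * h₂⁻¹ * (h₂ * t * h₂⁻¹) * (h₂ * m₀ * h₂⁻¹)⁻¹ ∈ _
          rw [show h₂ * m₀ * h₂⁻¹ * (h₂ * t * h₂⁻¹) * (h₂ * m₀ * h₂⁻¹)⁻¹ =
            h₂ * (c * t * c⁻¹) * h₂⁻¹ by rw [hm₀T t ht]; group]
          exact ⟨hh₂ _ (hTR _ (hcT t ht)), hconj _ (hTR _ (hcT t ht)).2⟩)
      obtain ⟨x₂, hx₂, hx₂'⟩ : Induced (F (P : Subgroup G)) T c := by
        refine ⟨y₁⁻¹ * y₂ * y₁, mul_mem (mul_mem (inv_mem hy₁) hy₂) hy₁, fun t ht => ?_⟩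
        have e1 := hy₁' t (hTR t ht)
        have e3 := hy₁' (c * t * c⁻¹) (hTR _ (hcT t ht))
        have e2 := hy₂' (h₂ * t * h₂⁻¹) ⟨t, ht, rfl⟩
        have e4 : c * t * c⁻¹ =
            y₁⁻¹ * (h₂ * m₀ * h₂⁻¹ * (h₂ * t * h₂⁻¹) * (h₂ * m₀ * h₂⁻¹)⁻¹) * y₁ := by
          have : y₁ * (c * t * c⁻¹) * y₁⁻¹ =
              h₂ * m₀ * h₂⁻¹ * (h₂ * t * h₂⁻¹) * (h₂ * m₀ * h₂⁻¹)⁻¹ := by
            rw [← e3, hm₀T t ht]; group
          rw [← this]; group
        rw [e4, e2, e1]; group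
      refine ⟨x₃⁻¹ * x₂ * x₁, mul_mem (mul_mem (inv_mem hx₃) hx₂) hx₁, fun u hu => ?_⟩
      have e1 := hx₁' u ⟨hU hu, le_normalizer hu⟩
      have e3 := hx₃' _ (hmem2 u hu)
      have e2 := hx₂' (h * u * h⁻¹) ⟨u, hu, rfl⟩
      have e4 : g * u * g⁻¹ = x₃⁻¹ * (c * (h * u * h⁻¹) * c⁻¹) * x₃ := by
        have : x₃ * (g * u * g⁻¹) * x₃⁻¹ = c * (h * u * h⁻¹) * c⁻¹ := by rw [← e3]; group
        rw [← this]; group
      rw [e4, e2, e1]; group
    · by_cases hlt : k + 1 ≤ Nat.card ↥((P : Subgroup G) ⊓ normalizer (T : Set G))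
      · exact ihB T hT hT1 hTf hlt n hn U hU hnU
      set S := (P : Subgroup G) ⊓ normalizer (T : Set G) with hS
      have hcard : Nat.card S = k := by omega
      obtain ⟨m', hm', hm''⟩ := hloc T hT hT1 hTf n hn U hU hnU
      by_cases hSP : S = (P : Subgroup G)
      · exact ⟨m', hSP ▸ hm'.2, hm''⟩
      set W₀ := F S with hW₀
      have hW₀P : W₀ ≤ (P : Subgroup G) := (hle S inf_le_left).trans inf_le_left
      have hlt' : S < (P : Subgroup G) ⊓ normalizer (W₀ : Set G) := by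
        refine lt_of_lt_of_le (lt_inf_normalizer_of_lt P.isPGroup' (lt_of_le_of_ne inf_le_left hSP)) ?_
        exact inf_le_inf_left _ (hnorm S inf_le_left)
      obtain ⟨h, hh, hfull⟩ := exists_full_conj P hW₀P
      set W₁ := W₀.map (MulAut.conj h).toMonoidHom with hW₁
      have hk1 : k + 1 ≤ Nat.card ↥((P : Subgroup G) ⊓ normalizer (W₀ : Set G)) := by
        have := Set.Finite.card_lt_card (Set.toFinite _) (SetLike.coe_ssubset_coe.mpr hlt')
        exact hcard ▸ this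
      obtain ⟨x₁, hx₁, hx₁'⟩ := ihA _ inf_le_left hk1 h hh
      have hconj : ∀ r ∈ normalizer (W₀ : Set G), h * r * h⁻¹ ∈ normalizer (W₁ : Set G) :=
        fun r hr => le_normalizer_map _ ⟨r, hr, rfl⟩
      have hW₁P : W₁ ≤ (P : Subgroup G) := by
        rintro _ ⟨w, hw, rfl⟩
        exact hh w ⟨hW₀P hw, le_normalizer hw⟩
      have hW₁1 : C W₁ := hCc _ h (hne T hT hT1 hTf)
      have hUR : ∀ u ∈ U, u ∈ (P : Subgroup G) ⊓ normalizer (W₀ : Set G) :=
        fun u hu => hlt'.le (hU hu)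
      obtain ⟨x₂, hx₂, hx₂'⟩ := ihB W₁ hW₁P hW₁1 hfull
        (le_trans hk1 ((card_map_of_injective (MulAut.conj h).injective).symm.trans_le
          (hfull _ (P.isPGroup'.to_inf_left.map _) (conj_map_le_normalizer h inf_le_right))))
        (h * m' * h⁻¹) (hconj m' hm'.2) (U.map (MulAut.conj h).toMonoidHom)
        (by
          rintro _ ⟨u, hu, rfl⟩
          exact ⟨hh u (hUR u hu), hconj u (hUR u hu).2⟩)
        (by
          rintro _ ⟨u, hu, rfl⟩
          show h * m' * h⁻¹ * (h * u * h⁻¹) * (h * m' * h⁻¹)⁻¹ ∈ _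
          have e : h * m' * h⁻¹ * (h * u * h⁻¹) * (h * m' * h⁻¹)⁻¹ = h * (n * u * n⁻¹) * h⁻¹ := by
            rw [hm'' u hu]; group
          rw [e]
          have h2 := hlt'.le (hnU u hu)
          exact ⟨hh _ h2, hconj _ h2.2⟩)
      refine ⟨x₁⁻¹ * x₂ * x₁, mul_mem (mul_mem (inv_mem hx₁) hx₂) hx₁, fun u hu => ?_⟩
      have e1 := hx₁' u (hUR u hu)
      have e3 := hx₁' (n * u * n⁻¹) (hlt'.le (hnU u hu))
      have e2 := hx₂' (h * u * h⁻¹) ⟨u, hu, rfl⟩
      have e4 : n * u * n⁻¹ =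
          x₁⁻¹ * (h * m' * h⁻¹ * (h * u * h⁻¹) * (h * m' * h⁻¹)⁻¹) * x₁ := by
        have : x₁ * (n * u * n⁻¹) * x₁⁻¹ = h * m' * h⁻¹ * (h * u * h⁻¹) * (h * m' * h⁻¹)⁻¹ := by
          rw [← e3, hm'' u hu]; group
        rw [← this]; group
      rw [e4, e2, e1]; group

end H79
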