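import Cfsg.Agent.CompLayer
import Cfsg.Agent.H1.CoprimeAction
import Cfsg.Agent.H1.Cores
import Cfsg.Agent.H5.PResidual
import Cfsg.Agent.H74.McBride
import Cfsg.Prelude.Def_LocalEven

/-!
Isolated `p`-minimal subgroups: generation, and the dichotomy for normal subgroups modulo `O_p(G)`.
-/

set_option autoImplicit false
set_option linter.unusedSectionVars false
set_option linter.style.haveILetI false

namespace H79.Isolated

open Subgroup

variable {G : Type*} [Group G] [Finite G] {p : ℕ} [hp : Fact p.Prime]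

/-- An element of order prime to `p` in the product of a subgroup and a normalising `p`-group. -/
theorem mem_of_mem_sup {U T : Subgroup G} (hT : IsPGroup p T) (hTU : T ≤ normalizer (U : Set G))
    {g : G} (hg : g ∈ U ⊔ T) (hc : (orderOf g).Coprime p) : g ∈ U := by
  set H := U ⊔ T
  haveI : (U.subgroupOf H).Normal :=
    (normal_subgroupOf_iff_le_normalizer le_sup_left).mpr (sup_le le_normalizer hTU)
  set f := QuotientGroup.mk' (U.subgroupOf H)
  have htop : (T.subgroupOf H).map f = ⊤ := by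
    rw [← comap_injective (QuotientGroup.mk'_surjective (U.subgroupOf H)) |>.eq_iff,
      comap_map_eq, QuotientGroup.ker_mk', comap_top, ← subgroupOf_sup le_sup_right le_sup_left,
      sup_comm, subgroupOf_self]
  obtain ⟨x, hx, hxe⟩ := (htop.symm ▸ mem_top (f ⟨g, hg⟩) : f ⟨g, hg⟩ ∈ (T.subgroupOf H).map f)
  obtain ⟨k, hk⟩ := IsPGroup.iff_orderOf.mp hT ⟨(x : G), hx⟩
  rw [← orderOf_coe] at hk
  change orderOf (x : G) = p ^ k at hk
  rw [orderOf_coe] at hk
  have h1 : orderOf (f ⟨g, hg⟩) ∣ p ^ k := by rw [← hxe, ← hk]; exact orderOf_map_dvd f x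
  have h2 : orderOf (f ⟨g, hg⟩) ∣ orderOf g := by
    rw [← orderOf_mk g hg]; exact orderOf_map_dvd f _
  have h3 := Nat.eq_one_of_dvd_coprimes (hc.pow_right k) h2 h1
  exact mem_subgroupOf.mp ((QuotientGroup.eq_one_iff (⟨g, hg⟩ : H)).mp (orderOf_eq_one_iff.mp h3))

/-- A `p`-subgroup of a subnormal subgroup normalised by it lies in `O_p(G)`. -/
theorem le_pCore_of_subnormal_le {U T : Subgroup G} (hU : U.IsSubnormal) (hTU : T ≤ U)
    (hn : U ≤ normalizer (T : Set G)) (hT : IsPGroup p T) : T ≤ Cfsg.pCore p G :=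
  Cfsg.Comp.le_pCore_of_subnormal
    (IsSubnormal.trans hTU (Normal.isSubnormal ((normal_subgroupOf_iff_le_normalizer hTU).mpr hn)) hU) hT

theorem isPGroup_image {A : Type*} [Group A] {T : Subgroup G} (hT : IsPGroup p T) (f : G →* A) :
    IsPGroup p (T.map f) := hT.map f

/-- `O_p` of a subgroup, in the group. -/
abbrev core (p : ℕ) (H : Subgroup G) : Subgroup G := (Cfsg.pCore p H).map H.subtype

/-- `O^p` of a subgroup, in the group. -/
abbrev res (p : ℕ) (H : Subgroup G) : Subgroup G := (Cfsg.pResidual p H).map H.subtype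

theorem le_normalizer_core (H : Subgroup G) : H ≤ normalizer (core p H : Set G) := by
  have h1 := le_normalizer_map (H := Cfsg.pCore p H) H.subtype
  rwa [normalizer_eq_top, ← MonoidHom.range_eq_map, range_subtype] at h1

theorem le_core {H T : Subgroup G} (hTH : T ≤ H) (hn : H ≤ normalizer (T : Set G))
    (hT : IsPGroup p T) : T ≤ core p H := by
  haveI := (normal_subgroupOf_iff_le_normalizer hTH).mpr hn
  have h := H1.le_pCore (p := p) (N := T.subgroupOf H) (hT.of_equiv (subgroupOfEquivOfLe hTH).symm)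
  intro t ht
  exact ⟨⟨t, hTH ht⟩, h ht, rfl⟩

/-- The hypotheses on an isolated `p`-minimal subgroup. -/
structure Ctx (S : Sylow p G) (P L : Subgroup G) : Prop where
  le : (S : Subgroup G) ≤ P
  pmin : Cfsg.IsPMinimal p P
  eqL : L = normalizer ((S : Subgroup G) : Set G) ⊔
    ⨆ P' : {P' : Subgroup G // (S : Subgroup G) ≤ P' ∧ Cfsg.IsPMinimal p ↥P' ∧ P' ≠ P}, (P' : Subgroup G)
  iso : ¬ core p L ≤ core p P

/-- Generation of an overgroup of a Sylow subgroup by its normaliser and `p`-minimal subgroups. -/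
theorem le_of_generators (S : Sylow p G) {H K : Subgroup G} (hSH : (S : Subgroup G) ≤ H)
    (hS : H ⊓ normalizer ((S : Subgroup G) : Set G) ≤ K)
    (hP : ∀ P' : Subgroup G, (S : Subgroup G) ≤ P' → P' ≤ H → Cfsg.IsPMinimal p P' → P' ≤ K) :
    H ≤ K := by
  intro g hg
  let SH := S.subtype hSH
  obtain ⟨x, hx, y, hy, hxy⟩ := (H74.mcBride SH).2 ⟨g, hg⟩
  have hx' : x ∈ H74.pMinClosure SH := by rw [(H74.mcBride SH).1]; exact hx
  have hcl : H74.pMinClosure SH ≤ K.comap H.subtype := by
    refine sup_le (fun s hs => hS ⟨s.2, le_normalizer hs⟩) (iSup_le fun P' => ?_)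
    rw [← map_le_iff_le_comap]
    refine hP _ ?_ (map_subtype_le _)
      (H74.isPMinimal_congr ((P' : Subgroup H).equivMapOfInjective H.subtype H.subtype_injective) P'.2.2)
    intro s hs
    exact ⟨⟨s, hSH hs⟩, P'.2.1 hs, rfl⟩
  have hy' : (y : G) ∈ H ⊓ normalizer ((S : Subgroup G) : Set G) := by
    refine ⟨y.2, ?_⟩
    have h := le_normalizer_map (H := (SH : Subgroup H)) H.subtype ⟨y, hy, rfl⟩
    have e : (SH : Subgroup H).map H.subtype = (S : Subgroup G) := by
      rw [Sylow.coe_subtype, subgroupOf_map_subtype, inf_eq_left.mpr hSH]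
    rwa [e] at h
  have h := mul_mem (hcl hx') (hS hy')
  rw [show g = ((⟨g, hg⟩ : H) : G) from rfl, hxy]
  exact h

variable {S : Sylow p G} {P L : Subgroup G}

theorem Ctx.normalizer_le (h : Ctx S P L) : normalizer ((S : Subgroup G) : Set G) ≤ L :=
  h.eqL ▸ le_sup_left

theorem Ctx.sylow_le (h : Ctx S P L) : (S : Subgroup G) ≤ L := le_normalizer.trans h.normalizer_le

theorem Ctx.other_le (h : Ctx S P L) {P' : Subgroup G} (h1 : (S : Subgroup G) ≤ P')
    (h2 : Cfsg.IsPMinimal p P') (h3 : P' ≠ P) : P' ≤ L := by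
  rw [h.eqL]
  exact le_sup_of_le_right (le_iSup
    (fun P' : {P' : Subgroup G // (S : Subgroup G) ≤ P' ∧ Cfsg.IsPMinimal p ↥P' ∧ P' ≠ P} =>
      (P' : Subgroup G)) ⟨P', h1, h2, h3⟩)

theorem Ctx.isPGroup_core (_ : Ctx S P L) : IsPGroup p (core p L) := (H1.isPGroup_pCore p L).map _

theorem Ctx.core_le_sylow (h : Ctx S P L) : core p L ≤ (S : Subgroup G) := by
  rintro _ ⟨x, hx, rfl⟩
  have h1 := H1.pCore_le_sylow (S.subtype h.sylow_le) hx
  rwa [Sylow.coe_subtype] at h1

theorem Ctx.res_sup (h : Ctx S P L) : res p P ⊔ (S : Subgroup G) = P := by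
  have e := congrArg (Subgroup.map P.subtype) (H5.pResidual_sup_sylow (S.subtype h.le))
  rwa [Subgroup.map_sup, ← MonoidHom.range_eq_map, range_subtype, Sylow.coe_subtype,
    subgroupOf_map_subtype, inf_eq_left.mpr h.le] at e

theorem Ctx.sylow_le_normalizer_res (h : Ctx S P L) :
    (S : Subgroup G) ≤ normalizer (res p P : Set G) := by
  have h1 := le_normalizer_map (H := Cfsg.pResidual p P) P.subtype
  rw [normalizer_eq_top, ← MonoidHom.range_eq_map, range_subtype] at h1
  exact h.le.trans h1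

theorem Ctx.not_le_normalizer_core (h : Ctx S P L) : ¬ P ≤ normalizer (core p L : Set G) := fun hle =>
  h.iso (le_core ((h.core_le_sylow).trans h.le) hle h.isPGroup_core)

theorem Ctx.not_le (h : Ctx S P L) : ¬ P ≤ L := fun hle =>
  h.not_le_normalizer_core (hle.trans (le_normalizer_core L))

theorem Ctx.pCore_le_core (h : Ctx S P L) : Cfsg.pCore p G ≤ core p L :=
  le_core ((H1.pCore_le_sylow S).trans h.sylow_le) le_normalizer_of_normal (H1.isPGroup_pCore p G)

/-- A subgroup over `S` not containing `O^p(P)` lies in `L`. -/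
theorem Ctx.le_L (h : Ctx S P L) {H : Subgroup G} (hSH : (S : Subgroup G) ≤ H)
    (hQ : ¬ res p P ≤ H) : H ≤ L :=
  le_of_generators S hSH (inf_le_right.trans h.normalizer_le) fun P' h1 h2 h3 =>
    h.other_le h1 h3 fun e => hQ ((map_subtype_le _).trans (e ▸ h2))

theorem Ctx.sup_eq_top (h : Ctx S P L) : P ⊔ L = ⊤ := by
  refine top_le_iff.mp (le_of_generators S le_top (inf_le_right.trans (h.normalizer_le.trans le_sup_right))
    fun P' h1 _ h3 => ?_)
  by_cases e : P' = P
  · exact e ▸ le_sup_left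
  · exact (h.other_le h1 h3 e).trans le_sup_right

/-- The image modulo `O_p(G)`. -/
abbrev bar (p : ℕ) (H : Subgroup G) : Subgroup (G ⧸ Cfsg.pCore p G) :=
  H.map (QuotientGroup.mk' (Cfsg.pCore p G))

theorem pCore_quot_eq_bot : Cfsg.pCore p (G ⧸ Cfsg.pCore p G) = ⊥ := by
  set f := QuotientGroup.mk' (Cfsg.pCore p G)
  have hX : IsPGroup p ((Cfsg.pCore p (G ⧸ Cfsg.pCore p G)).comap f) :=
    (H1.isPGroup_pCore p _).comap_of_ker_isPGroup _ (by
      rw [QuotientGroup.ker_mk']; exact H1.isPGroup_pCore p G)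
  rw [eq_bot_iff_forall]
  intro y hy
  obtain ⟨x, rfl⟩ := QuotientGroup.mk'_surjective (Cfsg.pCore p G) y
  exact (QuotientGroup.eq_one_iff x).mpr (H1.le_pCore hX hy)

theorem bar_subnormal_eq_bot {U T : Subgroup (G ⧸ Cfsg.pCore p G)} (hU : U.IsSubnormal) (hTU : T ≤ U)
    (hn : U ≤ normalizer (T : Set (G ⧸ Cfsg.pCore p G))) (hT : IsPGroup p T) : T = ⊥ :=
  le_bot_iff.mp (pCore_quot_eq_bot.le.trans' (le_pCore_of_subnormal_le hU hTU hn hT))

theorem Ctx.isPGroup_bar (h : Ctx S P L) : IsPGroup p (bar p (core p L)) := h.isPGroup_core.map _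

theorem Ctx.bar_core_le (h : Ctx S P L) : bar p (core p L) ≤ bar p (S : Subgroup G) :=
  map_mono h.core_le_sylow

theorem Ctx.bar_L_le (h : Ctx S P L) :
    bar p L ≤ normalizer (bar p (core p L) : Set (G ⧸ Cfsg.pCore p G)) :=
  (map_mono (le_normalizer_core L)).trans (le_normalizer_map _)

theorem Ctx.bar_S_le (h : Ctx S P L) :
    bar p (S : Subgroup G) ≤ normalizer (bar p (core p L) : Set (G ⧸ Cfsg.pCore p G)) :=
  (map_mono h.sylow_le).trans h.bar_L_le

theorem Ctx.bar_S_le_res (h : Ctx S P L) :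
    bar p (S : Subgroup G) ≤ normalizer (bar p (res p P) : Set (G ⧸ Cfsg.pCore p G)) :=
  (map_mono h.sylow_le_normalizer_res).trans (le_normalizer_map _)

/-- `O^p(P)` is generated by `p'`-elements. -/
theorem bar_res_le {U : Subgroup (G ⧸ Cfsg.pCore p G)}
    (hU : ∀ g ∈ res p P, (orderOf g).Coprime p → (g : G ⧸ Cfsg.pCore p G) ∈ U) :
    bar p (res p P) ≤ U := by
  rw [bar, res, Subgroup.map_map, map_le_iff_le_comap, Cfsg.pResidual, closure_le]
  intro g hg
  refine hU _ ⟨g, subset_closure hg, rfl⟩ ?_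
  rwa [coe_subtype, orderOf_coe]

theorem bar_res_le_of_le_sup {U T : Subgroup (G ⧸ Cfsg.pCore p G)} (hT : IsPGroup p T)
    (hTU : T ≤ normalizer (U : Set (G ⧸ Cfsg.pCore p G))) (hle : bar p (res p P) ≤ U ⊔ T) :
    bar p (res p P) ≤ U :=
  bar_res_le fun g hg hc => mem_of_mem_sup hT hTU (hle ⟨g, hg, rfl⟩)
    (hc.coprime_dvd_left (orderOf_map_dvd (QuotientGroup.mk' (Cfsg.pCore p G)) g))

/-- The dichotomy for normal subgroups. -/
theorem Ctx.dichotomy (h : Ctx S P L) {N : Subgroup (G ⧸ Cfsg.pCore p G)} (hN : N.Normal)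
    (hQ : ¬ bar p (res p P) ≤ N) :
    N ≤ centralizer (bar p (core p L) : Set (G ⧸ Cfsg.pCore p G)) := by
  set f := QuotientGroup.mk' (Cfsg.pCore p G) with hf
  haveI := hN
  have hQ' : ¬ res p P ≤ N.comap f ⊔ (S : Subgroup G) := fun hle => hQ <| by
    refine bar_res_le_of_le_sup (S.2.map f) le_normalizer_of_normal ?_
    refine (map_mono hle).trans ?_
    rw [Subgroup.map_sup, map_comap_eq_self_of_surjective (QuotientGroup.mk'_surjective _)]
  have hNL : N ≤ bar p L := by
    rw [← map_comap_eq_self_of_surjective (QuotientGroup.mk'_surjective (Cfsg.pCore p G)) N]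
    exact map_mono (le_sup_left.trans (h.le_L le_sup_right hQ'))
  have hNR := hNL.trans h.bar_L_le
  have h0 : ⁅bar p (core p L), N⁆ = ⊥ := by
    refine bar_subnormal_eq_bot hN.isSubnormal (commutator_le_right _ _)
      (H1.right_le_normalizer_commutator) ?_
    exact h.isPGroup_bar.to_le (H1.commutator_le_left_of_le_normalizer hNR)
  rw [commutator_comm, commutator_eq_bot_iff_le_centralizer] at h0
  exact h0

/-- `O_p(L)` acts nontrivially on the residual. -/
theorem Ctx.not_centralizes (h : Ctx S P L) :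
    ¬ bar p (res p P) ≤ centralizer (bar p (core p L) : Set (G ⧸ Cfsg.pCore p G)) := by
  intro hle
  apply h.not_le_normalizer_core
  rw [← h.res_sup]
  refine sup_le (le_normalizer_iff.mpr fun q hq r hr => ?_)
    (h.sylow_le.trans (le_normalizer_core L))
  have e := mem_centralizer_iff.mp (hle ⟨q, hq, rfl⟩) _ ⟨r, hr, rfl⟩
  have hO : q * r * q⁻¹ * r⁻¹ ∈ Cfsg.pCore p G := by
    rw [← QuotientGroup.eq_one_iff, QuotientGroup.mk_mul, QuotientGroup.mk_mul, QuotientGroup.mk_mul,
      QuotientGroup.mk_inv, QuotientGroup.mk_inv]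
    simp only [QuotientGroup.mk'_apply] at e
    rw [← e]; group
  simpa using mul_mem (h.pCore_le_core hO) hr

theorem Ctx.bar_core_ne_bot (h : Ctx S P L) : bar p (core p L) ≠ ⊥ := by
  intro e
  refine h.not_centralizes ?_
  rw [e, le_centralizer_iff]
  exact bot_le

/-- The generalized Fitting subgroup is not centralised. -/
theorem Ctx.fStar_not_centralized (h : Ctx S P L) :
    ¬ Cfsg.generalizedFittingSubgroup (G ⧸ Cfsg.pCore p G) ≤
      centralizer (bar p (core p L) : Set (G ⧸ Cfsg.pCore p G)) := by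
  intro hle
  have h1 : bar p (core p L) ≤ Cfsg.generalizedFittingSubgroup (G ⧸ Cfsg.pCore p G) :=
    (le_centralizer_iff.mp hle).trans Cfsg.Comp.centralizer_fStar_le
  exact h.bar_core_ne_bot (bar_subnormal_eq_bot
    (Normal.isSubnormal Cfsg.Comp.generalizedFitting_normal) h1
    (hle.trans (centralizer_le_normalizer _)) h.isPGroup_bar)

theorem Ctx.res_le_fStar (h : Ctx S P L) :
    bar p (res p P) ≤ Cfsg.generalizedFittingSubgroup (G ⧸ Cfsg.pCore p G) := by
  by_contra hQ
  exact h.fStar_not_centralized (h.dichotomy Cfsg.Comp.generalizedFitting_normal hQ)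

theorem Ctx.fitting_or_layer (h : Ctx S P L) :
    bar p (res p P) ≤ Cfsg.fittingSubgroup (G ⧸ Cfsg.pCore p G) ∨
      bar p (res p P) ≤ Cfsg.layer (G ⧸ Cfsg.pCore p G) := by
  by_contra! hne
  exact h.fStar_not_centralized (sup_le (h.dichotomy inferInstance hne.2)
    (h.dichotomy inferInstance hne.1))

/-- The normal closure in the quotient. -/
theorem Ctx.bar_top (h : Ctx S P L) :
    bar p (res p P) ⊔ bar p (S : Subgroup G) ⊔ bar p L = ⊤ := by
  simp only [bar, ← Subgroup.map_sup]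
  rw [h.res_sup, h.sup_eq_top, Subgroup.map_top_of_surjective _ (QuotientGroup.mk'_surjective _)]

theorem normal_of_normalizes (h : Ctx S P L) {N : Subgroup (G ⧸ Cfsg.pCore p G)}
    (hQ : bar p (res p P) ≤ normalizer (N : Set (G ⧸ Cfsg.pCore p G)))
    (hL : bar p L ≤ normalizer (N : Set (G ⧸ Cfsg.pCore p G))) : N.Normal := by
  rw [← normalizer_eq_top_iff, eq_top_iff, ← h.bar_top]
  exact sup_le (sup_le hQ ((map_mono h.sylow_le).trans hL)) hL

theorem bar_normalClosure {Y : Subgroup G} (hY : Y = normalClosure (res p P : Set G))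
    {N : Subgroup (G ⧸ Cfsg.pCore p G)} (hN : N.Normal) (hQ : bar p (res p P) ≤ N) : bar p Y ≤ N := by
  rw [hY, map_le_iff_le_comap]
  haveI := hN
  exact normalClosure_le_normal (map_le_iff_le_comap.mp hQ)

theorem bar_res_le_bar {Y : Subgroup G} (hY : Y = normalClosure (res p P : Set G)) :
    bar p (res p P) ≤ bar p Y := map_mono (hY ▸ le_normalClosure)

end H79.Isolated
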