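import Cfsg.Agent.H79.IsolatedBase
import Cfsg.Agent.H1.CoprimeAction2
import Cfsg.Agent.H1.Offender
import Cfsg.Agent.H25.Kazarin

/-!
Isolated `p`-minimal subgroups: the case where `O^p(P)` lies in the layer modulo `O_p(G)`.
-/

set_option autoImplicit false
set_option linter.unusedSectionVars false
set_option linter.style.haveILetI false

namespace H79.Isolated

open Subgroup
open scoped commutatorElement

universe u

variable {X : Type*} [Group X]

theorem map_conj_map_conj (K : Subgroup X) (a b : X) :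
    (K.map (MulAut.conj b).toMonoidHom).map (MulAut.conj a).toMonoidHom =
      K.map (MulAut.conj (a * b)).toMonoidHom := by
  rw [Subgroup.map_map]
  congr 1
  ext x
  simp [mul_assoc]

theorem map_conj_one (K : Subgroup X) : K.map (MulAut.conj (1 : X)).toMonoidHom = K := by
  refine le_antisymm ?_ fun x hx => ⟨x, hx, by simp⟩
  rintro _ ⟨x, hx, rfl⟩
  simpa using hx

theorem map_conj_inv_conj (K : Subgroup X) (a : X) :
    (K.map (MulAut.conj a).toMonoidHom).map (MulAut.conj a⁻¹).toMonoidHom = K := by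
  rw [map_conj_map_conj, inv_mul_cancel, map_conj_one]

/-- An element permuting a family normalises its join. -/
theorem mem_normalizer_sSup [Finite X] {𝒦 : Set (Subgroup X)} {g : X}
    (h : ∀ K ∈ 𝒦, K.map (MulAut.conj g).toMonoidHom ∈ 𝒦) :
    g ∈ normalizer ((sSup 𝒦 : Subgroup X) : Set X) := by
  rw [mem_normalizer_iff_map_conj_eq]
  refine eq_of_le_of_card_ge ?_ (card_map_of_injective (MulAut.conj g).injective).ge
  rw [map_le_iff_le_comap]
  exact sSup_le fun K hK => map_le_iff_le_comap.mp (le_sSup (h K hK))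

theorem map_conj_le_centralizer {K R : Subgroup X} {g : X} (hg : g ∈ normalizer (R : Set X))
    (h : K ≤ centralizer (R : Set X)) :
    K.map (MulAut.conj g).toMonoidHom ≤ centralizer (R : Set X) := by
  rintro _ ⟨k, hk, rfl⟩
  rw [mem_centralizer_iff]
  intro r hr
  have hr' : g⁻¹ * r * g ∈ R := by
    have := (mem_normalizer_iff.mp (inv_mem hg) r).mp hr
    simpa using this
  have h1 := mem_centralizer_iff.mp (h hk) _ hr'
  show r * (g * k * g⁻¹) = g * k * g⁻¹ * r
  calc r * (g * k * g⁻¹) = g * ((g⁻¹ * r * g) * k) * g⁻¹ := by group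
    _ = g * (k * (g⁻¹ * r * g)) * g⁻¹ := by rw [h1]
    _ = _ := by group

variable {G : Type u} [Group G] [Finite G] {p : ℕ} [hp : Fact p.Prime]
  {S : Sylow p G} {P L : Subgroup G}

local notation "Ḡ" => G ⧸ Cfsg.pCore p G

/-- The layer case. -/
theorem Ctx.layer_case (h : Ctx S P L) {Y : Subgroup G} (hY : Y = normalClosure (res p P : Set G))
    (hQ : ¬ bar p (res p P) ≤ Cfsg.fittingSubgroup Ḡ) :
    p ∣ Nat.card (bar p Y) ∧ bar p Y = sSup {K : Subgroup Ḡ | Cfsg.IsComponent K ∧ K ≤ bar p Y} ∧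
      ∀ K₁ K₂ : Subgroup Ḡ, Cfsg.IsComponent K₁ → K₁ ≤ bar p Y → Cfsg.IsComponent K₂ → K₂ ≤ bar p Y →
        ∃ s ∈ (S : Subgroup G), K₂ = K₁.map (MulAut.conj (QuotientGroup.mk' (Cfsg.pCore p G) s)).toMonoidHom := by
  classical
  set f := QuotientGroup.mk' (Cfsg.pCore p G) with hf
  set Rb := bar p (core p L) with hRb
  set Yb := bar p Y with hYb
  set Qb := bar p (res p P) with hQb
  set Sb := bar p (S : Subgroup G) with hSb
  set C := centralizer (Rb : Set Ḡ) with hC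
  have hQE : Qb ≤ Cfsg.layer Ḡ := h.fitting_or_layer.resolve_left hQ
  haveI hYn : Yb.Normal := (hY ▸ normalClosure_normal : Y.Normal).map f (QuotientGroup.mk'_surjective _)
  have hQY : Qb ≤ Yb := bar_res_le_bar hY
  have hYE : Yb ≤ Cfsg.layer Ḡ := bar_normalClosure hY inferInstance hQE
  have hnoab : ∀ A : Subgroup Ḡ, A.IsSubnormal → A ≤ centralizer (A : Set Ḡ) → ¬ Qb ≤ A := by
    intro A hA hAc hle
    haveI : IsMulCommutative A := le_centralizer_iff_isMulCommutative.mp hAc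
    exact hQ (hle.trans (Cfsg.Comp.le_fitting_of_subnormal hA
      (Cfsg.Comp.isNilpotent_of_commutator_commutator (by
        rw [commutator_eq_bot_iff_le_centralizer.mpr hAc, commutator_bot_left]))))
  -- components inside and outside
  set E1 := sSup {K : Subgroup Ḡ | Cfsg.IsComponent K ∧ K ≤ Yb} with hE1
  set E2 := sSup {K : Subgroup Ḡ | Cfsg.IsComponent K ∧ ¬ K ≤ Yb} with hE2
  have hYconj : ∀ (g : Ḡ) (K : Subgroup Ḡ), K ≤ Yb → K.map (MulAut.conj g).toMonoidHom ≤ Yb := by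
    intro g K hK
    rintro _ ⟨k, hk, rfl⟩
    exact hYn.conj_mem k (hK hk) g
  have hE1n : E1.Normal := normalizer_eq_top_iff.mp (eq_top_iff.mpr fun g _ =>
    mem_normalizer_sSup fun K hK => ⟨Cfsg.Comp.isComponent_conj hK.1 g, hYconj g K hK.2⟩)
  have hE2n : E2.Normal := normalizer_eq_top_iff.mp (eq_top_iff.mpr fun g _ =>
    mem_normalizer_sSup fun K hK => ⟨Cfsg.Comp.isComponent_conj hK.1 g, fun hle => hK.2 (by
      have := hYconj g⁻¹ _ hle
      rwa [map_conj_inv_conj] at this)⟩)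
  have hE2Y : E2 ≤ centralizer (Yb : Set Ḡ) := sSup_le fun K hK =>
    commutator_eq_bot_iff_le_centralizer.mp
      ((Cfsg.Comp.component_le_or_commute hK.1 hYn.isSubnormal).resolve_left hK.2)
  have hE2C : E2 ≤ C := h.dichotomy hE2n fun hle => hnoab Yb hYn.isSubnormal
    ((bar_normalClosure hY hE2n hle).trans hE2Y) hQY
  have hQE1 : Qb ≤ E1 := by
    by_contra hno
    refine h.not_centralizes (hQE.trans (Cfsg.Comp.layer_le_iff.mpr fun K hK => ?_))
    by_cases hKY : K ≤ Yb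
    · have h1 : K ≤ E1 := le_sSup (show K ∈ {K : Subgroup Ḡ | Cfsg.IsComponent K ∧ K ≤ Yb} from ⟨hK, hKY⟩)
      exact h1.trans (h.dichotomy hE1n hno)
    · have h1 : K ≤ E2 := le_sSup (show K ∈ {K : Subgroup Ḡ | Cfsg.IsComponent K ∧ ¬ K ≤ Yb} from ⟨hK, hKY⟩)
      exact h1.trans hE2C
  have hYE1 : Yb = E1 := le_antisymm (bar_normalClosure hY hE1n hQE1) (sSup_le fun K hK => hK.2)
  -- orbits
  let 𝒪 : Subgroup Ḡ → Set (Subgroup Ḡ) := fun K => {K' | ∃ s ∈ Sb, K' = K.map (MulAut.conj s).toMonoidHom}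
  let U : Subgroup Ḡ → Subgroup Ḡ := fun K => sSup (𝒪 K)
  have hKU : ∀ K, K ≤ U K := fun K => le_sSup ⟨1, one_mem _, (map_conj_one K).symm⟩
  have hOcomp : ∀ K, Cfsg.IsComponent K → K ≤ Yb → ∀ K' ∈ 𝒪 K, Cfsg.IsComponent K' ∧ K' ≤ Yb := by
    rintro K hK hKY _ ⟨s, hs, rfl⟩
    exact ⟨Cfsg.Comp.isComponent_conj hK s, hYconj s K hKY⟩
  have hUY : ∀ K, Cfsg.IsComponent K → K ≤ Yb → U K ≤ Yb := fun K hK hKY =>
    sSup_le fun K' hK' => (hOcomp K hK hKY K' hK').2
  have hSU : ∀ K, Sb ≤ normalizer (U K : Set Ḡ) := fun K s hs => mem_normalizer_sSup <| by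
    rintro _ ⟨s', hs', rfl⟩
    exact ⟨s * s', mul_mem hs hs', map_conj_map_conj K s s'⟩
  have hEU : ∀ K, Cfsg.IsComponent K → K ≤ Yb → Cfsg.layer Ḡ ≤ normalizer (U K : Set Ḡ) :=
    fun K hK hKY g hg => mem_normalizer_sSup fun K' hK' => by
      have h1 := Cfsg.Comp.layer_le_normalizer_component (hOcomp K hK hKY K' hK').1 hg
      have e : K'.map (MulAut.conj g).toMonoidHom = K' := mem_normalizer_iff_map_conj_eq.mp h1
      exact e.symm ▸ hK'
  have hUsn : ∀ K, Cfsg.IsComponent K → K ≤ Yb → (U K).IsSubnormal := fun K hK hKY =>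
    IsSubnormal.trans (hUY K hK hKY) (Normal.isSubnormal ((normal_subgroupOf_iff_le_normalizer
      (hUY K hK hKY)).mpr (hYE.trans (hEU K hK hKY)))) hYn.isSubnormal
  have hdich : ∀ K, Cfsg.IsComponent K → K ≤ Yb → ¬ K ≤ C → Qb ≤ U K := by
    intro K hK hKY hKC
    by_contra hQU
    refine hKC ((hKU K).trans ?_)
    have hQ' : ¬ res p P ≤ (U K ⊔ Sb).comap f := fun hle => hQU
      (bar_res_le_of_le_sup (S.2.map f) (hSU K) (map_le_iff_le_comap.mpr hle))
    have hL : U K ≤ bar p L := by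
      have h1 := map_mono (f := f) (h.le_L (map_le_iff_le_comap.mp le_sup_right) hQ')
      rw [map_comap_eq_self_of_surjective (QuotientGroup.mk'_surjective _)] at h1
      exact le_sup_left.trans h1
    have h0 : ⁅U K, Rb⁆ = ⊥ := by
      refine bar_subnormal_eq_bot (hUsn K hK hKY)
        (H1.commutator_le_left_of_le_normalizer (h.bar_core_le.trans (hSU K)))
        H1.left_le_normalizer_commutator ?_
      rw [commutator_comm]
      exact h.isPGroup_bar.to_le (H1.commutator_le_left_of_le_normalizer (hL.trans h.bar_L_le))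
    exact commutator_eq_bot_iff_le_centralizer.mp h0
  obtain ⟨K₀, hK₀, hK₀Y, hK₀C⟩ : ∃ K₀, Cfsg.IsComponent K₀ ∧ K₀ ≤ Yb ∧ ¬ K₀ ≤ C := by
    by_contra hno
    exact h.not_centralizes (hQE1.trans (sSup_le fun K hK => by
      by_contra hc
      exact hno ⟨K, hK.1, hK.2, hc⟩))
  have hQU₀ := hdich K₀ hK₀ hK₀Y hK₀C
  have horb : ∀ K, Cfsg.IsComponent K → K ≤ Yb → ¬ K ≤ C → K ∈ 𝒪 K₀ := by
    intro K hK hKY hKC
    by_contra hno
    refine hnoab (U K₀ ⊓ U K) ((hUsn K₀ hK₀ hK₀Y).inf (hUsn K hK hKY)) ?_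
      (le_inf hQU₀ (hdich K hK hKY hKC))
    refine inf_le_left.trans (le_trans ?_ (centralizer_le fun x hx => (mem_inf.mp hx).2))
    refine sSup_le fun A hA => le_centralizer_iff.mp (sSup_le fun B hB => ?_)
    refine commutator_eq_bot_iff_le_centralizer.mp
      ((Cfsg.Comp.component_eq_or_commute (hOcomp K hK hKY B hB).1 (hOcomp K₀ hK₀ hK₀Y A hA).1).resolve_left ?_)
    rintro rfl
    obtain ⟨s, hs, hse⟩ := hA
    obtain ⟨s', hs', hs'e⟩ := hB
    refine hno ⟨s'⁻¹ * s, mul_mem (inv_mem hs') hs, ?_⟩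
    rw [← map_conj_map_conj, ← hse, hs'e, map_conj_inv_conj]
  have horb' : ∀ K ∈ 𝒪 K₀, ¬ K ≤ C := by
    rintro _ ⟨s, hs, rfl⟩ hle
    have h1 := map_conj_le_centralizer (inv_mem (h.bar_S_le hs)) hle
    rw [map_conj_inv_conj] at h1
    exact hK₀C h1
  have hU₀n : (U K₀).Normal := by
    refine normal_of_normalizes h (hQE.trans (hEU K₀ hK₀ hK₀Y)) fun l hl => mem_normalizer_sSup fun K hK => ?_
    obtain ⟨hKc, hKY⟩ := hOcomp K₀ hK₀ hK₀Y K hK
    refine horb _ (Cfsg.Comp.isComponent_conj hKc l) (hYconj l K hKY) fun hle => horb' K hK ?_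
    have h1 := map_conj_le_centralizer (inv_mem (h.bar_L_le hl)) hle
    rwa [map_conj_inv_conj] at h1
  have hYU₀ : Yb ≤ U K₀ := bar_normalClosure hY hU₀n hQU₀
  have htrans : ∀ K, Cfsg.IsComponent K → K ≤ Yb → K ∈ 𝒪 K₀ := fun K hK hKY =>
    Cfsg.Comp.component_mem_of_le_sSup (fun K' hK' => (hOcomp K₀ hK₀ hK₀Y K' hK').1) hK (hKY.trans hYU₀)
  refine ⟨?_, hYE1, fun K₁ K₂ h1 h1Y h2 h2Y => ?_⟩
  swap
  · obtain ⟨s, hs, rfl⟩ := htrans K₁ h1 h1Y
    obtain ⟨s', hs', rfl⟩ := htrans K₂ h2 h2Y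
    obtain ⟨σ, hσ, hσe⟩ := (mul_mem hs' (inv_mem hs) : s' * s⁻¹ ∈ Sb)
    refine ⟨σ, hσ, ?_⟩
    rw [hσe, map_conj_map_conj, inv_mul_cancel_right]
  -- `p` divides the order
  by_contra hdvd
  have hYp : (Nat.card Yb).Coprime p := Cfsg.Comp.coprime_iff_not_dvd.mpr hdvd
  have hSbp : IsPGroup p Sb := S.2.map f
  have hcop : (Nat.card Sb).Coprime (Nat.card Yb) := (H1.coprime_card_of_isPGroup hYp hSbp).symm
  haveI : Group.IsSolvable Sb := by
    haveI := hSbp.isNilpotent
    infer_instance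
  have hsyl : ∀ r : ℕ, r.Prime → ∃ T : Subgroup Ḡ, T ≤ Yb ∧ IsPGroup r T ∧ ¬ r ∣ T.relIndex Yb ∧
      (Qb ≤ T ∨ T ≤ C) := by
    intro r hr
    haveI : Fact r.Prime := ⟨hr⟩
    obtain ⟨T', -, hT'⟩ := H1.exists_invariant_sylow_ge (A := Sb) (K := Yb) le_normalizer_of_normal hcop
      (Or.inl inferInstance) r (U := ⊥) bot_le IsPGroup.of_bot
      (by rw [normalizer_eq_top_iff.mpr normal_bot]; exact le_top)
    set T := (T' : Subgroup Yb).map Yb.subtype with hT
    have hTY : T ≤ Yb := map_subtype_le _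
    refine ⟨T, hTY, T'.2.map _, ?_, ?_⟩
    · rw [relIndex, hT, subgroupOf, comap_map_eq_self_of_injective Yb.subtype_injective]
      exact T'.not_dvd_index
    by_contra! hno
    have hQ' : ¬ res p P ≤ (T ⊔ Sb).comap f := fun hle => hno.1
      (bar_res_le_of_le_sup hSbp hT' (map_le_iff_le_comap.mpr hle))
    have hL : T ≤ bar p L := by
      have h1 := map_mono (f := f) (h.le_L (map_le_iff_le_comap.mp le_sup_right) hQ')
      rw [map_comap_eq_self_of_surjective (QuotientGroup.mk'_surjective _)] at h1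
      exact le_sup_left.trans h1
    have hcopT : (Nat.card Rb).Coprime (Nat.card T) :=
      (hcop.coprime_dvd_left (card_dvd_of_le h.bar_core_le)).coprime_dvd_right (card_dvd_of_le hTY)
    have h0 : ⁅T, Rb⁆ = ⊥ := by
      rw [eq_bot_iff, ← disjoint_iff.mp (disjoint_of_coprime_natCard hcopT).symm]
      refine le_inf (H1.commutator_le_left_of_le_normalizer (h.bar_core_le.trans hT')) ?_
      rw [commutator_comm]
      exact H1.commutator_le_left_of_le_normalizer (hL.trans h.bar_L_le)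
    exact hno.2 (commutator_eq_bot_iff_le_centralizer.mp h0)
  have hYC : ¬ Yb ≤ C := fun hle => h.not_centralizes (hQY.trans hle)
  have hn1 : C.relIndex Yb ≠ 1 := fun e => hYC (relIndex_eq_one.mp e)
  have hn0 : C.relIndex Yb ≠ 0 := index_ne_zero_of_finite
  have hnot : ∀ r T, T ≤ Yb → ¬ r ∣ T.relIndex Yb → T ≤ C → ¬ r ∣ C.relIndex Yb :=
    fun r T _ hnd hTC hd => hnd (hd.trans (relIndex_dvd_of_le_left _ hTC))
  set t := (C.relIndex Yb).minFac
  have htp : t.Prime := Nat.minFac_prime hn1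
  have huniq : ∀ {r : ℕ}, r.Prime → r ∣ C.relIndex Yb → r = t := by
    intro r hr hrd
    obtain ⟨T, hTY, hTr, hTi, hT⟩ := hsyl r hr
    obtain ⟨T₂, hT₂Y, hT₂t, hT₂i, hT₂⟩ := hsyl t htp
    have hQT : Qb ≤ T := hT.resolve_right fun hle => hnot r T hTY hTi hle hrd
    have hQT₂ : Qb ≤ T₂ := hT₂.resolve_right fun hle => hnot t T₂ hT₂Y hT₂i hle (Nat.minFac_dvd _)
    by_contra hne
    haveI : Fact r.Prime := ⟨hr⟩
    haveI : Fact t.Prime := ⟨htp⟩
    have h0 : T ⊓ T₂ = ⊥ := disjoint_iff.mp (IsPGroup.disjoint_of_ne r t hne T T₂ hTr hT₂t)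
    refine h.not_centralizes (show Qb ≤ C from ?_)
    exact (le_inf hQT hQT₂).trans (h0.le.trans bot_le)
  obtain ⟨k, hk⟩ : ∃ k, C.relIndex Yb = t ^ k := ⟨_, Nat.eq_prime_pow_of_unique_prime_dvd hn0 huniq⟩
  obtain ⟨x, hxR, hxY⟩ := SetLike.not_le_iff_exists.mp fun hle : Rb ≤ centralizer (Yb : Set Ḡ) =>
    hYC (le_centralizer_iff.mp hle)
  set Cx := centralizer ({x} : Set Ḡ)
  have hCCx : C ≤ Cx := centralizer_le (by simpa using hxR)
  set Γ := zpowers x ⊔ Yb with hΓ
  have hxΓ : x ∈ Γ := mem_sup_left (mem_zpowers x)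
  obtain ⟨j, hj⟩ : ∃ j, Cx.relIndex Γ = t ^ j := by
    have hd : Cx.relIndex Γ = Cx.relIndex Yb := by
      set D := Cx ⊓ Γ with hD
      have hxD : zpowers x ≤ D :=
        le_inf (zpowers_le.mpr (mem_centralizer_singleton_iff.mpr rfl)) le_sup_left
      have hDY : D ⊔ Yb = Γ :=
        le_antisymm (sup_le inf_le_right le_sup_right) (sup_le (hxD.trans le_sup_left) le_sup_right)
      have e1 := relIndex_mul_relIndex (D ⊓ Yb) D Γ inf_le_left inf_le_right
      have e2 := relIndex_mul_relIndex (D ⊓ Yb) Yb Γ inf_le_right le_sup_right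
      rw [inf_relIndex_left] at e1
      rw [inf_relIndex_right, ← hDY, relIndex_sup_right, hDY] at e2
      have hDΓ : D.relIndex Γ = Cx.relIndex Γ := by rw [hD, inf_relIndex_right]
      have hDY' : D.relIndex Yb = Cx.relIndex Yb := by
        rw [← inf_relIndex_right D Yb, hD, inf_assoc, inf_eq_right.mpr (le_sup_right : Yb ≤ Γ),
          inf_relIndex_right]
      rw [← hDΓ, ← hDY']
      rw [mul_comm (D.relIndex Yb)] at e2
      exact Nat.eq_of_mul_eq_mul_left (Nat.pos_of_ne_zero index_ne_zero_of_finite) (e1.trans e2.symm)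
    obtain ⟨j, -, hj⟩ := (Nat.dvd_prime_pow htp).mp (hk ▸ relIndex_dvd_of_le_left Yb hCCx)
    exact ⟨j, hd.trans hj⟩
  have hidx : (centralizer ({(⟨x, hxΓ⟩ : Γ)} : Set Γ)).index = t ^ j := by
    rw [← hj, relIndex]
    congr 1
    ext y
    rw [mem_subgroupOf, mem_centralizer_singleton_iff, mem_centralizer_singleton_iff]
    exact Subtype.ext_iff
  have hsol := H25.kazarin htp _ rfl (⟨x, hxΓ⟩ : Γ) j hidx
  set M := (normalClosure ({(⟨x, hxΓ⟩ : Γ)} : Set Γ)).map Γ.subtype with hM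
  haveI hMs : Group.IsSolvable M :=
    Group.isSolvable_of_surjective (f := ((normalClosure ({(⟨x, hxΓ⟩ : Γ)} : Set Γ)).equivMapOfInjective
      Γ.subtype Γ.subtype_injective).toMonoidHom) (MulEquiv.surjective _)
  have hxM : x ∈ M := ⟨⟨x, hxΓ⟩, subset_normalClosure rfl, rfl⟩
  have hΓM : Γ ≤ normalizer (M : Set Ḡ) := by
    have h1 := le_normalizer_map (H := normalClosure ({(⟨x, hxΓ⟩ : Γ)} : Set Γ)) Γ.subtype
    rwa [normalizer_eq_top, ← MonoidHom.range_eq_map, range_subtype] at h1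
  set A := M ⊓ Yb
  have hYA : Yb ≤ normalizer (A : Set Ḡ) :=
    Cfsg.Comp.inf_le_normalizer ((le_sup_right : Yb ≤ Γ).trans hΓM) le_normalizer
  haveI hAs : Group.IsSolvable A :=
    Group.isSolvable_of_isSolvable_injective (inclusion_injective (inf_le_left : A ≤ M))
  have hAsn : A.IsSubnormal :=
    IsSubnormal.trans inf_le_right (Normal.isSubnormal ((normal_subgroupOf_iff_le_normalizer
      inf_le_right).mpr hYA)) hYn.isSubnormal
  have hAY : A ≤ centralizer (Yb : Set Ḡ) := by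
    rw [le_centralizer_iff, hYE1]
    exact sSup_le fun K hK => commutator_eq_bot_iff_le_centralizer.mp
      (Cfsg.Comp.component_commute_solvable_subnormal hK.1 hAs hAsn)
  have hperf : ⁅Yb, Yb⁆ = Yb := by
    rw [hYE1]
    exact Cfsg.Comp.sSup_perfect _ fun K hK => Cfsg.Comp.isComponent_perfect hK.1
  have h0 : ⁅Yb, zpowers x⁆ = ⊥ := by
    refine Cfsg.Comp.le_centralizer_of_perfect hperf (le_trans ?_ hAY)
    refine le_inf ?_ (H1.commutator_le_left_of_le_normalizer le_normalizer_of_normal)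
    rw [commutator_comm]
    exact (commutator_mono (zpowers_le.mpr hxM) le_rfl).trans
      (H1.commutator_le_left_of_le_normalizer ((le_sup_right : Yb ≤ Γ).trans hΓM))
  exact hxY (le_centralizer_iff.mp (commutator_eq_bot_iff_le_centralizer.mp h0) (mem_zpowers x))

end H79.Isolated
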