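import Cfsg.Agent.H79.IsolatedFitting
import Cfsg.Agent.H79.IsolatedLayer

/-!
Isolated `p`-minimal subgroups: transfer between `Y / O_p(Y)` and its image modulo `O_p(G)`.
-/

set_option autoImplicit false
set_option linter.unusedSectionVars false
set_option linter.style.haveILetI false

namespace H79.Isolated

open Subgroup

universe u

variable {G : Type u} [Group G] [Finite G] {p : ℕ} [hp : Fact p.Prime]

theorem pCore_eq_ker (Y : Subgroup G) [hY : Y.Normal] :
    Cfsg.pCore p Y = ((QuotientGroup.mk' (Cfsg.pCore p G)).subgroupMap Y).ker := by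
  ext y
  constructor
  · intro hy
    refine Subtype.ext ((QuotientGroup.eq_one_iff (y : G)).mpr ?_)
    exact Cfsg.Comp.pCore_map_subtype_le p hY.isSubnormal ⟨y, hy, rfl⟩
  · intro hy
    have h1 : (y : G) ∈ Cfsg.pCore p G := (QuotientGroup.eq_one_iff _).mp (congrArg Subtype.val hy)
    exact H1.le_pCore (N := (Cfsg.pCore p G).subgroupOf Y)
      ((H1.isPGroup_pCore p G).comap_subtype) h1

/-- `Y / O_p(Y)` is the image of `Y`. -/
noncomputable def quotEquiv (Y : Subgroup G) [Y.Normal] : ↥Y ⧸ Cfsg.pCore p ↥Y ≃* bar p Y :=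
  (QuotientGroup.quotientMulEquivOfEq (pCore_eq_ker Y)).trans
    (QuotientGroup.quotientKerEquivOfSurjective _ (MonoidHom.subgroupMap_surjective _ Y))

theorem quotEquiv_mk (Y : Subgroup G) [Y.Normal] (y : Y) :
    (quotEquiv (p := p) Y (QuotientGroup.mk' (Cfsg.pCore p Y) y) : G ⧸ Cfsg.pCore p G) =
      QuotientGroup.mk' (Cfsg.pCore p G) (y : G) := rfl

variable {S : Sylow p G} {P L : Subgroup G}

theorem Ctx.le_fitting_of_solvable (h : Ctx S P L) {Y : Subgroup G}
    (hY : Y = normalClosure (res p P : Set G)) (hs : Group.IsSolvable Y) :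
    bar p (res p P) ≤ Cfsg.fittingSubgroup (G ⧸ Cfsg.pCore p G) := by
  haveI hYn : (bar p Y).Normal :=
    (hY ▸ normalClosure_normal : Y.Normal).map _ (QuotientGroup.mk'_surjective _)
  rcases h.fitting_or_layer with h1 | h1
  · exact h1
  have hYE : bar p Y ≤ Cfsg.layer (G ⧸ Cfsg.pCore p G) := bar_normalClosure hY inferInstance h1
  haveI : Group.IsSolvable (bar p Y) :=
    Group.isSolvable_of_surjective (f := (QuotientGroup.mk' (Cfsg.pCore p G)).subgroupMap Y)
      (MonoidHom.subgroupMap_surjective _ Y)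
  have hc : bar p Y ≤ centralizer (bar p Y : Set (G ⧸ Cfsg.pCore p G)) :=
    hYE.trans (commutator_eq_bot_iff_le_centralizer.mp
      (Cfsg.Comp.commutator_layer_eq_bot fun K hK =>
        Cfsg.Comp.component_commute_solvable_normal hK inferInstance))
  refine (bar_res_le_bar hY).trans (Cfsg.Comp.le_fittingSubgroup hYn
    (Cfsg.Comp.isNilpotent_of_commutator_commutator ?_))
  rw [commutator_eq_bot_iff_le_centralizer.mpr hc, commutator_bot_left]

theorem Ctx.solvable_conclusion (h : Ctx S P L) {Y : Subgroup G}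
    (hY : Y = normalClosure (res p P : Set G)) (hs : Group.IsSolvable Y) :
    res p P = Y ∧ ∃ _ : (Cfsg.pCore p ↥Y).Normal, ∃ t : ℕ, t.Prime ∧ t ≠ p ∧
      IsPGroup t (↥Y ⧸ Cfsg.pCore p ↥Y) ∧
      ∃ _ : Group.IsNilpotent (↥Y ⧸ Cfsg.pCore p ↥Y),
        Group.nilpotencyClass (↥Y ⧸ Cfsg.pCore p ↥Y) ≤ 2 := by
  haveI hYn : Y.Normal := hY ▸ normalClosure_normal
  obtain ⟨he, t, ht, htp, htg, hcl⟩ := h.fitting_case hY (h.le_fitting_of_solvable hY hs)
  have e := quotEquiv (p := p) Y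
  haveI := Cfsg.Comp.isNilpotent_of_commutator_commutator hcl
  have hnil : Group.IsNilpotent (↥Y ⧸ Cfsg.pCore p ↥Y) := Group.nilpotent_of_mulEquiv e.symm
  refine ⟨he.symm, inferInstance, t, ht, htp, htg.of_equiv e.symm, hnil, ?_⟩
  refine le_trans (Group.nilpotencyClass_le_of_surjective e.symm.toMonoidHom e.symm.surjective) ?_
  rw [← Subgroup.lowerCentralSeries_eq_bot_iff_nilpotencyClass_le]
  apply map_injective (bar p Y).subtype_injective
  rw [Subgroup.top_subtype_lowerCentralSeries, Subgroup.map_bot, Subgroup.lowerCentralSeries_succ, Subgroup.lowerCentralSeries_succ,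
    Subgroup.lowerCentralSeries_zero]
  exact hcl

theorem comap_map_eq_inf {Y : Subgroup G} [Y.Normal] (K : Subgroup (↥Y ⧸ Cfsg.pCore p ↥Y)) :
    (K.comap (QuotientGroup.mk' (Cfsg.pCore p ↥Y))).map Y.subtype =
      Y ⊓ ((K.map (quotEquiv Y).toMonoidHom).map (bar p Y).subtype).comap
        (QuotientGroup.mk' (Cfsg.pCore p G)) := by
  ext g
  constructor
  · rintro ⟨y, hy, rfl⟩
    exact ⟨y.2, _, ⟨_, hy, rfl⟩, quotEquiv_mk Y y⟩
  · rintro ⟨hg, _, ⟨k, hk, rfl⟩, hke⟩
    refine ⟨⟨g, hg⟩, ?_, rfl⟩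
    have : k = QuotientGroup.mk' (Cfsg.pCore p ↥Y) ⟨g, hg⟩ :=
      (quotEquiv (p := p) Y).injective (Subtype.ext (hke.trans (quotEquiv_mk Y ⟨g, hg⟩).symm))
    show QuotientGroup.mk' (Cfsg.pCore p ↥Y) ⟨g, hg⟩ ∈ K
    rw [← this]
    exact hk

theorem Ctx.layer_conclusion (h : Ctx S P L) {Y : Subgroup G}
    (hY : Y = normalClosure (res p P : Set G))
    (hQ : ¬ bar p (res p P) ≤ Cfsg.fittingSubgroup (G ⧸ Cfsg.pCore p G)) :
    ∃ _ : (Cfsg.pCore p ↥Y).Normal,
       p ∣ Nat.card (↥Y ⧸ Cfsg.pCore p ↥Y) ∧ Cfsg.layer (↥Y ⧸ Cfsg.pCore p ↥Y) = ⊤ ∧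
       ∀ K₁ K₂ : Subgroup (↥Y ⧸ Cfsg.pCore p ↥Y), Cfsg.IsComponent K₁ → Cfsg.IsComponent K₂ →
         ∃ s ∈ (S : Subgroup G), ((K₂.comap (QuotientGroup.mk' (Cfsg.pCore p ↥Y))).map Y.subtype) =
           (((K₁.comap (QuotientGroup.mk' (Cfsg.pCore p ↥Y))).map Y.subtype)).map
             (MulAut.conj s).toMonoidHom := by
  haveI hYn : Y.Normal := hY ▸ normalClosure_normal
  haveI hYbn : (bar p Y).Normal := hYn.map _ (QuotientGroup.mk'_surjective _)
  obtain ⟨hdvd, hsup, htr⟩ := h.layer_case hY hQ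
  set e := quotEquiv (p := p) Y with he
  refine ⟨inferInstance, ?_, ?_, fun K₁ K₂ h1 h2 => ?_⟩
  · rwa [Nat.card_congr e.toEquiv]
  · have hlay : Cfsg.layer (bar p Y) = ⊤ := by
      rw [eq_top_iff, ← map_subtype_le_map_subtype, ← MonoidHom.range_eq_map, range_subtype]
      refine hsup.le.trans (sSup_le fun K hK => ?_)
      have := map_mono (f := (bar p Y).subtype)
        (Cfsg.Comp.le_layer (Cfsg.Comp.isComponent_subgroupOf hK.1 hK.2))
      rwa [subgroupOf_map_subtype, inf_eq_left.mpr hK.2] at this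
    have h3 := Cfsg.Comp.layer_map_equiv e.symm
    rw [hlay, Subgroup.map_top_of_surjective (f := e.symm.toMonoidHom) e.symm.surjective] at h3
    exact h3.symm
  · set K₁' := (K₁.map e.toMonoidHom).map (bar p Y).subtype with hK₁'
    set K₂' := (K₂.map e.toMonoidHom).map (bar p Y).subtype with hK₂'
    obtain ⟨s, hs, hse⟩ := htr K₁' K₂'
      (Cfsg.Comp.isComponent_map_subtype hYbn.isSubnormal (Cfsg.Comp.isComponent_map_equiv e h1))
      (map_subtype_le _)
      (Cfsg.Comp.isComponent_map_subtype hYbn.isSubnormal (Cfsg.Comp.isComponent_map_equiv e h2))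
      (map_subtype_le _)
    refine ⟨s, hs, ?_⟩
    rw [comap_map_eq_inf, comap_map_eq_inf, ← he, ← hK₁', ← hK₂', hse]
    set f := QuotientGroup.mk' (Cfsg.pCore p G)
    ext g
    constructor
    · rintro ⟨hg, x, hx, hxe⟩
      refine ⟨s⁻¹ * g * s, ⟨by simpa using hYn.conj_mem g hg s⁻¹, ?_⟩, by simp [mul_assoc]⟩
      show f (s⁻¹ * g * s) ∈ K₁'
      have : f (s⁻¹ * g * s) = x := by
        rw [map_mul, map_mul, map_inv, ← hxe]
        show (f s)⁻¹ * (f s * x * (f s)⁻¹) * f s = x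
        group
      exact this ▸ hx
    · rintro ⟨x, ⟨hxY, hxK⟩, rfl⟩
      refine ⟨hYn.conj_mem x hxY s, f x, hxK, ?_⟩
      show f s * f x * (f s)⁻¹ = f (s * x * s⁻¹)
      rw [map_mul, map_mul, map_inv]

end H79.Isolated
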