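import Cfsg.Agent.H79.IsolatedBase
import Cfsg.Agent.H2.CoprimeAbelian
import Cfsg.Prelude.Def_Transfer

/-!
Isolated `p`-minimal subgroups: the case where `O^p(P)` lies in the Fitting subgroup modulo `O_p(G)`.
-/

set_option autoImplicit false
set_option linter.unusedSectionVars false
set_option linter.style.haveILetI false

namespace H79.Isolated

open Subgroup
open scoped commutatorElement

theorem commutator_sup_central_le {X : Type*} [Group X] {A Z : Subgroup X} [Z.Normal]
    (hA : ∀ a ∈ A, ∀ z ∈ Z, a * z = z * a) (hZ : ∀ a ∈ Z, ∀ z ∈ Z, a * z = z * a) :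
    ⁅A ⊔ Z, A ⊔ Z⁆ ≤ ⁅A, A⁆ := by
  rw [commutator_le]
  intro x hx y hy
  obtain ⟨a, ha, z, hz, rfl⟩ := mem_sup_of_normal_right.mp hx
  obtain ⟨b, hb, w, hw, rfl⟩ := mem_sup_of_normal_right.mp hy
  have h1 : ⁅a * z, b * w⁆ = ⁅a, b⁆ := by
    have c1 : Commute z (b * w) := Commute.mul_right (show Commute z b from (hA b hb z hz).symm) (hZ z hz w hw)
    have c2 : Commute a w := hA a ha w hw
    simp only [commutatorElement_def]
    calc a * z * (b * w) * (a * z)⁻¹ * (b * w)⁻¹ = a * (z * (b * w)) * z⁻¹ * a⁻¹ * w⁻¹ * b⁻¹ := by group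
      _ = a * b * (w * a⁻¹) * w⁻¹ * b⁻¹ := by rw [c1.eq]; group
      _ = a * b * (a⁻¹ * w) * w⁻¹ * b⁻¹ := by rw [c2.inv_left.eq]
      _ = a * b * a⁻¹ * b⁻¹ := by group
  rw [h1]
  exact commutator_mem_commutator ha hb

variable {G : Type*} [Group G] [Finite G] {p : ℕ} [hp : Fact p.Prime]
  {S : Sylow p G} {P L : Subgroup G}

/-- In the Fitting case the normal closure is `O^p(P)` and its quotient is a `t`-group of class two. -/
theorem Ctx.fitting_case (h : Ctx S P L) {Y : Subgroup G} (hY : Y = normalClosure (res p P : Set G))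
    (hQ : bar p (res p P) ≤ Cfsg.fittingSubgroup (G ⧸ Cfsg.pCore p G)) :
    Y = res p P ∧ ∃ t : ℕ, t.Prime ∧ t ≠ p ∧ IsPGroup t (bar p Y) ∧
      ⁅⁅bar p Y, bar p Y⁆, bar p Y⁆ = ⊥ := by
  classical
  set f := QuotientGroup.mk' (Cfsg.pCore p G) with hf
  set Rb := bar p (core p L) with hRb
  set Yb := bar p Y with hYb
  set Qb := bar p (res p P) with hQb
  haveI hYn : Yb.Normal := (hY ▸ normalClosure_normal : Y.Normal).map f (QuotientGroup.mk'_surjective _)
  have hQY : Qb ≤ Yb := bar_res_le_bar hY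
  obtain ⟨t, htp, ht⟩ : ∃ t : ℕ, t.Prime ∧ Qb ≤ Cfsg.pCore t (G ⧸ Cfsg.pCore p G) := by
    by_contra hno
    refine h.not_centralizes (hQ.trans ?_)
    rw [Cfsg.Comp.fitting_eq_iSup_pCore]
    exact iSup_le fun q => h.dichotomy (H1.pCore_normal' _ _) fun hle => hno ⟨q, q.2, hle⟩
  haveI : Fact t.Prime := ⟨htp⟩
  have htne : t ≠ p := by
    rintro rfl
    rw [pCore_quot_eq_bot, le_bot_iff] at ht
    exact h.not_centralizes (by rw [← hQb, ht]; exact bot_le)
  have hYt : Yb ≤ Cfsg.pCore t (G ⧸ Cfsg.pCore p G) := bar_normalClosure hY (H1.pCore_normal' _ _) ht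
  have hYtp : IsPGroup t Yb := (H1.isPGroup_pCore t _).to_le hYt
  have hcop : (Nat.card Rb).Coprime (Nat.card Yb) :=
    IsPGroup.coprime_card_of_ne p t htne.symm Rb Yb h.isPGroup_bar hYtp
  have hRY : Rb ≤ normalizer (Yb : Set (G ⧸ Cfsg.pCore p G)) := le_normalizer_of_normal
  haveI : Group.IsSolvable Rb := by
    haveI := h.isPGroup_bar.isNilpotent
    infer_instance
  have hsol : Group.IsSolvable Rb ∨ Group.IsSolvable Yb := Or.inl inferInstance
  -- `Y = [Y, R]`
  set N1 := ⁅Yb, Rb⁆ with hN1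
  have hN1n : N1.Normal := by
    refine normal_of_normalizes h (hQY.trans H1.left_le_normalizer_commutator) (le_normalizer_iff.mpr ?_)
    intro l hl x hx
    have e1 : Yb.map (MulAut.conj l).toMonoidHom = Yb :=
      mem_normalizer_iff_map_conj_eq.mp ((le_normalizer_of_normal : bar p L ≤ _) hl)
    have e2 : Rb.map (MulAut.conj l).toMonoidHom = Rb :=
      mem_normalizer_iff_map_conj_eq.mp (h.bar_L_le hl)
    have hmap : N1.map (MulAut.conj l).toMonoidHom = N1 := by
      rw [hN1, Subgroup.map_commutator, e1, e2]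
    exact hmap ▸ ⟨x, hx, rfl⟩
  have hN1e : N1 = Yb := by
    refine le_antisymm (H1.commutator_le_left_of_le_normalizer hRY) (bar_normalClosure hY hN1n ?_)
    by_contra hno
    have h1 : ⁅N1, Rb⁆ = ⊥ := commutator_eq_bot_iff_le_centralizer.mpr (h.dichotomy hN1n hno)
    rw [hN1, H1.commutator_commutator_eq hRY hcop hsol, commutator_eq_bot_iff_le_centralizer] at h1
    exact h.not_centralizes (hQY.trans h1)
  -- the derived group is centralised
  set Z := ⁅Yb, Yb⁆ with hZ
  haveI hZn : Z.Normal := commutator_normal Yb Yb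
  have hYne : Yb ≠ ⊥ := fun e => h.not_centralizes
    (hQY.trans (e.le.trans bot_le))
  haveI : Group.IsNilpotent Yb := hYtp.isNilpotent
  have hZR : Z ≤ centralizer (Rb : Set (G ⧸ Cfsg.pCore p G)) := by
    refine h.dichotomy hZn fun hle => ?_
    have h1 : Z = Yb := le_antisymm (commutator_le_self _) (bar_normalClosure hY hZn hle)
    haveI : Nontrivial Yb := (nontrivial_iff_ne_bot Yb).mpr hYne
    haveI := (isPerfect_iff (H := Yb)).mpr h1
    exact Group.IsPerfect.not_isSolvable Yb inferInstance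
  have hcl : ⁅Z, Yb⁆ = ⊥ := by
    rw [commutator_comm]
    conv_lhs => rw [← hN1e]
    refine commutator_commutator_eq_bot_of_rotate ?_ ?_
    · rw [commutator_comm Rb Z, commutator_eq_bot_iff_le_centralizer.mpr hZR, commutator_bot_left]
    · rw [eq_bot_iff, ← commutator_eq_bot_iff_le_centralizer.mpr hZR]
      exact commutator_mono (commutator_le_left Z Yb) le_rfl
  refine ⟨?_, t, htp, htne, hYtp, hcl⟩
  -- generation
  set D := Qb ⊔ (Yb ⊓ centralizer (Rb : Set (G ⧸ Cfsg.pCore p G))) with hD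
  set Sb := bar p (S : Subgroup G)
  have hSD : Sb ≤ normalizer (D : Set (G ⧸ Cfsg.pCore p G)) := by
    refine Cfsg.Comp.sup_le_normalizer h.bar_S_le_res (Cfsg.Comp.inf_le_normalizer le_normalizer_of_normal ?_)
    exact Cfsg.Comp.le_normalizer_centralizer h.bar_S_le
  have hgen : Y ⊔ (S : Subgroup G) ≤ (D ⊔ Sb).comap f := by
    refine le_of_generators S le_sup_right ?_ fun P' h1 h2 h3 => ?_
    rotate_left
    by_cases e : P' = P
    · rw [e, ← h.res_sup, ← map_le_iff_le_comap, Subgroup.map_sup]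
      exact sup_le_sup_right le_sup_left _
    all_goals
      intro g hg
      have hgL : g ∈ L := by
        first
        | exact h.other_le h1 h3 e hg
        | exact h.normalizer_le hg.2
      have hgH : f g ∈ (Yb ⊔ Sb : Subgroup (G ⧸ Cfsg.pCore p G)) := by
        rw [hYb, ← Subgroup.map_sup]
        first
        | exact mem_map_of_mem f (h2 hg)
        | exact mem_map_of_mem f hg.1
      obtain ⟨y, hy, s, hs, hys⟩ := mem_sup_of_normal_left.mp hgH
      show f g ∈ D ⊔ Sb
      rw [← hys]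
      refine mul_mem (mem_sup_left ?_) (mem_sup_right hs)
      have hyL : y ∈ bar p L := by
        have : y = f g * s⁻¹ := by rw [← hys, mul_inv_cancel_right]
        rw [this]
        exact mul_mem (mem_map_of_mem f hgL) (inv_mem (map_mono h.sylow_le hs))
      refine mem_sup_right ⟨hy, mem_centralizer_iff.mpr fun r hr => ?_⟩
      have hc : y * r * y⁻¹ * r⁻¹ ∈ Rb ⊓ Yb := by
        refine mem_inf.mpr ⟨mul_mem ((mem_normalizer_iff.mp (h.bar_L_le hyL) r).mp hr) (inv_mem hr), ?_⟩
        rw [show y * r * y⁻¹ * r⁻¹ = y * (r * y⁻¹ * r⁻¹) by group]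
        exact mul_mem hy (hYn.conj_mem _ (inv_mem hy) r)
      rw [disjoint_iff.mp (disjoint_of_coprime_natCard hcop), mem_bot, mul_inv_eq_one,
        mul_inv_eq_iff_eq_mul] at hc
      exact hc.symm
  have hYD : Yb ≤ D := by
    intro y hy
    refine mem_of_mem_sup (S.2.map f) hSD ?_ ?_
    · rw [hYb] at hy
      obtain ⟨g, hg, rfl⟩ := hy
      exact hgen (mem_sup_left hg)
    · obtain ⟨k, hk⟩ := IsPGroup.iff_orderOf.mp hYtp ⟨y, hy⟩
      rw [← orderOf_coe] at hk
      rw [show orderOf y = t ^ k from hk]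
      exact Nat.Coprime.pow_left k ((Nat.coprime_primes htp hp.out).mpr htne)
  have hCZ : Yb ⊓ centralizer (Rb : Set (G ⧸ Cfsg.pCore p G)) ≤ Z := by
    set ψ := QuotientGroup.mk' Z
    haveI : IsMulCommutative (Yb.map ψ) := by
      rw [← le_centralizer_iff_isMulCommutative, ← commutator_eq_bot_iff_le_centralizer,
        ← Subgroup.map_commutator, Subgroup.map_eq_bot_iff, QuotientGroup.ker_mk']
    have h1 := H2.inf_commutator_eq_bot (A := Rb.map ψ) (V := Yb.map ψ)
      ((map_mono hRY).trans (le_normalizer_map _))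
      ((hcop.coprime_dvd_left (card_map_dvd Rb ψ)).coprime_dvd_right (card_map_dvd Yb ψ))
    rw [← Subgroup.map_commutator, ← hN1, hN1e, inf_right_comm, inf_idem] at h1
    intro y hy
    rw [← QuotientGroup.eq_one_iff, ← mem_bot, ← h1]
    refine ⟨mem_map_of_mem ψ hy.1, mem_centralizer_iff.mpr ?_⟩
    rintro _ ⟨r, hr, rfl⟩
    show ψ r * ψ y = ψ y * ψ r
    rw [← map_mul, ← map_mul, mem_centralizer_iff.mp hy.2 r hr]
  have hYe : Yb = Qb := by
    refine le_antisymm ?_ hQY
    have hle : Yb ≤ Qb ⊔ Z := hYD.trans (sup_le le_sup_left (hCZ.trans le_sup_right))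
    have hcZ : ∀ a ∈ Yb, ∀ z ∈ Z, a * z = z * a := fun a ha z hz =>
      mem_centralizer_iff.mp (commutator_eq_bot_iff_le_centralizer.mp hcl hz) a ha
    have hZQ : Z ≤ Qb := (commutator_mono hle hle).trans
      ((commutator_sup_central_le (fun a ha => hcZ a (hQY ha))
        fun a ha => hcZ a (commutator_le_self Yb ha)).trans (commutator_le_self Qb))
    exact hle.trans (sup_le le_rfl hZQ)
  -- `O^p(P)` is normal
  haveI hn : (res p P).Normal := by
    set O := Cfsg.pCore p G
    have hO : O ≤ normalizer (res p P : Set G) := (H1.pCore_le_sylow S).trans h.sylow_le_normalizer_res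
    have hNn : (res p P ⊔ O).Normal := by
      have e : res p P ⊔ O = Yb.comap f := by
        rw [hYe, hQb, bar, comap_map_eq, QuotientGroup.ker_mk']
      rw [e]
      exact hYn.comap f
    refine ⟨fun x hx g => ?_⟩
    suffices hle : res p P ≤ (res p P).comap (MulAut.conj g).toMonoidHom from hle hx
    rw [res, map_le_iff_le_comap, Cfsg.pResidual, closure_le]
    intro y hy
    refine mem_of_mem_sup (H1.isPGroup_pCore p G) hO
      (hNn.conj_mem _ (mem_sup_left ⟨y, subset_closure hy, rfl⟩) g) ?_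
    show (orderOf (MulAut.conj g (y : G))).Coprime p
    rw [MulEquiv.orderOf_eq, orderOf_coe]
    exact hy
  exact hY.trans (normalClosure_eq_self _)

end H79.Isolated
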