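/- The numbers of elements of each order in M22. -/
import Cfsg.Agent.H29.M22Facts.Counts
import Cfsg.Agent.H69.J4.Perms
import Cfsg.Agent.H78.M22R.Loc
import Cfsg.Agent.H79.ClassCount.Small

set_option autoImplicit false
set_option linter.style.haveILetI false

open Cfsg Subgroup

namespace H79.M22Counts

open H25.M22 (G22 centList zN yN)
open H29.M22 (mem22B exists_of_mem22B centList_complete)

attribute [local irreducible] centList

/-- All entries lie in the group and they are pairwise different. -/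
noncomputable def goodB (L : List ℕ) : Bool :=
  L.all mem22B && (List.range L.length).all fun i => (List.range i).all fun j =>
    !H94.peq (L.getD i 0) (L.getD j 0)

/-- Exact counting inside a centraliser list. -/
theorem card_eq_of_list {r : ℕ} {ρ : G22} (hR : H94.Reps r ρ.1) (Φ : G22 → Prop) (F : ℕ → Bool)
    (hF : ∀ {g : G22} {P : ℕ}, H94.Reps P g.1 → (F P = true ↔ Φ g))
    (hc : ∀ g, Φ g → g * ρ = ρ * g) {N : ℕ}
    (hN : (goodB ((centList r).filter F) && Nat.beq ((centList r).filter F).length N) = true) :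
    Nat.card {g : G22 // Φ g} = N := by
  classical
  rw [Bool.and_eq_true, goodB, Bool.and_eq_true] at hN
  obtain ⟨⟨hmem, hnd⟩, hlen⟩ := hN
  have hlen' := Nat.eq_of_beq_eq_true hlen
  set L := (centList r).filter F with hL
  have hex : ∀ i : Fin L.length, ∃ g : G22, H94.Reps L[i.val] g.1 := fun i =>
    exists_of_mem22B (List.all_eq_true.1 hmem _ (List.getElem_mem i.isLt))
  choose f hf using hex
  have hΦ : ∀ i, Φ (f i) := fun i =>
    (hF (hf i)).1 (List.mem_filter.1 (List.getElem_mem i.isLt : L[i.val] ∈ L)).2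
  let g : Fin L.length → {g : G22 // Φ g} := fun i => ⟨f i, hΦ i⟩
  rw [← hlen', ← Nat.card_fin L.length]
  refine (Nat.card_eq_of_bijective g ⟨?_, ?_⟩).symm
  · have key : ∀ i j : Fin L.length, j.val < i.val → f i ≠ f j := by
      intro i j hlt hij
      have := List.all_eq_true.1 (List.all_eq_true.1 hnd i.val (List.mem_range.2 i.isLt)) j.val
        (List.mem_range.2 hlt)
      rw [List.getD_eq_getElem _ _ i.isLt, List.getD_eq_getElem _ _ j.isLt,
        (hf i).peq_of_eq (hij ▸ hf j)] at this
      simp at this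
    intro i j hij
    have e : f i = f j := congrArg Subtype.val hij
    rcases lt_trichotomy i.val j.val with h | h | h
    · exact absurd e.symm (key j i h)
    · exact Fin.ext h
    · exact absurd e (key i j h)
  · rintro ⟨x, hx⟩
    obtain ⟨P, hP, hPR⟩ := centList_complete hR (g := x) (congrArg Subtype.val (hc x hx))
    obtain ⟨i, hi, rfl⟩ := List.getElem_of_mem
      (List.mem_filter.2 ⟨hP, (hF hPR).2 hx⟩ : P ∈ L)
    exact ⟨⟨i, hi⟩, Subtype.ext (Subtype.ext ((hf ⟨i, hi⟩).unique hPR))⟩

/-- Elements of order `n` over a single class of elements of order `m`. -/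
theorem card_order_fibre {G : Type*} [Group G] [Finite G] {n k m : ℕ} {ρ : G}
    (hmap : ∀ w : G, orderOf w = n → orderOf (w ^ k) = m)
    (hconj : ∀ x : G, orderOf x = m → IsConj ρ x) :
    Nat.card {w : G // orderOf w = n} =
      Nat.card {x : G // orderOf x = m} * Nat.card {w : G // orderOf w = n ∧ w ^ k = ρ} := by
  haveI := Fintype.ofFinite {x : G // orderOf x = m}
  let f : {w : G // orderOf w = n} → {x : G // orderOf x = m} := fun w => ⟨w.1 ^ k, hmap _ w.2⟩
  rw [← Nat.card_congr (Equiv.sigmaFiberEquiv f), Nat.card_sigma]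
  have hfib : ∀ x, Nat.card {w // f w = x} = Nat.card {w : G // orderOf w = n ∧ w ^ k = ρ} := by
    rintro ⟨x, hx⟩
    obtain ⟨c, hc⟩ := isConj_iff.1 (hconj x hx)
    refine Nat.card_congr
      { toFun := fun w => ⟨c⁻¹ * w.1.1 * c, ?_, ?_⟩
        invFun := fun w => ⟨⟨c * w.1 * c⁻¹, ?_⟩, Subtype.ext ?_⟩
        left_inv := fun w => Subtype.ext (Subtype.ext (by group))
        right_inv := fun w => Subtype.ext (by group) }
    · rw [show c⁻¹ * w.1.1 * c = MulAut.conj c⁻¹ w.1.1 by simp, MulEquiv.orderOf_eq]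
      exact w.1.2
    · have h : w.1.1 ^ k = x := congrArg Subtype.val w.2
      rw [show c⁻¹ * w.1.1 * c = MulAut.conj c⁻¹ w.1.1 by simp, ← map_pow, h, MulAut.conj_apply,
        ← hc]
      group
    · rw [← MulAut.conj_apply, MulEquiv.orderOf_eq]; exact w.2.1
    · show (c * w.1 * c⁻¹) ^ k = x
      rw [conj_pow, w.2.2, hc]
  rw [Finset.sum_congr rfl (fun x _ => hfib x), Finset.sum_const, Finset.card_univ, smul_eq_mul,
    ← Nat.card_eq_fintype_card]

/-- Elements of prime order `p` when `p` exactly divides the order and one centraliser has order `p`. -/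
theorem card_order_prime {G : Type*} [Group G] [Finite G] {p : ℕ} [Fact p.Prime]
    (hfac : (Nat.card G).factorization p = 1) {f : G} (hf : orderOf f = p)
    (hC : Nat.card (centralizer ({f} : Set G)) ≤ p) :
    ∃ d, d ∣ p - 1 ∧ p * d ∣ Nat.card G ∧ Nat.card G / (p * d) % p = 1 ∧
      Nat.card {g : G // orderOf g = p} = Nat.card G / (p * d) * (p - 1) := by
  have hp : p.Prime := Fact.out
  set H := zpowers f with hH
  have hHc : Nat.card H = p := by rw [hH, Nat.card_zpowers, hf]
  let S : Sylow p G := Sylow.ofCard H (by rw [hHc, hfac, pow_one])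
  set Nm := normalizer (H : Set G) with hNm
  have hcent : centralizer (H : Set G) = H := by
    refine (eq_of_le_of_card_ge (fun g hg => mem_centralizer_iff.2 fun z hz => ?_) ?_).symm
    · obtain ⟨i, rfl⟩ := mem_zpowers_iff.1 hg
      obtain ⟨j, rfl⟩ := mem_zpowers_iff.1 hz
      exact (Commute.refl f).zpow_zpow j i
    · rw [hHc]
      exact (card_le_of_le fun g hg =>
        mem_centralizer_singleton_iff.2 ((mem_centralizer_iff.1 hg) f (mem_zpowers f)).symm).trans hC
  have hker : Nat.card H.normalizerMonoidHom.ker = p := by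
    rw [H.normalizerMonoidHom_ker, hcent,
      Nat.card_congr (subgroupOfEquivOfLe le_normalizer).toEquiv, hHc]
  haveI : IsCyclic H := isCyclic_of_prime_card hHc
  have hr : Nat.card H.normalizerMonoidHom.range ∣ p - 1 := by
    refine (card_subgroup_dvd_card _).trans (dvd_of_eq ?_)
    rw [IsCyclic.card_mulAut, hHc, Nat.totient_prime hp]
  have hmul : Nat.card Nm = p * Nat.card H.normalizerMonoidHom.range := by
    rw [← hker, ← index_ker, card_mul_index]
  have hidx : Nat.card (Sylow p G) = Nm.index := S.card_eq_index_normalizer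
  have hprod := Nm.card_mul_index
  rw [hmul] at hprod
  have hdiv : Nat.card G / (p * Nat.card H.normalizerMonoidHom.range) = Nm.index := by
    rw [← hprod, Nat.mul_div_cancel_left _ (hmul ▸ Nat.card_pos)]
  refine ⟨_, hr, Dvd.intro _ hprod, ?_, ?_⟩
  · rw [hdiv, ← hidx, card_sylow_modEq_one p G, Nat.one_mod_eq_one.2 hp.ne_one]
  rw [hdiv, ← hidx]
  haveI := Fintype.ofFinite (Sylow p G)
  let g : (Σ P : Sylow p G, {x : (P : Subgroup G) // x ≠ 1}) → {x : G // orderOf x = p} := fun a =>
    ⟨a.2.1.1, by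
      have hP : Nat.card (a.1 : Subgroup G) = p := by rw [a.1.card_eq_multiplicity, hfac, pow_one]
      have h1 := orderOf_dvd_natCard a.2.1
      rw [hP] at h1
      rw [orderOf_coe]
      exact ((Nat.dvd_prime hp).1 h1).resolve_left (orderOf_eq_one_iff.not.2 a.2.2)⟩
  have hg : Function.Bijective g := by
    constructor
    · rintro ⟨P, x⟩ ⟨Q, y⟩ h
      have hxy : (x.1 : G) = (y.1 : G) := congrArg Subtype.val h
      have key : ∀ (P : Sylow p G) (x : {x : (P : Subgroup G) // x ≠ 1}),
          (P : Subgroup G) = zpowers (x.1 : G) := fun P x => (eq_of_le_of_card_ge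
        (zpowers_le.2 x.1.2) (by
          rw [Nat.card_zpowers, (g ⟨P, x⟩).2, P.card_eq_multiplicity, hfac, pow_one])).symm
      obtain rfl : P = Q := Sylow.ext (by rw [key P x, key Q y, hxy])
      rw [show x = y from Subtype.ext (Subtype.ext hxy)]
    · rintro ⟨x, hx⟩
      obtain ⟨P, hP⟩ := (IsPGroup.of_card (p := p) (n := 1) (by
        rw [Nat.card_zpowers, hx, pow_one]) : IsPGroup p (zpowers x)).exists_le_sylow
      refine ⟨⟨P, ⟨x, hP (mem_zpowers x)⟩, fun e => ?_⟩, rfl⟩
      have : x = 1 := congrArg Subtype.val e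
      rw [this, orderOf_one] at hx
      exact hp.ne_one hx.symm
  rw [← Nat.card_eq_of_bijective g hg, Nat.card_sigma]
  have : ∀ P : Sylow p G, Nat.card {x : (P : Subgroup G) // x ≠ 1} = p - 1 := fun P => by
    classical
    haveI := Fintype.ofFinite (P : Subgroup G)
    have hP : Nat.card (P : Subgroup G) = p := by rw [P.card_eq_multiplicity, hfac, pow_one]
    rw [Nat.card_eq_fintype_card, Fintype.card_subtype_compl, Fintype.card_subtype_eq,
      ← Nat.card_eq_fintype_card, hP]
  rw [Finset.sum_congr rfl (fun P _ => this P), Finset.sum_const, Finset.card_univ, smul_eq_mul,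
    ← Nat.card_eq_fintype_card]

/-- Is the encoded permutation of square `zN`? -/
noncomputable def F4 (P : ℕ) : Bool := H94.peq (H94.pmul P P) zN

/-- Is the encoded permutation of fourth power `zN`? -/
noncomputable def F8 (P : ℕ) : Bool :=
  H94.peq (H94.pmul (H94.pmul P P) (H94.pmul P P)) zN

/-- Has the encoded permutation square `yN` and order six? -/
noncomputable def F6 (P : ℕ) : Bool :=
  H94.peq (H94.pmul P P) yN && !H94.peq (H94.pmul (H94.pmul P P) P) H94.pone

attribute [local semireducible] centList in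
theorem four_ok : (goodB ((centList zN).filter F4) &&
    Nat.beq ((centList zN).filter F4).length 36) = true := by decide +kernel

attribute [local semireducible] centList in
theorem eight_ok : (goodB ((centList zN).filter F8) &&
    Nat.beq ((centList zN).filter F8).length 48) = true := by decide +kernel

attribute [local semireducible] centList in
theorem six_ok : (goodB ((centList yN).filter F6) &&
    Nat.beq ((centList yN).filter F6).length 3) = true := by decide +kernel

theorem card22 : Nat.card G22 = 443520 := H25.M22.card22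

theorem cnt1 : Nat.card {g : G22 // orderOf g = 1} = 1 := by
  simp [orderOf_eq_one_iff]

theorem cnt2 : Nat.card {g : G22 // orderOf g = 2} = 1155 := by
  rw [← H29.M22.card_invol]
  haveI : Fact (Nat.Prime 2) := ⟨Nat.prime_two⟩
  refine Nat.card_congr (Equiv.subtypeEquivRight fun g => ⟨fun h => ⟨?_, ?_⟩, fun h => ?_⟩)
  · rw [← pow_two, ← h]; exact pow_orderOf_eq_one g
  · rintro rfl; rw [orderOf_one] at h; omega
  · exact orderOf_eq_prime (by rw [pow_two, h.1]) h.2

theorem cnt3 : Nat.card {g : G22 // orderOf g = 3} = 12320 := by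
  obtain ⟨y, -, hy⟩ := H25.M22.exists_y
  have h := H79.ClassCount.card_carrier_mul_card_centralizer y
  rw [H42.J4.card_cent_three hy, card22] at h
  have h2 : Nat.card {g : G22 // orderOf g = 3} = Nat.card (ConjClasses.mk y).carrier := by
    refine Nat.card_congr (Equiv.subtypeEquivRight fun g => ?_)
    rw [ConjClasses.mem_carrier_iff_mk_eq, ConjClasses.mk_eq_mk_iff_isConj]
    refine ⟨fun hg => H42.J4.isConj_three hg hy, fun hc => ?_⟩
    obtain ⟨c, hc⟩ := isConj_iff.1 hc.symm
    rw [← hc, ← MulAut.conj_apply, MulEquiv.orderOf_eq, hy]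
  omega

theorem isConj_two {z : G22} (hz : H90.Repr z.1 zN) {x : G22} (hx : orderOf x = 2) :
    IsConj z x :=
  H25.M22.isConj_inv hz (by rw [← pow_two, ← hx]; exact pow_orderOf_eq_one x)
    (by rintro rfl; rw [orderOf_one] at hx; omega)

theorem exists_z : ∃ z : G22, H90.Repr z.1 zN ∧ H94.Reps zN z.1 ∧ orderOf z = 2 := by
  haveI : Fact (Nat.Prime 2) := ⟨Nat.prime_two⟩
  obtain ⟨z, h1, h2, h3, h4⟩ := H29.M22.exists_z
  exact ⟨z, h1, h2, orderOf_eq_prime (by rw [pow_two, h3]) h4⟩

theorem cnt4 : Nat.card {g : G22 // orderOf g = 4} = 41580 := by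
  haveI : Fact (Nat.Prime 2) := ⟨Nat.prime_two⟩
  obtain ⟨z, hz, hR, hzo⟩ := exists_z
  rw [card_order_fibre (k := 2) (m := 2) (ρ := z)
    (fun w hw => by rw [orderOf_pow' w (by norm_num), hw]; rfl) fun x hx => isConj_two hz hx, cnt2,
    card_eq_of_list hR _ F4 ?_ ?_ four_ok]
  · intro g P hP
    refine ⟨fun h => ?_, fun h => ?_⟩
    · have e : g ^ 2 = z := Subtype.ext (by
        rw [pow_two]; exact (hP.mul hP).eq_of_peq hR h)
      refine ⟨orderOf_eq_prime_pow (p := 2) (n := 1) ?_ ?_, e⟩
      · rw [pow_one, e]; rintro rfl; rw [orderOf_one] at hzo; omega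
      · rw [show 2 ^ (1 + 1) = 2 * 2 by norm_num, pow_mul, e, ← hzo, pow_orderOf_eq_one]
    · refine (hP.mul hP).peq_of_eq ?_
      rw [show g.1 * g.1 = z.1 from congrArg Subtype.val (by rw [← pow_two]; exact h.2 : g * g = z)]
      exact hR
  · rintro g ⟨-, rfl⟩
    exact ((Commute.refl g).pow_right 2).eq

theorem cnt8 : Nat.card {g : G22 // orderOf g = 8} = 55440 := by
  haveI : Fact (Nat.Prime 2) := ⟨Nat.prime_two⟩
  obtain ⟨z, hz, hR, hzo⟩ := exists_z
  rw [card_order_fibre (k := 4) (m := 2) (ρ := z)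
    (fun w hw => by rw [orderOf_pow' w (by norm_num), hw]; rfl) fun x hx => isConj_two hz hx, cnt2,
    card_eq_of_list hR _ F8 ?_ ?_ eight_ok]
  · intro g P hP
    have h4 : g ^ 4 = g * g * (g * g) := by simp [pow_succ, mul_assoc]
    refine ⟨fun h => ?_, fun h => ?_⟩
    · have e : g ^ 4 = z := by
        rw [h4]; exact Subtype.ext (((hP.mul hP).mul (hP.mul hP)).eq_of_peq hR h)
      refine ⟨orderOf_eq_prime_pow (p := 2) (n := 2) ?_ ?_, e⟩
      · rw [show (2 : ℕ) ^ 2 = 4 by norm_num, e]; rintro rfl; rw [orderOf_one] at hzo; omega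
      · rw [show 2 ^ (2 + 1) = 4 * 2 by norm_num, pow_mul, e, ← hzo, pow_orderOf_eq_one]
    · refine ((hP.mul hP).mul (hP.mul hP)).peq_of_eq ?_
      rw [show g.1 * g.1 * (g.1 * g.1) = z.1 from congrArg Subtype.val (h4.symm.trans h.2)]
      exact hR
  · rintro g ⟨-, rfl⟩
    exact ((Commute.refl g).pow_right 4).eq

theorem cnt6 : Nat.card {g : G22 // orderOf g = 6} = 36960 := by
  obtain ⟨y, hy, hyo⟩ := H25.M22.exists_y
  have hR := H25.M22.reps_of_repr hy
  rw [card_order_fibre (k := 2) (m := 3) (ρ := y)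
    (fun w hw => by rw [orderOf_pow' w (by norm_num), hw]; rfl)
    (fun x hx => H25.M22.three_conj hy hx), cnt3, card_eq_of_list hR _ F6 ?_ ?_ six_ok]
  · intro g P hP
    rw [F6, Bool.and_eq_true, Bool.not_eq_true']
    refine ⟨fun ⟨h1, h2⟩ => ?_, fun h => ⟨?_, ?_⟩⟩
    · have e : g ^ 2 = y := by rw [pow_two]; exact Subtype.ext ((hP.mul hP).eq_of_peq hR h1)
      refine ⟨?_, e⟩
      have h6 : orderOf g ∣ 6 := orderOf_dvd_of_pow_eq_one (by
        rw [show 6 = 2 * 3 by norm_num, pow_mul, e, ← hyo, pow_orderOf_eq_one])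
      have hn2 : ¬ orderOf g ∣ 2 := fun h => by
        rw [orderOf_dvd_iff_pow_eq_one, e] at h; rw [h, orderOf_one] at hyo; omega
      have hn3 : ¬ orderOf g ∣ 3 := fun h => by
        rw [orderOf_dvd_iff_pow_eq_one] at h
        have e' : H94.peq (H94.pmul (H94.pmul P P) P) H94.pone = true :=
          ((hP.mul hP).mul hP).peq_of_eq (by
            rw [show g.1 * g.1 * g.1 = 1 from congrArg Subtype.val
              ((show g * g * g = g ^ 3 by simp [pow_succ]).trans h)]
            exact H94.reps_one)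
        rw [e'] at h2; exact Bool.noConfusion h2
      have := Nat.le_of_dvd (by norm_num) h6
      have h0 := orderOf_pos g
      interval_cases h : orderOf g <;> omega
    · refine (hP.mul hP).peq_of_eq ?_
      rw [show g.1 * g.1 = y.1 from congrArg Subtype.val (by rw [← pow_two]; exact h.2 : g * g = y)]
      exact hR
    · rw [← Bool.not_eq_true]
      intro h3
      have e : g * g * g = 1 := Subtype.ext (((hP.mul hP).mul hP).eq_of_peq H94.reps_one h3)
      have : orderOf g ∣ 3 := orderOf_dvd_of_pow_eq_one (by simpa [pow_succ] using e)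
      rw [h.1] at this; norm_num at this
  · rintro g ⟨-, rfl⟩
    exact ((Commute.refl g).pow_right 2).eq

theorem cnt5 : Nat.card {g : G22 // orderOf g = 5} = 88704 := by
  haveI : Fact (Nat.Prime 5) := ⟨by norm_num⟩
  obtain ⟨f, hf, hC⟩ := H29.M22.exists_five
  obtain ⟨d, hd, -, hmod, hcnt⟩ := card_order_prime H29.M22.fac_five hf hC
  rw [card22] at hmod hcnt
  have := Nat.le_of_dvd (by norm_num) hd
  rw [hcnt]
  interval_cases d <;> simp_all

theorem cnt7 : Nat.card {g : G22 // orderOf g = 7} = 126720 := by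
  haveI : Fact (Nat.Prime 7) := ⟨by norm_num⟩
  obtain ⟨f, hf, hC⟩ := H29.M22.exists_seven
  obtain ⟨d, hd, -, hmod, hcnt⟩ := card_order_prime H29.M22.fac_seven hf hC
  rw [card22] at hmod hcnt
  have := Nat.le_of_dvd (by norm_num) hd
  rw [hcnt]
  interval_cases d <;> simp_all

theorem fac_eleven : (Nat.card G22).factorization 11 = 1 := by
  rw [card22, show (443520 : ℕ) = 11 ^ 1 * 40320 by norm_num,
    Nat.factorization_mul (by norm_num) (by norm_num), Nat.Prime.factorization_pow (by norm_num)]
  simp [Nat.factorization_eq_zero_of_not_dvd (show ¬ 11 ∣ 40320 by norm_num)]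

theorem eleven_mem : (H87.mem22 Cfsg.Agent.H69.J4.pB && !H87.eqB Cfsg.Agent.H69.J4.pB H90.idN) = true := by decide +kernel

theorem eleven_pow : H87.eqB (Cfsg.Agent.H69.J4.powN Cfsg.Agent.H69.J4.pB 11) H90.idN = true := by
  decide +kernel

theorem cnt11 : Nat.card {g : G22 // orderOf g = 11} = 80640 := by
  haveI : Fact (Nat.Prime 11) := ⟨by norm_num⟩
  have hm := eleven_mem
  rw [Bool.and_eq_true, Bool.not_eq_true'] at hm
  obtain ⟨f, hf⟩ := H87.exists_of_mem22 hm.1
  have hfo : orderOf f = 11 := by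
    have hf1 : f ≠ 1 := fun e => by
      rw [(H87.eqB_iff hf H90.repr_one).2 (by rw [e]; rfl)] at hm
      exact Bool.noConfusion hm.2
    have h11 : f ^ 11 = 1 := by
      refine Subtype.ext ?_
      rw [SubgroupClass.coe_pow]
      exact (H87.eqB_iff (Cfsg.Agent.H69.J4.repr_pow hf 11) H90.repr_one).1 eleven_pow
    exact orderOf_eq_prime h11 hf1
  have hC : Nat.card (centralizer ({f} : Set G22)) ≤ 11 := by
    by_contra hlt
    rw [not_le] at hlt
    set C := centralizer ({f} : Set G22) with hCdef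
    have h11 : 11 ∣ Nat.card C :=
      hfo ▸ C.orderOf_dvd_natCard (mem_centralizer_singleton_iff.2 rfl)
    obtain ⟨j, hj⟩ := h11
    have hjd : j ∣ 40320 := by
      have h := card_subgroup_dvd_card C
      rw [hj, card22, show (443520 : ℕ) = 11 * 40320 by norm_num] at h
      exact Nat.dvd_of_mul_dvd_mul_left (by norm_num) h
    obtain ⟨q, hq, hqj⟩ := Nat.exists_prime_and_dvd (n := j) (by omega)
    have hq4 : q = 2 ∨ q = 3 ∨ q = 5 ∨ q = 7 := by
      have h : q ∣ 2 ^ 7 * (3 ^ 2 * (5 * 7)) := by norm_num; exact hqj.trans hjd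
      rcases hq.dvd_mul.1 h with h | h
      · exact Or.inl ((Nat.prime_dvd_prime_iff_eq hq Nat.prime_two).1 (hq.dvd_of_dvd_pow h))
      rcases hq.dvd_mul.1 h with h | h
      · exact Or.inr (Or.inl ((Nat.prime_dvd_prime_iff_eq hq Nat.prime_three).1 (hq.dvd_of_dvd_pow h)))
      rcases hq.dvd_mul.1 h with h | h
      · exact Or.inr (Or.inr (Or.inl ((Nat.prime_dvd_prime_iff_eq hq (by norm_num)).1 h)))
      · exact Or.inr (Or.inr (Or.inr ((Nat.prime_dvd_prime_iff_eq hq (by norm_num)).1 h)))
    haveI : Fact q.Prime := ⟨hq⟩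
    obtain ⟨w, hw⟩ := exists_prime_orderOf_dvd_card' (G := C) q (hj ▸ hqj.mul_left 11)
    have hwo : orderOf (w : G22) = q := by rw [orderOf_coe, hw]
    have hcw : (w : G22) * f = f * w := mem_centralizer_singleton_iff.1 w.2
    have hfw : 11 ∣ Nat.card (centralizer ({(w : G22)} : Set G22)) :=
      hfo ▸ (centralizer ({(w : G22)} : Set G22)).orderOf_dvd_natCard
        (mem_centralizer_singleton_iff.2 hcw.symm)
    rcases hq4 with rfl | rfl | rfl | rfl
    · obtain ⟨hle, h128⟩ := H42.J4.card_cent_invol hwo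
      have := Nat.le_of_dvd Nat.card_pos
        (Nat.Coprime.mul_dvd_of_dvd_of_dvd (by norm_num : Nat.Coprime 128 11) h128 hfw)
      omega
    · rw [H42.J4.card_cent_three hwo] at hfw; norm_num at hfw
    · obtain ⟨f5, h5, h5C⟩ := H29.M22.exists_five
      have := H29.M22.card_cent_prime H29.M22.fac_five h5 h5C hwo hcw.symm
      rw [hfo] at this; norm_num at this
    · obtain ⟨f7, h7, h7C⟩ := H29.M22.exists_seven
      have := H29.M22.card_cent_prime H29.M22.fac_seven h7 h7C hwo hcw.symm
      rw [hfo] at this; norm_num at this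
  obtain ⟨d, hd, -, hmod, hcnt⟩ := card_order_prime fac_eleven hfo hC
  rw [card22] at hmod hcnt
  have := Nat.le_of_dvd (by norm_num) hd
  rw [hcnt]
  interval_cases d <;> simp_all

/-- The counts, with the nine orders. -/
def tbl : List (ℕ × ℕ) :=
  [(1, 1), (2, 1155), (3, 12320), (4, 41580), (5, 88704), (6, 36960), (7, 126720), (8, 55440),
    (11, 80640)]

theorem cnt_tbl : ∀ q ∈ tbl, Nat.card {g : G22 // orderOf g = q.1} = q.2 := by
  simp only [tbl, List.forall_mem_cons, List.not_mem_nil, false_implies, implies_true, and_true]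
  exact ⟨cnt1, cnt2, cnt3, cnt4, cnt5, cnt6, cnt7, cnt8, cnt11⟩

/-- Only the nine orders occur. -/
theorem order_mem (g : G22) : orderOf g ∈ tbl.map Prod.fst := by
  classical
  by_contra hg
  haveI := Fintype.ofFinite G22
  let S : Finset ℕ := (tbl.map Prod.fst).toFinset
  have h1 : (Finset.univ.filter fun x : G22 => orderOf x ∈ S).card = 443520 := by
    rw [Finset.card_eq_sum_card_fiberwise (t := S) (f := fun x : G22 => orderOf x)
      (s := Finset.univ.filter fun x : G22 => orderOf x ∈ S)
      (fun x hx => Finset.mem_coe.2 (Finset.mem_filter.1 (Finset.mem_coe.1 hx)).2)]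
    rw [show S = {1, 2, 3, 4, 5, 6, 7, 8, 11} by decide]
    have e : ∀ n ∈ ({1, 2, 3, 4, 5, 6, 7, 8, 11} : Finset ℕ),
        ((Finset.univ.filter fun x : G22 => orderOf x ∈ ({1, 2, 3, 4, 5, 6, 7, 8, 11} : Finset ℕ)).filter
          fun x => orderOf x = n).card = Nat.card {g : G22 // orderOf g = n} := by
      intro n hn
      rw [Nat.card_eq_fintype_card, Fintype.card_subtype, Finset.filter_filter]
      congr 1
      ext x
      simp only [Finset.mem_filter, Finset.mem_univ, true_and]
      exact ⟨fun h => h.2, fun h => ⟨h ▸ hn, h⟩⟩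
    rw [Finset.sum_congr rfl e]
    rw [Finset.sum_insert (by decide), Finset.sum_insert (by decide), Finset.sum_insert (by decide),
      Finset.sum_insert (by decide), Finset.sum_insert (by decide), Finset.sum_insert (by decide),
      Finset.sum_insert (by decide), Finset.sum_insert (by decide), Finset.sum_singleton,
      cnt1, cnt2, cnt3, cnt4, cnt5, cnt6, cnt7, cnt8, cnt11]
    norm_num
  have h2 : (Finset.univ.filter fun x : G22 => orderOf x ∈ S) ≠ Finset.univ := fun e => by
    have := e.symm ▸ Finset.mem_univ g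
    rw [Finset.mem_filter] at this
    exact hg (List.mem_toFinset.1 this.2)
  have h3 := Finset.card_lt_card (Finset.filter_subset (fun x : G22 => orderOf x ∈ S) _ |>.ssubset_of_ne h2)
  rw [h1, Finset.card_univ, ← Nat.card_eq_fintype_card, card22] at h3
  omega

/-- The set of the numbers of elements of equal order in M22. -/
theorem m22_nse : {c : ℕ | 0 < c ∧ ∃ n : ℕ, c = Nat.card {g : ↥Cfsg.Spor.M22 // orderOf g = n}} =
    H78.M22R.nseM22 := by
  ext c
  have hs : ∀ c : ℕ, c ∈ H78.M22R.nseM22 ↔ c ∈ tbl.map Prod.snd := fun c => by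
    simp only [H78.M22R.nseM22, tbl, List.map_cons, List.map_nil, List.mem_cons, List.not_mem_nil,
      or_false, Set.mem_insert_iff, Set.mem_singleton_iff]
    tauto
  rw [hs, Set.mem_ofPred_eq]
  constructor
  · rintro ⟨hc, n, rfl⟩
    obtain ⟨⟨g, hg⟩⟩ := (Nat.card_pos_iff.1 hc).1
    obtain ⟨q, hq, hqn⟩ := List.mem_map.1 (order_mem g)
    refine List.mem_map.2 ⟨q, hq, ?_⟩
    rw [← cnt_tbl q hq, hqn, hg]
  · intro h
    obtain ⟨q, hq, rfl⟩ := List.mem_map.1 h
    refine ⟨?_, q.1, (cnt_tbl q hq).symm⟩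
    simp only [tbl, List.mem_cons, List.not_mem_nil, or_false] at hq
    rcases hq with rfl | rfl | rfl | rfl | rfl | rfl | rfl | rfl | rfl <;> norm_num

end H79.M22Counts
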