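/- The numbers of elements of each order in M12. -/
import Cfsg.Agent.H92.DodBase
import Cfsg.Agent.H87.MathieuCert
import Cfsg.Agent.H94.Centralisers
import Cfsg.Agent.H37.MTwelveNse.Base
import Cfsg.Agent.H79.M22Counts

set_option autoImplicit false
set_option linter.style.haveILetI false

open Cfsg Subgroup
open scoped Pointwise

namespace H79.M12Counts

/-- The dodecad containing the five base positions. -/
noncomputable abbrev S : Finset GolayPt := H90.setOf' H92.dod0

/-- The stabiliser of that dodecad. -/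
noncomputable def W : Subgroup (Equiv.Perm GolayPt) :=
  M24 ⊓ MulAction.stabilizer (Equiv.Perm GolayPt) S

theorem mem_W {g : Equiv.Perm GolayPt} : g ∈ W ↔ g ∈ M24 ∧ g • S = S := by
  simp [W, MulAction.mem_stabilizer_iff]

/-- A stabiliser of another dodecad is conjugate, so isomorphic. -/
theorem exists_equiv : Nonempty (↥Spor.M12 ≃* ↥W) := by
  obtain ⟨u, hu, hud⟩ := H92.dodecads_conj H87.squareDodecad_mem H92.dod0_mem
  have hinv : u⁻¹ • S = Spor.squareDodecad := inv_smul_eq_iff.2 hud.symm
  have hto : ∀ g : ↥Spor.M12, u * g.1 * u⁻¹ ∈ W := fun g => by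
    obtain ⟨h1, h2⟩ := Subgroup.mem_inf.1 g.2
    refine mem_W.2 ⟨M24.mul_mem (M24.mul_mem hu h1) (M24.inv_mem hu), ?_⟩
    rw [mul_smul, mul_smul, hinv, MulAction.mem_stabilizer_iff.1 h2, hud]
  have hfrom : ∀ g : ↥W, u⁻¹ * g.1 * u ∈ Spor.M12 := fun g => by
    obtain ⟨h1, h2⟩ := mem_W.1 g.2
    refine Subgroup.mem_inf.2 ⟨M24.mul_mem (M24.mul_mem (M24.inv_mem hu) h1) hu,
      MulAction.mem_stabilizer_iff.2 ?_⟩
    rw [mul_smul, mul_smul, hud, h2, hinv]
  exact ⟨{ toFun := fun g => ⟨_, hto g⟩
           invFun := fun g => ⟨_, hfrom g⟩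
           left_inv := fun g => Subtype.ext (show u⁻¹ * (u * g.1 * u⁻¹) * u = g.1 by group)
           right_inv := fun g => Subtype.ext (show u * (u⁻¹ * g.1 * u) * u⁻¹ = g.1 by group)
           map_mul' := fun g h => Subtype.ext (show u * (g.1 * h.1) * u⁻¹ =
             u * g.1 * u⁻¹ * (u * h.1 * u⁻¹) by group) }⟩

theorem card_W : Nat.card ↥W = 95040 := by
  obtain ⟨e⟩ := exists_equiv
  rw [← Nat.card_congr e.toEquiv, H87.natCard_M12]

/-- Membership of a packed permutation. -/
noncomputable def memW (P : ℕ) : Bool := H94.memB P && Nat.beq (H94.pmask P H92.dod0) H92.dod0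

theorem exists_of_memW {P : ℕ} (h : memW P = true) : ∃ g : ↥W, H94.Reps P g.1 := by
  rw [memW, Bool.and_eq_true] at h
  obtain ⟨g, hg, hR⟩ := H94.exists_perm_of_memB h.1
  refine ⟨⟨g, mem_W.2 ⟨hg, ?_⟩⟩, hR⟩
  show g • H90.setOf' H92.dod0 = H90.setOf' H92.dod0
  rw [← hR.setOf', Nat.eq_of_beq_eq_true h.2]

/-- The filter of the centraliser enumeration. -/
noncomputable def centF (r l Q : ℕ) : Bool :=
  H94.bitB H92.dod0 (H94.pap Q l) && H94.commF r l Q

/-- The centraliser list. -/
noncomputable def centList (r : ℕ) : List ℕ :=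
  (H94.search (centF r)).filter fun P =>
    Nat.beq (H94.pmask P H92.dod0) H92.dod0 && H94.commB r P

theorem centList_card {r : ℕ} {ρ : ↥W} (hR : H94.Reps r ρ.1) :
    Nat.card (centralizer ({ρ} : Set ↥W)) ≤ (centList r).length := by
  classical
  have hex : ∀ c : centralizer ({ρ} : Set ↥W), ∃ i : Fin (centList r).length,
      H94.Reps (centList r)[i.val] (c : ↥W).1 := by
    intro c
    have hc : (c : ↥W).1 * ρ.1 = ρ.1 * (c : ↥W).1 :=
      congrArg Subtype.val (mem_centralizer_singleton_iff.1 c.2)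
    obtain ⟨hM, hS⟩ := mem_W.1 (c : ↥W).2
    obtain ⟨P, hP, hPR⟩ := H94.search_complete (centF r) hM (fun l hl Q hQ => by
      rw [centF, Bool.and_eq_true]
      refine ⟨?_, H94.commF_spec hR hc l hl Q hQ⟩
      rw [hQ l (Nat.lt_succ_self l), ← H92.mem_setOf'_bitB (H94.idxN_lt _), H94.ptN_idxN]
      show (c : ↥W).1 (H94.ptN l) ∈ S
      rw [← hS]
      exact Finset.smul_mem_smul_finset (H92.base_mem_dod0 hl))
    have hmem : P ∈ centList r := by
      refine List.mem_filter.2 ⟨hP, ?_⟩
      rw [Bool.and_eq_true]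
      refine ⟨?_, H94.commB_of_commute hPR hR hc⟩
      have e : H94.pmask P H92.dod0 = H92.dod0 :=
        H90.setOf'_injOn (hPR.pmask_lt _) H92.dod0_word.2.2.1 (by rw [hPR.setOf']; exact hS)
      rw [e]; exact Nat.beq_refl _
    obtain ⟨i, hi, rfl⟩ := List.getElem_of_mem hmem
    exact ⟨⟨i, hi⟩, hPR⟩
  choose g hg using hex
  have hinj : Function.Injective g := fun c d h => Subtype.ext (Subtype.ext
    ((hg c).unique (show H94.Reps (centList r)[(g c).val] (d : ↥W).1 from h ▸ hg d)))
  exact (Nat.card_le_card_of_injective g hinj).trans (by rw [Nat.card_fin])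

/-- The fixed points in the dodecad. -/
noncomputable def fixS (g : ↥W) : ℕ := Nat.card {p : GolayPt // p ∈ S ∧ g.1 p = p}

theorem fixS_conj (c g : ↥W) : fixS (c * g * c⁻¹) = fixS g := by
  have hc := (mem_W.1 c.2).2
  have hmem : ∀ p, p ∈ S ↔ c.1 p ∈ S := fun p => by
    conv_rhs => rw [← hc]
    exact (Finset.smul_mem_smul_finset_iff c.1).symm
  refine (Nat.card_congr (Equiv.subtypeEquiv c.1 fun p => ?_)).symm
  rw [← hmem p]
  refine and_congr_right fun _ => ?_
  show g.1 p = p ↔ c.1 (g.1 (c.1⁻¹ (c.1 p))) = c.1 p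
  rw [Equiv.Perm.inv_def, Equiv.symm_apply_apply, c.1.injective.eq_iff]

/-- The number of fixed positions in the dodecad. -/
def fixN (P : ℕ) : ℕ :=
  ((List.range 24).filter fun i => H94.bitB H92.dod0 i && Nat.beq (H94.pap P i) i).length

theorem fixS_of_reps {P : ℕ} {g : ↥W} (hR : H94.Reps P g.1) : fixS g = fixN P := by
  classical
  rw [fixS, Nat.card_eq_fintype_card, Fintype.card_subtype, fixN,
    ← List.toFinset_card_of_nodup (List.nodup_range.filter _)]
  refine Finset.card_bij (fun p _ => H94.idxN p) (fun p hp => ?_)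
    (fun p _ q _ e => H94.idxN_injective e) (fun i hi => ?_)
  · obtain ⟨hp1, hp2⟩ := (Finset.mem_filter.1 hp).2
    rw [List.mem_toFinset, List.mem_filter, Bool.and_eq_true,
      ← H92.mem_setOf'_bitB (H94.idxN_lt p), H94.ptN_idxN]
    refine ⟨List.mem_range.2 (H94.idxN_lt p), hp1, ?_⟩
    rw [hR _ (H94.idxN_lt p), H94.ptN_idxN, hp2]
    exact Nat.beq_refl _
  · rw [List.mem_toFinset, List.mem_filter, List.mem_range, Bool.and_eq_true] at hi
    refine ⟨H94.ptN i, Finset.mem_filter.2 ⟨Finset.mem_univ _,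
      (H92.mem_setOf'_bitB hi.1).2 hi.2.1, H94.idxN_injective ?_⟩, H94.idxN_ptN hi.1⟩
    rw [← hR i hi.1, H94.idxN_ptN hi.1, Nat.eq_of_beq_eq_true hi.2.2]

/-- Powers of a packed permutation. -/
noncomputable def pw (P : ℕ) : ℕ → ℕ
  | 0 => H94.pone
  | n + 1 => H94.pmul (pw P n) P

theorem reps_pw {P : ℕ} {g : Equiv.Perm GolayPt} (h : H94.Reps P g) :
    ∀ n, H94.Reps (pw P n) (g ^ n)
  | 0 => by rw [pow_zero]; exact H94.reps_one
  | n + 1 => by rw [pow_succ]; exact (reps_pw h n).mul h

/-- A packed element of order `n`. -/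
noncomputable def ordB (n P : ℕ) : Bool :=
  H94.peq (pw P n) H94.pone &&
    (List.range n).all fun i => Nat.beq i 0 || !H94.peq (pw P i) H94.pone

theorem orderOf_of_ordB {P n : ℕ} {g : ↥W} (hn : 0 < n) (hR : H94.Reps P g.1)
    (h : ordB n P = true) : orderOf g = n := by
  rw [ordB, Bool.and_eq_true, List.all_eq_true] at h
  rw [← orderOf_coe, orderOf_eq_iff hn]
  refine ⟨(reps_pw hR n).eq_of_peq H94.reps_one h.1, fun m hm h0 e => ?_⟩
  have h2 := h.2 m (List.mem_range.2 hm)
  rw [Bool.or_eq_true, (e ▸ reps_pw hR m : H94.Reps (pw P m) 1).peq_of_eq H94.reps_one] at h2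
  rcases h2 with h2 | h2
  · exact absurd (Nat.eq_of_beq_eq_true h2) (by omega)
  · simp at h2

/-- A class: order, fixed points, centraliser order and representative. -/
noncomputable def rowB (n f C P : ℕ) : Bool :=
  memW P && ordB n P && Nat.beq (fixN P) f && Nat.ble (centList P).length C

theorem row0 : rowB 2 0 240 881045552587245454963086119174999041 = true := by decide +kernel

theorem row1 : rowB 2 4 192 735457312421301346770266117170628640 = true := by decide +kernel

theorem row2 : rowB 3 0 36 889696160690837463195051648223839234 = true := by decide +kernel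

theorem row3 : rowB 3 3 54 801863381961086855728699228326821953 = true := by decide +kernel

theorem row4 : rowB 4 0 32 892492677613411065201004814726672385 = true := by decide +kernel

theorem row5 : rowB 4 4 32 677165940648224996476592833398049857 = true := by decide +kernel

theorem row6 : rowB 5 2 10 673185280238491034243605329966334081 = true := by decide +kernel

theorem row7 : rowB 6 0 12 732613949770073420372032908056104962 = true := by decide +kernel

theorem row8 : rowB 6 1 6 889966215298673531850022630014979073 = true := by decide +kernel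

theorem row9 : rowB 8 0 8 512930204729625587969006481892770305 = true := by decide +kernel

theorem row10 : rowB 8 2 8 95265986119093043006817960828342785 = true := by decide +kernel

theorem row11 : rowB 10 0 10 180947835642844888192054528517931617 = true := by decide +kernel

theorem eleven : rowB 11 1 11 714618248127072867738589022406086720 = true := by decide +kernel

attribute [local irreducible] centList

/-- The key of an element. -/
noncomputable def key (g : ↥W) : ℕ × ℕ :=
  (orderOf g, if orderOf g = 11 then 0 else fixS g)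

theorem lower_row {n f C P : ℕ} (h : rowB n f C P = true) (hn : 0 < n ∧ n ≠ 11 ∧ 0 < C ∧ C ∣ 95040) :
    95040 / C ≤ Nat.card {g : ↥W // key g = (n, f)} := by
  simp only [rowB, Bool.and_eq_true] at h
  obtain ⟨⟨⟨hm, ho⟩, hf⟩, hl⟩ := h
  obtain ⟨x, hR⟩ := exists_of_memW hm
  have key' : ∀ m k : ℕ, Nat.ble m k = true → m ≤ k := fun m k h => Nat.le_of_ble_eq_true h
  have hC : Nat.card (centralizer ({x} : Set ↥W)) ≤ C :=
    (centList_card hR).trans (key' _ _ hl)
  have hxo := orderOf_of_ordB hn.1 hR ho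
  have h1 := H79.ClassCount.card_carrier_mul_card_centralizer x
  rw [card_W] at h1
  have h2 : Nat.card (ConjClasses.mk x).carrier ≤ Nat.card {g : ↥W // key g = (n, f)} := by
    refine Nat.card_le_card_of_injective (fun g => ⟨g.1, ?_⟩) fun a b hab => Subtype.ext (congrArg Subtype.val hab :)
    obtain ⟨g, hg⟩ := g
    rw [ConjClasses.mem_carrier_iff_mk_eq, ConjClasses.mk_eq_mk_iff_isConj] at hg
    obtain ⟨c, hc⟩ := isConj_iff.1 hg.symm
    have e : orderOf g = n := by rw [← hc, ← MulAut.conj_apply, MulEquiv.orderOf_eq, hxo]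
    simp only [key, e, if_neg hn.2.1, Prod.mk.injEq, true_and]
    rw [← hc, fixS_conj, fixS_of_reps hR, Nat.eq_of_beq_eq_true hf]
  refine le_trans (Nat.div_le_of_le_mul ?_) h2
  rw [← h1, mul_comm C]
  exact Nat.mul_le_mul_left _ hC

theorem lower_one : 1 ≤ Nat.card {g : ↥W // key g = (1, 12)} := by
  haveI : Nonempty {g : ↥W // key g = (1, 12)} := by
    refine ⟨⟨1, ?_⟩⟩
    simp only [key, orderOf_one, fixS_of_reps (g := 1) H94.reps_one,
      show fixN H94.pone = 12 by decide +kernel]
    rfl
  exact Nat.card_pos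

theorem lower_eleven : 17280 ≤ Nat.card {g : ↥W // key g = (11, 0)} := by
  haveI : Fact (Nat.Prime 11) := ⟨by norm_num⟩
  have h := eleven
  simp only [rowB, Bool.and_eq_true] at h
  obtain ⟨⟨⟨hm, ho⟩, -⟩, hl⟩ := h
  obtain ⟨x, hR⟩ := exists_of_memW hm
  have key' : ∀ m k : ℕ, Nat.ble m k = true → m ≤ k := fun m k h => Nat.le_of_ble_eq_true h
  have hfac : (Nat.card ↥W).factorization 11 = 1 := by
    rw [card_W, show (95040 : ℕ) = 11 ^ 1 * 8640 by norm_num,
      Nat.factorization_mul (by norm_num) (by norm_num), Nat.Prime.factorization_pow (by norm_num)]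
    simp [Nat.factorization_eq_zero_of_not_dvd (show ¬ 11 ∣ 8640 by norm_num)]
  obtain ⟨d, hd, -, hmod, hcnt⟩ := H79.M22Counts.card_order_prime hfac
    (orderOf_of_ordB (by norm_num) hR ho) ((centList_card hR).trans (key' _ _ hl))
  rw [card_W] at hmod hcnt
  have hc : Nat.card {g : ↥W // orderOf g = 11} = 17280 := by
    have := Nat.le_of_dvd (by norm_num) hd
    rw [hcnt]
    interval_cases d <;> simp_all
  refine le_of_eq (hc.symm.trans (Nat.card_congr (Equiv.subtypeEquivRight fun g => ?_)))
  rw [key, Prod.mk.injEq]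
  exact ⟨fun e => ⟨e, if_pos e⟩, fun e => e.1⟩

/-- The fourteen kinds of elements with their numbers. -/
def tbl : List ((ℕ × ℕ) × ℕ) := [((1, 12), 1), ((2, 0), 396), ((2, 4), 495), ((3, 0), 2640), ((3, 3), 1760), ((4, 0), 2970), ((4, 4), 2970), ((5, 2), 9504), ((6, 0), 7920), ((6, 1), 15840), ((8, 0), 11880), ((8, 2), 11880), ((10, 0), 9504), ((11, 0), 17280)]

theorem lower : ∀ q ∈ tbl, q.2 ≤ Nat.card {g : ↥W // key g = q.1} := by
  simp only [tbl, List.forall_mem_cons, List.not_mem_nil, false_implies, implies_true, and_true]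
  refine ⟨lower_one, ?_, ?_, ?_, ?_, ?_, ?_, ?_, ?_, ?_, ?_, ?_, ?_, lower_eleven⟩
  · exact lower_row row0 (by norm_num)
  · exact lower_row row1 (by norm_num)
  · exact lower_row row2 (by norm_num)
  · exact lower_row row3 (by norm_num)
  · exact lower_row row4 (by norm_num)
  · exact lower_row row5 (by norm_num)
  · exact lower_row row6 (by norm_num)
  · exact lower_row row7 (by norm_num)
  · exact lower_row row8 (by norm_num)
  · exact lower_row row9 (by norm_num)
  · exact lower_row row10 (by norm_num)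
  · exact lower_row row11 (by norm_num)

/-- The kinds. -/
def keys : Finset (ℕ × ℕ) := {(1, 12), (2, 0), (2, 4), (3, 0), (3, 3), (4, 0), (4, 4), (5, 2), (6, 0), (6, 1), (8, 0), (8, 2), (10, 0), (11, 0)}

/-- The size of each kind. -/
def size (k : ℕ × ℕ) : ℕ := ((tbl.find? fun q => q.1 == k).map Prod.snd).getD 0

theorem exact_counts :
    (∀ g : ↥W, key g ∈ keys) ∧ ∀ k ∈ keys, Nat.card {g : ↥W // key g = k} = size k := by
  classical
  haveI := Fintype.ofFinite ↥W
  have hlow : ∀ k ∈ keys, size k ≤ (Finset.univ.filter fun g : ↥W => key g = k).card := by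
    intro k hk
    have hq : (k, size k) ∈ tbl := by revert k; decide +kernel
    rw [← Fintype.card_subtype, ← Nat.card_eq_fintype_card]
    exact lower _ hq
  have hsum : ∑ k ∈ keys, size k = 95040 := by decide +kernel
  have hle : ∑ k ∈ keys, (Finset.univ.filter fun g : ↥W => key g = k).card =
      (Finset.univ.filter fun g : ↥W => key g ∈ keys).card := by
    rw [Finset.card_eq_sum_card_fiberwise (t := keys) (f := key)
      (s := Finset.univ.filter fun g : ↥W => key g ∈ keys)
      (fun x hx => Finset.mem_coe.2 (Finset.mem_filter.1 (Finset.mem_coe.1 hx)).2)]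
    refine Finset.sum_congr rfl fun k hk => ?_
    rw [Finset.filter_filter]
    congr 1
    ext g
    simp only [Finset.mem_filter, Finset.mem_univ, true_and]
    exact ⟨fun e => ⟨e ▸ hk, e⟩, fun e => e.2⟩
  have huniv : (Finset.univ : Finset ↥W).card = 95040 := by
    rw [Finset.card_univ, ← Nat.card_eq_fintype_card, card_W]
  have hsub := Finset.card_le_univ (Finset.univ.filter fun g : ↥W => key g ∈ keys)
  rw [← Finset.card_univ, huniv, ← hle] at hsub
  have heq : ∀ k ∈ keys, size k = (Finset.univ.filter fun g : ↥W => key g = k).card :=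
    (Finset.sum_eq_sum_iff_of_le hlow).1
      (le_antisymm (Finset.sum_le_sum hlow) (hsum.symm ▸ hsub))
  refine ⟨fun g => ?_, fun k hk => ?_⟩
  · have h : (Finset.univ.filter fun g : ↥W => key g ∈ keys) = Finset.univ := by
      refine Finset.eq_univ_of_card _ ?_
      rw [← hle, ← Finset.sum_congr rfl heq, hsum, ← Finset.card_univ, huniv]
    have h' : g ∈ Finset.univ.filter fun g : ↥W => key g ∈ keys := by rw [h]; exact Finset.mem_univ g
    exact (Finset.mem_filter.1 h').2
  · rw [heq k hk, Nat.card_eq_fintype_card, Fintype.card_subtype]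

/-- The number of elements of a given order. -/
theorem card_order (n : ℕ) :
    Nat.card {g : ↥Spor.M12 // orderOf g = n} = ∑ k ∈ keys.filter (fun k => k.1 = n), size k := by
  classical
  obtain ⟨e⟩ := exists_equiv
  haveI := Fintype.ofFinite ↥W
  rw [Nat.card_congr (e.toEquiv.subtypeEquiv (q := fun g : ↥W => orderOf g = n) fun g => by
    show _ ↔ orderOf (e g) = n
    rw [MulEquiv.orderOf_eq])]
  obtain ⟨hmem, hcnt⟩ := exact_counts
  rw [Nat.card_eq_fintype_card, Fintype.card_subtype,
    Finset.card_eq_sum_card_fiberwise (t := keys.filter fun k => k.1 = n) (f := key)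
      (s := Finset.univ.filter fun g : ↥W => orderOf g = n)
      (fun g hg => Finset.mem_coe.2 (Finset.mem_filter.2
        ⟨hmem g, (Finset.mem_filter.1 (Finset.mem_coe.1 hg)).2⟩))]
  refine Finset.sum_congr rfl fun k hk => ?_
  rw [← hcnt k (Finset.mem_filter.1 hk).1, Nat.card_eq_fintype_card, Fintype.card_subtype,
    Finset.filter_filter]
  congr 1
  ext g
  simp only [Finset.mem_filter, Finset.mem_univ, true_and]
  refine ⟨fun h => h.2, fun h => ⟨?_, h⟩⟩
  rw [← (Finset.mem_filter.1 hk).2, ← h]
  rfl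

/-- The set of the numbers of elements of equal order in M12. -/
theorem m12_nse : {c : ℕ | 0 < c ∧ ∃ n : ℕ, c = Nat.card {g : ↥Cfsg.Spor.M12 // orderOf g = n}} =
    H37.MTwelveNse.nseSet := by
  ext c
  simp only [card_order, H37.MTwelveNse.nseSet, Set.mem_ofPred_eq, Set.mem_insert_iff,
    Set.mem_singleton_iff]
  constructor
  · rintro ⟨hc, n, rfl⟩
    obtain ⟨k, hk⟩ : (keys.filter fun k => k.1 = n).Nonempty := by
      by_contra h
      rw [Finset.not_nonempty_iff_eq_empty] at h
      simp [h] at hc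
    obtain ⟨hk, rfl⟩ := Finset.mem_filter.1 hk
    revert k
    decide +kernel
  · intro h
    have h' : c ∈ [(1, 1), (2, 891), (3, 4400), (4, 5940), (5, 9504), (11, 17280),
        (6, 23760)].map Prod.snd := by simpa [or_assoc] using h
    obtain ⟨q, hq, rfl⟩ := List.mem_map.1 h'
    refine ⟨?_, q.1, ?_⟩ <;> revert q <;> decide +kernel

end H79.M12Counts
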