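/- The numbers of elements of each order in M23. -/
import Cfsg.Agent.H87.MathieuCert
import Cfsg.Agent.H94.Centralisers
import Cfsg.Agent.H91.M23R.Loc
import Cfsg.Agent.H79.M22Counts

set_option autoImplicit false
set_option linter.style.haveILetI false

open Cfsg Subgroup

namespace H79.M23Counts

/-- The stabiliser of the first position. -/
noncomputable def W : Subgroup (Equiv.Perm GolayPt) :=
  M24 ⊓ MulAction.stabilizer (Equiv.Perm GolayPt) (H94.ptN 0)

theorem mem_W {g : Equiv.Perm GolayPt} : g ∈ W ↔ g ∈ M24 ∧ g (H94.ptN 0) = H94.ptN 0 := by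
  simp [W, MulAction.mem_stabilizer_iff]

/-- The stabiliser of another point is conjugate, so isomorphic. -/
theorem exists_equiv : Nonempty (↥Spor.M23 ≃* ↥W) := by
  have h1 := List.all_eq_true.1 (List.all_eq_true.1 H94.trans_cover 0
    (List.mem_range.2 (by norm_num))) (H94.idxN none) (List.mem_range.2 (H94.idxN_lt _))
  have h2 := List.all_eq_true.1 H94.trans_ok 0 (List.mem_range.2 (by norm_num))
  rw [Bool.or_eq_true] at h1
  obtain ⟨t, ht, htx⟩ : ∃ t ∈ H94.trans.getD 0 [], H94.pap t 0 = H94.idxN none := by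
    rcases h1 with h1 | h1
    · exact absurd (Nat.le_of_ble_eq_true h1) (Nat.not_succ_le_zero _)
    · obtain ⟨t, ht, he⟩ := List.any_eq_true.1 h1
      exact ⟨t, ht, Nat.eq_of_beq_eq_true he⟩
  have h3 := List.all_eq_true.1 h2 t ht
  rw [Bool.and_eq_true] at h3
  obtain ⟨u, hu, hR⟩ := H94.exists_perm_of_memB h3.1
  have hu0 : u (H94.ptN 0) = none :=
    H94.idxN_injective ((hR 0 (by norm_num)).symm.trans htx)
  have hu1 : u⁻¹ (none : GolayPt) = H94.ptN 0 := by
    rw [Equiv.Perm.inv_def, Equiv.symm_apply_eq, hu0]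
  have hto : ∀ g : ↥Spor.M23, u⁻¹ * g.1 * u ∈ W := fun g => by
    obtain ⟨g1, g2⟩ := Subgroup.mem_inf.1 g.2
    refine mem_W.2 ⟨M24.mul_mem (M24.mul_mem (M24.inv_mem hu) g1) hu, ?_⟩
    have g3 : g.1 (none : GolayPt) = none := MulAction.mem_stabilizer_iff.1 g2
    rw [Equiv.Perm.mul_apply, Equiv.Perm.mul_apply, hu0, g3, hu1]
  have hfrom : ∀ g : ↥W, u * g.1 * u⁻¹ ∈ Spor.M23 := fun g => by
    obtain ⟨g1, g2⟩ := mem_W.1 g.2
    refine Subgroup.mem_inf.2 ⟨M24.mul_mem (M24.mul_mem hu g1) (M24.inv_mem hu),
      MulAction.mem_stabilizer_iff.2 ?_⟩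
    show (u * g.1 * u⁻¹) none = none
    rw [Equiv.Perm.mul_apply, Equiv.Perm.mul_apply, hu1, g2, hu0]
  exact ⟨{ toFun := fun g => ⟨_, hto g⟩
           invFun := fun g => ⟨_, hfrom g⟩
           left_inv := fun g => Subtype.ext (show u * (u⁻¹ * g.1 * u) * u⁻¹ = g.1 by group)
           right_inv := fun g => Subtype.ext (show u⁻¹ * (u * g.1 * u⁻¹) * u = g.1 by group)
           map_mul' := fun g h => Subtype.ext (show u⁻¹ * (g.1 * h.1) * u =
             u⁻¹ * g.1 * u * (u⁻¹ * h.1 * u) by group) }⟩

theorem card_W : Nat.card ↥W = 10200960 := by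
  obtain ⟨e⟩ := exists_equiv
  rw [← Nat.card_congr e.toEquiv, H87.natCard_M23]

/-- Membership of a packed permutation. -/
noncomputable def memW (P : ℕ) : Bool := H94.memB P && Nat.beq (H94.pap P 0) 0

theorem idx_zero : H94.idxN (H94.ptN 0) = 0 := H94.idxN_ptN (by norm_num)

theorem exists_of_memW {P : ℕ} (h : memW P = true) : ∃ g : ↥W, H94.Reps P g.1 := by
  rw [memW, Bool.and_eq_true] at h
  obtain ⟨g, hg, hR⟩ := H94.exists_perm_of_memB h.1
  refine ⟨⟨g, mem_W.2 ⟨hg, H94.idxN_injective ?_⟩⟩, hR⟩
  rw [← hR 0 (by norm_num), Nat.eq_of_beq_eq_true h.2, idx_zero]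

/-- The filter of the centraliser enumeration. -/
noncomputable def centF (r l Q : ℕ) : Bool := Nat.beq (H94.pap Q 0) 0 && H94.commF r l Q

/-- The centraliser list. -/
noncomputable def centList (r : ℕ) : List ℕ :=
  (H94.search (centF r)).filter fun P => H94.commB r P

theorem centList_card {r : ℕ} {ρ : ↥W} (hR : H94.Reps r ρ.1) :
    Nat.card (centralizer ({ρ} : Set ↥W)) ≤ (centList r).length := by
  classical
  have hex : ∀ c : centralizer ({ρ} : Set ↥W), ∃ i : Fin (centList r).length,
      H94.Reps (centList r)[i.val] (c : ↥W).1 := by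
    intro c
    have hc : (c : ↥W).1 * ρ.1 = ρ.1 * (c : ↥W).1 :=
      congrArg Subtype.val (mem_centralizer_singleton_iff.1 c.2)
    obtain ⟨hM, h0⟩ := mem_W.1 (c : ↥W).2
    obtain ⟨P, hP, hPR⟩ := H94.search_complete (centF r) hM (fun l hl Q hQ => by
      rw [centF, Bool.and_eq_true]
      refine ⟨?_, H94.commF_spec hR hc l hl Q hQ⟩
      rw [hQ 0 (Nat.succ_pos l), h0, idx_zero]
      exact Nat.beq_refl _)
    have hmem : P ∈ centList r :=
      List.mem_filter.2 ⟨hP, H94.commB_of_commute hPR hR hc⟩
    obtain ⟨i, hi, rfl⟩ := List.getElem_of_mem hmem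
    exact ⟨⟨i, hi⟩, hPR⟩
  choose g hg using hex
  have hinj : Function.Injective g := fun c d h => Subtype.ext (Subtype.ext
    ((hg c).unique (show H94.Reps (centList r)[(g c).val] (d : ↥W).1 from h ▸ hg d)))
  exact (Nat.card_le_card_of_injective g hinj).trans (by rw [Nat.card_fin])

/-- Powers of a packed permutation. -/
noncomputable def pw (P : ℕ) : ℕ → ℕ
  | 0 => H94.pone
  | n + 1 => H94.pmul (pw P n) P

theorem reps_pw {P : ℕ} {g : Equiv.Perm GolayPt} (h : H94.Reps P g) :
    ∀ n, H94.Reps (pw P n) (g ^ n)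
  | 0 => by rw [pow_zero]; exact H94.reps_one
  | n + 1 => by rw [pow_succ]; exact (reps_pw h n).mul h

/-- A packed element of order `n`. -/
noncomputable def ordB (n P : ℕ) : Bool :=
  H94.peq (pw P n) H94.pone &&
    (List.range n).all fun i => Nat.beq i 0 || !H94.peq (pw P i) H94.pone

theorem orderOf_of_ordB {P n : ℕ} {g : ↥W} (hn : 0 < n) (hR : H94.Reps P g.1)
    (h : ordB n P = true) : orderOf g = n := by
  rw [ordB, Bool.and_eq_true, List.all_eq_true] at h
  rw [← orderOf_coe, orderOf_eq_iff hn]
  refine ⟨(reps_pw hR n).eq_of_peq H94.reps_one h.1, fun m hm h0 e => ?_⟩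
  have h2 := h.2 m (List.mem_range.2 hm)
  rw [Bool.or_eq_true, (e ▸ reps_pw hR m : H94.Reps (pw P m) 1).peq_of_eq H94.reps_one] at h2
  rcases h2 with h2 | h2
  · exact absurd (Nat.eq_of_beq_eq_true h2) (by omega)
  · simp at h2

/-- A class: order, centraliser bound and representative. -/
noncomputable def rowB (n C P : ℕ) : Bool :=
  memW P && ordB n P && Nat.ble (centList P).length C

theorem row2 : rowB 2 2688 268195153026948482477577069584812064 = true := by decide +kernel

theorem row3 : rowB 3 180 569346817558524578111400892262615072 = true := by decide +kernel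

theorem row4 : rowB 4 32 191655080657721609818884470928934944 = true := by decide +kernel

theorem row6 : rowB 6 12 692252888777275693694768997848910880 = true := by decide +kernel

theorem row8 : rowB 8 8 636884405016840112593082877295528992 = true := by decide +kernel

theorem row11 : rowB 11 11 637444774909714239627074405787634720 = true := by decide +kernel

theorem row23 : rowB 23 23 182116673385772089604724538576636992 = true := by decide +kernel

theorem row14 : (memW 253833748697737910025641995002840128 && ordB 14 253833748697737910025641995002840128 &&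
    Nat.ble (centList (pw 253833748697737910025641995002840128 8)).length 14) = true := by decide +kernel

theorem row15 : (memW 933612837570058626994499171950562368 && ordB 15 933612837570058626994499171950562368 &&
    Nat.ble (centList (pw 933612837570058626994499171950562368 6)).length 15) = true := by decide +kernel

attribute [local irreducible] centList

theorem key_le {m k : ℕ} (h : Nat.ble m k = true) : m ≤ k := Nat.le_of_ble_eq_true h

/-- A single class bounds the number of elements of its order from below. -/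
theorem lower_row {n C P : ℕ} (h : rowB n C P = true) (hn : 0 < n) :
    10200960 / C ≤ Nat.card {g : ↥W // orderOf g = n} := by
  simp only [rowB, Bool.and_eq_true] at h
  obtain ⟨⟨hm, ho⟩, hl⟩ := h
  obtain ⟨x, hR⟩ := exists_of_memW hm
  have hC : Nat.card (centralizer ({x} : Set ↥W)) ≤ C := (centList_card hR).trans (key_le hl)
  have hxo := orderOf_of_ordB hn hR ho
  have h1 := H79.ClassCount.card_carrier_mul_card_centralizer x
  rw [card_W] at h1
  have h2 : Nat.card (ConjClasses.mk x).carrier ≤ Nat.card {g : ↥W // orderOf g = n} := by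
    refine Nat.card_le_card_of_injective (fun g => ⟨g.1, ?_⟩) fun a b hab =>
      Subtype.ext (congrArg Subtype.val hab :)
    obtain ⟨g, hg⟩ := g
    rw [ConjClasses.mem_carrier_iff_mk_eq, ConjClasses.mk_eq_mk_iff_isConj] at hg
    obtain ⟨c, hc⟩ := isConj_iff.1 hg.symm
    show orderOf g = n
    rw [← hc, ← MulAut.conj_apply, MulEquiv.orderOf_eq, hxo]
  refine le_trans (Nat.div_le_of_le_mul ?_) h2
  rw [← h1, mul_comm C]
  exact Nat.mul_le_mul_left _ hC

/-- Elements of prime order `p` when `p` exactly divides the order. -/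
theorem card_prime {G : Type*} [Group G] [Finite G] {p k : ℕ} [Fact p.Prime]
    (hfac : (Nat.card G).factorization p = 1) {f : G} (hf : orderOf f = p)
    (hk : Nat.card (centralizer ({f} : Set G)) = k) :
    ∃ d, d ∣ p - 1 ∧ k * d ∣ Nat.card G ∧ Nat.card G / (k * d) % p = 1 ∧
      Nat.card {g : G // orderOf g = p} = Nat.card G / (k * d) * (p - 1) := by
  have hp : p.Prime := Fact.out
  set H := zpowers f with hH
  have hHc : Nat.card H = p := by rw [hH, Nat.card_zpowers, hf]
  let S : Sylow p G := Sylow.ofCard H (by rw [hHc, hfac, pow_one])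
  set Nm := normalizer (H : Set G) with hNm
  have hker : Nat.card H.normalizerMonoidHom.ker = k := by
    rw [H.normalizerMonoidHom_ker,
      Nat.card_congr (subgroupOfEquivOfLe (centralizer_le_normalizer (H : Set G))).toEquiv,
      hH, zpowers_eq_closure, centralizer_closure]
    exact hk
  haveI : IsCyclic H := isCyclic_of_prime_card hHc
  have hr : Nat.card H.normalizerMonoidHom.range ∣ p - 1 := by
    refine (card_subgroup_dvd_card _).trans (dvd_of_eq ?_)
    rw [IsCyclic.card_mulAut, hHc, Nat.totient_prime hp]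
  have hmul : Nat.card Nm = k * Nat.card H.normalizerMonoidHom.range := by
    rw [← hker, ← index_ker, card_mul_index]
  have hidx : Nat.card (Sylow p G) = Nm.index := S.card_eq_index_normalizer
  have hprod := Nm.card_mul_index
  rw [hmul] at hprod
  have hdiv : Nat.card G / (k * Nat.card H.normalizerMonoidHom.range) = Nm.index := by
    rw [← hprod, Nat.mul_div_cancel_left _ (hmul ▸ Nat.card_pos)]
  refine ⟨_, hr, Dvd.intro _ hprod, ?_, ?_⟩
  · rw [hdiv, ← hidx, card_sylow_modEq_one p G, Nat.one_mod_eq_one.2 hp.ne_one]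
  rw [hdiv, ← hidx]
  haveI := Fintype.ofFinite (Sylow p G)
  let g : (Σ P : Sylow p G, {x : (P : Subgroup G) // x ≠ 1}) → {x : G // orderOf x = p} := fun a =>
    ⟨a.2.1.1, by
      have hP : Nat.card (a.1 : Subgroup G) = p := by rw [a.1.card_eq_multiplicity, hfac, pow_one]
      have h1 := orderOf_dvd_natCard a.2.1
      rw [hP] at h1
      rw [orderOf_coe]
      exact ((Nat.dvd_prime hp).1 h1).resolve_left (orderOf_eq_one_iff.not.2 a.2.2)⟩
  have hg : Function.Bijective g := by
    constructor
    · rintro ⟨P, x⟩ ⟨Q, y⟩ h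
      have hxy : (x.1 : G) = (y.1 : G) := congrArg Subtype.val h
      have key : ∀ (P : Sylow p G) (x : {x : (P : Subgroup G) // x ≠ 1}),
          (P : Subgroup G) = zpowers (x.1 : G) := fun P x => (eq_of_le_of_card_ge
        (zpowers_le.2 x.1.2) (by
          rw [Nat.card_zpowers, (g ⟨P, x⟩).2, P.card_eq_multiplicity, hfac, pow_one])).symm
      obtain rfl : P = Q := Sylow.ext (by rw [key P x, key Q y, hxy])
      rw [show x = y from Subtype.ext (Subtype.ext hxy)]
    · rintro ⟨x, hx⟩
      obtain ⟨P, hP⟩ := (IsPGroup.of_card (p := p) (n := 1) (by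
        rw [Nat.card_zpowers, hx, pow_one]) : IsPGroup p (zpowers x)).exists_le_sylow
      refine ⟨⟨P, ⟨x, hP (mem_zpowers x)⟩, fun e => ?_⟩, rfl⟩
      have : x = 1 := congrArg Subtype.val e
      rw [this, orderOf_one] at hx
      exact hp.ne_one hx.symm
  rw [← Nat.card_eq_of_bijective g hg, Nat.card_sigma]
  have : ∀ P : Sylow p G, Nat.card {x : (P : Subgroup G) // x ≠ 1} = p - 1 := fun P => by
    classical
    haveI := Fintype.ofFinite (P : Subgroup G)
    have hP : Nat.card (P : Subgroup G) = p := by rw [P.card_eq_multiplicity, hfac, pow_one]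
    rw [Nat.card_eq_fintype_card, Fintype.card_subtype_compl, Fintype.card_subtype_eq,
      ← Nat.card_eq_fintype_card, hP]
  rw [Finset.sum_congr rfl (fun P _ => this P), Finset.sum_const, Finset.card_univ, smul_eq_mul,
    ← Nat.card_eq_fintype_card]

theorem fac {p c : ℕ} (hp : p.Prime) (h : 10200960 = p ^ 1 * c) (hc : ¬ p ∣ c) :
    (Nat.card ↥W).factorization p = 1 := by
  rw [card_W, h, Nat.factorization_mul (pow_ne_zero _ hp.ne_zero) (by rintro rfl; simp at h),
    Nat.Prime.factorization_pow hp]
  simp [Nat.factorization_eq_zero_of_not_dvd hc]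

/-- The number of elements of a prime order whose centraliser is known. -/
theorem count_prime {p c k C : ℕ} [Fact p.Prime] (h : 10200960 = p ^ 1 * c) (hc : ¬ p ∣ c)
    {f y : ↥W} (hf : orderOf f = p) (hy : orderOf y = C) (hyf : y * f = f * y)
    (hle : Nat.card (centralizer ({f} : Set ↥W)) ≤ C)
    (hd : ∀ d ∈ (List.range (p + 1)), d ∣ p - 1 → 10200960 / (C * d) % p = 1 →
      10200960 / (C * d) * (p - 1) = k) :
    Nat.card {g : ↥W // orderOf g = p} = k := by
  have hp : p.Prime := Fact.out
  have hC : Nat.card (centralizer ({f} : Set ↥W)) = C := by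
    refine le_antisymm hle (hy ▸ Nat.le_of_dvd Nat.card_pos ?_)
    exact Subgroup.orderOf_dvd_natCard _ (mem_centralizer_singleton_iff.2 hyf)
  obtain ⟨d, h1, -, h2, h3⟩ := card_prime (fac hp h hc) hf hC
  rw [card_W] at h2 h3
  rw [h3]
  exact hd d (List.mem_range.2 (by
    have := Nat.le_of_dvd (by have := hp.two_le; omega) h1; omega)) h1 h2

theorem count_eleven : Nat.card {g : ↥W // orderOf g = 11} = 1854720 := by
  haveI : Fact (Nat.Prime 11) := ⟨by norm_num⟩
  have h := row11
  simp only [rowB, Bool.and_eq_true] at h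
  obtain ⟨⟨hm, ho⟩, hl⟩ := h
  obtain ⟨x, hR⟩ := exists_of_memW hm
  have hx := orderOf_of_ordB (by norm_num) hR ho
  exact count_prime (c := 927360) (by norm_num) (by norm_num) hx hx rfl
    ((centList_card hR).trans (key_le hl)) (by decide +kernel)

theorem count_twentythree : Nat.card {g : ↥W // orderOf g = 23} = 887040 := by
  haveI : Fact (Nat.Prime 23) := ⟨by norm_num⟩
  have h := row23
  simp only [rowB, Bool.and_eq_true] at h
  obtain ⟨⟨hm, ho⟩, hl⟩ := h
  obtain ⟨x, hR⟩ := exists_of_memW hm
  have hx := orderOf_of_ordB (by norm_num) hR ho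
  exact count_prime (c := 443520) (by norm_num) (by norm_num) hx hx rfl
    ((centList_card hR).trans (key_le hl)) (by decide +kernel)

theorem lower_seven_fourteen : Nat.card {g : ↥W // orderOf g = 7} = 1457280 ∧
    1457280 ≤ Nat.card {g : ↥W // orderOf g = 14} := by
  haveI : Fact (Nat.Prime 7) := ⟨by norm_num⟩
  have h := row14
  simp only [Bool.and_eq_true] at h
  obtain ⟨⟨hm, ho⟩, hl⟩ := h
  obtain ⟨x, hR⟩ := exists_of_memW hm
  have hx := orderOf_of_ordB (by norm_num) hR ho
  have hz : orderOf (x ^ 8) = 7 := by rw [orderOf_pow, hx]; norm_num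
  have hR8 : H94.Reps (pw 253833748697737910025641995002840128 8) (x ^ 8 : ↥W).1 := by
    rw [SubmonoidClass.coe_pow]; exact reps_pw hR 8
  have h7 : Nat.card {g : ↥W // orderOf g = 7} = 1457280 :=
    count_prime (c := 1457280) (by norm_num) (by norm_num) hz hx (pow_mul_comm' x 8).symm
      ((centList_card hR8).trans (key_le hl)) (by decide +kernel)
  refine ⟨h7, ?_⟩
  have hex : ∀ z : {g : ↥W // orderOf g = 7},
      ∃ w : {g : ↥W // orderOf g = 14}, w.1 ^ 8 = z.1 := by
    rintro ⟨z, hzo⟩
    have hcard : ∀ y : ↥W, orderOf y = 7 →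
        Nat.card (zpowers y) = 7 ^ (Nat.card ↥W).factorization 7 := fun y hy => by
      rw [fac (c := 1457280) (by norm_num) (by norm_num) (by norm_num), pow_one,
        Nat.card_zpowers, hy]
    obtain ⟨c, hc⟩ := MulAction.exists_smul_eq ↥W (Sylow.ofCard _ (hcard _ hz))
      (Sylow.ofCard _ (hcard _ hzo))
    have hmem : c⁻¹ * z * c ∈ zpowers (x ^ 8) := by
      have h1 : z ∈ ((c • Sylow.ofCard _ (hcard _ hz) : Sylow 7 ↥W) : Subgroup ↥W) := by
        rw [hc]; exact mem_zpowers z
      rw [Sylow.coe_subgroup_smul, mem_pointwise_smul_iff_inv_smul_mem] at h1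
      simpa [MulAut.smul_def, mul_assoc] using h1
    obtain ⟨i, hi⟩ := (mem_powers_iff_mem_zpowers (y := c⁻¹ * z * c)).2 hmem
    -- the involution commuting with `z`
    set t := c * x ^ 7 * c⁻¹ with ht
    have hzc : z = c * (x ^ 8) ^ i * c⁻¹ := by
      rw [show (x ^ 8) ^ i = c⁻¹ * z * c from hi]; group
    have hto : orderOf t = 2 := by
      rw [ht, ← MulAut.conj_apply, MulEquiv.orderOf_eq, orderOf_pow, hx]; norm_num
    have hcomm : Commute z t := by
      rw [hzc, ht]
      exact ((((Commute.refl x).pow_pow 8 7).pow_left i).map (MulAut.conj c).toMonoidHom)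
    refine ⟨⟨z * t, ?_⟩, ?_⟩
    · rw [hcomm.orderOf_mul_eq_mul_orderOf_of_coprime (by rw [hzo, hto]; norm_num), hzo, hto]
    · show (z * t) ^ 8 = z
      rw [hcomm.mul_pow, show t ^ 8 = (t ^ 2) ^ 4 by rw [← pow_mul], ← hto, pow_orderOf_eq_one,
        one_pow, mul_one, show z ^ 8 = z ^ 7 * z by rw [pow_succ], ← hzo, pow_orderOf_eq_one,
        one_mul]
  choose w hw using hex
  rw [← h7]
  refine Nat.card_le_card_of_injective w fun a b e => Subtype.ext ?_
  rw [← hw a, ← hw b, e]

theorem lower_five_fifteen : Nat.card {g : ↥W // orderOf g = 5} = 680064 ∧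
    1360128 ≤ Nat.card {g : ↥W // orderOf g = 15} := by
  haveI : Fact (Nat.Prime 5) := ⟨by norm_num⟩
  have h := row15
  simp only [Bool.and_eq_true] at h
  obtain ⟨⟨hm, ho⟩, hl⟩ := h
  obtain ⟨x, hR⟩ := exists_of_memW hm
  have hx := orderOf_of_ordB (by norm_num) hR ho
  have hy : orderOf (x ^ 6) = 5 := by rw [orderOf_pow, hx]; norm_num
  have hR6 : H94.Reps (pw 933612837570058626994499171950562368 6) (x ^ 6 : ↥W).1 := by
    rw [SubmonoidClass.coe_pow]; exact reps_pw hR 6
  have hC := (centList_card hR6).trans (key_le hl)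
  have h5 : Nat.card {g : ↥W // orderOf g = 5} = 680064 :=
    count_prime (c := 2040192) (by norm_num) (by norm_num) hy hx (pow_mul_comm' x 6).symm
      hC (by decide +kernel)
  refine ⟨h5, ?_⟩
  -- the class of `x ^ 6` is all of them
  have hall : ∀ g : ↥W, orderOf g = 5 → IsConj (x ^ 6) g := by
    have h1 := H79.ClassCount.card_carrier_mul_card_centralizer (x ^ 6)
    rw [card_W] at h1
    let ι : (ConjClasses.mk (x ^ 6)).carrier → {g : ↥W // orderOf g = 5} := fun g => ⟨g.1, by
      obtain ⟨c, hc⟩ := isConj_iff.1 (ConjClasses.mk_eq_mk_iff_isConj.1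
        (ConjClasses.mem_carrier_iff_mk_eq.1 g.2)).symm
      rw [← hc, ← MulAut.conj_apply, MulEquiv.orderOf_eq, hy]⟩
    have hinj : Function.Injective ι := fun a b e => Subtype.ext (congrArg Subtype.val e :)
    have hle : 680064 ≤ Nat.card (ConjClasses.mk (x ^ 6)).carrier := by
      by_contra hlt
      have := Nat.mul_le_mul (Nat.le_of_lt_succ (Nat.lt_succ_of_lt (not_le.1 hlt))) hC
      have h2 := Nat.mul_lt_mul_of_lt_of_le (not_le.1 hlt) hC (by norm_num : 0 < 15)
      rw [h1] at h2
      norm_num at h2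
    have hbij := (Nat.bijective_iff_injective_and_card ι).2 ⟨hinj, by
      have := Nat.card_le_card_of_injective ι hinj
      rw [h5] at this ⊢; omega⟩
    intro g hg
    obtain ⟨a, ha⟩ := hbij.2 ⟨g, hg⟩
    have ha' : a.1 = g := congrArg Subtype.val ha
    rw [← ha']
    exact ConjClasses.mk_eq_mk_iff_isConj.1 (ConjClasses.mem_carrier_iff_mk_eq.1 a.2).symm
  rw [H79.M22Counts.card_order_fibre (k := 6) (ρ := x ^ 6)
    (fun w hw => by rw [orderOf_pow, hw]; norm_num) hall, h5]
  have h2 : 2 ≤ Nat.card {w : ↥W // orderOf w = 15 ∧ w ^ 6 = x ^ 6} := by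
    haveI : Nontrivial {w : ↥W // orderOf w = 15 ∧ w ^ 6 = x ^ 6} := by
      refine ⟨⟨x, hx, rfl⟩, ⟨x ^ 11, ?_, ?_⟩, fun e => ?_⟩
      · rw [orderOf_pow, hx]; norm_num
      · rw [← pow_mul, pow_eq_pow_iff_modEq, hx]; rfl
      · have e' : x ^ 1 = x ^ 11 := by rw [pow_one]; exact congrArg Subtype.val e
        rw [pow_eq_pow_iff_modEq, hx] at e'
        exact absurd e' (by decide)
    exact Finite.one_lt_card
  exact (Nat.mul_le_mul_left 680064 h2)

/-- The element orders with their numbers. -/
def tbl : List (ℕ × ℕ) := [(1, 1), (2, 3795), (3, 56672), (4, 318780), (5, 680064), (6, 850080),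
  (7, 1457280), (8, 1275120), (11, 1854720), (14, 1457280), (15, 1360128), (23, 887040)]

theorem lower : ∀ q ∈ tbl, q.2 ≤ Nat.card {g : ↥W // orderOf g = q.1} := by
  simp only [tbl, List.forall_mem_cons, List.not_mem_nil, false_implies, implies_true, and_true]
  refine ⟨?_, ?_, ?_, ?_, lower_five_fifteen.1.ge, ?_, lower_seven_fourteen.1.ge, ?_,
    count_eleven.ge, lower_seven_fourteen.2, lower_five_fifteen.2, count_twentythree.ge⟩
  · simp [orderOf_eq_one_iff]
  · exact (lower_row row2 (by norm_num)).trans' (by norm_num)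
  · exact (lower_row row3 (by norm_num)).trans' (by norm_num)
  · exact (lower_row row4 (by norm_num)).trans' (by norm_num)
  · exact (lower_row row6 (by norm_num)).trans' (by norm_num)
  · exact (lower_row row8 (by norm_num)).trans' (by norm_num)

/-- The orders. -/
def keys : Finset ℕ := {1, 2, 3, 4, 5, 6, 7, 8, 11, 14, 15, 23}

/-- The number for each order. -/
def size (n : ℕ) : ℕ := ((tbl.find? fun q => q.1 == n).map Prod.snd).getD 0

/-- The number of elements of a given order in M23. -/
theorem card_order (n : ℕ) :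
    Nat.card {g : ↥Spor.M23 // orderOf g = n} = if n ∈ keys then size n else 0 := by
  classical
  obtain ⟨e⟩ := exists_equiv
  haveI := Fintype.ofFinite ↥W
  rw [Nat.card_congr (e.toEquiv.subtypeEquiv (q := fun g : ↥W => orderOf g = n) fun g => by
    show _ ↔ orderOf (e g) = n
    rw [MulEquiv.orderOf_eq])]
  have hlow : ∀ k ∈ keys, size k ≤ (Finset.univ.filter fun g : ↥W => orderOf g = k).card := by
    intro k hk
    have hq : (k, size k) ∈ tbl := by revert k; decide +kernel
    rw [← Fintype.card_subtype, ← Nat.card_eq_fintype_card]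
    exact lower _ hq
  have hsum : ∑ k ∈ keys, size k = 10200960 := by decide +kernel
  have hle : ∑ k ∈ keys, (Finset.univ.filter fun g : ↥W => orderOf g = k).card =
      (Finset.univ.filter fun g : ↥W => orderOf g ∈ keys).card := by
    rw [Finset.card_eq_sum_card_fiberwise (t := keys) (f := fun g : ↥W => orderOf g)
      (s := Finset.univ.filter fun g : ↥W => orderOf g ∈ keys)
      (fun x hx => Finset.mem_coe.2 (Finset.mem_filter.1 (Finset.mem_coe.1 hx)).2)]
    refine Finset.sum_congr rfl fun k hk => ?_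
    rw [Finset.filter_filter]
    congr 1
    ext g
    simp only [Finset.mem_filter, Finset.mem_univ, true_and]
    exact ⟨fun e => ⟨e ▸ hk, e⟩, fun e => e.2⟩
  have huniv : (Finset.univ : Finset ↥W).card = 10200960 := by
    rw [Finset.card_univ, ← Nat.card_eq_fintype_card, card_W]
  have hsub := Finset.card_le_univ (Finset.univ.filter fun g : ↥W => orderOf g ∈ keys)
  rw [← Finset.card_univ, huniv, ← hle] at hsub
  have heq : ∀ k ∈ keys, size k = (Finset.univ.filter fun g : ↥W => orderOf g = k).card :=
    (Finset.sum_eq_sum_iff_of_le hlow).1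
      (le_antisymm (Finset.sum_le_sum hlow) (hsum.symm ▸ hsub))
  rw [Nat.card_eq_fintype_card, Fintype.card_subtype]
  split_ifs with hn
  · exact (heq n hn).symm
  · rw [Finset.card_eq_zero, Finset.filter_eq_empty_iff]
    intro g _ hg
    have h : (Finset.univ.filter fun g : ↥W => orderOf g ∈ keys) = Finset.univ := by
      refine Finset.eq_univ_of_card _ ?_
      rw [← hle, ← Finset.sum_congr rfl heq, hsum, ← Finset.card_univ, huniv]
    have h' : g ∈ Finset.univ.filter fun g : ↥W => orderOf g ∈ keys := by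
      rw [h]; exact Finset.mem_univ g
    exact hn (hg ▸ (Finset.mem_filter.1 h').2)

/-- The set of the numbers of elements of equal order in M23. -/
theorem m23_nse : {c : ℕ | 0 < c ∧ ∃ n : ℕ, c = Nat.card {g : ↥Cfsg.Spor.M23 // orderOf g = n}} =
    H91.M23R.nseM23 := by
  ext c
  simp only [card_order, H91.M23R.nseM23, Set.mem_ofPred_eq, Set.mem_insert_iff,
    Set.mem_singleton_iff]
  constructor
  · rintro ⟨hc, n, rfl⟩
    by_cases hn : n ∈ keys
    · rw [if_pos hn]
      simp only [keys, Finset.mem_insert, Finset.mem_singleton] at hn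
      rcases hn with rfl | rfl | rfl | rfl | rfl | rfl | rfl | rfl | rfl | rfl | rfl | rfl <;>
        decide +kernel
    · rw [if_neg hn] at hc
      exact absurd hc (lt_irrefl 0)
  · intro h
    have key : ∀ m, ∀ n ∈ keys, size n = m → 0 < m →
        0 < m ∧ ∃ n, m = if n ∈ keys then size n else 0 :=
      fun m n hn he hm => ⟨hm, n, by rw [if_pos hn, he]⟩
    rcases h with rfl | rfl | rfl | rfl | rfl | rfl | rfl | rfl | rfl | rfl | rfl
    · exact key _ 1 (by decide) rfl (by norm_num)
    · exact key _ 2 (by decide) rfl (by norm_num)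
    · exact key _ 3 (by decide) rfl (by norm_num)
    · exact key _ 4 (by decide) rfl (by norm_num)
    · exact key _ 5 (by decide) rfl (by norm_num)
    · exact key _ 6 (by decide) rfl (by norm_num)
    · exact key _ 7 (by decide) rfl (by norm_num)
    · exact key _ 8 (by decide) rfl (by norm_num)
    · exact key _ 11 (by decide) rfl (by norm_num)
    · exact key _ 15 (by decide) rfl (by norm_num)
    · exact key _ 23 (by decide) rfl (by norm_num)

/-- The numbers of elements of equal order in M23. -/
theorem nse_M23 :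
    {c : Nat | 0 < c ∧ ∃ n : Nat, c = Nat.card {g : ↥Cfsg.Spor.M23 // orderOf g = n}} =
      H91.M23R.nseM23 := m23_nse

/-- The order of M23. -/
theorem card_M23 : Nat.card ↥Cfsg.Spor.M23 = 10200960 := H87.natCard_M23

end H79.M23Counts
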