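import Cfsg.Agent.CompLayer
import Mathlib.Tactic.NoncommRing
import Mathlib.GroupTheory.PGroup
import Mathlib.GroupTheory.Coset.Card
import Mathlib.GroupTheory.NoncommCoprod

/-!
Operators of a group on a finite abelian group: invariant subgroups, restriction and quotient,
irreducible sections, fixed points, the `P × Q` lemma and Timmesfeld replacement.
-/

set_option autoImplicit false
set_option linter.all false

namespace H79.Offender

variable {G : Type*} [Group G] {V : Type*} [AddCommGroup V]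

theorem end_mul_apply (f g : AddMonoid.End V) (v : V) : (f * g) v = f (g v) := rfl

theorem end_one_apply (v : V) : (1 : AddMonoid.End V) v = v := rfl

theorem end_sub_apply (f g : AddMonoid.End V) (v : V) : (f - g) v = f v - g v := rfl

theorem end_add_apply (f g : AddMonoid.End V) (v : V) : (f + g) v = f v + g v := rfl

section Hom

variable (φ : G →* AddMonoid.End V)

theorem phi_mul_apply (g h : G) (v : V) : φ (g * h) v = φ g (φ h v) := by rw [map_mul]; rfl

theorem phi_one_apply (v : V) : φ 1 v = v := by rw [map_one]; rfl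

theorem phi_inv_cancel (g : G) (v : V) : φ g⁻¹ (φ g v) = v := by
  rw [← phi_mul_apply, inv_mul_cancel, phi_one_apply]

/-- A subgroup invariant under every operator. -/
def Inv (X : AddSubgroup V) : Prop := ∀ g, ∀ v ∈ X, φ g v ∈ X

theorem inv_top : Inv φ (⊤ : AddSubgroup V) := fun _ _ _ => trivial

/-- The common fixed points of a set of elements. -/
def fixedBy (S : Set G) : AddSubgroup V where
  carrier := {v | ∀ g ∈ S, φ g v = v}
  zero_mem' := fun g _ => map_zero _
  add_mem' := fun hv hw g hg => by rw [map_add, hv g hg, hw g hg]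
  neg_mem' := fun hv g hg => by rw [map_neg, hv g hg]

theorem mem_fixedBy {S : Set G} {v : V} : v ∈ fixedBy φ S ↔ ∀ g ∈ S, φ g v = v := Iff.rfl

theorem fixedBy_anti {S T : Set G} (h : S ⊆ T) : fixedBy φ T ≤ fixedBy φ S :=
  fun _ hv g hg => hv g (h hg)

theorem map_mem_fixedBy {S : Set G} {v : V} (hv : v ∈ fixedBy φ S) {g : G}
    (h : ∀ s ∈ S, g⁻¹ * s * g ∈ S) : φ g v ∈ fixedBy φ S := fun s hs => by
  rw [← phi_mul_apply, show s * g = g * (g⁻¹ * s * g) by group, phi_mul_apply, hv _ (h s hs)]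

theorem map_mem_fixedBy_of_commute {S : Set G} {v : V} (hv : v ∈ fixedBy φ S) {g : G}
    (h : ∀ s ∈ S, Commute g s) : φ g v ∈ fixedBy φ S := fun s hs => by
  rw [← phi_mul_apply, ← (h s hs).eq, phi_mul_apply, hv _ hs]

/-- The kernel of the operators on a set. -/
def actKer (X : Set V) : Subgroup G where
  carrier := {g | ∀ v ∈ X, φ g v = v}
  one_mem' := fun v _ => phi_one_apply φ v
  mul_mem' := fun ha hb v hv => by rw [phi_mul_apply, hb v hv, ha v hv]
  inv_mem' := fun {a} ha v hv => by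
    conv_lhs => rw [← ha v hv]
    exact phi_inv_cancel φ a v

theorem mem_actKer {X : Set V} {g : G} : g ∈ actKer φ X ↔ ∀ v ∈ X, φ g v = v := Iff.rfl

end Hom

section Restrict

variable {M : Type*} [Monoid M] (f : M →* AddMonoid.End V)

/-- Restriction to an invariant subgroup. -/
def resHom (X : AddSubgroup V) (h : ∀ m, ∀ v ∈ X, f m v ∈ X) : M →* AddMonoid.End X where
  toFun m :=
    { toFun := fun v => ⟨f m v, h m v v.2⟩
      map_zero' := Subtype.ext (map_zero (f m))
      map_add' := fun v w => Subtype.ext (map_add (f m) (v : V) w) }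
  map_one' := AddMonoidHom.ext fun v => Subtype.ext (by show f 1 (v : V) = v; rw [map_one]; rfl)
  map_mul' a b := AddMonoidHom.ext fun v =>
    Subtype.ext (by show f (a * b) (v : V) = f a (f b v); rw [map_mul]; rfl)

theorem resHom_apply (X : AddSubgroup V) (h : ∀ m, ∀ v ∈ X, f m v ∈ X) (m : M) (v : X) :
    ((resHom f X h m v : X) : V) = f m v := rfl

/-- The induced operators on the quotient by an invariant subgroup. -/
def quoHom (X : AddSubgroup V) (h : ∀ m, ∀ v ∈ X, f m v ∈ X) :
    M →* AddMonoid.End (V ⧸ X) where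
  toFun m := QuotientAddGroup.map X X (f m : V →+ V) (fun v hv => h m v hv)
  map_one' := AddMonoidHom.ext fun q => QuotientAddGroup.induction_on q fun v => by
    show ((f 1 v : V) : V ⧸ X) = (v : V ⧸ X)
    rw [map_one]; rfl
  map_mul' a b := AddMonoidHom.ext fun q => QuotientAddGroup.induction_on q fun v => by
    show ((f (a * b) v : V) : V ⧸ X) = ((f a (f b v) : V) : V ⧸ X)
    rw [map_mul]; rfl

theorem quoHom_mk (X : AddSubgroup V) (h : ∀ m, ∀ v ∈ X, f m v ∈ X) (m : M) (v : V) :
    quoHom f X h m (v : V ⧸ X) = ((f m v : V) : V ⧸ X) := rfl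

end Restrict

variable (φ : G →* AddMonoid.End V)

/-- A perfect subgroup acting trivially on an invariant subgroup and on its quotient is trivial. -/
theorem trivial_of_series {K : Subgroup G} (hK : commutator K = ⊤) (X : AddSubgroup V)
    (h1 : ∀ k ∈ K, ∀ v ∈ X, φ k v = v) (h2 : ∀ k ∈ K, ∀ v, φ k v - v ∈ X) :
    ∀ k ∈ K, φ k = 1 := by
  intro k hk
  refine AddMonoidHom.ext fun v => ?_
  let θ : K →* Multiplicative V := MonoidHom.mk' (fun g => Multiplicative.ofAdd (φ (g : G) v - v))
    (fun a b => by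
      show Multiplicative.ofAdd (φ ((a : G) * b) v - v) = _
      rw [← ofAdd_add]
      congr 1
      have := h1 a a.2 _ (h2 b b.2 v)
      rw [map_sub, sub_eq_iff_eq_add] at this
      rw [phi_mul_apply, this]
      abel)
  have hle : commutator K ≤ θ.ker := Abelianization.commutator_subset_ker θ
  rw [hK] at hle
  have h3 : θ ⟨k, hk⟩ = 1 := hle (Subgroup.mem_top _)
  have h4 : φ k v - v = 0 := h3
  exact sub_eq_zero.mp h4

variable [Finite V]

/-- A subgroup is invariant under a group as soon as it is mapped into itself; the operator then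
maps it onto itself. -/
theorem exists_preimage {X : AddSubgroup V} {g : G} (hX : ∀ v ∈ X, φ g v ∈ X) {v : V}
    (hv : v ∈ X) : ∃ w ∈ X, φ g w = v := by
  have hinj : Function.Injective (fun w : X => (⟨φ g w, hX w w.2⟩ : X)) := fun a b hab => by
    have := congrArg (fun w : X => φ g⁻¹ (w : V)) hab
    simp only [phi_inv_cancel] at this
    exact Subtype.ext this
  obtain ⟨w, hw⟩ := Finite.surjective_of_injective hinj ⟨v, hv⟩
  exact ⟨w, w.2, congrArg Subtype.val hw⟩

/-- A nontrivially acting perfect subgroup acts nontrivially on an irreducible section. -/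
theorem exists_section {K : Subgroup G} (hK : commutator K = ⊤) (hne : ∃ k ∈ K, φ k ≠ 1) :
    ∃ (X : AddSubgroup V) (hX : Inv φ X) (R : AddSubgroup X) (hR : Inv (resHom φ X hX) R),
      (∃ k ∈ K, quoHom (resHom φ X hX) R hR k ≠ 1) ∧
      ∀ Y : AddSubgroup (X ⧸ R), Inv (quoHom (resHom φ X hX) R hR) Y → Y = ⊥ ∨ Y = ⊤ := by
  classical
  obtain ⟨k0, hk0, hk0'⟩ := hne
  have hP : ∃ X : AddSubgroup V, Inv φ X ∧ ∃ k ∈ K, ∃ v ∈ X, φ k v ≠ v := by
    refine ⟨⊤, inv_top φ, k0, hk0, ?_⟩
    by_contra hc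
    push Not at hc
    exact hk0' (AddMonoidHom.ext fun v => hc v trivial)
  obtain ⟨X, ⟨hX, hnt⟩, hXmin⟩ :=
    Set.Finite.exists_minimal (s := {X : AddSubgroup V | Inv φ X ∧ ∃ k ∈ K, ∃ v ∈ X, φ k v ≠ v})
      (Set.toFinite _) hP
  set ψ := resHom φ X hX with hψ
  haveI : Finite X := inferInstance
  obtain ⟨R, ⟨hR, hRne⟩, hRmax⟩ :=
    Set.Finite.exists_maximal (s := {R : AddSubgroup X | Inv ψ R ∧ R ≠ ⊤}) (Set.toFinite _)
      ⟨⊥, fun g v hv => by rw [AddSubgroup.mem_bot] at hv ⊢; rw [hv, map_zero], by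
        obtain ⟨k, -, v, hv, hne⟩ := hnt
        intro h
        have h1 : (⟨v, hv⟩ : X) ∈ (⊤ : AddSubgroup X) := trivial
        rw [← h, AddSubgroup.mem_bot] at h1
        exact hne (by rw [show v = 0 from congrArg Subtype.val h1, map_zero])⟩
  have hRtriv : ∀ k ∈ K, ∀ v ∈ R, ψ k v = v := by
    by_contra hc
    push Not at hc
    obtain ⟨k, hk, v, hv, hne⟩ := hc
    have hle : R.map X.subtype ≤ X := by
      rintro _ ⟨w, -, rfl⟩; exact w.2
    have hmem : R.map X.subtype ∈
        {X : AddSubgroup V | Inv φ X ∧ ∃ k ∈ K, ∃ v ∈ X, φ k v ≠ v} := by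
      refine ⟨?_, k, hk, v, ⟨v, hv, rfl⟩, fun e => hne (Subtype.ext e)⟩
      rintro g _ ⟨w, hw, rfl⟩
      exact ⟨ψ g w, hR g w hw, rfl⟩
    have := hXmin hmem hle
    refine hRne (eq_top_iff.mpr fun w _ => ?_)
    obtain ⟨w', hw', e⟩ := this w.2
    rwa [← show w' = w from Subtype.ext e]
  refine ⟨X, hX, R, hR, ?_, fun Y hY => ?_⟩
  · by_contra hc
    push Not at hc
    have h2 : ∀ k ∈ K, ∀ v, ψ k v - v ∈ R := fun k hk v => by
      have := DFunLike.congr_fun (hc k hk) (v : X ⧸ R)
      change ((ψ k v : X) : X ⧸ R) = (v : X ⧸ R) at this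
      exact (QuotientAddGroup.eq_iff_sub_mem).mp this
    have h3 := trivial_of_series ψ hK R hRtriv h2
    obtain ⟨k, hk, v, hv, hne⟩ := hnt
    have := DFunLike.congr_fun (h3 k hk) (⟨v, hv⟩ : X)
    exact hne (congrArg Subtype.val this)
  · set Z := Y.comap (QuotientAddGroup.mk' R) with hZ
    have hRZ : R ≤ Z := fun v hv => by
      rw [hZ, AddSubgroup.mem_comap, QuotientAddGroup.mk'_apply,
        (QuotientAddGroup.eq_zero_iff v).mpr hv]
      exact Y.zero_mem
    by_cases hZt : Z = ⊤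
    · right
      refine eq_top_iff.mpr fun q _ => ?_
      induction q using QuotientAddGroup.induction_on with
      | H v => exact (show v ∈ Z by rw [hZt]; trivial)
    · left
      have hle := hRmax (y := Z) ⟨fun g v hv => hY g _ hv, hZt⟩ hRZ
      refine eq_bot_iff.mpr fun q hq => ?_
      induction q using QuotientAddGroup.induction_on with
      | H v => exact AddSubgroup.mem_bot.mpr ((QuotientAddGroup.eq_zero_iff v).mpr (hle hq))

variable {p : ℕ} [Fact p.Prime]

theorem isPGroup_add_card (hV : ∀ v : V, p • v = 0) : ∃ n, Nat.card V = p ^ n := by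
  have h : IsPGroup p (Multiplicative V) := fun v => ⟨1, by
    rw [pow_one]; exact congrArg Multiplicative.ofAdd (hV v.toAdd)⟩
  obtain ⟨n, hn⟩ := IsPGroup.iff_card.mp h
  exact ⟨n, hn⟩

/-- A `p`-group fixes a nonzero vector of the quotient by a proper invariant subgroup. -/
theorem exists_fixed_mod (hV : ∀ v : V, p • v = 0) [Finite G] {P : Subgroup G} (hP : IsPGroup p P)
    {X : AddSubgroup V} (hX : ∀ e ∈ P, ∀ v ∈ X, φ e v ∈ X) (hne : X ≠ ⊤) :
    ∃ v ∉ X, ∀ e ∈ P, φ e v - v ∈ X := by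
  classical
  set χ := quoHom (φ.comp P.subtype) X (fun e v hv => hX e e.2 v hv) with hχ
  letI : MulAction P (V ⧸ X) :=
    { smul := fun e q => χ e q
      one_smul := fun q => by show χ 1 q = q; rw [map_one]; rfl
      mul_smul := fun a b q => by show χ (a * b) q = χ a (χ b q); rw [map_mul]; rfl }
  have hVX : ∀ q : V ⧸ X, p • q = 0 := fun q => by
    induction q using QuotientAddGroup.induction_on with
    | H v => rw [← QuotientAddGroup.mk_nsmul, hV, QuotientAddGroup.mk_zero]
  obtain ⟨n, hn⟩ := isPGroup_add_card (V := V ⧸ X) hVX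
  have h1 : 1 < Nat.card (V ⧸ X) := by
    rw [Finite.one_lt_card_iff_nontrivial]
    refine ⟨?_⟩
    by_contra hc
    push Not at hc
    exact hne (eq_top_iff.mpr fun v _ => (QuotientAddGroup.eq_zero_iff v).mp (hc _ _))
  have hdvd : p ∣ Nat.card (V ⧸ X) := by
    rw [hn] at h1 ⊢
    rcases n with _ | n
    · simp at h1
    · exact dvd_pow_self p n.succ_ne_zero
  have h0 : (0 : V ⧸ X) ∈ MulAction.fixedPoints P (V ⧸ X) := fun e => map_zero (χ e)
  obtain ⟨q, hq, hq0⟩ := hP.exists_fixed_point_of_prime_dvd_card_of_fixed_point (V ⧸ X) hdvd h0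
  induction q using QuotientAddGroup.induction_on with
  | H v =>
    refine ⟨v, fun hv => hq0 ((QuotientAddGroup.eq_zero_iff v).mpr hv).symm, fun e he => ?_⟩
    exact QuotientAddGroup.eq_iff_sub_mem.mp (hq ⟨e, he⟩)

/-- The `P × Q` lemma. -/
theorem phi_eq_one_of_fix (hV : ∀ v : V, p • v = 0) [Finite G] {P : Subgroup G} (hP : IsPGroup p P)
    {x : G} (hx : ¬ p ∣ orderOf x) (hc : ∀ e ∈ P, Commute e x)
    (hfix : ∀ v ∈ fixedBy φ (P : Set G), φ x v = v) : φ x = 1 := by
  by_contra hne
  set X := fixedBy φ ({x} : Set G) with hX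
  have hmem : ∀ {v}, v ∈ X ↔ φ x v = v := fun {v} =>
    ⟨fun h => h x rfl, fun h g hg => by rw [Set.mem_singleton_iff.mp hg]; exact h⟩
  have hXt : X ≠ ⊤ := fun h => hne (AddMonoidHom.ext fun v => hmem.mp (h ▸ trivial))
  obtain ⟨v, hv, hvP⟩ := exists_fixed_mod φ hV hP (X := X) (fun e he w hw =>
    map_mem_fixedBy_of_commute φ hw (fun s hs => Set.mem_singleton_iff.mp hs ▸ hc e he)) hXt
  set w := φ x v - v with hw
  have hwP : w ∈ fixedBy φ (P : Set G) := fun e he => by
    have h1 := hmem.mp (hvP e he)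
    rw [map_sub, ← phi_mul_apply, ← (hc e he).eq, phi_mul_apply] at h1
    rw [hw, map_sub]
    calc φ e (φ x v) - φ e v = (φ e (φ x v) - φ x v) + φ x v - φ e v := by abel
      _ = φ x v - v := by rw [h1]; abel
  have hxw : φ x w = w := hfix w hwP
  have key : ∀ n : ℕ, φ (x ^ n) v = v + n • w := by
    intro n
    induction n with
    | zero => rw [pow_zero, phi_one_apply, zero_nsmul, add_zero]
    | succ n ih =>
      rw [pow_succ', phi_mul_apply, ih, map_add, map_nsmul, hxw, succ_nsmul, hw]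
      abel
  have h0 := key (orderOf x)
  rw [pow_orderOf_eq_one, phi_one_apply, left_eq_add] at h0
  have hw0 : w = 0 := by
    have hcop : Nat.Coprime (orderOf x) p :=
      ((Nat.Prime.coprime_iff_not_dvd Fact.out).mpr hx).symm
    have hd1 := addOrderOf_dvd_of_nsmul_eq_zero h0
    have hd2 := addOrderOf_dvd_of_nsmul_eq_zero (hV w)
    have := Nat.dvd_gcd hd1 hd2
    rw [Nat.Coprime.gcd_eq_one hcop] at this
    exact AddMonoid.addOrderOf_eq_one_iff.mp (Nat.dvd_one.mp this)
  exact hv (hmem.mpr (sub_eq_zero.mp hw0))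

section Replacement

/-- The weight `|B| |C_V(B)|`. -/
noncomputable def weight (B : Subgroup G) : ℕ :=
  Nat.card B * Nat.card (fixedBy φ (B : Set G))

/-- `A` maximises the weight among its subgroups. -/
def Best (A : Subgroup G) : Prop := ∀ B ≤ A, weight φ B ≤ weight φ A

/-- The elements of `A` fixing `(a - 1) v` for all `a ∈ A` and `v ∈ U`. -/
def cen (A : Subgroup G) (U : Set V) : Subgroup G :=
  A ⊓ actKer φ {w | ∃ a ∈ A, ∃ v ∈ U, w = φ a v - v}

theorem mem_cen {A : Subgroup G} {U : Set V} {c : G} :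
    c ∈ cen φ A U ↔ c ∈ A ∧ ∀ a ∈ A, ∀ v ∈ U, φ c (φ a v - v) = φ a v - v := by
  simp only [cen, Subgroup.mem_inf, mem_actKer, Set.mem_setOf_eq]
  exact and_congr_right fun _ => ⟨fun h a ha v hv => h _ ⟨a, ha, v, hv, rfl⟩,
    fun h w ⟨a, ha, v, hv, e⟩ => e ▸ h a ha v hv⟩

/-- The span of `(a - 1) U` and the fixed points of `A`. -/
def span' (A : Subgroup G) (U : Set V) : AddSubgroup V :=
  AddSubgroup.closure {w | ∃ a ∈ A, ∃ v ∈ U, w = φ a v - v} ⊔ fixedBy φ (A : Set G)

theorem span'_le (A : Subgroup G) (U : Set V) :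
    span' φ A U ≤ fixedBy φ ((cen φ A U : Subgroup G) : Set G) := by
  refine sup_le ((AddSubgroup.closure_le _).mpr ?_) (fixedBy_anti φ fun c hc => hc.1)
  rintro _ ⟨a, ha, v, hv, rfl⟩ c hc
  exact (mem_cen φ).mp hc |>.2 a ha v hv

theorem card_sup_mul_card_inf (H N : AddSubgroup V) :
    Nat.card (H ⊔ N : AddSubgroup V) * Nat.card (H ⊓ N : AddSubgroup V) =
      Nat.card H * Nat.card N := by
  have e := (QuotientAddGroup.quotientInfEquivSumNormalQuotient H N).toEquiv
  have c := Nat.card_congr e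
  have h1 := AddSubgroup.card_eq_card_quotient_mul_card_addSubgroup (N.addSubgroupOf H)
  have h2 := AddSubgroup.card_eq_card_quotient_mul_card_addSubgroup (N.addSubgroupOf (H ⊔ N))
  have e1 : Nat.card (N.addSubgroupOf (H ⊔ N)) = Nat.card N :=
    Nat.card_congr (AddSubgroup.addSubgroupOfEquivOfLe le_sup_right).toEquiv
  have e2 : Nat.card (N.addSubgroupOf H) = Nat.card (H ⊓ N : AddSubgroup V) := by
    rw [← AddSubgroup.inf_addSubgroupOf_left]
    exact Nat.card_congr (AddSubgroup.addSubgroupOfEquivOfLe inf_le_left).toEquiv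
  rw [e1] at h2
  rw [e2] at h1
  rw [h1, h2, c]
  ring

variable [Finite G]

omit [AddCommGroup V] [Finite V] in
theorem card_sup_of_commute {A B : Subgroup G} (h : ∀ x ∈ A, ∀ y ∈ B, x * y = y * x) :
    Nat.card ↥(A ⊔ B : Subgroup G) * Nat.card ↥(A ⊓ B : Subgroup G) = Nat.card ↥A * Nat.card ↥B := by
  let f : ↥A × ↥B →* G := A.subtype.noncommCoprod B.subtype (fun a b => h a a.2 b b.2)
  have hr : f.range = A ⊔ B := by
    refine (MonoidHom.noncommCoprod_range _ _ _).trans ?_
    rw [Subgroup.range_subtype, Subgroup.range_subtype]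
  have hk : Nat.card ↥f.ker = Nat.card ↥(A ⊓ B : Subgroup G) := by
    refine Nat.card_congr
      { toFun := fun z => ⟨(z.1.1 : G), Subgroup.mem_inf.2 ⟨z.1.1.2, ?_⟩⟩
        invFun := fun z => ⟨(⟨z, (Subgroup.mem_inf.1 z.2).1⟩, ⟨(z : G)⁻¹, inv_mem (Subgroup.mem_inf.1 z.2).2⟩), ?_⟩
        left_inv := ?_
        right_inv := fun z => rfl }
    · have h1 : (z.1.1 : G) * (z.1.2 : G) = 1 := MonoidHom.mem_ker.1 z.2
      rw [eq_inv_of_mul_eq_one_left h1]
      exact inv_mem z.1.2.2
    · exact MonoidHom.mem_ker.2 (mul_inv_cancel (z : G))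
    · intro z
      have h1 : (z.1.1 : G) * (z.1.2 : G) = 1 := MonoidHom.mem_ker.1 z.2
      exact Subtype.ext (Prod.ext rfl (Subtype.ext (eq_inv_of_mul_eq_one_right h1).symm))
  rw [← hr, ← hk, ← Subgroup.index_ker, Subgroup.index_mul_card, Nat.card_prod]

/-- The inequality for one vector. -/
theorem weight_le_single (A : Subgroup G) (hab : ∀ a ∈ A, ∀ b ∈ A, Commute a b) (v : V) :
    weight φ A ≤ Nat.card (cen φ A {v}) * Nat.card (span' φ A {v}) := by
  classical
  set C := fixedBy φ (A : Set G) with hC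
  set S := span' φ A {v} with hS
  set N := (cen φ A {v}).subgroupOf A with hN
  let f : A ⧸ N → S ⧸ C.addSubgroupOf S := fun q =>
    ((⟨φ (q.out : G) v - v, AddSubgroup.mem_sup_left
      (AddSubgroup.subset_closure ⟨_, q.out.2, v, rfl, rfl⟩)⟩ : S) : S ⧸ C.addSubgroupOf S)
  have hf : Function.Injective f := by
    intro q r hqr
    rw [← QuotientGroup.out_eq' q, ← QuotientGroup.out_eq' r, QuotientGroup.eq]
    set a : G := (q.out : G)
    set b : G := (r.out : G)
    have hmem : (φ a v - v) - (φ b v - v) ∈ C := by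
      have h := QuotientAddGroup.eq_iff_sub_mem.mp hqr
      exact h
    rw [Subgroup.mem_subgroupOf, mem_cen]
    refine ⟨A.mul_mem (A.inv_mem q.out.2) r.out.2, fun c hc w hw => ?_⟩
    rw [Set.mem_singleton_iff.mp hw]
    show φ (a⁻¹ * b) (φ c v - v) = φ c v - v
    have h1 := hmem c hc
    have e : φ b (φ c v - v) = φ a (φ c v - v) := by
      simp only [map_sub, ← phi_mul_apply, (hab c hc a q.out.2).eq, (hab c hc b r.out.2).eq] at h1 ⊢
      have h2 : φ (a * c) v - φ (b * c) v = φ a v - φ b v := by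
        calc φ (a * c) v - φ (b * c) v = (φ (a * c) v - φ c v) - (φ (b * c) v - φ c v) := by abel
          _ = φ a v - v - (φ b v - v) := h1
          _ = φ a v - φ b v := by abel
      calc φ (b * c) v - φ b v = φ (a * c) v - φ a v - (φ (a * c) v - φ (b * c) v) +
            (φ a v - φ b v) := by abel
        _ = φ (a * c) v - φ a v := by rw [h2]; abel
    rw [phi_mul_apply, e, phi_inv_cancel]
  have h1 := Nat.card_le_card_of_injective f hf
  have hA := Subgroup.card_eq_card_quotient_mul_card_subgroup N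
  have hS' := AddSubgroup.card_eq_card_quotient_mul_card_addSubgroup (C.addSubgroupOf S)
  have eN : Nat.card N = Nat.card (cen φ A {v}) :=
    Nat.card_congr (Subgroup.subgroupOfEquivOfLe inf_le_left).toEquiv
  have eC : Nat.card (C.addSubgroupOf S) = Nat.card C :=
    Nat.card_congr (AddSubgroup.addSubgroupOfEquivOfLe le_sup_right).toEquiv
  rw [weight, hA, hS', eN, eC]
  calc Nat.card (A ⧸ N) * Nat.card (cen φ A {v}) * Nat.card C
      = Nat.card (cen φ A {v}) * (Nat.card (A ⧸ N) * Nat.card C) := by ring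
    _ ≤ _ := Nat.mul_le_mul_left _ (Nat.mul_le_mul_right _ h1)

theorem span'_insert (A : Subgroup G) (v : V) (U : Set V) :
    span' φ A (insert v U) = span' φ A {v} ⊔ span' φ A U := by
  have e : {w | ∃ a ∈ A, ∃ x ∈ insert v U, w = φ a x - x} =
      {w | ∃ a ∈ A, ∃ x ∈ ({v} : Set V), w = φ a x - x} ∪
        {w | ∃ a ∈ A, ∃ x ∈ U, w = φ a x - x} := by
    ext w
    simp only [Set.mem_insert_iff, Set.mem_singleton_iff, Set.mem_union, Set.mem_setOf_eq]
    constructor
    · rintro ⟨a, ha, x, hx | hx, e⟩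
      exacts [Or.inl ⟨a, ha, x, hx, e⟩, Or.inr ⟨a, ha, x, hx, e⟩]
    · rintro (⟨a, ha, x, hx, e⟩ | ⟨a, ha, x, hx, e⟩)
      exacts [⟨a, ha, x, Or.inl hx, e⟩, ⟨a, ha, x, Or.inr hx, e⟩]
  rw [span', span', span', e, AddSubgroup.closure_union, sup_sup_sup_comm, sup_idem]

theorem cen_insert (A : Subgroup G) (v : V) (U : Set V) :
    cen φ A (insert v U) = cen φ A {v} ⊓ cen φ A U := by
  ext c
  simp only [Subgroup.mem_inf, mem_cen]
  constructor
  · rintro ⟨hc, h⟩
    exact ⟨⟨hc, fun a ha x hx => h a ha x (Or.inl hx)⟩, hc, fun a ha x hx => h a ha x (Or.inr hx)⟩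
  · rintro ⟨⟨hc, h⟩, -, h'⟩
    refine ⟨hc, fun a ha x hx => ?_⟩
    rcases hx with hx | hx
    exacts [h a ha x hx, h' a ha x hx]

/-- Timmesfeld's replacement: for a maximiser `A`, the group `C_A([U,A])` is again a maximiser
with fixed points `[U,A] + C_V(A)`. -/
theorem replacement {A : Subgroup G} (hab : ∀ a ∈ A, ∀ b ∈ A, Commute a b) (hA : Best φ A)
    (U : Finset V) :
    weight φ (cen φ A (U : Set V)) = weight φ A ∧
      fixedBy φ ((cen φ A (U : Set V) : Subgroup G) : Set G) = span' φ A (U : Set V) := by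
  classical
  have hpos : ∀ B : Subgroup G, 0 < Nat.card B := fun B => Nat.card_pos
  have step : ∀ S : Set V, weight φ A ≤ Nat.card (cen φ A S) * Nat.card (span' φ A S) →
      weight φ (cen φ A S) = weight φ A ∧
        fixedBy φ ((cen φ A S : Subgroup G) : Set G) = span' φ A S := by
    intro S hS
    have h1 := hA (cen φ A S) inf_le_left
    have h2 : Nat.card (cen φ A S) * Nat.card (span' φ A S) ≤ weight φ (cen φ A S) :=
      Nat.mul_le_mul_left _ (AddSubgroup.card_le_of_le (span'_le φ A S))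
    refine ⟨by omega, ?_⟩
    have h3 : Nat.card (fixedBy φ ((cen φ A S : Subgroup G) : Set G)) ≤
        Nat.card (span' φ A S) := by
      refine Nat.le_of_mul_le_mul_left ?_ (hpos (cen φ A S))
      exact h1.trans hS
    exact (AddSubgroup.eq_of_le_of_card_ge (span'_le φ A S) h3).symm
  induction U using Finset.induction_on with
  | empty =>
    apply step
    have e1 : cen φ A ((∅ : Finset V) : Set V) = A := by
      ext c; simp [mem_cen]
    have e2 : fixedBy φ (A : Set G) ≤ span' φ A ((∅ : Finset V) : Set V) := le_sup_right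
    rw [e1]
    exact Nat.mul_le_mul_left _ (AddSubgroup.card_le_of_le e2)
  | insert v U hv ih =>
    obtain ⟨w1, f1⟩ := step {v} (weight_le_single φ A hab v)
    obtain ⟨w2, f2⟩ := ih
    set A1 := cen φ A {v} with hA1
    set A2 := cen φ A (U : Set V) with hA2
    apply step
    rw [Finset.coe_insert, cen_insert, span'_insert, ← hA1, ← hA2, ← f1, ← f2]
    set F1 := fixedBy φ (A1 : Set G) with hF1
    set F2 := fixedBy φ (A2 : Set G) with hF2
    have hle : A1 ⊔ A2 ≤ A := sup_le inf_le_left inf_le_left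
    have hcap : fixedBy φ ((A1 ⊔ A2 : Subgroup G) : Set G) = F1 ⊓ F2 := by
      refine le_antisymm (le_inf (fixedBy_anti φ fun x hx => Subgroup.mem_sup_left hx)
        (fixedBy_anti φ fun x hx => Subgroup.mem_sup_right hx)) fun x hx => ?_
      have : A1 ⊔ A2 ≤ actKer φ {x} := sup_le
        (fun c hc w hw => by rw [Set.mem_singleton_iff.mp hw]; exact hx.1 c hc)
        (fun c hc w hw => by rw [Set.mem_singleton_iff.mp hw]; exact hx.2 c hc)
      exact fun c hc => this hc x rfl
    have h12 := hA (A1 ⊔ A2) hle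
    rw [weight, hcap] at h12
    have hAcard : Nat.card (A1 ⊔ A2 : Subgroup G) * Nat.card (A1 ⊓ A2 : Subgroup G) =
        Nat.card A1 * Nat.card A2 :=
      card_sup_of_commute fun x hx y hy => (hab x hx.1 y hy.1).eq
    have hVcard := card_sup_mul_card_inf F1 F2
    have hm1 : Nat.card A1 * Nat.card F1 = weight φ A := w1
    have hm2 : Nat.card A2 * Nat.card F2 = weight φ A := w2
    refine Nat.le_of_mul_le_mul_left ?_ (show 0 < weight φ A from
      Nat.mul_pos Nat.card_pos Nat.card_pos)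
    calc weight φ A * weight φ A
        = Nat.card A1 * Nat.card A2 * (Nat.card F1 * Nat.card F2) := by
          rw [show Nat.card A1 * Nat.card A2 * (Nat.card F1 * Nat.card F2) =
            (Nat.card A1 * Nat.card F1) * (Nat.card A2 * Nat.card F2) by ring, hm1, hm2]
      _ = (Nat.card (A1 ⊔ A2 : Subgroup G) * Nat.card (F1 ⊓ F2 : AddSubgroup V)) *
            (Nat.card (A1 ⊓ A2 : Subgroup G) * Nat.card (F1 ⊔ F2 : AddSubgroup V)) := by
          rw [← hAcard, ← hVcard]; ring
      _ ≤ _ := Nat.mul_le_mul_right _ h12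

/-- The replacement of a nontrivially acting maximiser still moves some vector. -/
theorem exists_moved (hV : ∀ v : V, p • v = 0) {A : Subgroup G} (hAp : IsPGroup p A)
    (hab : ∀ a ∈ A, ∀ b ∈ A, Commute a b) (hA : Best φ A) (hne : ∃ a ∈ A, φ a ≠ 1) :
    ∃ b ∈ A, φ b ≠ 1 ∧ ∀ a ∈ A, ∀ v, φ b (φ a v - v) = φ a v - v := by
  classical
  haveI : Fintype V := Fintype.ofFinite V
  obtain ⟨-, hf⟩ := replacement φ hab hA (Finset.univ : Finset V)
  set C := fixedBy φ (A : Set G) with hC
  have hCt : C ≠ ⊤ := fun h => by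
    obtain ⟨a, ha, hne⟩ := hne
    exact hne (AddMonoidHom.ext fun v => (h ▸ (trivial : v ∈ (⊤ : AddSubgroup V)) : v ∈ C) a ha)
  -- a maximal proper invariant subgroup over `C`
  obtain ⟨X, ⟨hCX, hXi, hXne⟩, hXmax⟩ :=
    Set.Finite.exists_maximal (s := {X : AddSubgroup V | C ≤ X ∧
      (∀ a ∈ A, ∀ v ∈ X, φ a v ∈ X) ∧ X ≠ ⊤}) (Set.toFinite _)
      ⟨C, le_rfl, fun a ha v hv => by rw [hv a ha]; exact hv, hCt⟩
  obtain ⟨v, hv, hvA⟩ := exists_fixed_mod φ hV hAp hXi hXne
  set Y : AddSubgroup V :=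
    { carrier := {w | ∀ a ∈ A, φ a w - w ∈ X}
      zero_mem' := fun a _ => by rw [map_zero, sub_zero]; exact X.zero_mem
      add_mem' := fun {w w'} h h' a ha => by
        rw [map_add, add_sub_add_comm]; exact X.add_mem (h a ha) (h' a ha)
      neg_mem' := fun {w} h a ha => by
        rw [map_neg, ← neg_sub', ]; exact X.neg_mem (h a ha) } with hY
  have hXY : X ≤ Y := fun w hw a ha => X.sub_mem (hXi a ha w hw) hw
  have hYt : Y = ⊤ := by
    by_contra hYt
    refine hv (hXmax (y := Y) ⟨hCX.trans hXY, fun a ha w hw => ?_, hYt⟩ hXY hvA)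
    have := hXY (hw a ha)
    have h2 := Y.add_mem this hw
    rwa [sub_add_cancel] at h2
  by_contra hcon
  push Not at hcon
  refine hXne (top_unique ?_)
  intro w _
  have hw : w ∈ fixedBy φ ((cen φ A ((Finset.univ : Finset V) : Set V) : Subgroup G) : Set G) := by
    intro c hc
    obtain ⟨hcA, hc'⟩ := (mem_cen φ).mp hc
    by_cases h1 : φ c = 1
    · rw [h1]; rfl
    · obtain ⟨a, ha, x, hx⟩ := hcon c hcA h1
      exact absurd (hc' a ha x (Finset.mem_coe.mpr (Finset.mem_univ x))) hx
  rw [hf] at hw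
  refine (sup_le ((AddSubgroup.closure_le _).mpr ?_) hCX) hw
  rintro _ ⟨a, ha, x, -, rfl⟩
  exact (hYt ▸ (trivial : x ∈ (⊤ : AddSubgroup V)) : x ∈ Y) a ha

end Replacement

end H79.Offender
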