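import Cfsg.Agent.H79.OffenderBase
import Cfsg.Agent.CompLayer
import Cfsg.Agent.H33.TwoPrime
import Mathlib.GroupTheory.Commutator.Basic

/-!
`P(G,V)` for `p = 2`: a weak offender with a quadratically commuting element normalises every
quasisimple subgroup whose conjugates are equal or commuting.
-/

set_option autoImplicit false
set_option linter.all false
set_option maxHeartbeats 1000000

namespace H79.Offender

variable {V : Type*} [AddCommGroup V]

theorem add_self_eq_zero_of_two (hV : ∀ v : V, 2 • v = 0) (v : V) : v + v = 0 := by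
  rw [← two_nsmul]; exact hV v

theorem eq_of_add_eq_zero_two (hV : ∀ v : V, 2 • v = 0) {v w : V} (h : v + w = 0) : w = v := by
  rw [eq_neg_of_add_eq_zero_left h, ← sub_eq_zero, sub_neg_eq_add]; exact add_self_eq_zero_of_two hV w

theorem sub_eq_add_two (hV : ∀ v : V, 2 • v = 0) (v w : V) : v - w = v + w := by
  rw [sub_eq_iff_eq_add, add_assoc, add_self_eq_zero_of_two hV, add_zero]

variable {G : Type*} [Group G] (φ : G →* AddMonoid.End V) [Finite V]

theorem inv_of_sup {D B : Subgroup G} {Y : AddSubgroup V} (hD : ∀ g ∈ D, ∀ v ∈ Y, φ g v ∈ Y)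
    (hB : ∀ g ∈ B, ∀ v ∈ Y, φ g v ∈ Y) : ∀ g ∈ D ⊔ B, ∀ v ∈ Y, φ g v ∈ Y := by
  intro g hg
  rw [Subgroup.sup_eq_closure] at hg
  induction hg using Subgroup.closure_induction with
  | mem x hx => exact hx.elim (hD x) (hB x)
  | one => intro v hv; rwa [phi_one_apply]
  | mul x y _ _ hx hy => intro v hv; rw [phi_mul_apply]; exact hx _ (hy v hv)
  | inv x _ hx =>
    intro v hv
    obtain ⟨w, hw, rfl⟩ := exists_preimage φ hx hv
    rwa [phi_inv_cancel]

theorem card_eq_range_mul_ker (T : AddMonoid.End V) :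
    Nat.card V = Nat.card (AddMonoidHom.range (T : V →+ V)) *
      Nat.card (AddMonoidHom.ker (T : V →+ V)) := by
  rw [AddSubgroup.card_eq_card_quotient_mul_card_addSubgroup (AddMonoidHom.ker (T : V →+ V)),
    Nat.card_congr (QuotientAddGroup.quotientKerEquivRange (T : V →+ V)).toEquiv]

theorem card_fixed_res (X : AddSubgroup V) (hX : Inv φ X) (S : Set G) :
    Nat.card (fixedBy φ S) * Nat.card X ≤
      Nat.card V * Nat.card (fixedBy (resHom φ X hX) S) := by
  have h := card_sup_mul_card_inf (fixedBy φ S) X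
  have e : Nat.card (fixedBy φ S ⊓ X : AddSubgroup V) = Nat.card (fixedBy (resHom φ X hX) S) :=
    Nat.card_congr
      { toFun := fun v => ⟨⟨v, v.2.2⟩, fun g hg => Subtype.ext (v.2.1 g hg)⟩
        invFun := fun v => ⟨(v : X), fun g hg => congrArg Subtype.val (v.2 g hg), (v : X).2⟩
        left_inv := fun v => rfl
        right_inv := fun v => rfl }
  rw [e] at h
  rw [← h]
  exact Nat.mul_le_mul_right _ (Nat.card_le_card_of_injective _ Subtype.val_injective)

theorem card_fixed_quo (R : AddSubgroup V) (hR : Inv φ R) (S : Set G) :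
    Nat.card (fixedBy φ S) ≤ Nat.card R * Nat.card (fixedBy (quoHom φ R hR) S) := by
  set π : fixedBy φ S →+ V ⧸ R := (QuotientAddGroup.mk' R).comp (fixedBy φ S).subtype with hπ
  have h := AddSubgroup.card_eq_card_quotient_mul_card_addSubgroup π.ker
  rw [Nat.card_congr (QuotientAddGroup.quotientKerEquivRange π).toEquiv] at h
  have hk : Nat.card π.ker ≤ Nat.card R :=
    Nat.card_le_card_of_injective
      (fun v => (⟨((v : fixedBy φ S) : V), (QuotientAddGroup.eq_zero_iff _).mp v.2⟩ : R))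
      (fun v w h => Subtype.ext (Subtype.ext (congrArg Subtype.val h :)))
  have hr : π.range ≤ fixedBy (quoHom φ R hR) S := by
    rintro _ ⟨v, rfl⟩ g hg
    show ((φ g (v : V) : V) : V ⧸ R) = _
    rw [v.2 g hg]; rfl
  rw [h, mul_comm]
  exact Nat.mul_le_mul hk (AddSubgroup.card_le_of_le hr)

omit [Finite V] in
theorem central_map_trivial {K : Subgroup G} (hK : commutator K = ⊤) (m : K → K)
    (hm : ∀ x, m x ∈ Subgroup.center K) (hmul : ∀ x y, m (x * y) = m x * m y) : ∀ x, m x = 1 := by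
  intro x
  let θ : K →* Subgroup.center K :=
    MonoidHom.mk' (fun x => ⟨m x, hm x⟩) (fun x y => Subtype.ext (hmul x y))
  have hle : commutator K ≤ θ.ker := by
    rw [commutator_def, Subgroup.commutator_le]
    intro a _ b _
    rw [MonoidHom.mem_ker, map_commutatorElement, commutatorElement_eq_one_iff_mul_comm]
    exact Subtype.ext (Subgroup.mem_center_iff.mp (θ b).2 _)
  rw [hK] at hle
  exact congrArg Subtype.val (hle (Subgroup.mem_top x) : θ x = 1)

omit [Finite V] in
/-- If all commutators of `x ∈ K` with `c` are central in a perfect `K`, then `c` centralises `K`. -/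
theorem commute_of_central {K : Subgroup G} (hK : commutator K = ⊤) (c : G)
    (hn : ∀ x ∈ K, c * x * c⁻¹ ∈ K)
    (hz : ∀ (x : G) (hx : x ∈ K),
      (⟨x⁻¹ * (c * x * c⁻¹), K.mul_mem (K.inv_mem hx) (hn x hx)⟩ : K) ∈ Subgroup.center K) :
    ∀ x ∈ K, Commute c x := by
  intro x hx
  have h := central_map_trivial hK
    (fun y : K => ⟨(y : G)⁻¹ * (c * y * c⁻¹), K.mul_mem (K.inv_mem y.2) (hn y y.2)⟩)
    (fun y => hz y y.2) (fun y w => by
      have hc := congrArg Subtype.val
        (Subgroup.mem_center_iff.mp (hz y y.2) (⟨(w : G)⁻¹, K.inv_mem w.2⟩ : K))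
      apply Subtype.ext
      show ((y : G) * w)⁻¹ * (c * (y * w) * c⁻¹) =
        ((y : G)⁻¹ * (c * y * c⁻¹)) * ((w : G)⁻¹ * (c * w * c⁻¹))
      calc ((y : G) * w)⁻¹ * (c * (y * w) * c⁻¹)
          = (w : G)⁻¹ * ((y : G)⁻¹ * (c * y * c⁻¹)) * (c * w * c⁻¹) := by group
        _ = _ := by rw [show (w : G)⁻¹ * ((y : G)⁻¹ * (c * y * c⁻¹)) =
            ((y : G)⁻¹ * (c * y * c⁻¹)) * (w : G)⁻¹ from hc, mul_assoc]) ⟨x, hx⟩
  have h' : x⁻¹ * (c * x * c⁻¹) = 1 := congrArg Subtype.val h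
  rw [inv_mul_eq_one] at h'
  show c * x = x * c
  nth_rw 2 [h']
  group

section FreeFixed

variable {D : Subgroup G} (hV : ∀ v : V, 2 • v = 0) (hDq : Cfsg.IsQuasisimple D)
  (hz : ∀ s ∈ D, ∀ t ∈ D, Commute (φ s + φ s⁻¹) (φ t))

/-- The key step: on an irreducible `D⟨b⟩`-module with `D` nontrivial the fixed points of an
involution `b` not centralising `D` lie in `[Y,b]`. -/
theorem fixed_le_range_of_minimal (hV : ∀ v : V, 2 • v = 0) (hDq : Cfsg.IsQuasisimple D)
    (hz : ∀ s ∈ D, ∀ t ∈ D, Commute (φ s + φ s⁻¹) (φ t)) {b : G} (hbb : b * b = 1)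
    (hbn : ∀ x ∈ D, b * x * b⁻¹ ∈ D) (hb : ∃ x ∈ D, ¬ Commute b x) (Y : AddSubgroup V)
    (hYD : ∀ g ∈ D, ∀ v ∈ Y, φ g v ∈ Y) (hYb : ∀ v ∈ Y, φ b v ∈ Y)
    (hYnt : ∃ g ∈ D, ∃ v ∈ Y, φ g v ≠ v)
    (hYmin : ∀ Z ≤ Y, (∀ g ∈ D, ∀ v ∈ Z, φ g v ∈ Z) → (∀ v ∈ Z, φ b v ∈ Z) → Z = ⊥ ∨ Z = Y) :
    ∀ v ∈ Y, φ b v = v → ∃ w ∈ Y, v = φ b w - w := by
  have hbi : b⁻¹ = b := inv_eq_of_mul_eq_one_right hbb
  have hK : commutator D = ⊤ := Cfsg.Comp.perfect_of_quasisimple hDq
  let g : G → G := fun x => x * b * x⁻¹ * b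
  have hgmem : ∀ x ∈ D, g x ∈ D := fun x hx => by
    rw [show g x = x * (b * x⁻¹ * b⁻¹) by simp only [g, hbi, mul_assoc]]
    exact D.mul_mem hx (hbn _ (D.inv_mem hx))
  have hbg : ∀ x, b * g x * b⁻¹ = (g x)⁻¹ := fun x => by
    simp only [g, hbi, mul_inv_rev, inv_inv, mul_assoc, hbb, mul_one]
  -- some `g x + (g x)⁻¹` is nonzero on `Y`
  obtain ⟨x, hx, hne⟩ : ∃ x ∈ D, ∃ v ∈ Y, φ (g x) v + φ (g x)⁻¹ v ≠ 0 := by
    by_contra hc
    push Not at hc
    have hinvol : ∀ x ∈ D, ∀ v ∈ Y, φ (g x)⁻¹ v = φ (g x) v := fun x hx v hv =>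
      eq_of_add_eq_zero_two hV (hc x hx v hv)
    have hbY : ∀ x ∈ D, ∀ v ∈ Y, φ (x * b * x⁻¹) v ∈ Y := fun x hx v hv => by
      rw [phi_mul_apply, phi_mul_apply]
      exact hYD x hx _ (hYb _ (hYD _ (D.inv_mem hx) v hv))
    -- two conjugates of `b` commute on `Y`
    have hcb : ∀ x ∈ D, ∀ v ∈ Y, φ (x * b * x⁻¹) (φ b v) = φ b (φ (x * b * x⁻¹) v) := by
      intro x hx v hv
      have h := hinvol x hx v hv
      rw [show (g x)⁻¹ = b * (x * b * x⁻¹) by
        simp only [g, hbi, mul_inv_rev, inv_inv, mul_assoc]] at h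
      rw [← phi_mul_apply, ← phi_mul_apply]
      exact h.symm
    have hcc : ∀ x ∈ D, ∀ y ∈ D, ∀ v ∈ Y, φ (x * b * x⁻¹) (φ (y * b * y⁻¹) v) =
        φ (y * b * y⁻¹) (φ (x * b * x⁻¹) v) := by
      intro x hx y hy v hv
      have h := congrArg (φ y) (hcb (y⁻¹ * x) (D.mul_mem (D.inv_mem hy) hx) (φ y⁻¹ v)
        (hYD _ (D.inv_mem hy) v hv))
      simp only [← phi_mul_apply] at h ⊢
      convert h using 2 <;> group
    have hgc : ∀ x ∈ D, ∀ y ∈ D, ∀ v ∈ Y, φ (g x) (φ (g y) v) = φ (g y) (φ (g x) v) := by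
      intro x hx y hy v hv
      have eg : ∀ x v, φ (g x) v = φ (x * b * x⁻¹) (φ b v) := fun x v => phi_mul_apply φ _ _ _
      rw [eg, eg, eg y, eg x]
      rw [← hcb y hy (φ b v) (hYb v hv), hcc x hx y hy (φ b (φ b v)) (hYb _ (hYb v hv)),
        hcb x hx (φ b v) (hYb v hv)]
    set N : Subgroup D := Subgroup.closure {k | ∃ x ∈ D, (k : G) = g x} with hN
    haveI : N.Normal := by
      constructor
      intro k hk t
      induction hk using Subgroup.closure_induction with
      | mem k hk =>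
        obtain ⟨x, hx, hk⟩ := hk
        have : t * k * t⁻¹ = ⟨g ((t : G) * x), hgmem _ (D.mul_mem t.2 hx)⟩ *
            (⟨g (t : G), hgmem _ t.2⟩ : D)⁻¹ := by
          refine Subtype.ext ?_
          show (t : G) * k * (t : G)⁻¹ = g ((t : G) * x) * (g (t : G))⁻¹
          rw [hk]
          simp only [g, mul_inv_rev, inv_inv, hbi, mul_assoc]
          rw [← mul_assoc b b, hbb, one_mul, inv_mul_cancel_left]
        rw [this]
        exact N.mul_mem (Subgroup.subset_closure ⟨_, D.mul_mem t.2 hx, rfl⟩)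
          (N.inv_mem (Subgroup.subset_closure ⟨_, t.2, rfl⟩))
      | one => simp
      | mul a c _ _ ha hc =>
        rw [show t * (a * c) * t⁻¹ = (t * a * t⁻¹) * (t * c * t⁻¹) by group]
        exact N.mul_mem ha hc
      | inv a _ ha =>
        rw [show t * a⁻¹ * t⁻¹ = (t * a * t⁻¹)⁻¹ by group]
        exact N.inv_mem ha
    rcases Cfsg.Comp.normal_eq_top_or_le_center hDq (N := N) inferInstance with h | h
    · -- `D` acts as an abelian group
      set χ := resHom (φ.comp D.subtype) Y (fun m v hv => hYD m m.2 v hv) with hχ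
      have hcomm : ∀ s t : D, Commute (χ s) (χ t) := by
        have hgen : ∀ s ∈ N, ∀ t ∈ N, Commute (χ s) (χ t) := by
          intro s hs t ht
          induction hs using Subgroup.closure_induction with
          | mem s hs =>
            induction ht using Subgroup.closure_induction with
            | mem t ht =>
              obtain ⟨x, hx, hs⟩ := hs
              obtain ⟨y, hy, ht⟩ := ht
              refine AddMonoidHom.ext fun v => Subtype.ext ?_
              show φ (s : G) (φ (t : G) v) = φ (t : G) (φ (s : G) v)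
              rw [hs, ht]
              exact hgc x hx y hy v v.2
            | one => rw [map_one]; exact Commute.one_right _
            | mul a c _ _ ha hc => rw [map_mul]; exact ha.mul_right hc
            | inv a _ ha =>
              have := (Commute.units_inv_right (a := χ s) (u := χ.toHomUnits a) ha)
              rwa [← map_inv] at this
          | one => rw [map_one]; exact Commute.one_left _
          | mul a c _ _ ha hc => rw [map_mul]; exact ha.mul_left hc
          | inv a _ ha =>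
            have := (Commute.units_inv_left (a := χ t) (u := χ.toHomUnits a) ha)
            rwa [← map_inv] at this
        intro s t
        exact hgen s (h ▸ Subgroup.mem_top s) t (h ▸ Subgroup.mem_top t)
      obtain ⟨d, hd, v, hv, hne⟩ := hYnt
      have h1 : χ ⟨d, hd⟩ = 1 := by
        have hle : commutator D ≤ χ.toHomUnits.ker := by
          rw [commutator_def, Subgroup.commutator_le]
          intro a _ c _
          rw [MonoidHom.mem_ker, map_commutatorElement, commutatorElement_eq_one_iff_mul_comm]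
          exact Units.ext (hcomm a c).eq
        rw [hK] at hle
        exact congrArg Units.val (hle (Subgroup.mem_top _) : χ.toHomUnits ⟨d, hd⟩ = 1)
      have h2 := DFunLike.congr_fun h1 (⟨v, hv⟩ : Y)
      exact hne (congrArg Subtype.val h2)
    · obtain ⟨x, hx, hbx⟩ := hb
      refine hbx (commute_of_central hK b hbn (fun y hy => h (Subgroup.subset_closure
        ⟨y⁻¹, D.inv_mem hy, ?_⟩)) x hx)
      show y⁻¹ * (b * y * b⁻¹) = g y⁻¹
      simp only [g, hbi, inv_inv, mul_assoc]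
  set γ := g x with hγ
  set z : AddMonoid.End V := φ γ + φ γ⁻¹ with hzdef
  have hγD : γ ∈ D := hgmem x hx
  have hzb : ∀ v, z (φ b v) = φ b (z v) := fun v => by
    rw [hzdef, end_add_apply, end_add_apply, map_add, ← phi_mul_apply, ← phi_mul_apply,
      ← phi_mul_apply, ← phi_mul_apply]
    have e1 : γ * b = b * γ⁻¹ := by rw [← hbg x, ← hγ]; simp [hbi, ← mul_assoc, hbb]
    have e2 : γ⁻¹ * b = b * γ := by rw [← hbg x]; simp [hbi, mul_assoc, hbb, hγ]
    rw [e1, e2, add_comm]
  have hzY : ∀ v ∈ Y, z v ∈ Y := fun v hv => Y.add_mem (hYD _ hγD v hv) (hYD _ (D.inv_mem hγD) v hv)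
  have hzt : ∀ t ∈ D, ∀ v, z (φ t v) = φ t (z v) := fun t ht v =>
    DFunLike.congr_fun (hz γ hγD t ht).eq v
  -- `z` is injective on `Y`
  have hzinj : ∀ v ∈ Y, z v = 0 → v = 0 := by
    let Z : AddSubgroup V := (AddMonoidHom.ker (z : V →+ V)) ⊓ Y
    rcases hYmin Z inf_le_right (fun t ht v hv => ⟨by
        show z (φ t v) = 0
        rw [hzt t ht, show z v = 0 from hv.1, map_zero], hYD t ht v hv.2⟩)
      (fun v hv => ⟨by
        show z (φ b v) = 0
        rw [hzb, show z v = 0 from hv.1, map_zero], hYb v hv.2⟩) with h | h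
    · intro v hv h0
      have : v ∈ Z := ⟨h0, hv⟩
      rwa [h, AddSubgroup.mem_bot] at this
    · obtain ⟨v, hv, hne⟩ := hne
      exact absurd (show v ∈ Z from h.symm ▸ hv).1 hne
  -- the trace of `x⁻¹`
  intro v hv hbv
  obtain ⟨y, hy, hxy⟩ : ∃ y ∈ D, γ = g y := ⟨x, hx, rfl⟩
  set t := y⁻¹ with ht
  have htD : t ∈ D := D.inv_mem hy
  let wfun : Y → Y := fun q => ⟨φ t q + φ (b * t * b⁻¹) q,
    Y.add_mem (hYD t htD q q.2) (hYD _ (hbn t htD) q q.2)⟩
  have hwinj : Function.Injective wfun := by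
    intro q r hqr
    have h0 : φ t ((q : V) - r) + φ (b * t * b⁻¹) ((q : V) - r) = 0 := by
      have h : φ t (q : V) + φ (b * t * b⁻¹) q = φ t (r : V) + φ (b * t * b⁻¹) r :=
        congrArg Subtype.val hqr
      rw [map_sub, map_sub, sub_add_sub_comm, h, sub_self]
    set e := (q : V) - r with he
    have h1 : φ γ e = e := by
      have h2 := congrArg (φ t⁻¹) h0
      rw [map_add, map_zero, phi_inv_cancel, ← phi_mul_apply] at h2
      rw [show γ = t⁻¹ * (b * t * b⁻¹) by
        rw [hxy, ht]; simp only [g, inv_inv, hbi, mul_assoc]]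
      exact eq_of_add_eq_zero_two hV h2
    have h3 : z e = 0 := by
      have h4 := congrArg (φ γ⁻¹) h1
      rw [phi_inv_cancel] at h4
      rw [hzdef, end_add_apply, h1, ← h4]
      exact add_self_eq_zero_of_two hV e
    exact Subtype.ext (sub_eq_zero.mp (hzinj e (Y.sub_mem q.2 r.2) h3))
  obtain ⟨q, hq⟩ := Finite.surjective_of_injective hwinj ⟨v, hv⟩
  have hq' : φ t (q : V) + φ (b * t * b⁻¹) q = v := congrArg Subtype.val hq
  have hbq : φ b (q : V) = q := by
    refine congrArg Subtype.val (hwinj (a₁ := ⟨φ b q, hYb q q.2⟩) (a₂ := q) (Subtype.ext ?_))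
    show φ t (φ b (q : V)) + φ (b * t * b⁻¹) (φ b q) = φ t (q : V) + φ (b * t * b⁻¹) q
    conv_rhs => rw [hq', ← hbv, ← hq', map_add, ← phi_mul_apply, ← phi_mul_apply]
    rw [← phi_mul_apply, ← phi_mul_apply, inv_mul_cancel_right, add_comm,
      show b * (b * t * b⁻¹) = t * b by rw [hbi]; simp only [← mul_assoc, hbb, one_mul]]
  refine ⟨φ t q, hYD t htD q q.2, ?_⟩
  rw [← hq', sub_eq_add_two hV, add_comm, phi_mul_apply, phi_mul_apply]
  congr 2
  conv_lhs => rw [hbi, hbq]

end FreeFixed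

variable [Finite G]

/-- The index bound for a group of involutions normalising `D`. -/
theorem card_fixed_mul_le {D B : Subgroup G} (hV : ∀ v : V, 2 • v = 0) (hDq : Cfsg.IsQuasisimple D)
    (hD1 : ∃ d ∈ D, φ d ≠ 1)
    (hz : ∀ s ∈ D, ∀ t ∈ D, Commute (φ s + φ s⁻¹) (φ t))
    (hBab : ∀ a ∈ B, ∀ b ∈ B, Commute a b) (hB2 : ∀ b ∈ B, b * b = 1)
    (hBn : ∀ b ∈ B, ∀ x ∈ D, b * x * b⁻¹ ∈ D)
    (hBf : ∀ b ∈ B, b ≠ 1 → ∃ x ∈ D, ¬ Commute b x)
    (b0 : G) (hb0 : b0 ∈ B) (hb01 : b0 ≠ 1)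
    (hkill : ∀ e ∈ B, ∀ v, φ e (φ b0 v - v) = φ b0 v - v) :
    Nat.card B * Nat.card (fixedBy φ (B : Set G)) ≤ Nat.card V := by
  classical
  set H := D ⊔ B with hH
  set φH := φ.comp H.subtype with hφH
  have hDH : D ≤ H := le_sup_left
  have hBH : B ≤ H := le_sup_right
  set D' := D.subgroupOf H with hD'
  have hD'q : Cfsg.IsQuasisimple D' :=
    Cfsg.Comp.isQuasisimple_of_equiv (Subgroup.subgroupOfEquivOfLe hDH).symm hDq
  obtain ⟨X, hX, R, hR, hnt, hirr⟩ := exists_section φH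
    (Cfsg.Comp.perfect_of_quasisimple hD'q)
    (by obtain ⟨d, hd, hd1⟩ := hD1; exact ⟨⟨d, hDH hd⟩, hd, hd1⟩)
  set ψ := quoHom (resHom φH X hX) R hR with hψ
  set L := X ⧸ R
  have hVL : ∀ q : L, 2 • q = 0 := fun q => by
    induction q using QuotientAddGroup.induction_on with
    | H v =>
      rw [← QuotientAddGroup.mk_nsmul, show 2 • v = 0 from Subtype.ext (hV v),
        QuotientAddGroup.mk_zero]
  have hzL : ∀ s ∈ D', ∀ t ∈ D', Commute (ψ s + ψ s⁻¹) (ψ t) := by
    intro s hs t ht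
    refine AddMonoidHom.ext fun q => ?_
    induction q using QuotientAddGroup.induction_on with
    | H v =>
      exact congrArg (QuotientAddGroup.mk' R)
        (Subtype.ext (DFunLike.congr_fun (hz s hs t ht).eq (v : V)))
  set B' := B.subgroupOf H with hB'
  have hBn' : ∀ b ∈ B', ∀ x ∈ D', b * x * b⁻¹ ∈ D' := fun b hb x hx => hBn b hb x hx
  have hBf' : ∀ b ∈ B', b ≠ 1 → ∃ x ∈ D', ¬ Commute b x := fun b hb hb1 => by
    obtain ⟨x, hx, hn⟩ := hBf b hb (fun e => hb1 (Subtype.ext e))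
    exact ⟨⟨x, hDH hx⟩, hx, fun e => hn (congrArg Subtype.val e.eq)⟩
  have hBab' : ∀ a ∈ B', ∀ b ∈ B', Commute a b := fun a ha b hb => Subtype.ext (hBab a ha b hb)
  have hB2' : ∀ b ∈ B', b * b = 1 := fun b hb => Subtype.ext (hB2 b hb)
  have hinvL : ∀ Y : AddSubgroup L, (∀ g ∈ D', ∀ v ∈ Y, ψ g v ∈ Y) →
      (∀ g ∈ B', ∀ v ∈ Y, ψ g v ∈ Y) → Y = ⊥ ∨ Y = ⊤ := by
    intro Y h1 h2
    refine hirr Y fun g => ?_
    have hg : g ∈ D' ⊔ B' := by
      rw [hD', hB', ← Subgroup.subgroupOf_sup hDH hBH, Subgroup.subgroupOf_self]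
      exact Subgroup.mem_top g
    exact inv_of_sup ψ h1 h2 g hg
  -- fixed points of each involution of `B`
  have hfree : ∀ b ∈ B', b ≠ 1 → ∀ v, ψ b v = v → ∃ w, v = ψ b w - w := by
    intro b hb hb1
    have hbn := hBn' b hb
    -- a minimal `D⟨b⟩`-invariant subgroup
    obtain ⟨L1, ⟨⟨hL1D, hL1b⟩, hL1ne⟩, hL1min⟩ :=
      Set.Finite.exists_minimal (s := {Y : AddSubgroup L |
        ((∀ g ∈ D', ∀ v ∈ Y, ψ g v ∈ Y) ∧ ∀ v ∈ Y, ψ b v ∈ Y) ∧ Y ≠ ⊥}) (Set.toFinite _)
        ⟨⊤, ⟨fun _ _ _ _ => trivial, fun _ _ => trivial⟩, fun h => by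
          obtain ⟨k, hk, hk1⟩ := hnt
          refine hk1 (AddMonoidHom.ext fun v => ?_)
          have h1 : ∀ w : L, w = 0 := fun w => by
            have : w ∈ (⊤ : AddSubgroup L) := trivial
            rwa [h, AddSubgroup.mem_bot] at this
          exact (h1 _).trans (h1 _).symm⟩
    let Good : AddSubgroup L → Prop := fun Y =>
      ((∀ g ∈ D', ∀ v ∈ Y, ψ g v ∈ Y) ∧ ∀ v ∈ Y, ψ b v ∈ Y) ∧
        ∀ v ∈ Y, ψ b v = v → ∃ w ∈ Y, v = ψ b w - w
    -- the translates of `L1`
    let T : B' → AddSubgroup L := fun c => L1.map (ψ (c : H) : L →+ L)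
    have hTinv : ∀ c, (∀ g ∈ D', ∀ v ∈ T c, ψ g v ∈ T c) ∧ ∀ v ∈ T c, ψ b v ∈ T c := by
      intro c
      constructor
      · rintro g hg _ ⟨v, hv, rfl⟩
        refine ⟨ψ ((c : H)⁻¹ * g * (c : H)) v, hL1D _ ?_ v hv, ?_⟩
        · simpa using hBn' _ (B'.inv_mem c.2) g hg
        · show ψ (c : H) _ = ψ g (ψ (c : H) v)
          rw [← phi_mul_apply, ← phi_mul_apply]
          group
      · rintro _ ⟨v, hv, rfl⟩
        refine ⟨ψ b v, hL1b v hv, ?_⟩
        show ψ (c : H) _ = ψ b (ψ (c : H) v)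
        rw [← phi_mul_apply, ← phi_mul_apply, (hBab' _ c.2 _ hb).eq]
    have hTmin : ∀ c, ∀ Z ≤ T c, (∀ g ∈ D', ∀ v ∈ Z, ψ g v ∈ Z) → (∀ v ∈ Z, ψ b v ∈ Z) →
        Z = ⊥ ∨ Z = T c := by
      intro c Z hZ hZD hZb
      set W := Z.comap (ψ (c : H) : L →+ L) with hW
      have hWle : W ≤ L1 := fun w hw => by
        obtain ⟨w', hw', e⟩ := hZ hw
        have := congrArg (ψ (c : H)⁻¹) (show ψ (c : H) w' = ψ (c : H) w from e)
        rw [phi_inv_cancel, phi_inv_cancel] at this
        exact this ▸ hw'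
      by_cases hWb : W = ⊥
      · left
        refine eq_bot_iff.mpr fun v hv => ?_
        obtain ⟨w, hw, rfl⟩ := hZ hv
        have : w ∈ W := hv
        rw [hWb, AddSubgroup.mem_bot] at this
        rw [AddSubgroup.mem_bot, this]; exact map_zero _
      · right
        have hWmem := hL1min (y := W) ⟨⟨fun g hg v hv => by
            show ψ (c : H) (ψ g v) ∈ Z
            rw [← phi_mul_apply, show (c : H) * g = ((c : H) * g * (c : H)⁻¹) * c by group,
              phi_mul_apply]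
            exact hZD _ (hBn' _ c.2 g hg) _ hv,
          fun v hv => by
            show ψ (c : H) (ψ b v) ∈ Z
            rw [← phi_mul_apply, (hBab' _ c.2 _ hb).eq, phi_mul_apply]
            exact hZb _ hv⟩, hWb⟩ hWle
        refine le_antisymm hZ ?_
        rintro _ ⟨w, hw, rfl⟩
        exact hWmem hw
    have hTnt : ∀ c, T c ≠ ⊥ → ∃ g ∈ D', ∃ v ∈ T c, ψ g v ≠ v := by
      intro c hc
      by_contra hcon
      push Not at hcon
      have hle : T c ≤ fixedBy ψ (D' : Set H) := fun v hv g hg => hcon g hg v hv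
      rcases hinvL (fixedBy ψ (D' : Set H))
        (fun g hg v hv => map_mem_fixedBy ψ hv (fun s hs =>
          D'.mul_mem (D'.mul_mem (D'.inv_mem hg) hs) hg))
        (fun g hg v hv => map_mem_fixedBy ψ hv (fun s hs => by
          simpa using hBn' _ (B'.inv_mem hg) s hs)) with h | h
      · exact hc (le_bot_iff.mp (h ▸ hle))
      · obtain ⟨k, hk, hk1⟩ := hnt
        refine hk1 (AddMonoidHom.ext fun v => ?_)
        have : v ∈ fixedBy ψ (D' : Set H) := by rw [h]; trivial
        exact this k hk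
    obtain ⟨Y, hY, hYmax⟩ := Set.Finite.exists_maximal (s := {Y : AddSubgroup L | Good Y})
      (Set.toFinite _) ⟨⊥, ⟨fun g _ v hv => by
          rw [AddSubgroup.mem_bot] at hv ⊢; rw [hv, map_zero],
        fun v hv => by rw [AddSubgroup.mem_bot] at hv ⊢; rw [hv, map_zero]⟩,
        fun v hv _ => ⟨0, zero_mem _, by
          rw [AddSubgroup.mem_bot] at hv; rw [hv, map_zero, sub_zero]⟩⟩
    have hall : ∀ c, T c ≤ Y := by
      intro c
      by_contra hc
      have hdis : T c ⊓ Y = ⊥ := by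
        rcases hTmin c (T c ⊓ Y) inf_le_left
          (fun g hg v hv => ⟨(hTinv c).1 g hg v hv.1, hY.1.1 g hg v hv.2⟩)
          (fun v hv => ⟨(hTinv c).2 v hv.1, hY.1.2 v hv.2⟩) with h | h
        · exact h
        · exact absurd (h ▸ inf_le_right) hc
      refine hc (le_trans le_sup_left (hYmax (y := T c ⊔ Y) ?_ le_sup_right))
      refine ⟨⟨fun g hg v hv => ?_, fun v hv => ?_⟩, fun v hv hbv => ?_⟩
      · obtain ⟨s, hs, y, hy, rfl⟩ := AddSubgroup.mem_sup.mp hv
        rw [map_add]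
        exact AddSubgroup.mem_sup.mpr ⟨_, (hTinv c).1 g hg s hs, _, hY.1.1 g hg y hy, rfl⟩
      · obtain ⟨s, hs, y, hy, rfl⟩ := AddSubgroup.mem_sup.mp hv
        rw [map_add]
        exact AddSubgroup.mem_sup.mpr ⟨_, (hTinv c).2 s hs, _, hY.1.2 y hy, rfl⟩
      · obtain ⟨s, hs, y, hy, rfl⟩ := AddSubgroup.mem_sup.mp hv
        rw [map_add] at hbv
        have hd : ψ b s - s = y - ψ b y := by
          calc ψ b s - s = (ψ b s + ψ b y) - s - ψ b y := by abel
            _ = (s + y) - s - ψ b y := by rw [hbv]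
            _ = y - ψ b y := by abel
        have h1 : ψ b s - s ∈ T c ⊓ Y :=
          ⟨(T c).sub_mem ((hTinv c).2 s hs) hs, hd ▸ Y.sub_mem hy (hY.1.2 y hy)⟩
        rw [hdis, AddSubgroup.mem_bot] at h1
        have hbs : ψ b s = s := sub_eq_zero.mp h1
        have hby : ψ b y = y := (sub_eq_zero.mp (hd ▸ h1)).symm
        have hTne : T c ≠ ⊥ := fun e => hc (e ▸ bot_le)
        obtain ⟨s', hs', es⟩ := fixed_le_range_of_minimal ψ hVL hD'q hzL (hB2' b hb) hbn
          (hBf' b hb hb1) (T c) (hTinv c).1 (hTinv c).2 (hTnt c hTne) (hTmin c) s hs hbs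
        obtain ⟨y', hy', ey⟩ := hY.2 y hy hby
        refine ⟨s' + y', AddSubgroup.mem_sup.mpr ⟨s', hs', y', hy', rfl⟩, ?_⟩
        rw [es, ey, map_add]; abel
    have hYtop : Y = ⊤ := by
      let S0 := ⨆ c, T c
      have hTc : ∀ (g : H) (hg : g ∈ B') (c : B') (w : L), w ∈ L1 →
          ψ g (ψ (c : H) w) ∈ T (⟨g, hg⟩ * c) := by
        intro g hg c w hw
        refine AddSubgroup.mem_map.mpr ⟨w, hw, ?_⟩
        show ψ (g * (c : H)) w = _
        exact phi_mul_apply ψ g (c : H) w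
      have hS0 : S0 = ⊤ := by
        refine (hinvL S0 (fun g hg v hv => ?_) (fun g hg v hv => ?_)).resolve_left fun h => ?_
        · induction hv using AddSubgroup.iSup_induction' with
          | hp c v hv => exact AddSubgroup.mem_iSup_of_mem c ((hTinv c).1 g hg v hv)
          | h1 => rw [map_zero]; exact zero_mem _
          | hadd a e _ _ ha he => rw [map_add]; exact add_mem ha he
        · induction hv using AddSubgroup.iSup_induction' with
          | hp c v hv =>
            obtain ⟨w, hw, rfl⟩ := AddSubgroup.mem_map.mp hv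
            let cg : B' := (⟨g, hg⟩ : B') * c
            have hh : ψ g (ψ (c : H) w) ∈ ⨆ d, T d :=
              AddSubgroup.mem_iSup_of_mem (S := T) cg (hTc g hg c w hw)
            exact hh
          | h1 => rw [map_zero]; exact zero_mem _
          | hadd a e _ _ ha he => rw [map_add]; exact add_mem ha he
        · refine hL1ne (le_bot_iff.mp fun v hv => ?_)
          rw [← h]
          exact AddSubgroup.mem_iSup_of_mem 1 ⟨v, hv, phi_one_apply ψ v⟩
      exact top_unique (hS0 ▸ iSup_le hall)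
    intro v hv
    obtain ⟨w, -, e⟩ := hY.2 v (hYtop ▸ trivial) hv
    exact ⟨w, e⟩
  -- the fixed points of `B` on `L`
  set U := fixedBy ψ (B' : Set H) with hU
  set b : H := ⟨b0, hBH hb0⟩ with hb
  have hbB : b ∈ B' := hb0
  have hb1 : b ≠ 1 := fun e => hb01 (congrArg Subtype.val e)
  have hkillL : ∀ e ∈ B', ∀ v, ψ e (ψ b v - v) = ψ b v - v := by
    intro e he q
    induction q using QuotientAddGroup.induction_on with
    | H v => exact congrArg (QuotientAddGroup.mk' R) (Subtype.ext (hkill e he (v : V)))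
  let u : H → AddMonoid.End L := fun c => ψ c - 1
  have hker : ∀ c v, v ∈ AddMonoidHom.ker (u c : L →+ L) ↔ ψ c v = v := fun c v => sub_eq_zero
  have hran : ∀ c ∈ B', c ≠ 1 →
      AddMonoidHom.ker (u c : L →+ L) = AddMonoidHom.range (u c : L →+ L) := by
    intro c hc hc1
    refine le_antisymm (fun v hv => ?_) ?_
    · obtain ⟨w, rfl⟩ := hfree c hc hc1 v ((hker c v).mp hv)
      exact ⟨w, rfl⟩
    · rintro _ ⟨w, rfl⟩
      rw [hker]
      show ψ c (ψ c w - w) = ψ c w - w
      rw [map_sub, ← phi_mul_apply, hB2' c hc, phi_one_apply, sub_eq_add_two hVL,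
        sub_eq_add_two hVL, add_comm]
  have hUall : ∀ c ∈ B', c ≠ 1 → AddMonoidHom.ker (u c : L →+ L) = U := by
    have hbU : AddMonoidHom.ker (u b : L →+ L) = U := by
      refine le_antisymm (fun v hv => ?_) (fun v hv => (hker b v).mpr (hv b hbB))
      rw [hran b hbB hb1] at hv
      obtain ⟨w, rfl⟩ := hv
      exact fun e he => hkillL e he w
    intro c hc hc1
    refine (AddSubgroup.eq_of_le_of_card_ge (H := U) (K := AddMonoidHom.ker (u c : L →+ L))
      (fun v hv => (hker c v).mpr (hv c hc)) ?_).symm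
    have e1 := card_eq_range_mul_ker (u c)
    have e2 := card_eq_range_mul_ker (u b)
    rw [← hran c hc hc1] at e1
    rw [← hran b hbB hb1, hbU] at e2
    exact Nat.mul_self_le_mul_self_iff.mp (e1 ▸ e2.le)
  have hcard : Nat.card L = Nat.card U * Nat.card U := by
    have e := card_eq_range_mul_ker (u b)
    rwa [← hran b hbB hb1, hUall b hbB hb1] at e
  obtain ⟨v0, hv0⟩ : ∃ v0, v0 ∉ U := by
    by_contra hc
    push Not at hc
    have : Nat.card U = 1 := by
      have hu : AddMonoidHom.range (u b : L →+ L) = ⊥ := eq_bot_iff.mpr fun v ⟨w, hw⟩ => by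
        rw [AddSubgroup.mem_bot, ← hw]
        exact sub_eq_zero.mpr (hc w b hbB)
      rw [← hUall b hbB hb1, hran b hbB hb1, hu, AddSubgroup.card_bot]
    rw [this, one_mul, Nat.card_eq_one_iff_unique] at hcard
    haveI := hcard.1
    obtain ⟨k, -, hk1⟩ := hnt
    exact hk1 (AddMonoidHom.ext fun v => Subsingleton.elim _ _)
  have hBle : Nat.card B' ≤ Nat.card U := by
    refine Nat.card_le_card_of_injective (fun c : B' => (⟨ψ (c : H) v0 - v0, ?_⟩ : U)) ?_
    · by_cases hc : (c : H) = 1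
      · rw [hc, phi_one_apply, sub_self]; exact U.zero_mem
      · rw [← hUall _ c.2 hc, hran _ c.2 hc]; exact ⟨v0, rfl⟩
    · intro c d hcd
      by_contra hne
      have h := sub_left_inj.mp (congrArg Subtype.val hcd)
      have he : ψ ((d : H)⁻¹ * c) v0 = v0 := by rw [phi_mul_apply, h, phi_inv_cancel]
      have h1 : (d : H)⁻¹ * (c : H) ≠ 1 := fun e => hne (Subtype.ext (inv_mul_eq_one.mp e).symm)
      exact hv0 (hUall _ (B'.mul_mem (B'.inv_mem d.2) c.2) h1 ▸ (hker _ _).mpr he)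
  -- back to `V`
  have h1 := card_fixed_res φH X hX (B' : Set H)
  have h2 := card_fixed_quo (resHom φH X hX) R hR (B' : Set H)
  have hXc := AddSubgroup.card_eq_card_quotient_mul_card_addSubgroup R
  have hBc : Nat.card B' = Nat.card B :=
    Nat.card_congr (Subgroup.subgroupOfEquivOfLe hBH).toEquiv
  have hfx : fixedBy φH (B' : Set H) = fixedBy φ (B : Set G) := by
    ext v
    exact ⟨fun h g hg => h ⟨g, hBH hg⟩ hg, fun h g hg => h g hg⟩
  rw [hfx] at h1
  rw [← hψ, ← hU] at h2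
  rw [← hBc]
  refine Nat.le_of_mul_le_mul_right ?_ (show 0 < Nat.card X from Nat.card_pos)
  calc Nat.card B' * Nat.card (fixedBy φ (B : Set G)) * Nat.card X
      = Nat.card B' * (Nat.card (fixedBy φ (B : Set G)) * Nat.card X) := mul_assoc _ _ _
    _ ≤ Nat.card B' * (Nat.card V * (Nat.card R * Nat.card U)) :=
        Nat.mul_le_mul_left _ (h1.trans (Nat.mul_le_mul_left _ h2))
    _ = Nat.card V * Nat.card R * (Nat.card B' * Nat.card U) := by ring
    _ ≤ Nat.card V * Nat.card R * (Nat.card U * Nat.card U) :=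
        Nat.mul_le_mul_left _ (Nat.mul_le_mul_right _ hBle)
    _ = Nat.card V * Nat.card X := by rw [hXc, ← hcard]; ring

end H79.Offender
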