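import Cfsg.Agent.H79.OffenderBase

/-!
For odd `p`: a cyclic orbit of length `p` of commuting perfect groups whose diagonal acts trivially
on `[V,a]` and on `V / C_V(a)` is impossible.
-/

set_option autoImplicit false
set_option linter.all false

namespace H79.Offender

variable {K : Type*} [Group K]

/-- A ring commutator. -/
def br {R : Type*} [Ring R] (x y : R) : R := x * y - y * x

theorem mul_br {R : Type*} [Ring R] (x y : R) : br x y * x = br x (y * x) := by
  simp only [br]; noncomm_ring

theorem eq_one_of_all_commute {M : Type*} [Monoid M] (hK : commutator K = ⊤) (f : K →* M)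
    (h : ∀ a b, Commute (f a) (f b)) : ∀ k, f k = 1 := by
  intro k
  let θ := f.toHomUnits
  have hle : commutator K ≤ θ.ker := by
    rw [commutator_def, Subgroup.commutator_le]
    intro a _ b _
    rw [MonoidHom.mem_ker, map_commutatorElement, commutatorElement_eq_one_iff_mul_comm]
    exact Units.ext (h a b).eq
  rw [hK] at hle
  exact congrArg Units.val (hle (Subgroup.mem_top k))

variable {V : Type*} [AddCommGroup V] [Finite V] [Finite K] {p : ℕ} [Fact p.Prime]

omit [Finite V] in
theorem eq_zero_of_coprime_nsmul (hV : ∀ v : V, p • v = 0) {T : AddMonoid.End V} {m : ℕ}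
    (hm : ¬ p ∣ m) (h : m • T = 0) : T = 0 := by
  refine AddMonoidHom.ext fun v => ?_
  have h1 : m • T v = 0 := DFunLike.congr_fun h v
  have hd := Nat.dvd_gcd (addOrderOf_dvd_of_nsmul_eq_zero h1)
    (addOrderOf_dvd_of_nsmul_eq_zero (hV (T v)))
  rw [((Nat.Prime.coprime_iff_not_dvd Fact.out).mpr hm).symm.gcd_eq_one] at hd
  exact AddMonoid.addOrderOf_eq_one_iff.mp (Nat.dvd_one.mp hd)

/-- No nontrivial irreducible action of a perfect group has commuting ring commutators. -/
theorem trivial_of_metabelian (hV : ∀ v : V, p • v = 0) (hK : commutator K = ⊤)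
    (f : K →* AddMonoid.End V) (hirr : ∀ Y : AddSubgroup V, Inv f Y → Y = ⊥ ∨ Y = ⊤)
    (hc : ∀ x h r s, Commute (br (f x) (f h)) (br (f r) (f s))) : ∀ k, f k = 1 := by
  have quad : ∀ x r, br (f x) (br (f x) (f r)) = 0 := by
    intro x r
    have key : ∀ h, br (f x) (f h) * br (f x) (br (f x) (f r)) = 0 := by
      intro h
      have h1 := (hc x h x r).eq
      have h2 := (hc x (h * x) x r).eq
      rw [map_mul, ← mul_br] at h2
      set c := br (f x) (f h)
      set c' := br (f x) (f r)
      calc c * br (f x) c' = c * f x * c' - c * c' * f x := by simp only [br]; noncomm_ring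
        _ = c' * (c * f x) - c * c' * f x := by rw [h2]
        _ = c' * c * f x - c * c' * f x := by rw [mul_assoc c' c]
        _ = 0 := by rw [h1, sub_self]
    set N := br (f x) (br (f x) (f r)) with hN
    have key2 : ∀ h s, br (f x) (f h) * (f s * N) = 0 := by
      intro h s
      have e : br (f x) (f h) * (f s * N) = br (f x) (f (h * s)) * N - f h * (br (f x) (f s) * N) := by
        simp only [br, map_mul]; noncomm_ring
      rw [e, key, key, mul_zero, sub_zero]
    have key3 : ∀ s, N * (f s * N) = 0 := by
      intro s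
      have e : N = br (f x) (f (x * r)) - br (f x) (f (r * x)) := by
        rw [hN]; simp only [br, map_mul]; noncomm_ring
      nth_rw 1 [e]
      rw [sub_mul, key2, key2, sub_zero]
    set Y : AddSubgroup V := AddSubgroup.closure {w | ∃ s v, w = f s (N v)} with hY
    have hYi : Inv f Y := by
      intro g v hv
      induction hv using AddSubgroup.closure_induction with
      | mem w hw =>
        obtain ⟨s, u, rfl⟩ := hw
        exact AddSubgroup.subset_closure ⟨g * s, u, (phi_mul_apply f g s _).symm⟩
      | zero => rw [map_zero]; exact Y.zero_mem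
      | add a b _ _ ha hb => rw [map_add]; exact Y.add_mem ha hb
      | neg a _ ha => rw [map_neg]; exact Y.neg_mem ha
    refine AddMonoidHom.ext fun v => ?_
    show N v = 0
    rcases hirr Y hYi with h | h
    · have : N v ∈ Y := AddSubgroup.subset_closure ⟨1, v, (phi_one_apply f _).symm⟩
      rwa [h, AddSubgroup.mem_bot] at this
    · have hv : v ∈ Y := h ▸ trivial
      induction hv using AddSubgroup.closure_induction with
      | mem w hw =>
        obtain ⟨s, u, rfl⟩ := hw
        exact DFunLike.congr_fun (key3 s) u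
      | zero => exact map_zero N
      | add a b _ _ ha hb => rw [map_add, ha, hb, add_zero]
      | neg a _ ha => rw [map_neg, ha, neg_zero]
  have hcen : ∀ x, ¬ p ∣ orderOf x → ∀ r, Commute (f x) (f r) := by
    intro x hx r
    set c := br (f x) (f r) with hcdef
    have hxc : f x * c = c * f x := sub_eq_zero.mp (quad x r)
    have key : ∀ n : ℕ, f x ^ (n + 1) * f r = f r * f x ^ (n + 1) + (n + 1) • (c * f x ^ n) := by
      intro n
      induction n with
      | zero => simp [hcdef, br]
      | succ n ih =>
        have e : f x * f r = f r * f x + c := by rw [hcdef, br]; abel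
        rw [pow_succ' (f x) (n + 1), mul_assoc, ih, mul_add, ← mul_assoc, e, add_mul,
          mul_assoc (f r), ← pow_succ', mul_smul_comm, ← mul_assoc, hxc, mul_assoc c, ← pow_succ',
          add_assoc, succ_nsmul' _ (n + 1)]
    obtain ⟨n, hn⟩ := Nat.exists_eq_succ_of_ne_zero (orderOf_pos x).ne'
    have h := key n
    rw [← Nat.succ_eq_add_one, ← hn, ← map_pow, pow_orderOf_eq_one, map_one, one_mul, mul_one,
      left_eq_add] at h
    have h0 := eq_zero_of_coprime_nsmul hV hx h
    have : c = c * f x ^ n * f x := by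
      rw [mul_assoc, ← pow_succ, ← Nat.succ_eq_add_one, ← hn, ← map_pow, pow_orderOf_eq_one,
        map_one, mul_one]
    rw [h0, zero_mul] at this
    exact sub_eq_zero.mp this
  let Z : Subgroup K :=
    { carrier := {k | ∀ r, Commute (f k) (f r)}
      one_mem' := fun r => by rw [map_one]; exact Commute.one_left _
      mul_mem' := fun {a b} ha hb r => by rw [map_mul]; exact (ha r).mul_left (hb r)
      inv_mem' := fun {a} ha r => by
        show f a⁻¹ * f r = f r * f a⁻¹
        calc f a⁻¹ * f r = f a⁻¹ * (f r * f a) * f a⁻¹ := by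
              rw [mul_assoc, mul_assoc, ← map_mul f a, mul_inv_cancel, map_one, mul_one]
          _ = f a⁻¹ * (f a * f r) * f a⁻¹ := by rw [(ha r).eq]
          _ = f r * f a⁻¹ := by rw [← mul_assoc, ← map_mul f a⁻¹, inv_mul_cancel, map_one, one_mul] }
  haveI : Z.Normal := ⟨fun k hk g r => by
    have : f (g * k * g⁻¹) = f k := by
      rw [map_mul, map_mul, ← (hk g).eq, mul_assoc, ← map_mul, mul_inv_cancel, map_one, mul_one]
    rw [this]; exact hk r⟩
  have hZ : Z = ⊤ := Cfsg.Comp.perfect_le_of_pow_mem (p := p) hK Z hcen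
  exact eq_one_of_all_commute hK f fun a b => (hZ ▸ Subgroup.mem_top a : a ∈ Z) b

/-- The contradiction for a permuted orbit of length `p`, `p` odd. -/
theorem odd_orbit_trivial (hp : p ≠ 2) (hV : ∀ v : V, p • v = 0) (hK : commutator K = ⊤)
    (f : ℕ → (K →* AddMonoid.End V)) (A : AddMonoid.End V) (hA : A ^ p = 1)
    (hs : ∀ i k, A * f i k = f (i + 1) k * A) (hper : f p = f 0)
    (hcomm : ∀ i, 0 < i → i < p → ∀ j k, Commute (f 0 j) (f i k))
    (hD : ∀ x, ∃ R : AddMonoid.End V, (∀ k, Commute (f 0 k) R) ∧
      f 0 x * R * (A - 1) = A - 1 ∧ (A - 1) * (f 0 x * R) = A - 1)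
    (hirr : ∀ Y : AddSubgroup V, (∀ v ∈ Y, A v ∈ Y) → (∀ i k, ∀ v ∈ Y, f i k v ∈ Y) →
      Y = ⊥ ∨ Y = ⊤) : ∀ k, f 0 k = 1 := by
  classical
  have hp1 : 1 < p := (Fact.out : p.Prime).one_lt
  have hAu : IsUnit A := IsUnit.of_pow_eq_one hA (by omega)
  by_cases hu : A = 1
  · intro k
    refine eq_one_of_all_commute hK (f 0) (fun a b => ?_) k
    have e : f 1 b = f 0 b := by
      have := hs 0 b
      rw [hu, one_mul, mul_one] at this
      exact this.symm
    exact e ▸ hcomm 1 one_pos hp1 a b
  set u := A - 1 with hudef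
  have hu0 : u ≠ 0 := sub_ne_zero.mpr hu
  have hnil : u ^ p = 0 := by
    haveI : Nontrivial V := by
      by_contra hn
      rw [not_nontrivial_iff_subsingleton] at hn
      exact hu (AddMonoidHom.ext fun v => Subsingleton.elim _ _)
    haveI : Nontrivial (AddMonoid.End V) := ⟨⟨u, 0, hu0⟩⟩
    haveI : CharP (AddMonoid.End V) p :=
      CharP.charP_iff_prime_eq_zero Fact.out |>.mpr (AddMonoidHom.ext fun v => by
        show ((p : AddMonoid.End V)) v = (0 : V)
        exact hV v)
    rw [hudef, sub_pow_char_of_commute p (Commute.one_right A), hA, one_pow, sub_self]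
  have hex : ∃ n, u ^ n = 0 := ⟨p, hnil⟩
  obtain ⟨n, hn, hn0⟩ : ∃ n, u ^ (n + 1) = 0 ∧ u ^ n ≠ 0 := by
    obtain ⟨m, hm⟩ := Nat.exists_eq_succ_of_ne_zero (show Nat.find hex ≠ 0 from fun h => by
      have h1 := Nat.find_spec hex
      rw [h, pow_zero] at h1
      exact hu0 (by rw [← mul_one u, h1, mul_zero]))
    exact ⟨m, by have := Nat.find_spec hex; rwa [hm] at this, Nat.find_min hex (by omega)⟩
  obtain ⟨j, rfl⟩ : ∃ j, n = j + 1 := ⟨n - 1, by
    rcases n with _ | j
    · exact absurd (by simpa using hn) hu0
    · rfl⟩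
  set w := u ^ (j + 1) with hw
  have hAw : A * w = w := by
    have : u * w = 0 := by rw [hw, ← pow_succ']; exact hn
    rw [hudef, sub_mul, one_mul, sub_eq_zero] at this
    exact this
  have hw' : ∀ T : AddMonoid.End V, T * u = u → T * w = w := fun T h => by
    rw [hw, pow_succ', ← mul_assoc, h]
  -- class function
  have cls : ∀ k x, u * f 0 (k * x * k⁻¹) * w = u * f 0 x * w := by
    intro k x
    obtain ⟨R, hR, -, h2⟩ := hD k
    obtain ⟨R', hR', h1', h2'⟩ := hD k⁻¹
    have h1'' : (f 0 k⁻¹ * R') * w = w := hw' _ h1'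
    have e : f 0 (k * x * k⁻¹) * R * R' = (f 0 k * R) * f 0 x * (f 0 k⁻¹ * R') := by
      rw [map_mul, map_mul]
      calc f 0 k * f 0 x * f 0 k⁻¹ * R * R' = f 0 k * (f 0 x * (f 0 k⁻¹ * R)) * R' := by
            simp only [mul_assoc]
        _ = f 0 k * (f 0 x * (R * f 0 k⁻¹)) * R' := by rw [(hR k⁻¹).eq]
        _ = f 0 k * ((f 0 x * R) * f 0 k⁻¹) * R' := by simp only [mul_assoc]
        _ = f 0 k * ((R * f 0 x) * f 0 k⁻¹) * R' := by rw [(hR x).eq]
        _ = _ := by simp only [mul_assoc]
    -- `R * R'` fixes `u` on the right and `w` on the left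
    have hRR : ∀ y, u * f 0 y * (R * R') * w = u * f 0 y * w := by
      intro y
      have hk : (f 0 k * R) * (f 0 k⁻¹ * R') = R * R' := by
        rw [(hR k).eq, mul_assoc, ← mul_assoc (f 0 k), ← map_mul, mul_inv_cancel, map_one, one_mul]
      have hc' : Commute (f 0 y) (R * R') := (hR y).mul_right (hR' y)
      calc u * f 0 y * (R * R') * w = u * (R * R') * f 0 y * w := by
            rw [mul_assoc u, hc'.eq, ← mul_assoc]
        _ = u * (f 0 k⁻¹ * R') * f 0 y * w := by rw [← hk, ← mul_assoc u, h2]
        _ = u * f 0 y * w := by rw [h2']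
    rw [← hRR (k * x * k⁻¹), mul_assoc u, ← mul_assoc (f 0 _), e, ← mul_assoc u, ← mul_assoc u, h2,
      mul_assoc, h1'']
  -- commutators
  have hc1 : ∀ x h, A * (br (f 0 x) (f 0 h) * w) = br (f 0 x) (f 0 h) * w ∧
      br (f 1 x) (f 1 h) * w = br (f 0 x) (f 0 h) * w := by
    intro x h
    have e : u * br (f 0 x) (f 0 h) * w = 0 := by
      have := cls x (h * x)
      rw [show x * (h * x) * x⁻¹ = x * h by group, map_mul, map_mul] at this
      rw [br, mul_sub, sub_mul, this, sub_self]
    rw [hudef, sub_mul, sub_mul, one_mul, sub_eq_zero, mul_assoc] at e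
    refine ⟨e, ?_⟩
    have e2 : A * br (f 0 x) (f 0 h) = br (f 1 x) (f 1 h) * A := by
      simp only [br, mul_sub, sub_mul]
      rw [← mul_assoc, hs 0 x, mul_assoc, hs 0 h, ← mul_assoc, ← mul_assoc A (f 0 h), hs 0 h,
        mul_assoc (f 1 h) A, hs 0 x, ← mul_assoc]
    rw [← e, ← mul_assoc A, e2, mul_assoc, hAw]
  have hcomm01 : ∀ x h r s, Commute (br (f 1 x) (f 1 h)) (br (f 0 r) (f 0 s)) := fun x h r s => by
    have := fun a b => hcomm 1 one_pos hp1 a b
    exact ((((this r x).symm.mul_left (this r h).symm).sub_left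
      ((this r h).symm.mul_left (this r x).symm)).mul_right
      (((this s x).symm.mul_left (this s h).symm).sub_left
      ((this s h).symm.mul_left (this s x).symm))).sub_right
      ((((this s x).symm.mul_left (this s h).symm).sub_left
      ((this s h).symm.mul_left (this s x).symm)).mul_right
      (((this r x).symm.mul_left (this r h).symm).sub_left
      ((this r h).symm.mul_left (this r x).symm)))
  have hmeta_w : ∀ x h r s, br (f 0 x) (f 0 h) * br (f 0 r) (f 0 s) * w =
      br (f 0 r) (f 0 s) * br (f 0 x) (f 0 h) * w := by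
    intro x h r s
    set c := br (f 0 x) (f 0 h) with hc
    set d := br (f 0 r) (f 0 s) with hd
    have swap : ∀ x h r s, A * (br (f 0 r) (f 0 s) * br (f 0 x) (f 0 h) * w) =
        br (f 0 x) (f 0 h) * br (f 0 r) (f 0 s) * w := by
      intro x h r s
      have e2 : A * br (f 0 r) (f 0 s) = br (f 1 r) (f 1 s) * A := by
        simp only [br, mul_sub, sub_mul]
        rw [← mul_assoc, hs 0 r, mul_assoc, hs 0 s, ← mul_assoc, ← mul_assoc A (f 0 s), hs 0 s,
          mul_assoc (f 1 s) A, hs 0 r, ← mul_assoc]
      rw [mul_assoc (br (f 0 r) (f 0 s)), ← mul_assoc A, e2, mul_assoc, (hc1 x h).1,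
        ← mul_assoc, (hcomm01 r s x h).eq, mul_assoc, (hc1 r s).2, ← mul_assoc]
    have a2 : A * (A * (c * d * w)) = c * d * w := by rw [hd, hc, swap r s x h, swap x h r s]
    have apow : ∀ m : ℕ, A ^ (2 * m) * (c * d * w) = c * d * w := by
      intro m
      induction m with
      | zero => rw [mul_zero, pow_zero, one_mul]
      | succ m ih => rw [Nat.mul_succ, pow_add, pow_two, mul_assoc, mul_assoc, a2, ih]
    obtain ⟨m, hm⟩ := (Fact.out : p.Prime).odd_of_ne_two hp
    have : A * (c * d * w) = c * d * w := by
      conv_lhs => rw [← apow m, ← mul_assoc, ← pow_succ', ← hm, hA, one_mul]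
    rw [hd, hc, swap r s x h] at this
    rw [hd, hc]; exact this.symm
  -- spreading over the module
  have hmeta : ∀ x h r s, Commute (br (f 0 x) (f 0 h)) (br (f 0 r) (f 0 s)) := by
    intro x h r s
    set N := br (f 0 x) (f 0 h) * br (f 0 r) (f 0 s) - br (f 0 r) (f 0 s) * br (f 0 x) (f 0 h)
      with hN
    have hNw : N * w = 0 := by rw [hN, sub_mul, hmeta_w, sub_self]
    have hcN : ∀ T : AddMonoid.End V, (∀ k, Commute (f 0 k) T) → Commute N T := by
      intro T hT
      have hb : ∀ a b, Commute (br (f 0 a) (f 0 b)) T := fun a b =>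
        ((hT a).mul_left (hT b)).sub_left ((hT b).mul_left (hT a))
      exact ((hb x h).mul_left (hb r s)).sub_left ((hb r s).mul_left (hb x h))
    have hperN : ∀ m i k, f (i + p * m) k = f i k := by
      have h1 : ∀ i k, f (i + p) k = f i k := by
        intro i
        induction i with
        | zero => intro k; rw [zero_add, hper]
        | succ i ih =>
          intro k
          refine hAu.mul_left_injective ?_
          show f (i + 1 + p) k * A = f (i + 1) k * A
          rw [← hs i k, ← ih k, hs (i + p) k, Nat.add_right_comm]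
      intro m
      induction m with
      | zero => intro i k; rw [mul_zero, add_zero]
      | succ m ih => intro i k; rw [Nat.mul_succ, ← add_assoc, h1, ih]
    set W0 : AddSubgroup V := AddSubgroup.closure
      {y | ∃ T : AddMonoid.End V, (∀ k, Commute (f 0 k) T) ∧ ∃ v, y = T (w v)} with hW0
    have hW0f : ∀ i k, ∀ v ∈ W0, f i k v ∈ W0 := by
      intro i k v hv
      induction hv using AddSubgroup.closure_induction with
      | mem y hy =>
        obtain ⟨T, hT, v, rfl⟩ := hy
        rw [← Nat.mod_add_div i p, hperN]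
        rcases Nat.eq_zero_or_pos (i % p) with h0 | hpos
        · rw [h0]
          obtain ⟨R, hR, h1, -⟩ := hD k⁻¹
          have hRw : R * w = f 0 k * w := by
            conv_rhs => rw [← hw' _ h1, ← mul_assoc, ← mul_assoc, ← map_mul, mul_inv_cancel,
              map_one, one_mul]
          refine AddSubgroup.subset_closure ⟨T * R, fun a => (hT a).mul_right (hR a), v, ?_⟩
          show f 0 k (T (w v)) = T (R (w v))
          rw [← end_mul_apply (f 0 k) T, (hT k).eq, end_mul_apply, ← end_mul_apply R, hRw]
          rfl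
        · exact AddSubgroup.subset_closure ⟨f (i % p) k * T,
            fun a => (hcomm _ hpos (Nat.mod_lt _ (by omega)) a k).mul_right (hT a), v, rfl⟩
      | zero => rw [map_zero]; exact W0.zero_mem
      | add a b _ _ ha hb => rw [map_add]; exact W0.add_mem ha hb
      | neg a _ ha => rw [map_neg]; exact W0.neg_mem ha
    set X : AddSubgroup V :=
      { carrier := {y | ∀ l : List (ℕ × K), N ((l.map fun e => f e.1 e.2).prod y) = 0}
        zero_mem' := fun l => by rw [map_zero, map_zero]
        add_mem' := fun {a b} ha hb l => by rw [map_add, map_add, ha, hb, add_zero]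
        neg_mem' := fun {a} ha l => by rw [map_neg, map_neg, ha, neg_zero] }
    have hwX : ∀ v, w v ∈ X := by
      intro v l
      have hmem : (l.map fun e => f e.1 e.2).prod (w v) ∈ W0 := by
        induction l with
        | nil =>
          exact AddSubgroup.subset_closure ⟨1, fun k => Commute.one_right _, v, rfl⟩
        | cons e l ih =>
          rw [List.map_cons, List.prod_cons, end_mul_apply]
          exact hW0f _ _ _ ih
      have hN0 : ∀ y ∈ W0, N y = 0 := by
        intro y hy
        induction hy using AddSubgroup.closure_induction with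
        | mem y hy =>
          obtain ⟨T, hT, v, rfl⟩ := hy
          rw [← end_mul_apply N T, (hcN T hT).eq, end_mul_apply, ← end_mul_apply N w, hNw]
          exact map_zero T
        | zero => exact map_zero N
        | add a b _ _ ha hb => rw [map_add, ha, hb, add_zero]
        | neg a _ ha => rw [map_neg, ha, neg_zero]
      exact hN0 _ hmem
    have hXf : ∀ i k, ∀ v ∈ X, f i k v ∈ X := fun i k v hv l => by
      have := hv (l ++ [(i, k)])
      rw [List.map_append, List.prod_append, List.map_singleton, List.prod_singleton] at this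
      exact this
    have hXA : ∀ v ∈ AddSubgroup.closure {y | ∃ l : List (ℕ × K), ∃ v,
        y = (l.map fun e => f e.1 e.2).prod (w v)},
        A v ∈ AddSubgroup.closure {y | ∃ l : List (ℕ × K), ∃ v,
          y = (l.map fun e => f e.1 e.2).prod (w v)} := by
      intro v hv
      induction hv using AddSubgroup.closure_induction with
      | mem y hy =>
        obtain ⟨l, v, rfl⟩ := hy
        refine AddSubgroup.subset_closure ⟨l.map fun e => (e.1 + 1, e.2), v, ?_⟩
        have : A * (l.map fun e => f e.1 e.2).prod =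
            ((l.map fun e => (e.1 + 1, e.2)).map fun e => f e.1 e.2).prod * A := by
          induction l with
          | nil => simp
          | cons e l ih =>
            simp only [List.map_cons, List.prod_cons]
            rw [← mul_assoc, hs, mul_assoc, ih, mul_assoc]
        rw [← end_mul_apply A, this, end_mul_apply, ← end_mul_apply A w, hAw]
      | zero => rw [map_zero]; exact AddSubgroup.zero_mem _
      | add a b _ _ ha hb => rw [map_add]; exact AddSubgroup.add_mem _ ha hb
      | neg a _ ha => rw [map_neg]; exact AddSubgroup.neg_mem _ ha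
    have hle : AddSubgroup.closure {y | ∃ l : List (ℕ × K), ∃ v,
        y = (l.map fun e => f e.1 e.2).prod (w v)} ≤ X := by
      refine (AddSubgroup.closure_le _).mpr ?_
      rintro _ ⟨l, v, rfl⟩ l'
      have := hwX v (l' ++ l)
      rwa [List.map_append, List.prod_append] at this
    have hXi : ∀ i k, ∀ v ∈ AddSubgroup.closure {y | ∃ l : List (ℕ × K), ∃ v,
        y = (l.map fun e => f e.1 e.2).prod (w v)}, f i k v ∈ AddSubgroup.closure
          {y | ∃ l : List (ℕ × K), ∃ v, y = (l.map fun e => f e.1 e.2).prod (w v)} := by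
      intro i k v hv
      induction hv using AddSubgroup.closure_induction with
      | mem y hy =>
        obtain ⟨l, v, rfl⟩ := hy
        exact AddSubgroup.subset_closure ⟨(i, k) :: l, v, rfl⟩
      | zero => rw [map_zero]; exact AddSubgroup.zero_mem _
      | add a b _ _ ha hb => rw [map_add]; exact AddSubgroup.add_mem _ ha hb
      | neg a _ ha => rw [map_neg]; exact AddSubgroup.neg_mem _ ha
    rcases hirr _ hXA hXi with h | h
    · exfalso
      refine hn0 (AddMonoidHom.ext fun v => ?_)
      have : w v ∈ AddSubgroup.closure {y | ∃ l : List (ℕ × K), ∃ v,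
          y = (l.map fun e => f e.1 e.2).prod (w v)} :=
        AddSubgroup.subset_closure ⟨[], v, rfl⟩
      rw [h, AddSubgroup.mem_bot] at this
      exact this
    · show _ = _
      refine sub_eq_zero.mp (AddMonoidHom.ext fun v => ?_)
      exact hle (h ▸ trivial) []

  -- pass to an irreducible section
  by_contra hne
  push Not at hne
  obtain ⟨k0, hk0⟩ := hne
  have hKtop : commutator (⊤ : Subgroup K) = ⊤ := by
    haveI : Group.IsPerfect K := ⟨hK⟩
    exact (Group.IsPerfect.ofSurjective (f := (Subgroup.topEquiv (G := K)).symm.toMonoidHom)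
      (Subgroup.topEquiv (G := K)).symm.surjective).commutator_eq_top
  obtain ⟨X, hX, R, hR, ⟨k, -, hk⟩, hirr0⟩ :=
    exists_section (f 0) hKtop ⟨k0, Subgroup.mem_top _, hk0⟩
  set ψ := quoHom (resHom (f 0) X hX) R hR with hψ
  refine hk (trivial_of_metabelian (p := p) ?_ hK ψ hirr0 ?_ k)
  · intro q
    induction q using QuotientAddGroup.induction_on with
    | H v =>
      rw [← QuotientAddGroup.mk_nsmul, show p • v = 0 from Subtype.ext (hV v),
        QuotientAddGroup.mk_zero]
  · intro x h r s
    refine AddMonoidHom.ext fun q => ?_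
    induction q using QuotientAddGroup.induction_on with
    | H v =>
      refine congrArg (QuotientAddGroup.mk' R) (Subtype.ext ?_)
      exact DFunLike.congr_fun (hmeta x h r s).eq (v : V)

end H79.Offender
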