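import Cfsg.Agent.H79.OffenderFree
import Cfsg.Agent.H79.OffenderOdd
import Cfsg.Agent.H33.TwoPrime

/-!
`P(G,V)` for `p = 2`, the core: a faithful elementary abelian weak offender `A` with an element
centralising `[V,A]` normalises a quasisimple `K` with conjugates equal or commuting, provided
`C_A(K) = 1`.
-/

set_option autoImplicit false
set_option linter.all false
set_option maxHeartbeats 1000000

open scoped commutatorElement

universe w

namespace H79.Offender

/-- `e` maps `K` into itself. -/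
def Nrm {G : Type*} [Group G] (e : G) (K : Subgroup G) : Prop := ∀ x ∈ K, e * x * e⁻¹ ∈ K

section Pair

variable {G : Type*} [Group G] {K : Subgroup G} {a : G}

/-- `x ↦ x · a x a`. -/
def dpair (K : Subgroup G) (a : G) (haa : a * a = 1)
    (hc : ∀ x ∈ K, ∀ y ∈ K, Commute (a * x * a) y) : K →* G where
  toFun x := (x : G) * (a * x * a)
  map_one' := by simp [haa]
  map_mul' x y := by
    show (x : G) * y * (a * ((x : G) * y) * a) = (x : G) * (a * x * a) * ((y : G) * (a * y * a))
    have e : a * ((x : G) * y) * a = (a * x * a) * (a * y * a) := by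
      simp only [mul_assoc]; rw [← mul_assoc a a, haa, one_mul]
    rw [e]
    calc (x : G) * y * (a * x * a * (a * y * a))
        = (x : G) * ((y : G) * (a * x * a)) * (a * y * a) := by simp only [mul_assoc]
      _ = (x : G) * ((a * x * a) * (y : G)) * (a * y * a) := by rw [(hc x x.2 y y.2).eq]
      _ = _ := by simp only [mul_assoc]

theorem dpair_apply (haa : a * a = 1) (hc : ∀ x ∈ K, ∀ y ∈ K, Commute (a * x * a) y) (x : K) :
    dpair K a haa hc x = (x : G) * (a * x * a) := rfl

theorem dpair_conj (haa : a * a = 1) (hc : ∀ x ∈ K, ∀ y ∈ K, Commute (a * x * a) y) {e : G}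
    (hea : Commute e a) (he : Nrm e K) (x : K) :
    e * dpair K a haa hc x * e⁻¹ = dpair K a haa hc ⟨e * x * e⁻¹, he x x.2⟩ := by
  rw [dpair_apply, dpair_apply]
  show e * ((x : G) * (a * x * a)) * e⁻¹ = e * x * e⁻¹ * (a * (e * x * e⁻¹) * a)
  calc e * ((x : G) * (a * x * a)) * e⁻¹
      = e * x * e⁻¹ * ((e * a) * x * (a * e⁻¹)) := by simp only [mul_assoc, inv_mul_cancel_left]
    _ = e * x * e⁻¹ * ((a * e) * x * (e⁻¹ * a)) := by rw [hea.eq, hea.symm.inv_right.eq]
    _ = _ := by simp only [mul_assoc]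

theorem dpair_comm (haa : a * a = 1) (hc : ∀ x ∈ K, ∀ y ∈ K, Commute (a * x * a) y) (x : K) :
    Commute a (dpair K a haa hc x) := by
  show a * ((x : G) * (a * x * a)) = (x : G) * (a * x * a) * a
  rw [← (hc x x.2 x x.2).eq]
  conv_rhs => rw [(hc x x.2 x x.2).eq]
  simp only [mul_assoc]
  rw [← mul_assoc a a, haa, one_mul, mul_one]

theorem dpair_injective (haa : a * a = 1) (hc : ∀ x ∈ K, ∀ y ∈ K, Commute (a * x * a) y)
    (hKq : Cfsg.IsQuasisimple K) : ∀ x : K, dpair K a haa hc x = 1 → x ∈ Subgroup.center K := by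
  intro x hx
  rw [dpair_apply] at hx
  refine Subgroup.mem_center_iff.mpr fun y => Subtype.ext ?_
  show (y : G) * x = x * y
  rw [eq_inv_of_mul_eq_one_left hx]
  exact ((hc x x.2 y y.2).inv_left).eq.symm

end Pair

variable {G : Type*} [Group G] {V : Type*} [AddCommGroup V] (φ : G →* AddMonoid.End V)

/-- The elements fixing `[V,a]` and acting trivially on `V/C_V(a)`. -/
def fixU (a : G) : Subgroup G where
  carrier := {g | Commute a g ∧ φ g * (φ a - 1) = φ a - 1}
  one_mem' := ⟨Commute.one_right a, by rw [map_one, one_mul]⟩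
  mul_mem' := fun hg hh => ⟨hg.1.mul_right hh.1, by rw [map_mul, mul_assoc, hh.2, hg.2]⟩
  inv_mem' := fun {g} hg => ⟨hg.1.inv_right, by
    conv_lhs => rw [← hg.2, ← mul_assoc, ← map_mul, inv_mul_cancel, map_one, one_mul]⟩

theorem fixU_right {a g : G} (hg : g ∈ fixU φ a) : (φ a - 1) * φ g = φ a - 1 := by
  obtain ⟨hc, he⟩ := hg
  rw [sub_mul, ← map_mul, hc.eq, map_mul, one_mul]
  rw [mul_sub, mul_one] at he
  exact he

theorem fixU_conj {a g t : G} (ht : Commute a t) (hg : g ∈ fixU φ a) : t * g * t⁻¹ ∈ fixU φ a := by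
  refine ⟨(ht.mul_right hg.1).mul_right ht.inv_right, ?_⟩
  have hcomm : ∀ s, Commute a s → φ s * (φ a - 1) = (φ a - 1) * φ s := fun s hs => by
    rw [mul_sub, sub_mul, ← map_mul, ← map_mul, hs.eq, mul_one, one_mul]
  rw [map_mul, map_mul, mul_assoc, hcomm _ ht.inv_right, mul_assoc, ← mul_assoc (φ g), hg.2,
    ← mul_assoc, hcomm _ ht, mul_assoc, ← map_mul, mul_inv_cancel, map_one, mul_one]

variable [Finite G] [Finite V]

/-- Two transvections: `|[V,a]| ≤ 2` is impossible. -/
theorem transvection_false (hV : ∀ v : V, 2 • v = 0) (hφ : Function.Injective φ) {K : Subgroup G}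
    (hKq : Cfsg.IsQuasisimple K) {a : G} (haa : a * a = 1)
    (hc : ∀ x ∈ K, ∀ y ∈ K, Commute (a * x * a) y)
    (hidx : Nat.card V ≤ 2 * Nat.card (fixedBy φ ({a} : Set G))) : False := by
  classical
  have hpow : ∀ x ∈ K, (x : G) ^ 12 ∈ K ∧ ∀ y ∈ K, Commute (x ^ 12) y := by
    intro x hx
    refine ⟨K.pow_mem hx 12, fun y hy => ?_⟩
    set y1 := a * x * a with hy1
    set g := y1 * x⁻¹ with hg
    set a' := x * a * x⁻¹ with ha'
    have hgfac : g = a * a' := by rw [hg, hy1, ha']; simp only [mul_assoc]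
    set W := fixedBy φ ({a, a'} : Set G) with hW
    have hgW : ∀ v ∈ W, φ g v = v := fun v hv => by
      rw [hgfac, phi_mul_apply, hv a' (by simp), hv a (by simp)]
    have hWcard : Nat.card V ≤ 4 * Nat.card W := by
      set F := fixedBy φ ({a} : Set G)
      set F' := fixedBy φ ({a'} : Set G)
      have hFF : W = F ⊓ F' := by
        ext v
        exact ⟨fun h => ⟨fun s hs => h s (Or.inl hs), fun s hs => h s (Or.inr hs)⟩,
          fun h s hs => hs.elim (h.1 s) (h.2 s)⟩
      have hF' : Nat.card F ≤ Nat.card F' := by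
        refine Nat.card_le_card_of_injective (fun v => (⟨φ x v, fun s hs => ?_⟩ : F')) ?_
        · rw [Set.mem_singleton_iff.mp hs, ha', ← phi_mul_apply, inv_mul_cancel_right, phi_mul_apply,
            v.2 a rfl]
        · intro v w h
          have h' := congrArg (φ x⁻¹) (congrArg Subtype.val h : φ x (v : V) = φ x w)
          rw [phi_inv_cancel, phi_inv_cancel] at h'
          exact Subtype.ext h'
      have h := card_sup_mul_card_inf F F'
      have hs : Nat.card (F ⊔ F' : AddSubgroup V) ≤ Nat.card V :=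
        Nat.card_le_card_of_injective _ Subtype.val_injective
      rw [← hFF] at h
      have h1 : Nat.card V * Nat.card V ≤ 4 * (Nat.card V * Nat.card W) := by
        calc Nat.card V * Nat.card V ≤ (2 * Nat.card F) * (2 * Nat.card F') :=
              Nat.mul_le_mul hidx (hidx.trans (Nat.mul_le_mul_left 2 hF'))
          _ = 4 * (Nat.card (F ⊔ F' : AddSubgroup V) * Nat.card W) := by rw [h]; ring
          _ ≤ _ := Nat.mul_le_mul_left _ (Nat.mul_le_mul_right _ hs)
      refine Nat.le_of_mul_le_mul_left ?_ (show 0 < Nat.card V from Nat.card_pos)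
      calc Nat.card V * Nat.card V ≤ 4 * (Nat.card V * Nat.card W) := h1
        _ = Nat.card V * (4 * Nat.card W) := by ring
    have hWinv : ∀ m : Subgroup.zpowers g, ∀ v ∈ W, φ (m : G) v ∈ W := by
      intro m v hv
      have : (m : G) ∈ actKer φ (W : Set V) := (Subgroup.zpowers_le.mpr (show g ∈ actKer φ (W : Set V) from hgW)) m.2
      rwa [this v hv]
    set χ := quoHom (φ.comp (Subgroup.zpowers g).subtype) W hWinv with hχ
    set gg : Subgroup.zpowers g := ⟨g, Subgroup.mem_zpowers g⟩
    have hQ : Nat.card (V ⧸ W) ≤ 4 := by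
      have h := AddSubgroup.card_eq_card_quotient_mul_card_addSubgroup W
      rw [h] at hWcard
      exact Nat.le_of_mul_le_mul_right hWcard Nat.card_pos
    have h6 : ∀ q : V ⧸ W, χ (gg ^ 6) q = q := by
      intro q
      by_cases hq : q = 0
      · rw [hq, map_zero]
      haveI : Fintype (V ⧸ W) := Fintype.ofFinite _
      have hiter : ∀ i : ℕ, χ (gg ^ i) q ∈ ((Finset.univ : Finset (V ⧸ W)).erase 0) := fun i => by
        refine Finset.mem_erase.mpr ⟨fun h => hq ?_, Finset.mem_univ _⟩
        have := congrArg (χ (gg ^ i)⁻¹) h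
        rwa [phi_inv_cancel, map_zero] at this
      obtain ⟨i, hi, j, hj, hne, hij⟩ := Finset.exists_ne_map_eq_of_card_lt_of_maps_to
        (s := Finset.range 4) (t := (Finset.univ : Finset (V ⧸ W)).erase 0)
        (f := fun i => χ (gg ^ i) q) (by
          rw [Finset.card_range, Finset.card_erase_of_mem (Finset.mem_univ _), Finset.card_univ,
            ← Nat.card_eq_fintype_card]
          omega) (fun i _ => hiter i)
      rw [Finset.mem_range] at hi hj
      have key : ∀ i j : ℕ, i < j → j < 4 → χ (gg ^ i) q = χ (gg ^ j) q → χ (gg ^ 6) q = q := by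
        intro i j hij hj e
        obtain ⟨m, rfl⟩ := Nat.exists_eq_add_of_lt hij
        rw [show i + m + 1 = i + (m + 1) by omega, pow_add, phi_mul_apply] at e
        have e' := congrArg (χ (gg ^ i)⁻¹) e
        rw [phi_inv_cancel, phi_inv_cancel] at e'
        obtain ⟨r, hr⟩ : m + 1 ∣ 6 := by
          have : m + 1 = 1 ∨ m + 1 = 2 ∨ m + 1 = 3 := by omega
          rcases this with h | h | h <;> rw [h] <;> decide
        rw [hr, pow_mul]
        clear hr
        induction r with
        | zero => rw [pow_zero, phi_one_apply]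
        | succ r ih => rw [pow_succ', phi_mul_apply, ih, ← e']
      rcases lt_or_gt_of_ne hne with h | h
      exacts [key i j h hj hij, key j i h hi hij.symm]
    have h12 : φ (g ^ 12) = 1 := by
      refine AddMonoidHom.ext fun v => ?_
      have h := h6 (v : V ⧸ W)
      change ((φ (g ^ 6) v : V) : V ⧸ W) = (v : V ⧸ W) at h
      have hd : φ (g ^ 6) v - v ∈ W := QuotientAddGroup.eq_iff_sub_mem.mp h
      have hfix : φ (g ^ 6) (φ (g ^ 6) v - v) = φ (g ^ 6) v - v :=
        (Subgroup.pow_mem _ (show g ∈ actKer φ (W : Set V) from hgW) 6) _ hd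
      show φ (g ^ 12) v = v
      rw [show g ^ 12 = g ^ 6 * g ^ 6 from by rw [← pow_add], phi_mul_apply]
      rw [map_sub] at hfix
      calc φ (g ^ 6) (φ (g ^ 6) v) = (φ (g ^ 6) (φ (g ^ 6) v) - φ (g ^ 6) v) + φ (g ^ 6) v := by abel
        _ = φ (g ^ 6) v + φ (g ^ 6) v - v := by rw [hfix]; abel
        _ = v := by rw [add_self_eq_zero_of_two hV, zero_sub, ← sub_eq_zero, sub_eq_add_two hV,
              neg_add_cancel]
    have hg12 : g ^ 12 = 1 := hφ (h12.trans (map_one φ).symm)
    rw [hg, ((hc x hx x hx).inv_right).mul_pow, inv_pow, mul_inv_eq_one] at hg12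
    rw [← hg12]
    exact (hc x hx y hy).pow_left 12
  -- the simple quotient is solvable
  set Q := K ⧸ Subgroup.center K
  have hQ12 : ∀ q : Q, q ^ 12 = 1 := fun q => by
    induction q using QuotientGroup.induction_on with
    | H x =>
      rw [← QuotientGroup.mk_pow, QuotientGroup.eq_one_iff]
      exact Subgroup.mem_center_iff.mpr fun y => Subtype.ext ((hpow x x.2).2 y y.2).eq.symm
  haveI : IsSimpleGroup Q := hKq.2
  haveI : Group.IsPerfect K := hKq.1
  haveI : Group.IsPerfect Q :=
    Group.IsPerfect.ofSurjective (f := QuotientGroup.mk' (Subgroup.center K))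
      (QuotientGroup.mk'_surjective _)
  refine Group.IsPerfect.not_isSolvable Q (H33.isSolvable_of_two_primes Nat.prime_two
    Nat.prime_three fun r hr hd => ?_)
  haveI := Fact.mk hr
  obtain ⟨q, hq⟩ := exists_prime_orderOf_dvd_card' r hd
  have h : r ∣ 2 ^ 2 * 3 := by rw [← hq]; exact orderOf_dvd_of_pow_eq_one (hQ12 q)
  rcases hr.dvd_mul.mp h with h | h
  · exact Or.inl ((Nat.prime_dvd_prime_iff_eq hr Nat.prime_two).mp (hr.dvd_of_dvd_pow h))
  · exact Or.inr ((Nat.prime_dvd_prime_iff_eq hr Nat.prime_three).mp h)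

/-- The data of the core theorem. -/
structure Core (φ : G →* AddMonoid.End V) (A K : Subgroup G) : Prop where
  hV : ∀ v : V, 2 • v = 0
  inj : Function.Injective φ
  quasi : Cfsg.IsQuasisimple K
  comm : ∀ a ∈ A, ∀ b ∈ A, Commute a b
  sq : ∀ a ∈ A, a * a = 1
  orb : ∀ e ∈ A, Nrm e K ∨ ∀ x ∈ K, ∀ y ∈ K, Commute (e * x * e⁻¹) y
  cA : ∀ e ∈ A, (∀ x ∈ K, Commute e x) → e = 1
  count : Nat.card V ≤ Nat.card A * Nat.card (fixedBy φ (A : Set G))
  good : (∀ e ∈ A, ∀ f ∈ A, ∀ v, φ e (φ f v - v) = φ f v - v) ∨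
    ∃ b ∈ A, b ≠ 1 ∧ Nrm b K ∧ ∀ e ∈ A, ∀ v, φ e (φ b v - v) = φ b v - v

theorem core : ∀ (n : ℕ) (G : Type w) [Group G] [Finite G] (V : Type w) [AddCommGroup V] [Finite V]
    (φ : G →* AddMonoid.End V) (A K : Subgroup G),
    Nat.card A = n → Core φ A K → ∀ a ∈ A, Nrm a K := by
  intro n
  induction n using Nat.strong_induction_on with
  | _ n ih =>
  intro G _ _ V _ _ φ A K hn hcore a ha
  classical
  by_contra haK
  obtain ⟨hV, hφ, hKq, hab, hsq, horb, hcA, hcount, hgood⟩ := hcore
  have hK : commutator K = ⊤ := Cfsg.Comp.perfect_of_quasisimple hKq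
  have hinv : ∀ e ∈ A, e⁻¹ = e := fun e he => inv_eq_of_mul_eq_one_right (hsq e he)
  have haa := hsq a ha
  have ha1 : a ≠ 1 := fun h => haK (by rw [h]; intro x hx; simpa using hx)
  have hc : ∀ x ∈ K, ∀ y ∈ K, Commute (a * x * a) y := fun x hx y hy => by
    have h := (horb a ha).resolve_left haK x hx y hy
    rwa [hinv a ha] at h
  -- `B = N_A(K)`
  let B : Subgroup G :=
    { carrier := {e | e ∈ A ∧ Nrm e K}
      one_mem' := ⟨A.one_mem, fun x hx => by simpa using hx⟩
      mul_mem' := fun {e f} he hf => ⟨A.mul_mem he.1 hf.1, fun x hx => by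
        rw [show e * f * x * (e * f)⁻¹ = e * (f * x * f⁻¹) * e⁻¹ by group]
        exact he.2 _ (hf.2 x hx)⟩
      inv_mem' := fun {e} he => by rw [hinv e he.1]; exact he }
  -- transvection case
  by_cases htr : ∀ e ∈ A, e = 1 ∨ e = a
  · refine transvection_false φ hV hφ hKq haa hc (hcount.trans (Nat.mul_le_mul ?_ ?_))
    · have : Function.Injective (fun e : A => decide ((e : G) = 1)) := by
        intro e f hef
        simp only [decide_eq_decide] at hef
        apply Subtype.ext
        rcases htr e e.2 with h | h <;> rcases htr f f.2 with h' | h' <;> rw [h, h'] at hef ⊢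
        · exact absurd (hef.mp rfl) ha1
        · exact absurd (hef.mpr rfl) ha1
      exact (Nat.card_le_card_of_injective _ this).trans (by simp)
    · exact AddSubgroup.card_le_of_le (fixedBy_anti φ (Set.singleton_subset_iff.mpr ha))
  push Not at htr
  obtain ⟨a', ha'A, ha'1, ha'a⟩ := htr
  set δ := dpair K a haa hc with hδ
  have hδa : ∀ x, Commute a (δ x) := dpair_comm haa hc
  have hδe : ∀ {e}, e ∈ A → ∀ (he : Nrm e K) (x : K),
      e * δ x * e⁻¹ = δ ⟨e * x * e⁻¹, he x x.2⟩ :=
    fun heA he x => dpair_conj haa hc (hab _ heA _ ha) he x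
  -- elements of `A` outside `B ∪ aB` move the pair to a commuting pair
  have hout : ∀ e ∈ A, e ∉ B → a * e ∉ B → ∀ x y : K, Commute (e * δ x * e⁻¹) (δ y) := by
    intro e he h1 h2 x y
    have c1 := (horb e he).resolve_left fun h => h1 ⟨he, h⟩
    have c2 := (horb (a * e) (A.mul_mem ha he)).resolve_left fun h => h2 ⟨A.mul_mem ha he, h⟩
    have e1 : ∀ u ∈ K, ∀ v ∈ K, Commute (e * u * e⁻¹) (a * v * a) := fun u hu v hv => by
      have := c2 u hu v hv
      have h3 : a * (a * e * u * (a * e)⁻¹) * a⁻¹ = e * u * e⁻¹ := by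
        rw [mul_inv_rev, hinv a ha]; simp only [mul_assoc, haa, mul_one]
        rw [← mul_assoc a a, haa, one_mul]
      have h4 := this.map (MulAut.conj a).toMonoidHom
      simp only [MulEquiv.coe_toMonoidHom, MulAut.conj_apply] at h4
      rw [h3, hinv a ha] at h4
      exact h4
    have e2 : ∀ u ∈ K, ∀ v ∈ K, Commute (e * (a * u * a) * e⁻¹) v := fun u hu v hv => by
      have := c2 u hu v hv
      rwa [show a * e * u * (a * e)⁻¹ = e * (a * u * a) * e⁻¹ by
        rw [mul_inv_rev, hinv a ha, ← (hab e he a ha).eq]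
        simp only [mul_assoc]
        rw [(hab a ha _ (A.inv_mem he)).eq]] at this
    have e3 : ∀ u ∈ K, ∀ v ∈ K, Commute (e * (a * u * a) * e⁻¹) (a * v * a) := fun u hu v hv => by
      have h4 := (c1 u hu v hv).map (MulAut.conj a).toMonoidHom
      simp only [MulEquiv.coe_toMonoidHom, MulAut.conj_apply, hinv a ha] at h4
      rwa [show a * (e * u * e⁻¹) * a = e * (a * u * a) * e⁻¹ by
        simp only [← mul_assoc]
        rw [(hab a ha e he).eq]
        simp only [mul_assoc]
        rw [(hab a ha _ (A.inv_mem he)).eq]] at h4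
    rw [hδ, dpair_apply, dpair_apply, show e * ((x : G) * (a * x * a)) * e⁻¹ =
      (e * x * e⁻¹) * (e * (a * x * a) * e⁻¹) by group]
    exact ((c1 x x.2 y y.2).mul_right (e1 x x.2 y y.2)).mul_left
      ((e2 x x.2 y y.2).mul_right (e3 x x.2 y y.2))
  -- the diagonal acts trivially on `[V,a]`
  have hq : ∀ b ∈ A, (∀ v, φ b (φ a v - v) = φ a v - v) → ∀ x : K,
      (δ x)⁻¹ * (b * δ x * b⁻¹) ∈ fixU φ a := by
    intro b hb hbu x
    have hbU : b ∈ fixU φ a := ⟨hab a ha b hb, AddMonoidHom.ext hbu⟩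
    rw [show (δ x)⁻¹ * (b * δ x * b⁻¹) = ((δ x)⁻¹ * b * (δ x)⁻¹⁻¹) * b⁻¹ by group]
    exact (fixU φ a).mul_mem (fixU_conj φ (hδa x).inv_right hbU) ((fixU φ a).inv_mem hbU)
  set N := (fixU φ a).comap δ with hN
  haveI hNn : N.Normal := ⟨fun k hk t => by
    show δ (t * k * t⁻¹) ∈ fixU φ a
    rw [map_mul, map_mul, map_inv]
    exact fixU_conj φ (hδa t) hk⟩
  have hswap : ∀ e f : G, e ∈ A → f ∈ A → (∀ v, φ e (φ f v - v) = φ f v - v) →
      ∀ v, φ f (φ e v - v) = φ e v - v := fun e f he hf h v => by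
    have h1 := h v
    rw [map_sub, ← phi_mul_apply, (hab e he f hf).eq, phi_mul_apply] at h1
    rw [map_sub]
    calc φ f (φ e v) - φ f v = (φ f (φ e v) - φ e v) + φ e v - φ f v := by abel
      _ = φ e v - v := by rw [h1]; abel
  have hNtop : N = ⊤ := by
    rcases Cfsg.Comp.normal_eq_top_or_le_center hKq (N := N) inferInstance with h | h
    · exact h
    exfalso
    -- an element of `A` acting trivially on `[V,a]` and not centralising `K`
    by_cases hb : ∃ b ∈ A, b ≠ 1 ∧ Nrm b K ∧ ∀ v, φ b (φ a v - v) = φ a v - v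
    · obtain ⟨b, hbA, hb1, hbK, hbu⟩ := hb
      refine hb1 (hcA b hbA (commute_of_central hK b hbK fun x hx => h ?_))
      have := hq b hbA hbu ⟨x, hx⟩
      rw [hδe hbA hbK, ← map_inv, ← map_mul] at this
      exact this
    · push Not at hb
      have hquad : ∀ e ∈ A, ∀ f ∈ A, ∀ v, φ e (φ f v - v) = φ f v - v := by
        rcases hgood with hg | ⟨b, hbA, hb1, hbK, hbk⟩
        · exact hg
        · obtain ⟨v, hv⟩ := hb b hbA hb1 hbK
          exact absurd (hswap a b ha hbA (hbk a ha) v) hv
      have hnotB : ∀ e ∈ A, e ≠ 1 → e ∉ B := fun e he he1 hB => by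
        obtain ⟨v, hv⟩ := hb e he he1 hB.2
        exact hv (hquad e he a ha v)
      have hcomm := hout a' ha'A (hnotB a' ha'A ha'1) (hnotB _ (A.mul_mem ha ha'A) (fun e => ha'a (by
        rw [← hinv a ha]; exact eq_inv_of_mul_eq_one_right e)))
      refine Cfsg.Comp.center_ne_top_of_quasisimple hKq (top_unique ?_)
      rw [← hK, commutator_def, Subgroup.commutator_le]
      intro x' _ y' _
      apply h
      show δ ⁅x', y'⁆ ∈ fixU φ a
      set q := (δ x'⁻¹)⁻¹ * (a' * δ x'⁻¹ * a'⁻¹) with hqdef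
      have hqm : q ∈ fixU φ a := hq a' ha'A (fun v => hquad a' ha'A a ha v) x'⁻¹
      have h1 : q * (δ y' * q⁻¹ * (δ y')⁻¹) ∈ fixU φ a :=
        (fixU φ a).mul_mem hqm (fixU_conj φ (hδa y') ((fixU φ a).inv_mem hqm))
      have hcy := hcomm x'⁻¹ y'
      have : q * (δ y' * q⁻¹ * (δ y')⁻¹) = δ ⁅x', y'⁆ := by
        rw [map_commutatorElement, commutatorElement_def, hqdef, map_inv, inv_inv, mul_inv_rev]
        set P := a' * (δ x')⁻¹ * a'⁻¹ with hP
        rw [map_inv, ← hP] at hcy
        calc δ x' * P * (δ y' * (P⁻¹ * (δ x')⁻¹) * (δ y')⁻¹)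
            = δ x' * (P * δ y') * P⁻¹ * (δ x')⁻¹ * (δ y')⁻¹ := by group
          _ = δ x' * δ y' * (δ x')⁻¹ * (δ y')⁻¹ := by rw [hcy.eq]; group
      rwa [this] at h1
  have hfix : ∀ x : K, δ x ∈ fixU φ a := fun x => (hNtop ▸ Subgroup.mem_top x : x ∈ N)
  -- the identity `x + x⁻¹ = y + y⁻¹`
  set A₀ := φ a with hA0
  have hA0sq : A₀ * A₀ = 1 := by rw [hA0, ← map_mul, haa, map_one]
  have htwo : ∀ T : AddMonoid.End V, T + T = 0 := fun T =>
    AddMonoidHom.ext fun v => add_self_eq_zero_of_two hV (T v)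
  have hsubadd : ∀ T S : AddMonoid.End V, T - S = T + S := fun T S =>
    AddMonoidHom.ext fun v => sub_eq_add_two hV (T v) (S v)
  have hz0 : ∀ x ∈ K, φ x + φ x⁻¹ = φ (a * x * a) + φ (a * x * a)⁻¹ := by
    intro x hx
    have h1 := (hfix ⟨x, hx⟩).2
    have h2 := fixU_right φ (hfix ⟨x, hx⟩)
    rw [hδ, dpair_apply] at h1 h2
    set X := φ x
    set X' := φ x⁻¹
    set Y := φ (a * x * a) with hY
    set Y' := φ (a * x * a)⁻¹
    have hXX : X' * φ x = 1 := by rw [← map_mul, inv_mul_cancel, map_one]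
    have hYY : Y * Y' = 1 := by rw [hY, ← map_mul, mul_inv_cancel, map_one]
    rw [map_mul, ← hY, ← hA0, hsubadd] at h1 h2
    have e1 : Y + A₀ * X = X' + X' * A₀ := by
      have h := congrArg (X' * ·) h1
      simp only [mul_add, mul_one, ← mul_assoc, hXX, one_mul] at h
      have : Y * A₀ = A₀ * X := by
        rw [hY, hA0, ← map_mul, ← map_mul, mul_assoc (a * x) a a, haa, mul_one]
      rw [← this, add_comm, h]
      abel
    have e2 : X + A₀ * X = Y' + X' * A₀ := by
      have h := congrArg (· * Y') h2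
      simp only [add_mul, one_mul, mul_assoc, hYY, mul_one] at h
      have : A₀ * Y' = X' * A₀ := by
        rw [hA0, ← map_mul, ← map_mul, mul_inv_rev, mul_inv_rev, hinv a ha, ← mul_assoc,
          haa, one_mul]
      rw [add_comm, h, this]
      abel
    have key : (Y + A₀ * X) + (X + A₀ * X) = (X' + X' * A₀) + (Y' + X' * A₀) := by rw [e1, e2]
    calc X + X' = (Y + A₀ * X) + (X + A₀ * X) + (Y + X') := by
          rw [show (Y + A₀ * X) + (X + A₀ * X) + (Y + X') =
            X + X' + ((Y + Y) + (A₀ * X + A₀ * X)) by abel, htwo, htwo, add_zero, add_zero]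
      _ = (X' + X' * A₀) + (Y' + X' * A₀) + (Y + X') := by rw [key]
      _ = Y + Y' := by
          rw [show (X' + X' * A₀) + (Y' + X' * A₀) + (Y + X') =
            Y + Y' + ((X' + X') + (X' * A₀ + X' * A₀)) by abel, htwo, htwo, add_zero, add_zero]
  -- the section `M = C_V(a) / [V,a]`
  set C := fixedBy φ ({a} : Set G) with hC
  set Ur := AddMonoidHom.range ((φ a - 1 : AddMonoid.End V) : V →+ V) with hUr
  have hUC : ∀ v, φ a v - v ∈ C := fun v s hs => by
    rw [Set.mem_singleton_iff.mp hs, map_sub, ← phi_mul_apply, haa, phi_one_apply,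
      sub_eq_add_two hV, sub_eq_add_two hV, add_comm]
  have hCa : ∀ v, v ∈ C ↔ φ a v = v := fun v =>
    ⟨fun h => h a rfl, fun h s hs => by rw [Set.mem_singleton_iff.mp hs]; exact h⟩
  set H := Subgroup.centralizer ({a} : Set G) with hH
  have hHa : ∀ h : H, Commute a (h : G) := fun h => Subgroup.mem_centralizer_singleton_iff.mp h.2 |>.symm
  have hCinv : ∀ h : H, ∀ v ∈ C, (φ.comp H.subtype) h v ∈ C := fun h v hv =>
    map_mem_fixedBy_of_commute φ hv fun s hs => by rw [Set.mem_singleton_iff.mp hs]; exact (hHa h).symm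
  set φC := resHom (φ.comp H.subtype) C hCinv with hφC
  set U := Ur.addSubgroupOf C with hU
  have hUinv : ∀ h : H, ∀ v ∈ U, φC h v ∈ U := by
    rintro h ⟨v, hv⟩ ⟨w, hw⟩
    refine ⟨φ (h : G) w, ?_⟩
    show φ a (φ (h : G) w) - φ (h : G) w = φ (h : G) v
    rw [← phi_mul_apply, (hHa h).eq, phi_mul_apply, ← map_sub]
    exact congrArg _ hw
  set ψ := quoHom φC U hUinv with hψ
  set δH : K →* H := δ.codRestrict H fun x =>
    Subgroup.mem_centralizer_singleton_iff.mpr (hδa x).symm.eq with hδH
  have hVM : ∀ q : C ⧸ U, 2 • q = 0 := fun q => by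
    induction q using QuotientAddGroup.induction_on with
    | H v =>
      rw [← QuotientAddGroup.mk_nsmul, show 2 • v = 0 from Subtype.ext (hV v),
        QuotientAddGroup.mk_zero]
  have hχker : ∀ x : K, ψ (δH x) = 1 → x ∈ Subgroup.center K := by
    intro x hx
    let N1 : Subgroup K := (ψ.comp δH).toHomUnits.ker
    have hxN : x ∈ N1 := MonoidHom.mem_ker.mpr (Units.ext hx)
    rcases Cfsg.Comp.normal_eq_top_or_le_center hKq (N := N1) inferInstance with h | h
    · exfalso
      have hM : ∀ y : K, ψ (δH y) = 1 := fun y =>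
        congrArg Units.val (h ▸ Subgroup.mem_top y : y ∈ N1)
      have hKtop : commutator (⊤ : Subgroup K) = ⊤ := by
        haveI : Group.IsPerfect K := hKq.1
        exact (Group.IsPerfect.ofSurjective (f := (Subgroup.topEquiv (G := K)).symm.toMonoidHom)
          (Subgroup.topEquiv (G := K)).symm.surjective).commutator_eq_top
      have hC1 := trivial_of_series (φC.comp δH) hKtop U (fun y _ v hv => by
          obtain ⟨w, hw⟩ := hv
          apply Subtype.ext
          show φ (δ y) (v : V) = v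
          rw [← show φ a w - w = (v : V) from hw]
          exact DFunLike.congr_fun (hfix y).2 w)
        (fun y _ v => QuotientAddGroup.eq_iff_sub_mem.mp (DFunLike.congr_fun (hM y) (v : C ⧸ U)))
      have hV1 := trivial_of_series (φ.comp δ) hKtop C
        (fun y _ v hv => by
          have h2 := DFunLike.congr_fun (hC1 y (Subgroup.mem_top y)) (⟨v, hv⟩ : C)
          exact congrArg Subtype.val h2)
        (fun y _ v => by
          rw [hCa]
          have h3 : φ a (φ (δ y) v) - φ (δ y) v = φ a v - v :=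
            DFunLike.congr_fun (fixU_right φ (hfix y)) v
          show φ a (φ (δ y) v - v) = φ (δ y) v - v
          rw [map_sub]
          calc φ a (φ (δ y) v) - φ a v =
              (φ a (φ (δ y) v) - φ (δ y) v) - (φ a v - v) + (φ (δ y) v - v) := by abel
            _ = φ (δ y) v - v := by rw [h3, sub_self, zero_add])
      refine Cfsg.Comp.center_ne_top_of_quasisimple hKq (top_unique fun y _ => ?_)
      exact dpair_injective haa hc hKq y (hφ ((hV1 y (Subgroup.mem_top y)).trans (map_one φ).symm))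
    · exact h hxN
  have hχnc : ∃ x : K, ψ (δH x) ≠ 1 := by
    by_contra hcon
    push Not at hcon
    exact Cfsg.Comp.center_ne_top_of_quasisimple hKq (top_unique fun y _ => hχker y (hcon y))
  -- the action of `A` on `M`
  have hAH : A ≤ H := fun e he =>
    Subgroup.mem_centralizer_singleton_iff.mpr (hab e he a ha).eq
  set eA : G → H → Prop := fun e h => (h : G) = e
  have hψa : ∀ h : H, (h : G) = a → ψ h = 1 := fun h e => AddMonoidHom.ext fun q => by
    induction q using QuotientAddGroup.induction_on with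
    | H v =>
      refine congrArg (QuotientAddGroup.mk' U) (Subtype.ext ?_)
      show φ (h : G) v = v
      rw [e]; exact v.2 a rfl
  -- images commute and coincide only trivially
  have hmix : ∀ e : H, (e : G) ∈ A → (e : G) ∉ B → a * (e : G) ∉ B →
      (∀ x : K, ∃ y : K, ψ (e * δH x * e⁻¹) = ψ (δH y)) → False := by
    intro e he h1 h2 himg
    obtain ⟨x0, hx0⟩ := hχnc
    refine hx0 (eq_one_of_all_commute hK (ψ.comp δH) (fun x y => ?_) x0)
    have hee : (e : G)⁻¹ = e := hinv _ he
    obtain ⟨y', hy'⟩ := himg x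
    have hx' : δH x = e * (e * δH x * e⁻¹) * e⁻¹ := by
      apply Subtype.ext
      show δ x = (e : G) * ((e : G) * δ x * (e : G)⁻¹) * (e : G)⁻¹
      rw [hee]
      simp only [mul_assoc, hsq _ he, mul_one]
      rw [← mul_assoc, hsq _ he, one_mul]
    have hc0 : Commute (e * δH y' * e⁻¹) (δH y) :=
      Subtype.ext (hout (e : G) he h1 h2 y' y).eq
    have hc1 := hc0.map ψ
    show Commute (ψ (δH x)) (ψ (δH y))
    rwa [show ψ (δH x) = ψ (e * δH y' * e⁻¹) by
      rw [hx', map_mul, map_mul ψ e, hy', ← map_mul, ← map_mul]]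
  have hcent : ∀ e : H, (e : G) ∈ A → (∀ x : K, Commute (ψ e) (ψ (δH x))) →
      (e : G) = 1 ∨ (e : G) = a := by
    intro e he hce
    have himg : ∀ x : K, ψ (e * δH x * e⁻¹) = ψ (δH x) := fun x => by
      rw [map_mul, map_mul, (hce x).eq, mul_assoc, ← map_mul, mul_inv_cancel, map_one, mul_one]
    have inB : ∀ f : H, (f : G) ∈ B → (∀ x : K, ψ (f * δH x * f⁻¹) = ψ (δH x)) → (f : G) = 1 := by
      intro f hf hfx
      refine hcA f hf.1 (commute_of_central hK _ hf.2 fun x hx => hχker _ ?_)
      have e1 : δH (⟨x⁻¹ * ((f : G) * x * (f : G)⁻¹), K.mul_mem (K.inv_mem hx) (hf.2 x hx)⟩ : K) =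
          (δH ⟨x, hx⟩)⁻¹ * (f * δH ⟨x, hx⟩ * f⁻¹) := by
        apply Subtype.ext
        show δ _ = (δ ⟨x, hx⟩)⁻¹ * ((f : G) * δ ⟨x, hx⟩ * (f : G)⁻¹)
        rw [hδe hf.1 hf.2, ← map_inv, ← map_mul]
        rfl
      rw [e1, map_mul, hfx, ← map_mul, inv_mul_cancel, map_one]
    by_cases h1 : (e : G) ∈ B
    · exact Or.inl (inB e h1 himg)
    by_cases h2 : a * (e : G) ∈ B
    · right
      have hf := inB (⟨a, hAH ha⟩ * e) h2 (fun x => by
        have h0 := hψa ⟨a, hAH ha⟩ rfl
        have h0' : ψ (⟨a, hAH ha⟩ : H)⁻¹ = 1 := hψa _ (hinv a ha)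
        rw [mul_inv_rev, show (⟨a, hAH ha⟩ : H) * e * δH x * (e⁻¹ * (⟨a, hAH ha⟩ : H)⁻¹) =
          ⟨a, hAH ha⟩ * (e * δH x * e⁻¹) * (⟨a, hAH ha⟩ : H)⁻¹ by simp only [mul_assoc],
          map_mul, map_mul, himg, h0, h0', one_mul, mul_one])
      rw [← hinv a ha]
      exact eq_inv_of_mul_eq_one_right hf
    · exact (hmix e he h1 h2 fun x => ⟨x, himg x⟩).elim
  -- cardinals
  have hUcard : Nat.card U = Nat.card Ur :=
    Nat.card_congr (AddSubgroup.addSubgroupOfEquivOfLe (H := Ur) (K := C) (by
      rintro _ ⟨w, rfl⟩; exact hUC w)).toEquiv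
  have hVcard : Nat.card V = Nat.card Ur * Nat.card C := by
    have h := card_eq_range_mul_ker (φ a - 1)
    have hk : AddMonoidHom.ker ((φ a - 1 : AddMonoid.End V) : V →+ V) = C := by
      ext v; rw [hCa]; exact sub_eq_zero
    rwa [hk] at h
  have hU2 : 2 ≤ Nat.card Ur := by
    refine Nat.succ_le_of_lt ((AddSubgroup.one_lt_card_iff_ne_bot Ur).mpr fun h => ?_)
    refine ha1 (hφ ((?_ : φ a = 1).trans (map_one φ).symm))
    refine AddMonoidHom.ext fun v => ?_
    have : φ a v - v ∈ Ur := ⟨v, rfl⟩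
    rw [h, AddSubgroup.mem_bot] at this
    exact sub_eq_zero.mp this
  have hCcard : Nat.card C = Nat.card (C ⧸ U) * Nat.card U :=
    AddSubgroup.card_eq_card_quotient_mul_card_addSubgroup U
  have hfixM : ∀ S : Subgroup G, S ≤ A → Nat.card (fixedBy φ (A : Set G)) ≤
      Nat.card U * Nat.card (fixedBy ψ ((S.subgroupOf H : Subgroup H) : Set H)) := by
    intro S hS
    refine le_trans ?_ (card_fixed_quo φC U hUinv _)
    refine Nat.card_le_card_of_injective (fun v =>
      (⟨⟨(v : V), (hCa _).mpr (v.2 a ha)⟩, fun g hg => Subtype.ext (v.2 _ (hS hg))⟩ :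
        fixedBy φC ((S.subgroupOf H : Subgroup H) : Set H))) ?_
    intro v w h
    exact Subtype.ext (congrArg (fun q : fixedBy φC _ => ((q : C) : V)) h)
  by_cases h2orb : ∀ e ∈ A, e ∈ B ∨ a * e ∈ B
  · -- `|A : B| = 2`
    have hA2 : Nat.card A ≤ 2 * Nat.card B := by
      let f : A → B × Bool := fun e =>
        if he : (e : G) ∈ B then (⟨e, he⟩, true)
        else (⟨a * e, (h2orb e e.2).resolve_left he⟩, false)
      have hf : Function.Injective f := by
        intro e e' hee
        simp only [f] at hee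
        split_ifs at hee with h1 h2 h2 <;>
          simp only [Prod.mk.injEq, Subtype.mk.injEq, mul_right_inj, Bool.true_eq_false,
            Bool.false_eq_true, and_false, and_true] at hee <;>
          exact Subtype.ext hee
      have := Nat.card_le_card_of_injective f hf
      rwa [Nat.card_prod, Nat.card_eq_fintype_card (α := Bool), Fintype.card_bool, mul_comm] at this
    have hbound : Nat.card B * Nat.card (fixedBy ψ ((B.subgroupOf H : Subgroup H) : Set H)) ≤
        Nat.card (C ⧸ U) := by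
      by_cases hB : B = ⊥
      · rw [hB, Subgroup.card_bot, one_mul]
        exact Nat.card_le_card_of_injective _ Subtype.val_injective
      obtain ⟨b0, hb0, hb01, hb0k⟩ : ∃ b ∈ B, b ≠ 1 ∧
          ∀ e ∈ A, ∀ v, φ e (φ b v - v) = φ b v - v := by
        rcases hgood with hg | ⟨b, hbA, hb1, hbK, hbk⟩
        · obtain ⟨b, hb, hb1⟩ : ∃ b ∈ B, b ≠ 1 := by
            by_contra hcon
            push Not at hcon
            exact hB (Subgroup.eq_bot_iff_forall _ |>.mpr hcon)
          exact ⟨b, hb, hb1, fun e he => hg e he b hb.1⟩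
        · exact ⟨b, ⟨hbA, hbK⟩, hb1, hbk⟩
      haveI : Nontrivial δH.range := by
        rw [Subgroup.nontrivial_iff_ne_bot]
        intro h
        obtain ⟨x, hx⟩ := hχnc
        exact hx (by rw [(Subgroup.eq_bot_iff_forall _).mp h _ ⟨x, rfl⟩, map_one])
      have hBA : B.subgroupOf H ≤ A.subgroupOf H := fun e he => he.1
      have hcB : Nat.card (B.subgroupOf H) = Nat.card B :=
        Nat.card_congr (Subgroup.subgroupOfEquivOfLe fun e (he : e ∈ B) => hAH he.1).toEquiv
      rw [← hcB]
      refine card_fixed_mul_le ψ (D := δH.range) hVM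
        (Cfsg.Comp.isQuasisimple_of_surjective hKq δH.rangeRestrict δH.rangeRestrict_surjective)
        (by obtain ⟨x, hx⟩ := hχnc; exact ⟨_, ⟨x, rfl⟩, hx⟩) ?_
        (fun e he f hf => Subtype.ext (hab _ he.1 _ hf.1)) (fun e he => Subtype.ext (hsq _ he.1))
        (fun e he _ ⟨x, hx⟩ => ⟨⟨(e : G) * x * (e : G)⁻¹, he.2 _ x.2⟩, Subtype.ext ?_⟩)
        (fun e he he1 => ?_) ⟨b0, hAH hb0.1⟩ hb0 (fun h => hb01 (congrArg Subtype.val h)) ?_
      · rintro _ ⟨s, rfl⟩ _ ⟨t, rfl⟩
        refine AddMonoidHom.ext fun q => ?_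
        induction q using QuotientAddGroup.induction_on with
        | H v =>
          -- reduce to `z ^ 2` modulo `[V,a]`
          set X := φ (s : G) with hX
          set X' := φ (s : G)⁻¹
          set Y := φ (a * (s : G) * a) with hY
          set Y' := φ (a * (s : G) * a)⁻¹
          set z := X + X' with hz
          have hzY : z = Y + Y' := hz0 s s.2
          have hX' : X' = z + X := by
            rw [hz, show X + X' + X = X' + (X + X) by abel, htwo, add_zero]
          have hY' : Y' = z + Y := by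
            rw [hzY, show Y + Y' + Y = Y' + (Y + Y) by abel, htwo, add_zero]
          have hxyc : Commute (φ (a * (s : G) * a)⁻¹) (φ (s : G)⁻¹) :=
            ((hc s s.2 s s.2).inv_inv).map φ
          have hsum : φ (δ s) + φ (δ s)⁻¹ = z * z + (z * (X + Y)) := by
            show φ ((s : G) * (a * s * a)) + φ ((s : G) * (a * s * a))⁻¹ = _
            rw [mul_inv_rev, map_mul φ (s : G), map_mul φ (a * (s : G) * a)⁻¹, hxyc.eq, ← hX, ← hY]
            show X * Y + X' * Y' = _
            have hcz : Commute X z := by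
              rw [hz]
              exact (Commute.refl X).add_right (((Commute.refl (s : G)).inv_right).map φ)
            have alg : ∀ P Q S : AddMonoid.End V, Commute P S →
                P * Q + (S + P) * (S + Q) = S * S + S * (P + Q) := fun P Q S hPS => by
              rw [add_mul, mul_add, mul_add, mul_add, hPS.eq,
                show P * Q + (S * S + S * Q + (S * P + P * Q)) =
                  S * S + (S * P + S * Q) + (P * Q + P * Q) by abel, htwo, add_zero]
            rw [hX', hY']
            exact alg X Y z hcz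
          have hzsq : ∀ w ∈ C, (φ (δ s) + φ (δ s)⁻¹) w - z (z w) ∈ Ur := by
            intro w hw
            rw [hsum]
            show z (z w) + z (X w + Y w) - z (z w) ∈ Ur
            rw [add_sub_cancel_left]
            have hXY : X w + Y w = φ a (X w) - X w := by
              rw [sub_eq_add_two hV, add_comm, hY, phi_mul_apply, phi_mul_apply, (hCa w).mp hw]
            refine ⟨z (X w), ?_⟩
            show φ a (z (X w)) - z (X w) = z (X w + Y w)
            rw [hXY, map_sub]
            congr 1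
            conv_rhs => rw [hzY]
            show φ a (φ (s : G) (X w) + φ (s : G)⁻¹ (X w)) =
              φ (a * (s : G) * a) (φ a (X w)) + φ (a * (s : G) * a)⁻¹ (φ a (X w))
            rw [map_add, ← phi_mul_apply φ (a * (s : G) * a), ← phi_mul_apply φ (a * (s : G) * a)⁻¹,
              ← phi_mul_apply φ a (s : G), ← phi_mul_apply φ a (s : G)⁻¹, mul_inv_rev, mul_inv_rev,
              hinv a ha]
            simp only [mul_assoc, haa, mul_one]
          have hzd : ∀ w, z (φ (δ t) w) = φ (δ t) (z w) := by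
            have c1 : ∀ u : K, Commute (φ (a * (s : G) * a)) (φ (u : G)) ∧
                Commute (φ (a * (s : G) * a)⁻¹) (φ (u : G)) := fun u =>
              ⟨(hc s s.2 u u.2).map φ, ((hc s s.2 u u.2).inv_left).map φ⟩
            have c2 : Commute (φ (s : G)) (φ (a * (t : G) * a)) ∧
                Commute (φ (s : G)⁻¹) (φ (a * (t : G) * a)) :=
              ⟨((hc t t.2 s s.2).symm).map φ, ((hc t t.2 s s.2).symm.inv_left).map φ⟩
            have c3 : Commute z (φ (t : G)) := by
              rw [hzY]; exact (c1 t).1.add_left (c1 t).2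
            have c4 : Commute z (φ (a * (t : G) * a)) := c2.1.add_left c2.2
            intro w
            have hcz := c3.mul_right c4
            rw [← map_mul, ← dpair_apply haa hc t, ← hδ] at hcz
            exact DFunLike.congr_fun hcz.eq w
          refine (QuotientAddGroup.eq_iff_sub_mem).mpr ?_
          show φ (δ s) (φ (δ t) v) + φ (δ s)⁻¹ (φ (δ t) v) -
            φ (δ t) (φ (δ s) v + φ (δ s)⁻¹ v) ∈ Ur
          have h1 := hzsq (φ (δ t) v) (hCinv (δH t) v v.2)
          obtain ⟨w, hw⟩ := hzsq (v : V) v.2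
          have h2 : φ (δ t) ((φ (δ s) + φ (δ s)⁻¹) (v : V) - z (z v)) ∈ Ur :=
            ⟨φ (δ t) w, by
              show φ a (φ (δ t) w) - φ (δ t) w = _
              rw [← hw, ← phi_mul_apply, (hδa t).eq, phi_mul_apply, ← map_sub]
              rfl⟩
          rw [map_sub, end_add_apply, ← hzd, ← hzd] at h2
          have h3 := Ur.sub_mem h1 h2
          rw [end_add_apply] at h3
          convert h3 using 1
          abel
      · rw [← hx]
        exact (hδe he.1 he.2 x).symm
      · by_contra hcon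
        push Not at hcon
        rcases hcent e he.1 (fun x => ((hcon _ ⟨x, rfl⟩).map ψ)) with h | h
        · exact he1 (Subtype.ext h)
        · exact haK (h ▸ he.2)
      · intro e he q
        induction q using QuotientAddGroup.induction_on with
        | H v => exact congrArg (QuotientAddGroup.mk' U) (Subtype.ext (hb0k _ he.1 (v : V)))
    have hfin : Nat.card Ur ≤ 2 := by
      have h1 := hfixM B (fun e he => he.1)
      refine Nat.le_of_mul_le_mul_right ?_ (show 0 < Nat.card Ur * Nat.card (C ⧸ U) from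
        Nat.mul_pos Nat.card_pos Nat.card_pos)
      calc Nat.card Ur * (Nat.card Ur * Nat.card (C ⧸ U))
          = Nat.card V := by rw [hVcard, hCcard, hUcard]; ring
        _ ≤ Nat.card A * Nat.card (fixedBy φ (A : Set G)) := hcount
        _ ≤ 2 * Nat.card B * (Nat.card U *
              Nat.card (fixedBy ψ ((B.subgroupOf H : Subgroup H) : Set H))) := Nat.mul_le_mul hA2 h1
        _ = 2 * (Nat.card U *
              (Nat.card B * Nat.card (fixedBy ψ ((B.subgroupOf H : Subgroup H) : Set H)))) := by ring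
        _ ≤ 2 * (Nat.card Ur * Nat.card (C ⧸ U)) := by
              rw [hUcard]; exact Nat.mul_le_mul_left _ (Nat.mul_le_mul_left _ hbound)
    refine transvection_false φ hV hφ hKq haa hc ?_
    rw [hVcard]
    exact Nat.mul_le_mul_right _ hfin
  · -- pass to `M`
    push Not at h2orb
    obtain ⟨c, hcA', hc1, hc2⟩ := h2orb
    set π := ψ.toHomUnits.rangeRestrict with hπ
    haveI : Finite ψ.toHomUnits.range := Finite.of_surjective _ ψ.toHomUnits.rangeRestrict_surjective
    set φM : ψ.toHomUnits.range →* AddMonoid.End (C ⧸ U) :=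
      (Units.coeHom (AddMonoid.End (C ⧸ U))).comp ψ.toHomUnits.range.subtype with hφM
    have hπψ : ∀ h, φM (π h) = ψ h := fun h => rfl
    have hφMinj : Function.Injective φM := fun _ _ h => Subtype.ext (Units.ext h)
    have hπeq : ∀ {g h}, π g = π h ↔ ψ g = ψ h := fun {g h} =>
      ⟨fun e => congrArg φM e, fun e => hφMinj e⟩
    set A' := (A.subgroupOf H).map π with hA'
    set K' := (π.comp δH).range with hK'
    haveI : Nontrivial K' := by
      rw [Subgroup.nontrivial_iff_ne_bot]
      intro h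
      obtain ⟨x, hx⟩ := hχnc
      refine hx ?_
      have := (Subgroup.eq_bot_iff_forall _).mp h (π (δH x)) ⟨x, rfl⟩
      rw [← hπψ, this, map_one]
    set a0 : A.subgroupOf H := ⟨⟨a, hAH ha⟩, ha⟩ with ha0
    have hker : ∀ e : A.subgroupOf H, π (e : H) = 1 ↔ ((e : H) : G) = 1 ∨ ((e : H) : G) = a := by
      intro e
      constructor
      · intro he
        refine hcent e e.2 fun x => ?_
        rw [← hπψ, he, map_one]
        exact Commute.one_left _
      · rintro (he | he)
        · rw [show (e : H) = 1 from Subtype.ext he, map_one]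
        · exact hπeq.mpr (by rw [hψa _ he, map_one]) |>.trans (map_one π)
    have hA'card : Nat.card A = 2 * Nat.card A' := by
      have h1 : Nat.card (π.comp (A.subgroupOf H).subtype).range = Nat.card A' := by
        rw [MonoidHom.range_comp, Subgroup.range_subtype]
      have h2 : Nat.card (π.comp (A.subgroupOf H).subtype).ker = 2 := by
        rw [Nat.card_eq_two_iff]
        refine ⟨⟨1, Subgroup.one_mem _⟩, ⟨a0, (hker a0).mpr (Or.inr rfl)⟩,
          fun h => ha1 (congrArg (fun k : (π.comp (A.subgroupOf H).subtype).ker =>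
            (((k : A.subgroupOf H) : H) : G)) h).symm, ?_⟩
        refine Set.eq_univ_of_forall fun k => ?_
        rcases (hker (k : A.subgroupOf H)).mp k.2 with h | h
        · exact Or.inl (Subtype.ext (Subtype.ext (Subtype.ext h)))
        · exact Or.inr (Set.mem_singleton_iff.mpr (Subtype.ext (Subtype.ext (Subtype.ext h))))
      have h3 := Subgroup.card_mul_index (π.comp (A.subgroupOf H).subtype).ker
      rw [Subgroup.index_ker, h1, h2,
        Nat.card_congr (Subgroup.subgroupOfEquivOfLe hAH).toEquiv] at h3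
      exact h3.symm
    have horbd : ∀ e : H, (e : G) ∈ A → ((e : G) ∈ B ∨ a * (e : G) ∈ B) →
        ∀ x : K, ∃ y : K, ψ (e * δH x * e⁻¹) = ψ (δH y) := by
      intro e he hcase x
      rcases hcase with h | h
      · refine ⟨⟨(e : G) * x * (e : G)⁻¹, h.2 x x.2⟩, congrArg ψ (Subtype.ext ?_)⟩
        exact hδe he h.2 x
      · refine ⟨⟨a * (e : G) * x * (a * (e : G))⁻¹, h.2 x x.2⟩, ?_⟩
        have h0 := hψa ⟨a, hAH ha⟩ rfl
        have hcon : δH ⟨a * (e : G) * x * (a * (e : G))⁻¹, h.2 x x.2⟩ =
            (⟨a, hAH ha⟩ : H) * e * δH x * ((⟨a, hAH ha⟩ : H) * e)⁻¹ :=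
          Subtype.ext (hδe (A.mul_mem ha he) h.2 x).symm
        rw [hcon, mul_inv_rev, show (⟨a, hAH ha⟩ : H) * e * δH x * (e⁻¹ * (⟨a, hAH ha⟩ : H)⁻¹) =
          ⟨a, hAH ha⟩ * (e * δH x * e⁻¹) * (⟨a, hAH ha⟩ : H)⁻¹ by simp only [mul_assoc],
          map_mul ψ (_ * (e * δH x * e⁻¹)), map_mul ψ (⟨a, hAH ha⟩ : H) (e * δH x * e⁻¹), h0,
          one_mul, hψa (⟨a, hAH ha⟩ : H)⁻¹ (hinv a ha), mul_one]
    have hcore' : Core φM A' K' := by
      refine ⟨hVM, hφMinj, ?_, ?_, ?_, ?_, ?_, ?_, ?_⟩
      · exact Cfsg.Comp.isQuasisimple_of_surjective hKq (π.comp δH).rangeRestrict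
          (π.comp δH).rangeRestrict_surjective
      · rintro _ ⟨e, he, rfl⟩ _ ⟨f, hf, rfl⟩
        exact (show Commute e f from Subtype.ext (hab _ he _ hf)).map π
      · rintro _ ⟨e, he, rfl⟩
        rw [← map_mul, show e * e = 1 from Subtype.ext (hsq _ he), map_one]
      · rintro _ ⟨e, he, rfl⟩
        by_cases h : (e : G) ∈ B ∨ a * (e : G) ∈ B
        · left
          rintro _ ⟨x, rfl⟩
          obtain ⟨y, hy⟩ := horbd e he h x
          refine ⟨y, hφMinj ?_⟩
          show ψ (δH y) = φM (π e * π (δH x) * (π e)⁻¹)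
          rw [← map_inv, ← map_mul, ← map_mul, hπψ, hy]
        · right
          push Not at h
          rintro _ ⟨x, rfl⟩ _ ⟨y, rfl⟩
          have hc0 : Commute (e * δH x * e⁻¹) (δH y) := Subtype.ext (hout (e : G) he h.1 h.2 x y).eq
          have := hc0.map π
          rwa [map_mul, map_mul, map_inv] at this
      · rintro _ ⟨e, he, rfl⟩ hce
        refine (hker ⟨e, he⟩).mpr (hcent e he fun x => ?_)
        exact (hce _ ⟨x, rfl⟩).map φM
      · have h1 := hfixM A le_rfl
        have hfx : fixedBy ψ ((A.subgroupOf H : Subgroup H) : Set H) ≤ fixedBy φM (A' : Set _) := by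
          rintro q hq _ ⟨e, he, rfl⟩
          exact hq e he
        have h2 : Nat.card Ur * Nat.card Ur * Nat.card (C ⧸ U) ≤
            2 * Nat.card A' * (Nat.card Ur * Nat.card (fixedBy φM (A' : Set _))) := by
          calc Nat.card Ur * Nat.card Ur * Nat.card (C ⧸ U) = Nat.card V := by
                rw [hVcard, hCcard, hUcard]; ring
            _ ≤ Nat.card A * Nat.card (fixedBy φ (A : Set G)) := hcount
            _ ≤ 2 * Nat.card A' * (Nat.card U *
                  Nat.card (fixedBy ψ ((A.subgroupOf H : Subgroup H) : Set H))) :=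
                Nat.mul_le_mul hA'card.le h1
            _ ≤ _ := by
                rw [hUcard]
                exact Nat.mul_le_mul_left _ (Nat.mul_le_mul_left _ (AddSubgroup.card_le_of_le hfx))
        refine Nat.le_of_mul_le_mul_left ?_ (show 0 < 2 * Nat.card Ur from
          Nat.mul_pos two_pos Nat.card_pos)
        calc 2 * Nat.card Ur * Nat.card (C ⧸ U) ≤ Nat.card Ur * Nat.card Ur * Nat.card (C ⧸ U) :=
              Nat.mul_le_mul_right _ (Nat.mul_le_mul_right _ hU2)
          _ ≤ _ := h2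
          _ = _ := by ring
      · rcases hgood with hg | ⟨b, hbA, hb1, hbK, hbk⟩
        · left
          rintro _ ⟨e, he, rfl⟩ _ ⟨f, hf, rfl⟩ q
          induction q using QuotientAddGroup.induction_on with
          | H v => exact congrArg (QuotientAddGroup.mk' U) (Subtype.ext (hg _ he _ hf (v : V)))
        · right
          refine ⟨π ⟨b, hAH hbA⟩, ⟨⟨b, hAH hbA⟩, hbA, rfl⟩, fun h => ?_, ?_, ?_⟩
          · rcases (hker ⟨⟨b, hAH hbA⟩, hbA⟩).mp h with h | h
            · exact hb1 h
            · exact haK (h ▸ hbK)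
          · rintro _ ⟨x, rfl⟩
            obtain ⟨y, hy⟩ := horbd ⟨b, hAH hbA⟩ hbA (Or.inl ⟨hbA, hbK⟩) x
            refine ⟨y, hφMinj ?_⟩
            show ψ (δH y) = φM (π ⟨b, hAH hbA⟩ * π (δH x) * (π ⟨b, hAH hbA⟩)⁻¹)
            rw [← map_inv, ← map_mul, ← map_mul, hπψ, hy]
          · rintro _ ⟨e, he, rfl⟩ q
            induction q using QuotientAddGroup.induction_on with
            | H v => exact congrArg (QuotientAddGroup.mk' U) (Subtype.ext (hbk _ he (v : V)))
    have hlt : Nat.card A' < n := by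
      rw [← hn, hA'card]
      have : 0 < Nat.card A' := Nat.card_pos
      omega
    have hnrm := ih _ hlt ψ.toHomUnits.range (C ⧸ U) φM A' K' rfl hcore' (π ⟨c, hAH hcA'⟩)
      ⟨⟨c, hAH hcA'⟩, hcA', rfl⟩
    refine hmix ⟨c, hAH hcA'⟩ hcA' hc1 hc2 fun x => ?_
    obtain ⟨y, hy⟩ := hnrm (π (δH x)) ⟨x, rfl⟩
    refine ⟨y, ?_⟩
    have := congrArg φM hy
    rw [← map_inv, ← map_mul, ← map_mul, hπψ] at this
    exact this.symm

end H79.Offender
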