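import Cfsg.Agent.H74.Qd
import Cfsg.Agent.H79.CubeExtraspecial

set_option autoImplicit false

/-!
The Sylow p-subgroups of Qd(p), p odd, are extraspecial of order p³ and exponent p.
-/

namespace H79

open Subgroup H74 H74.Qd

variable {p : ℕ} [Fact p.Prime]

/-- The unitriangular part of Qd(p). -/
def qdU (p : ℕ) [Fact p.Prime] : Subgroup (Cfsg.qdOver (ZMod p)) :=
  (SL2.upper (ZMod p)).comap lin

theorem el_mem_qdU (x : ZMod p) (t : Fin 2 → ZMod p) : el x t ∈ qdU p :=
  SL2.mem_upper.mpr ⟨x, (lin_mk _ _).symm⟩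

theorem exists_el {M : Cfsg.qdOver (ZMod p)} (hM : M ∈ qdU p) : ∃ x t, M = el x t := by
  obtain ⟨x, hx⟩ := SL2.mem_upper.mp hM
  exact ⟨x, vec M, ext_lin_vec (by rw [lin_mk, hx]) (by rw [vec_mk])⟩

theorem el_pow (x : ZMod p) (t : Fin 2 → ZMod p) : ∀ n : ℕ, el x t ^ n =
    el ((n : ZMod p) * x) ![(n : ZMod p) * t 0 + (n.choose 2 : ZMod p) * (x * t 1), (n : ZMod p) * t 1]
  | 0 => by
    refine ext_lin_vec ?_ ?_
    · rw [pow_zero, map_one, lin_mk]
      apply Subtype.ext
      ext i j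
      fin_cases i <;> fin_cases j <;> simp [SL2.coe_uT]
    · rw [pow_zero, vec_one, vec_mk]
      funext i
      fin_cases i <;> simp
  | n + 1 => by
    rw [pow_succ, el_pow x t n, el_mul]
    congr 1
    · push_cast; ring
    · funext i
      fin_cases i
      · simp [Nat.choose_succ_succ', Nat.choose_one_right]; ring
      · simp; ring

theorem qd_sylow_extraspecial (hp : p ≠ 2) (P : Sylow p ↥(Cfsg.qd p)) :
    Cfsg.IsExtraspecial p ↥P ∧ Nat.card P = p ^ 3 ∧ Monoid.exponent ↥P = p := by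
  revert P
  change ∀ P : Sylow p ↥(Cfsg.qdOver (ZMod p)), _
  intro P
  have hpr : p.Prime := Fact.out
  set U := qdU p
  let e : U ≃ ZMod p × (Fin 2 → ZMod p) :=
    (Equiv.ofBijective (fun z : ZMod p × (Fin 2 → ZMod p) => (⟨el z.1 z.2, el_mem_qdU _ _⟩ : U))
      ⟨fun a c h => by
        have h' : el a.1 a.2 = el c.1 c.2 := congrArg Subtype.val h
        have h1 := congrArg lin h'
        have h2 := congrArg vec h'
        rw [lin_mk, lin_mk] at h1
        rw [vec_mk, vec_mk] at h2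
        exact Prod.ext (SL2.uT_inj h1) h2,
      fun M => by
        obtain ⟨x, t, h⟩ := exists_el M.2
        exact ⟨(x, t), Subtype.ext h.symm⟩⟩).symm
  have hcard : Nat.card U = p ^ 3 := by
    rw [Nat.card_congr e, Nat.card_prod, Nat.card_zmod, Nat.card_fun, Nat.card_zmod, Nat.card_fin]
    ring
  have hidx : ¬ p ∣ U.index := by
    have h := U.card_mul_index
    rw [hcard, card_qdOver, H40.card_SL2, ZMod.card] at h
    have h' : U.index = p ^ 2 - 1 :=
      mul_left_cancel₀ (pow_ne_zero 3 hpr.ne_zero) (h.trans (by ring))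
    rw [h']
    intro hd
    have h2 : p ∣ p ^ 2 := dvd_pow_self p two_ne_zero
    have h1 : 1 ≤ p ^ 2 := Nat.one_le_pow _ _ hpr.pos
    exact hpr.ne_one (Nat.dvd_one.mp (by simpa [Nat.sub_sub_self h1] using Nat.dvd_sub h2 hd))
  let f : ↥(P : Subgroup ↥(Cfsg.qdOver (ZMod p))) ≃* U := P.equiv ((IsPGroup.of_card hcard).toSylow hidx)
  have hPcard : Nat.card ↥(P : Subgroup ↥(Cfsg.qdOver (ZMod p))) = p ^ 3 :=
    (Nat.card_congr f.toEquiv).trans hcard
  suffices h : Cfsg.IsExtraspecial p ↥(P : Subgroup ↥(Cfsg.qdOver (ZMod p))) ∧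
      Monoid.exponent ↥(P : Subgroup ↥(Cfsg.qdOver (ZMod p))) = p from ⟨h.1, hPcard, h.2⟩
  refine ⟨?_, ?_⟩
  · refine extraspecial_of_card_cube hPcard
      (a := f.symm ⟨el 1 0, el_mem_qdU _ _⟩) (c := f.symm ⟨el 0 ![0, 1], el_mem_qdU _ _⟩) ?_
    rw [← map_mul, ← map_mul]
    intro h
    have h' := congrArg Subtype.val (f.symm.injective h)
    simp only [coe_mul] at h'
    rw [el_mul, el_mul] at h'
    have h'' := congrFun (congrArg vec h') 0
    simp [vec_mk] at h''
  · rw [Monoid.exponent_eq_of_mulEquiv f]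
    refine ((Nat.dvd_prime hpr).mp (Monoid.exponent_dvd_of_forall_pow_eq_one fun u => ?_)).resolve_left ?_
    · obtain ⟨x, t, h⟩ := exists_el u.2
      apply Subtype.ext
      rw [SubgroupClass.coe_pow, h, el_pow, coe_one]
      obtain ⟨j, hj⟩ : p ∣ p.choose 2 := hpr.dvd_choose_self two_ne_zero
        (lt_of_le_of_ne hpr.two_le (Ne.symm hp))
      refine ext_lin_vec ?_ ?_
      · rw [lin_mk, map_one, ZMod.natCast_self, zero_mul]
        apply Subtype.ext
        ext i k
        fin_cases i <;> fin_cases k <;> simp [SL2.coe_uT]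
      · rw [vec_mk, vec_one, hj]
        funext i
        fin_cases i <;> simp
    · intro h
      have hs : Subsingleton U := Monoid.exp_eq_one_iff.mp h
      have := Finite.card_le_one_iff_subsingleton.mpr hs
      rw [hcard] at this
      exact absurd this (not_le.mpr (Nat.one_lt_pow three_ne_zero hpr.one_lt))

end H79
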