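import Cfsg.Agent.H11.Replacement
import Cfsg.Prelude.Def_PLocal

set_option autoImplicit false

/-!
Glauberman's replacement does not decrease the number of elements of order dividing p, p odd.
-/

namespace H79

open Subgroup
open scoped commutatorElement

variable {G : Type*} [Group G]

/-- The elements killed by p in an abelian subgroup. -/
def pTorsion (p : ℕ) (A : Subgroup G) (hA : IsMulCommutative A) : Subgroup G where
  carrier := {x | x ∈ A ∧ x ^ p = 1}
  one_mem' := ⟨A.one_mem, one_pow p⟩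
  mul_mem' := fun {x y} hx hy => ⟨A.mul_mem hx.1 hy.1, by
    have hc : Commute x y := congrArg Subtype.val (hA.is_comm.comm (⟨x, hx.1⟩ : A) ⟨y, hy.1⟩)
    rw [hc.mul_pow, hx.2, hy.2, one_mul]⟩
  inv_mem' := fun {x} hx => ⟨A.inv_mem hx.1, by rw [inv_pow, hx.2, inv_one]⟩

theorem omegaOne_eq_pTorsion (p : ℕ) (A : Subgroup G) (hA : IsMulCommutative A) :
    Cfsg.omegaOne p A = pTorsion p A hA :=
  le_antisymm ((closure_le _).mpr fun _ hx => hx) fun _ hx => subset_closure hx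

theorem card_pTorsion_le_repA [Finite G] {p : ℕ} [Fact p.Prime] (hp : p ≠ 2) {A : Subgroup G}
    (hA : IsMulCommutative A) {b : G}
    (hbN : b ∈ normalizer ((normalizer (A : Set G)) : Set G))
    (hE : IsMulCommutative ↥(H11.repA b A)) :
    Nat.card ↥(pTorsion p A hA) ≤ Nat.card ↥(pTorsion p (H11.repA b A) hE) := by
  have hAc : ∀ x ∈ A, ∀ y ∈ A, x * y = y * x := fun x hx y hy =>
    congrArg Subtype.val (hA.is_comm.comm (⟨x, hx⟩ : A) ⟨y, hy⟩)
  set A' := A.map (MulAut.conj b⁻¹).toMonoidHom with hA'def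
  have ht : ∀ x ∈ A, b⁻¹ * x * b ∈ A' := fun x hx => ⟨x, hx, by simp⟩
  have hA'c : ∀ x ∈ A', ∀ y ∈ A', x * y = y * x := by
    rintro _ ⟨x, hx, rfl⟩ _ ⟨y, hy, rfl⟩
    rw [← map_mul, hAc x hx y hy, map_mul]
  have hA'N : ∀ x ∈ A', x ∈ normalizer (A : Set G) := by
    rintro x ⟨a, ha, rfl⟩
    simpa using H11.conj_mem_of_mem_normalizer' hbN (le_normalizer ha)
  have hNA' : ∀ n ∈ normalizer (A : Set G), ∀ x ∈ A', n * x * n⁻¹ ∈ A' := by
    intro n hn x hx
    rw [hA'def, H11.mem_conjMap] at hx ⊢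
    have hm := H11.conj_mem_of_mem_normalizer hbN hn
    simpa [mul_assoc] using H11.conj_mem_of_mem_normalizer hm hx
  have hK : ∀ x ∈ A, ∀ y ∈ A', ⁅x, y⁆ ∈ A ⊓ A' := by
    intro x hx y hy
    refine ⟨?_, ?_⟩
    · have := mul_mem hx (H11.conj_mem_of_mem_normalizer (hA'N y hy) (inv_mem hx))
      simpa [commutatorElement_def, mul_assoc] using this
    · have := mul_mem (hNA' x (le_normalizer hx) y hy) (inv_mem hy)
      simpa [commutatorElement_def] using this
  set T := pTorsion p (H11.repA b A) hE with hT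
  have hu : ∀ a ∈ pTorsion p A hA, H11.repU b a ∈ T := by
    intro a ha
    refine ⟨(le_sup_right : H11.repD b A ≤ H11.repA b A) (H11.repU_mem_repD ha.1), ?_⟩
    set x := b⁻¹ * a * b with hx
    set c := ⁅a⁻¹, x⁆ with hc
    have hcK : c ∈ A ⊓ A' := hK a⁻¹ (inv_mem ha.1) x (ht a ha.1)
    have hcx : Commute c x := hA'c c hcK.2 x (ht a ha.1)
    have hca : Commute c a⁻¹ := hAc c hcK.1 a⁻¹ (inv_mem ha.1)
    have hap : a⁻¹ ^ p = 1 := by rw [inv_pow, ha.2, inv_one]
    have hiter : ∀ n : ℕ, a⁻¹ ^ n * x = c ^ n * (x * a⁻¹ ^ n) := by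
      intro n
      induction n with
      | zero => simp
      | succ n ih =>
        calc a⁻¹ ^ (n + 1) * x = a⁻¹ * (a⁻¹ ^ n * x) := by rw [pow_succ', mul_assoc]
          _ = (a⁻¹ * c ^ n) * (x * a⁻¹ ^ n) := by simp only [ih, mul_assoc]
          _ = c ^ n * ((a⁻¹ * x) * a⁻¹ ^ n) := by rw [← (hca.pow_left n).eq]; group
          _ = c ^ n * ((c * (x * a⁻¹)) * a⁻¹ ^ n) := by rw [hc, commutatorElement_def]; group
          _ = c ^ (n + 1) * (x * a⁻¹ ^ (n + 1)) := by rw [pow_succ, pow_succ' a⁻¹]; group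
    have hcp : c ^ p = 1 := by
      have h := hiter p
      rw [hap, one_mul, mul_one] at h
      exact mul_eq_right.mp h.symm
    show (b⁻¹ * a * b * a⁻¹) ^ p = 1
    rw [H11.mul_pow_of_commutator_central (x := x) (y := a⁻¹) (c := c)
      (by rw [hc, commutatorElement_def]; group) hcx hca p, hap]
    have hxp : x ^ p = 1 := by
      rw [hx, show b⁻¹ * a * b = MulAut.conj b⁻¹ a by simp, ← map_pow, ha.2, map_one]
    obtain ⟨j, hj⟩ : p ∣ p.choose 2 := (Fact.out : p.Prime).dvd_choose_self (by omega)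
      (lt_of_le_of_ne (Fact.out : p.Prime).two_le (Ne.symm hp))
    rw [hxp, hj, pow_mul, hcp, one_pow, one_mul, one_mul]
  set Kp := ((A ⊓ A').subgroupOf T) with hKp
  haveI : Kp.Normal := ⟨fun n hn g => by
    have e : g * n * g⁻¹ = n := by
      apply Subtype.ext
      have hc : (g : G) * n = n * g :=
        congrArg Subtype.val (hE.is_comm.comm (⟨g, g.2.1⟩ : ↥(H11.repA b A)) ⟨n, n.2.1⟩)
      rw [coe_mul, coe_mul, coe_inv, hc, mul_inv_cancel_right]
    exact e.symm ▸ hn⟩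
  let Ψ : ↥(pTorsion p A hA) →* ↥T ⧸ Kp :=
    MonoidHom.mk' (fun a => QuotientGroup.mk ⟨H11.repU b a, hu a a.2⟩) fun x y => by
      rw [← QuotientGroup.mk_mul, QuotientGroup.eq, hKp, mem_subgroupOf]
      simp only [coe_mul, InvMemClass.coe_inv, MulMemClass.mk_mul_mk]
      rw [H11.repU_mul]
      have hv : ⁅(x : G), H11.repU b y⁆ ∈ A ⊓ A' := by
        have e : ⁅(x : G), H11.repU b y⁆ = ⁅(x : G), b⁻¹ * y * b⁆ *
            ((b⁻¹ * y * b) * ⁅(x : G), (y : G)⁻¹⁆ * (b⁻¹ * y * b)⁻¹) := by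
          simp only [commutatorElement_def, H11.repU]; group
        rw [e, commutatorElement_eq_one_iff_mul_comm.mpr (hAc x x.2.1 _ (inv_mem y.2.1))]
        simpa using hK x x.2.1 _ (ht y y.2.1)
      have hv' := inv_mem hv
      have hc2 : Commute ⁅(x : G), H11.repU b y⁆⁻¹ (H11.repU b y) :=
        Commute.mul_right (hA'c _ hv'.2 _ (ht y y.2.1)) (hAc _ hv'.1 _ (inv_mem y.2.1))
      have : (H11.repU b (x : G) * ⁅(x : G), H11.repU b (y : G)⁆ * H11.repU b (y : G))⁻¹ *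
          (H11.repU b (x : G) * H11.repU b (y : G)) =
          (H11.repU b (y : G))⁻¹ * ⁅(x : G), H11.repU b (y : G)⁆⁻¹ * H11.repU b (y : G) := by group
      rw [this, mul_assoc, hc2.eq, inv_mul_cancel_left]
      exact hv'
  have hker : Nat.card Ψ.ker ≤ Nat.card Kp := by
    have hmem : ∀ a : ↥(pTorsion p A hA), a ∈ Ψ.ker → b⁻¹ * (a : G) * b ∈ A := by
      intro a ha
      have h : H11.repU b a ∈ A ⊓ A' :=
        (QuotientGroup.eq_one_iff (N := Kp) ⟨H11.repU b a, hu a a.2⟩).mp ha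
      simpa [H11.repU] using mul_mem h.1 a.2.1
    refine Nat.card_le_card_of_injective (fun a =>
      (⟨⟨b⁻¹ * ((a : ↥(pTorsion p A hA)) : G) * b, ?_, ?_⟩, ?_⟩ : Kp)) ?_
    · exact (le_sup_left : A ⊓ A' ≤ H11.repA b A)
        ⟨hmem a.1 a.2, ht _ (a : ↥(pTorsion p A hA)).2.1⟩
    · rw [show b⁻¹ * ((a : ↥(pTorsion p A hA)) : G) * b =
        MulAut.conj b⁻¹ ((a : ↥(pTorsion p A hA)) : G) by simp, ← map_pow,
        (a : ↥(pTorsion p A hA)).2.2, map_one]
    · exact ⟨hmem a.1 a.2, ht _ (a : ↥(pTorsion p A hA)).2.1⟩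
    · intro x y h
      have := congrArg (fun t : Kp => ((t : ↥T) : G)) h
      simp only [mul_left_inj, mul_right_inj] at this
      exact Subtype.ext (Subtype.ext this)
  have h1 := card_eq_card_quotient_mul_card_subgroup Ψ.ker
  have h2 := card_eq_card_quotient_mul_card_subgroup Kp
  have h3 : Nat.card (↥(pTorsion p A hA) ⧸ Ψ.ker) ≤ Nat.card (↥T ⧸ Kp) := by
    rw [Nat.card_congr (QuotientGroup.quotientKerEquivRange Ψ).toEquiv]
    exact card_le_card_group Ψ.range
  rw [h1, h2]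
  exact Nat.mul_le_mul h3 hker

end H79
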