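import Cfsg.Agent.H79.SL2FpfModule

/-!
Decomposition of fixed-point-free `SL₂(2ⁿ)`-modules into natural modules, the vanishing of
equivariant pairings, and the non-existence of homocyclic extensions.
-/

set_option autoImplicit false
set_option linter.unusedSectionVars false
set_option linter.style.haveILetI false

namespace H79.SL2Fpf

open Matrix

universe u v

variable {K : Type u} [Field K] [CharP K 2]

/-- The natural images generate. -/
theorem mem_natSup [Finite K] (hK : 4 ≤ Nat.card K) : ∀ (N : ℕ) (V : Type v) [AddCommGroup V] [Finite V]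
    (ρ : SpecialLinearGroup (Fin 2) K →* AddMonoid.End V), Nat.card V ≤ N → (∀ v : V, v + v = 0) → Fpf ρ →
    ∀ v : V, v ∈ ⨆ (Ψ : {Ψ : (Fin 2 → K) →+ V // IsNat ρ Ψ}), Ψ.1.range := by
  intro N
  induction N with
  | zero =>
    intro V _ _ ρ h
    have := Nat.card_pos (α := V)
    omega
  | succ N ih =>
    intro V _ _ ρ hN h2 hf v₁
    classical
    set L := ⨆ (Ψ : {Ψ : (Fin 2 → K) →+ V // IsNat ρ Ψ}), Ψ.1.range with hL
    by_cases hV : ∀ v : V, v = 0
    · rw [hV v₁]; exact zero_mem _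
    push Not at hV
    obtain ⟨v, hv⟩ := hV
    letI : MulAction (Multiplicative K) V :=
      { smul := fun c w => ρ (uu (Multiplicative.toAdd c)) w
        mul_smul := fun c d w => by
          show ρ (uu (Multiplicative.toAdd c + Multiplicative.toAdd d)) w = _
          rw [uu_add, act_mul]; rfl
        one_smul := fun w => by
          show ρ (uu 0) w = w
          rw [uu_zero, act_one] }
    have hKp : IsPGroup 2 (Multiplicative K) := fun c => ⟨1, by
      rw [pow_one, pow_two]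
      exact CharTwo.add_self_eq_zero (Multiplicative.toAdd c)⟩
    haveI : Fact (Nat.Prime 2) := ⟨Nat.prime_two⟩
    have hdvd : 2 ∣ Nat.card V := by
      have ho : addOrderOf v = 2 := addOrderOf_eq_prime (by rw [two_nsmul, h2]) hv
      exact ho ▸ addOrderOf_dvd_natCard v
    obtain ⟨w, hw, hw0⟩ := hKp.exists_fixed_point_of_prime_dvd_card_of_fixed_point V hdvd
      (a := (0 : V)) (fun c => map_zero (ρ (uu (Multiplicative.toAdd c))))
    obtain ⟨Ψ, hΨ, hΨw⟩ := exists_nat ρ h2 hf w (fun c => hw (Multiplicative.ofAdd c))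
    have hΨ0 : Ψ ≠ 0 := fun h => hw0 (by rw [← hΨw, h]; rfl)
    have hinj := hΨ.injective ρ hΨ0
    set M := Ψ.range with hM
    have hML : M ≤ L := le_iSup (fun Φ : {Φ : (Fin 2 → K) →+ V // IsNat ρ Φ} => Φ.1.range) ⟨Ψ, hΨ⟩
    have hinv : ∀ g, M ≤ M.comap (ρ g : V →+ V) := by
      rintro g _ ⟨e, rfl⟩
      exact ⟨_, (hΨ g e).symm⟩
    let π := QuotientAddGroup.mk' M
    let ρ' : SpecialLinearGroup (Fin 2) K →* AddMonoid.End (V ⧸ M) :=
      { toFun := fun g => QuotientAddGroup.map M M (ρ g : V →+ V) (hinv g)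
        map_one' := by
          refine AddMonoidHom.ext fun y => ?_
          obtain ⟨x, rfl⟩ := QuotientAddGroup.mk'_surjective M y
          show π (ρ 1 x) = π x
          rw [act_one]
        map_mul' := fun g h => by
          refine AddMonoidHom.ext fun y => ?_
          obtain ⟨x, rfl⟩ := QuotientAddGroup.mk'_surjective M y
          show π (ρ (g * h) x) = π (ρ g (ρ h x))
          rw [act_mul] }
    have hρ' : ∀ g x, ρ' g (π x) = π (ρ g x) := fun g x => rfl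
    have h2' : ∀ x : V ⧸ M, x + x = 0 := by
      intro x
      obtain ⟨x, rfl⟩ := QuotientAddGroup.mk'_surjective M x
      rw [← map_add, h2, map_zero]
    have hf' : Fpf ρ' := by
      intro g hg x
      obtain ⟨x, rfl⟩ := QuotientAddGroup.mk'_surjective M x
      rw [hρ', hρ', ← map_add, ← map_add, hf g hg, map_zero]
    have hcard : Nat.card (V ⧸ M) ≤ N := by
      haveI : Nontrivial M := ⟨⟨⟨w, ![1, 0], hΨw⟩, 0, fun h => hw0 (congrArg Subtype.val h).symm⟩⟩
      have h1 : Nat.card V = Nat.card (V ⧸ M) * Nat.card M := AddSubgroup.card_eq_card_quotient_mul_card_addSubgroup M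
      have h3 : 1 < Nat.card M := Finite.one_lt_card
      have h4 : 0 < Nat.card (V ⧸ M) := Nat.card_pos
      nlinarith
    have hall := ih (V ⧸ M) ρ' hcard h2' hf'
    suffices hle : (⨆ Φ : {Φ : (Fin 2 → K) →+ V ⧸ M // IsNat ρ' Φ}, Φ.1.range) ≤ L.map π by
      obtain ⟨l, hl, hlv⟩ := hle (hall (π v₁))
      have : -l + v₁ ∈ M := QuotientAddGroup.eq.mp hlv
      simpa using add_mem hl (hML this)
    refine iSup_le fun ⟨Φ, hΦ⟩ => ?_
    choose σ hσ using fun e => QuotientAddGroup.mk'_surjective M (Φ e)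
    have hmem : ∀ a b : V, π a = π b → a - b ∈ M := fun a b h => by
      rw [← QuotientAddGroup.eq_zero_iff]
      show π (a - b) = 0
      rw [map_sub, h, sub_self]
    obtain ⟨x, hx, hx1⟩ := exists_lift ρ hK h2 hf hΨ hinj σ
      (fun e d => hmem _ _ (by rw [hσ, map_add Φ, map_add, hσ, hσ]))
      (fun g e => hmem _ _ (by rw [← hρ', hσ, hσ, hΦ]))
    obtain ⟨Θ, hΘ, hΘx⟩ := exists_nat ρ h2 hf x hx
    have hπx : π x = Φ ![1, 0] := by
      rw [← hσ]
      exact (sub_eq_zero.mp (by rw [← map_sub]; exact (QuotientAddGroup.eq_zero_iff _).mpr hx1))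
    rintro _ ⟨e, rfl⟩
    refine ⟨Θ e, le_iSup (fun Φ : {Φ : (Fin 2 → K) →+ V // IsNat ρ Φ} => Φ.1.range) ⟨Θ, hΘ⟩ ⟨e, rfl⟩, ?_⟩
    by_cases he : e = 0
    · simp [he]
    obtain ⟨g, rfl⟩ := exists_move e he
    rw [← hΘ, ← hρ', hΘx, hπx, hΦ]

variable {V : Type v} [AddCommGroup V] (ρ : SpecialLinearGroup (Fin 2) K →* AddMonoid.End V)

/-- A fixed-point-free module is a direct sum of natural modules. -/
theorem exists_decomp [Finite K] [Finite V] (hK : 4 ≤ Nat.card K) (h2 : ∀ v : V, v + v = 0)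
    (hf : Fpf ρ) :
    ∃ (k : ℕ) (Ψ : Fin k → (Fin 2 → K) →+ V), (∀ i, IsNat ρ (Ψ i) ∧ Function.Injective (Ψ i)) ∧
      iSupIndep (fun i => (Ψ i).range) ∧ ⨆ i, (Ψ i).range = ⊤ := by
  classical
  haveI : Finite {Ψ : (Fin 2 → K) →+ V // IsNat ρ Ψ} :=
    Finite.of_injective (fun Ψ => (Ψ.1 : (Fin 2 → K) → V))
      (fun a b h => Subtype.ext (DFunLike.coe_injective h))
  let P : ℕ → Prop := fun k => ∃ Ψ : Fin k → (Fin 2 → K) →+ V,
    (∀ i, IsNat ρ (Ψ i) ∧ Function.Injective (Ψ i)) ∧ ⨆ i, (Ψ i).range = ⊤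
  have hex : ∃ k, P k := by
    let A := {Ψ : {Ψ : (Fin 2 → K) →+ V // IsNat ρ Ψ} // Ψ.1 ≠ 0}
    let eq := (Finite.equivFin A).symm
    refine ⟨Nat.card A, fun i => (eq i).1.1, fun i => ⟨(eq i).1.2, (eq i).1.2.injective ρ (eq i).2⟩, ?_⟩
    refine eq_top_iff.mpr fun v _ => ?_
    refine (iSup_le fun Ψ => ?_ : _ ≤ ⨆ i, ((eq i).1.1).range) (mem_natSup hK _ V ρ le_rfl h2 hf v)
    by_cases h0 : Ψ.1 = 0
    · rw [h0]; rintro _ ⟨e, rfl⟩; exact zero_mem _
    · refine le_trans (le_of_eq ?_) (le_iSup (fun i => ((eq i).1.1).range) (eq.symm ⟨Ψ, h0⟩))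
      rw [eq.apply_symm_apply]
  obtain ⟨Ψ, hΨ, htop⟩ := Nat.find_spec hex
  refine ⟨Nat.find hex, Ψ, hΨ, ?_, htop⟩
  intro i
  rw [disjoint_iff]
  by_contra hne
  set R := ⨆ j ≠ i, (Ψ j).range with hR
  obtain ⟨⟨x, hx⟩, hx0⟩ := exists_ne_zero_of_ne_bot (α := V) hne
  obtain ⟨⟨e, rfl⟩, hxR⟩ := hx
  have he : e ≠ 0 := fun h => hx0 (Subtype.ext (by simp [h]))
  have hRinv : ∀ g, R ≤ R.comap (ρ g : V →+ V) := by
    intro g
    refine iSup₂_le fun j hj => ?_
    rintro _ ⟨d, rfl⟩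
    show ρ g (Ψ j d) ∈ R
    rw [(hΨ j).1]
    exact le_iSup₂ (f := fun j _ => (Ψ j).range) j hj ⟨_, rfl⟩
  have hle : (Ψ i).range ≤ R := by
    rintro _ ⟨d, rfl⟩
    by_cases hd : d = 0
    · simp [hd]
    obtain ⟨g, hg⟩ := exists_move e he
    obtain ⟨g', hg'⟩ := exists_move d hd
    have hd' : d = ((g' * g⁻¹ : SpecialLinearGroup (Fin 2) K) : Matrix (Fin 2) (Fin 2) K) *ᵥ e := by
      rw [← hg, mv_mul, inv_mul_cancel_right, hg']
    rw [hd', ← (hΨ i).1]
    exact hRinv _ hxR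
  have hRtop : R = ⊤ := by
    refine eq_top_iff.mpr (htop ▸ iSup_le fun j => ?_)
    by_cases hj : j = i
    · exact hj ▸ hle
    · exact le_iSup₂ (f := fun j _ => (Ψ j).range) j hj
  obtain ⟨m, hm⟩ : ∃ m, Nat.find hex = m + 1 := ⟨Nat.find hex - 1, by have := i.pos; omega⟩
  refine Nat.find_min hex (show m < Nat.find hex by omega)
    ⟨fun j => Ψ (Fin.cast hm.symm ((Fin.cast hm i).succAbove j)), fun j => hΨ _, ?_⟩
  refine eq_top_iff.mpr (hRtop ▸ iSup₂_le fun j hj => ?_)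
  obtain ⟨j', hj'⟩ := Fin.exists_succAbove_eq (x := Fin.cast hm j) (y := Fin.cast hm i)
    (fun h => hj (Fin.cast_injective _ h))
  refine le_trans (le_of_eq ?_) (le_iSup (fun j => (Ψ (Fin.cast hm.symm ((Fin.cast hm i).succAbove j))).range) j')
  rw [hj']
  congr 2
where
  exists_ne_zero_of_ne_bot {α : Type v} [AddCommGroup α] {S : AddSubgroup α} (h : S ≠ ⊥) :
      ∃ x : S, x ≠ 0 := by
    obtain ⟨x, hx, hx0⟩ := (S.bot_or_exists_ne_zero).resolve_left h
    exact ⟨⟨x, hx⟩, fun h => hx0 (congrArg Subtype.val h)⟩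

/-- No equivariant pairing of natural modules into a fixed-point-free module. -/
theorem pairing_eq_zero (hK : ∃ a : K, a ≠ 0 ∧ a ≠ 1) (h2 : ∀ v : V, v + v = 0) (hf : Fpf ρ)
    (β : (Fin 2 → K) → (Fin 2 → K) → V)
    (hl : ∀ e d w, β (e + d) w = β e w + β d w) (hr : ∀ e d w, β e (d + w) = β e d + β e w)
    (heq : ∀ (g : SpecialLinearGroup (Fin 2) K) e d, ρ g (β e d) =
      β ((g : Matrix (Fin 2) (Fin 2) K) *ᵥ e) ((g : Matrix (Fin 2) (Fin 2) K) *ᵥ d)) :
    ∀ e d, β e d = 0 := by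
  have hmove : ∀ g : SpecialLinearGroup (Fin 2) K, (g : Matrix (Fin 2) (Fin 2) K).trace = 1 → ∀ e d,
      β ((g : Matrix (Fin 2) (Fin 2) K) *ᵥ e) d = β e ((g : Matrix (Fin 2) (Fin 2) K) *ᵥ d) := by
    intro g hg e d
    have h := hf g hg (β e d)
    have hgg : ∀ w : Fin 2 → K, (g : Matrix (Fin 2) (Fin 2) K) *ᵥ ((g : Matrix (Fin 2) (Fin 2) K) *ᵥ w) =
        (g : Matrix (Fin 2) (Fin 2) K) *ᵥ w + w := by
      intro w
      have hd := g.prop
      rw [Matrix.det_fin_two] at hd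
      rw [Matrix.trace_fin_two] at hg
      ext i
      fin_cases i <;> simp [Matrix.mulVec, dotProduct, Fin.sum_univ_two]
      · linear_combination ((g : Matrix (Fin 2) (Fin 2) K) 0 0 * w 0 + (g : Matrix (Fin 2) (Fin 2) K) 0 1 * w 1) * hg
          - w 0 * hd - w 0 * (CharTwo.two_eq_zero : (2 : K) = 0)
      · linear_combination ((g : Matrix (Fin 2) (Fin 2) K) 1 0 * w 0 + (g : Matrix (Fin 2) (Fin 2) K) 1 1 * w 1) * hg
          - w 1 * hd - w 1 * (CharTwo.two_eq_zero : (2 : K) = 0)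
    rw [heq, heq, hgg, hgg, hl, hr, hr] at h
    set ge := (g : Matrix (Fin 2) (Fin 2) K) *ᵥ e
    set gd := (g : Matrix (Fin 2) (Fin 2) K) *ᵥ d
    calc β ge d = β ge d + (β e gd + β e gd) + (β e d + β e d) + (β ge gd + β ge gd) := by
          rw [h2, h2, h2]; simp
      _ = β e gd + (β e d + β ge gd + (β ge gd + β ge d + (β e gd + β e d))) := by abel
      _ = β e gd := by rw [h, add_zero]
  obtain ⟨a, ha0, ha1⟩ := hK
  let A : SpecialLinearGroup (Fin 2) K := ⟨!![0, 1; 1, 1], by simp [det_fin_two, CharTwo.neg_eq]⟩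
  let B : SpecialLinearGroup (Fin 2) K := ⟨!![0, a; a⁻¹, 1], by simp [det_fin_two, ha0, CharTwo.neg_eq]⟩
  have hA : (A : Matrix (Fin 2) (Fin 2) K).trace = 1 := by
    show (!![0, (1 : K); 1, 1]).trace = 1
    simp [Matrix.trace_fin_two]
  have hB : (B : Matrix (Fin 2) (Fin 2) K).trace = 1 := by
    show (!![0, a; a⁻¹, 1]).trace = 1
    simp [Matrix.trace_fin_two]
  have hr0 : ∀ e, β e 0 = 0 := fun e => by
    have h := hr e 0 0
    rwa [add_zero, left_eq_add] at h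
  set C := A * B * A⁻¹ with hC
  have hCtr : (C : Matrix (Fin 2) (Fin 2) K).trace = 1 := by
    show ((A : Matrix (Fin 2) (Fin 2) K) * (B : Matrix (Fin 2) (Fin 2) K) *
      ((A⁻¹ : SpecialLinearGroup (Fin 2) K) : Matrix (Fin 2) (Fin 2) K)).trace = 1
    rw [Matrix.trace_mul_comm, ← Matrix.mul_assoc]
    show ((A⁻¹ * A * B : SpecialLinearGroup (Fin 2) K) : Matrix (Fin 2) (Fin 2) K).trace = 1
    rw [inv_mul_cancel, one_mul]
    exact hB
  -- the kernel
  have hker : ∀ e d, β e ((B : Matrix (Fin 2) (Fin 2) K) *ᵥ ((A : Matrix (Fin 2) (Fin 2) K) *ᵥ d) +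
      (A : Matrix (Fin 2) (Fin 2) K) *ᵥ ((C : Matrix (Fin 2) (Fin 2) K) *ᵥ d)) = 0 := by
    intro e d
    have h1 : (C : Matrix (Fin 2) (Fin 2) K) *ᵥ ((A : Matrix (Fin 2) (Fin 2) K) *ᵥ e) =
        (A : Matrix (Fin 2) (Fin 2) K) *ᵥ ((B : Matrix (Fin 2) (Fin 2) K) *ᵥ e) := by
      rw [mv_mul, mv_mul, hC, inv_mul_cancel_right]
    rw [hr, ← hmove B hB, ← hmove A hA, ← hmove A hA e, ← hmove C hCtr, h1]
    exact h2 _
  have hAinv : ∀ w : Fin 2 → K, ((A⁻¹ : SpecialLinearGroup (Fin 2) K) : Matrix (Fin 2) (Fin 2) K) *ᵥ w =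
      !![(1 : K), 1; 1, 0] *ᵥ w := by
    intro w
    have h : (A : Matrix (Fin 2) (Fin 2) K) *ᵥ (!![(1 : K), 1; 1, 0] *ᵥ w) = w := by
      show !![0, (1 : K); 1, 1] *ᵥ (!![(1 : K), 1; 1, 0] *ᵥ w) = w
      rw [Matrix.mulVec_mulVec, Matrix.mul_fin_two]
      ext i; fin_cases i <;> simp [Matrix.mulVec, dotProduct, Fin.sum_univ_two, CharTwo.add_self_eq_zero]
    conv_lhs => rw [← h]
    rw [mv_mul, inv_mul_cancel, mv_one]
  set x := (B : Matrix (Fin 2) (Fin 2) K) *ᵥ ((A : Matrix (Fin 2) (Fin 2) K) *ᵥ ![0, 1]) +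
      (A : Matrix (Fin 2) (Fin 2) K) *ᵥ ((C : Matrix (Fin 2) (Fin 2) K) *ᵥ ![0, 1]) with hx
  have hx1 : x 1 = a⁻¹ + 1 := by
    rw [hx, hC, ← mv_mul, hAinv, ← mv_mul]
    show ((!![0, a; a⁻¹, 1]) *ᵥ ((!![0, (1 : K); 1, 1]) *ᵥ ![0, 1]) +
      (!![0, (1 : K); 1, 1]) *ᵥ ((!![0, (1 : K); 1, 1]) *ᵥ ((!![0, a; a⁻¹, 1]) *ᵥ
        ((!![(1 : K), 1; 1, 0]) *ᵥ ![0, 1])))) 1 = a⁻¹ + 1
    simp [Matrix.mulVec, dotProduct, Fin.sum_univ_two, CharTwo.add_self_eq_zero]
  have hxne : x ≠ 0 := fun h => ha1 (by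
    rw [h, Pi.zero_apply] at hx1
    have := CharTwo.add_eq_zero.mp hx1.symm
    rwa [inv_eq_one] at this)
  intro e d
  by_cases he : d = 0
  · rw [he, hr0]
  obtain ⟨g, hg⟩ := exists_move x hxne
  obtain ⟨g', hg'⟩ := exists_move d he
  set h := g' * g⁻¹ with hh
  have he' : d = (h : Matrix (Fin 2) (Fin 2) K) *ᵥ x := by
    rw [← hg, mv_mul, hh, inv_mul_cancel_right, hg']
  have hd : e = (h : Matrix (Fin 2) (Fin 2) K) *ᵥ (((h⁻¹ : SpecialLinearGroup (Fin 2) K) : Matrix (Fin 2) (Fin 2) K) *ᵥ e) := by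
    rw [mv_mul, mul_inv_cancel, mv_one]
  rw [he', hd, ← heq, hker, map_zero]

/-- There is no homocyclic extension of a natural module by itself. -/
theorem square_false [Finite K] (hK : 4 ≤ Nat.card K) {Ψ : (Fin 2 → K) →+ V} (hΨ : IsNat ρ Ψ)
    (hinj : Function.Injective Ψ) (σ : (Fin 2 → K) → V)
    (hσadd : ∀ e d, σ (e + d) - (σ e + σ d) ∈ Ψ.range)
    (hσeq : ∀ (g : SpecialLinearGroup (Fin 2) K) e,
      ρ g (σ e) - σ ((g : Matrix (Fin 2) (Fin 2) K) *ᵥ e) ∈ Ψ.range)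
    (hσ2 : ∀ e, σ e + σ e = Ψ e) : False := by
  classical
  haveI := Fintype.ofFinite K
  set M := Ψ.range with hM
  have h2K : ∀ a : K, a + a = 0 := CharTwo.add_self_eq_zero
  have h2e : ∀ e : Fin 2 → K, e + e = 0 := fun e => funext fun i => h2K (e i)
  have h2M : ∀ m ∈ M, m + m = 0 := by
    rintro _ ⟨e, rfl⟩
    rw [← map_add, h2e, map_zero]
  let T : K → V →+ V := fun c => AddMonoidHom.mk' (fun v => ρ (uu c) v - v)
    (fun v w => by simp only [map_add]; abel)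
  have Tdef : ∀ c v, T c v = ρ (uu c) v - v := fun _ _ => rfl
  have TΨ : ∀ c e, T c (Ψ e) = Ψ ![c * e 1, 0] := fun c e => by rw [Tdef, hΨ.uu, add_sub_cancel_left]
  have hTσ : ∀ c e, T c (σ e) - σ ![c * e 1, 0] ∈ M := by
    intro c e
    have h1 := hσeq (uu c) e
    have h3 := hσadd e ![c * e 1, 0]
    rw [uu_mulVec] at h1
    have h4 := add_mem h1 h3
    have h5 : T c (σ e) - σ ![c * e 1, 0] =
        ρ (uu c) (σ e) - σ (e + ![c * e 1, 0]) + (σ (e + ![c * e 1, 0]) - (σ e + σ ![c * e 1, 0])) := by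
      rw [Tdef]; abel
    rw [h5]
    exact h4
  have hTT : ∀ c v, T c (T c v) = - (T c v + T c v) := fun c v => by
    simp only [Tdef, map_sub, ← act_mul, uu_mul_self, act_one]
    abel
  have hcm : ∀ c d v, T c (T d v) = T d (T c v) := fun c d v => by
    simp only [Tdef, map_sub, ← act_mul, ← uu_add, add_comm c d]
    abel
  let P : K → V := fun x => ρ (uu 1) (σ ![0, x]) + σ ![0, x]
  have hP : ∀ x, P x - σ ![x, 0] ∈ M := by
    intro x
    have h1 : T 1 (σ ![0, x]) - σ ![x, 0] ∈ M := by simpa using hTσ 1 ![0, x]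
    have h3 : σ ![0, x] + σ ![0, x] ∈ M := hσ2 _ ▸ ⟨_, rfl⟩
    have h4 := add_mem h1 h3
    rwa [Tdef, show ρ (uu 1) (σ ![0, x]) - σ ![0, x] - σ ![x, 0] + (σ ![0, x] + σ ![0, x]) =
      P x - σ ![x, 0] by simp only [P]; abel] at h4
  have T1P : ∀ x, T 1 (P x) = 0 := fun x => by
    simp only [P, Tdef, map_add, ← act_mul, uu_mul_self, act_one]
    abel
  have h2P : ∀ x, P x + P x = Ψ ![x, 0] := fun x => by
    have h := h2M _ (hP x)
    rw [← hσ2]
    calc P x + P x = (P x - σ ![x, 0] + (P x - σ ![x, 0])) + (σ ![x, 0] + σ ![x, 0]) := by abel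
      _ = _ := by rw [h, zero_add]
  clear_value P
  have hz : σ (0 : Fin 2 → K) ∈ M := by
    have h := hσadd 0 0
    rw [add_zero, sub_add_cancel_left] at h
    simpa using neg_mem h
  have hTP : ∀ c x, ∃ d : K, T c (P x) = Ψ ![d, 0] := by
    intro c x
    obtain ⟨m, hm⟩ := hP x
    have h1 : T c (σ ![x, 0]) ∈ M := by
      have h := hTσ c ![x, 0]
      rw [show (![c * ![x, 0] 1, 0] : Fin 2 → K) = 0 by simp] at h
      simpa using add_mem h hz
    have h3 : T c (P x) ∈ M := by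
      rw [show P x = Ψ m + σ ![x, 0] by rw [hm, sub_add_cancel], map_add, TΨ]
      exact add_mem ⟨_, rfl⟩ h1
    obtain ⟨d, hd⟩ := h3
    have h5 : T 1 (T c (P x)) = 0 := by rw [hcm, T1P, map_zero]
    rw [← hd, TΨ, one_mul] at h5
    have hd1 : d 1 = 0 := by simpa using congrFun (hinj (h5.trans (map_zero Ψ).symm)) 0
    exact ⟨d 0, by rw [← hd]; congr 1; ext i; fin_cases i <;> simp [hd1]⟩
  choose δ hδ using hTP
  have inj0 : ∀ {a b : K}, Ψ ![a, 0] = Ψ ![b, 0] → a = b := fun h => by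
    simpa using congrFun (hinj h) 0
  obtain ⟨c, -, hc⟩ : ∃ c ∈ (Finset.univ : Finset K), c ∉ ({0, 1} : Finset K) := by
    by_contra! hall
    have h3 := Finset.card_le_card (fun x hx => hall x hx : (Finset.univ : Finset K) ⊆ {0, 1})
    have h4 : ({0, 1} : Finset K).card ≤ 2 := Finset.card_le_two
    rw [Finset.card_univ, ← Nat.card_eq_fintype_card] at h3
    omega
  simp only [Finset.mem_insert, Finset.mem_singleton, not_or] at hc
  have δ_add : ∀ x y, δ c (x + y) = δ c x + δ c y := by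
    intro x y
    have hmem : P (x + y) - (P x + P y) ∈ M := by
      have h1 := sub_mem (hP (x + y)) (add_mem (hP x) (hP y))
      have h3 := hσadd ![x, 0] ![y, 0]
      rw [show (![x, 0] + ![y, 0] : Fin 2 → K) = ![x + y, 0] by simp] at h3
      have h4 := add_mem h1 h3
      rwa [show P (x + y) - σ ![x + y, 0] - (P x - σ ![x, 0] + (P y - σ ![y, 0])) +
        (σ ![x + y, 0] - (σ ![x, 0] + σ ![y, 0])) = P (x + y) - (P x + P y) by abel] at h4
    obtain ⟨d, hd⟩ := hmem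
    have h5 : T 1 (Ψ d) = 0 := by rw [hd, map_sub, map_add, T1P, T1P, T1P]; simp
    rw [TΨ, one_mul] at h5
    have hd1 : d 1 = 0 := by simpa using congrFun (hinj (h5.trans (map_zero Ψ).symm)) 0
    apply inj0
    have e : P (x + y) = Ψ d + (P x + P y) := by rw [hd, sub_add_cancel]
    rw [← hδ, e, map_add, map_add, TΨ, hδ, hδ, hd1, mul_zero, ← map_add, ← map_add]
    congr 1; ext i; fin_cases i <;> simp
  have hTQ : ∀ b y, ∃ e, T b (σ ![0, y]) = P (b * y) + Ψ e := by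
    intro b y
    have h1 := hTσ b ![0, y]
    rw [show (![b * ![0, y] 1, 0] : Fin 2 → K) = ![b * y, 0] by simp] at h1
    obtain ⟨e, he⟩ := sub_mem h1 (hP (b * y))
    refine ⟨e, ?_⟩
    rw [he]; abel
  have hmain : ∀ y, δ c (c * y) + c * δ c y = (c + c * c) * y := by
    intro y
    obtain ⟨f, hf⟩ := hTQ 1 y
    obtain ⟨e, he⟩ := hTQ c y
    rw [one_mul] at hf
    have neg2 : ∀ b m, -(P b + Ψ m + (P b + Ψ m)) = Ψ ![b, 0] := fun b m => by
      have h := h2M (Ψ m) ⟨m, rfl⟩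
      rw [show -(P b + Ψ m + (P b + Ψ m)) = -((P b + P b) + (Ψ m + Ψ m)) by abel, h, add_zero, h2P,
        neg_eq_of_add_eq_zero_left]
      exact h2M _ ⟨_, rfl⟩
    have hf1 : f 1 = y := by
      have h := hTT 1 (σ ![0, y])
      rw [hf, neg2, map_add, T1P, zero_add, TΨ, one_mul] at h
      exact inj0 h
    have he1 : e 1 = δ c y + c * y := by
      have h := hcm 1 c (σ ![0, y])
      rw [he, hf, map_add, map_add, T1P, zero_add, TΨ, TΨ, one_mul, hδ, hf1, ← map_add] at h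
      simpa using congrFun (hinj h) 0
    have h := hTT c (σ ![0, y])
    rw [he, neg2, map_add, hδ, TΨ, he1, ← map_add] at h
    have h' : δ c (c * y) + c * (δ c y + c * y) = c * y := by simpa using congrFun (hinj h) 0
    linear_combination h' - (c * c * y) * (CharTwo.two_eq_zero : (2 : K) = 0)
  -- the trace
  letI : Algebra (ZMod 2) K := ZMod.algebra K 2
  let D : Module.End (ZMod 2) K := (AddMonoidHom.mk' (δ c) δ_add).toZModLinearMap 2
  let m : K → Module.End (ZMod 2) K := fun a => Algebra.lmul (ZMod 2) K a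
  set s := c + c * c with hs
  have hs0 : s ≠ 0 := by
    rw [hs, show c + c * c = c * (1 + c) by ring]
    exact mul_ne_zero hc.1 fun h => hc.2 (CharTwo.add_eq_zero.mp h).symm
  have hop : D * m c + m c * D = m s := by
    refine LinearMap.ext fun y => ?_
    show δ c (c * y) + c * δ c y = s * y
    exact hmain y
  have htr : ∀ z : K, Algebra.trace (ZMod 2) K (s * z) = 0 := by
    intro z
    have hmm : ∀ a b : K, m a * m b = m (a * b) := fun a b => (map_mul (Algebra.lmul (ZMod 2) K) a b).symm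
    have h : LinearMap.trace (ZMod 2) K (m s * m z) = 0 := by
      rw [← hop, add_mul, map_add, mul_assoc (m c) D (m z), LinearMap.trace_mul_comm (ZMod 2) (m c),
        mul_assoc, mul_assoc, hmm, hmm, mul_comm z c]
      exact CharTwo.add_self_eq_zero _
    rw [Algebra.trace_apply]
    rwa [hmm] at h
  obtain ⟨t, ht⟩ := Algebra.trace_surjective (ZMod 2) K 1
  have := htr (t / s)
  rw [mul_div_cancel₀ _ hs0, ht] at this
  exact one_ne_zero this

end H79.SL2Fpf
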