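import Cfsg.Agent.H40.TwoByTwo
import Mathlib

/-!
Modules for `SL₂(2ⁿ)` on which the elements of trace `1` (those of order three) act without fixed
points: they are sums of natural modules.
-/

set_option autoImplicit false
set_option linter.unusedSectionVars false

namespace H79.SL2Fpf

open Matrix

variable {K : Type*} [Field K] [CharP K 2]

/-- Upper unitriangular elements. -/
def uu (c : K) : SpecialLinearGroup (Fin 2) K := ⟨!![1, c; 0, 1], by simp [det_fin_two]⟩

/-- Lower unitriangular elements. -/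
def ll (c : K) : SpecialLinearGroup (Fin 2) K := ⟨!![1, 0; c, 1], by simp [det_fin_two]⟩

/-- Monomial elements. -/
def ww (a : K) (ha : a ≠ 0) : SpecialLinearGroup (Fin 2) K :=
  ⟨!![0, a; a⁻¹, 0], by simp [det_fin_two, ha, CharTwo.neg_eq]⟩

theorem uu_add (c d : K) : uu (c + d) = uu c * uu d := by
  apply Subtype.ext
  show !![1, c + d; 0, 1] = !![1, c; 0, 1] * !![1, d; 0, 1]
  simp [Matrix.mul_fin_two, add_comm]

theorem uu_zero : uu (0 : K) = 1 := by
  apply Subtype.ext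
  simp [uu, Matrix.one_fin_two]

theorem uu_mul_self (c : K) : uu c * uu c = 1 := by
  rw [← uu_add, CharTwo.add_self_eq_zero, uu_zero]

theorem ll_mul_self (c : K) : ll c * ll c = 1 := by
  apply Subtype.ext
  show !![1, 0; c, 1] * !![1, 0; c, 1] = (1 : Matrix (Fin 2) (Fin 2) K)
  simp [Matrix.mul_fin_two, Matrix.one_fin_two, CharTwo.add_self_eq_zero]

theorem ww_uu (a c : K) (ha : a ≠ 0) : ww a ha * uu c = ll (c / (a * a)) * ww a ha := by
  apply Subtype.ext
  show !![0, a; a⁻¹, 0] * !![1, c; 0, 1] = !![1, 0; c / (a * a), 1] * !![0, a; a⁻¹, 0]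
  rw [Matrix.mul_fin_two, Matrix.mul_fin_two]
  ext i j
  fin_cases i <;> fin_cases j <;> simp <;> field_simp

theorem mv_mul (g h : SpecialLinearGroup (Fin 2) K) (e : Fin 2 → K) :
    (g : Matrix (Fin 2) (Fin 2) K) *ᵥ ((h : Matrix (Fin 2) (Fin 2) K) *ᵥ e) =
      ((g * h : SpecialLinearGroup (Fin 2) K) : Matrix (Fin 2) (Fin 2) K) *ᵥ e :=
  Matrix.mulVec_mulVec _ _ _

theorem mv_one (e : Fin 2 → K) :
    ((1 : SpecialLinearGroup (Fin 2) K) : Matrix (Fin 2) (Fin 2) K) *ᵥ e = e :=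
  Matrix.one_mulVec e

variable {V : Type*} [AddCommGroup V] (ρ : SpecialLinearGroup (Fin 2) K →* AddMonoid.End V)

theorem act_mul (g h : SpecialLinearGroup (Fin 2) K) (v : V) : ρ (g * h) v = ρ g (ρ h v) := by
  rw [map_mul]; rfl

theorem act_one (v : V) : ρ 1 v = v := by rw [map_one]; rfl

/-- Elements of trace one satisfy `1 + g + g² = 0`. -/
def Fpf : Prop := ∀ g : SpecialLinearGroup (Fin 2) K,
  (g : Matrix (Fin 2) (Fin 2) K).trace = 1 → ∀ v, v + ρ g v + ρ g (ρ g v) = 0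

/-- An equivariant map from the natural module. -/
def IsNat (Ψ : (Fin 2 → K) →+ V) : Prop :=
  ∀ (g : SpecialLinearGroup (Fin 2) K) (e : Fin 2 → K),
    ρ g (Ψ e) = Ψ ((g : Matrix (Fin 2) (Fin 2) K) *ᵥ e)

theorem uu_mulVec (c : K) (e : Fin 2 → K) :
    (uu c : Matrix (Fin 2) (Fin 2) K) *ᵥ e = e + ![c * e 1, 0] := by
  ext i; fin_cases i <;> simp [uu, Matrix.mulVec, dotProduct, Fin.sum_univ_two]

theorem ww_mulVec (a : K) (ha : a ≠ 0) (e : Fin 2 → K) :
    (ww a ha : Matrix (Fin 2) (Fin 2) K) *ᵥ e = ![a * e 1, a⁻¹ * e 0] := by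
  ext i; fin_cases i <;> simp [ww, Matrix.mulVec, dotProduct, Fin.sum_univ_two]

theorem exists_move (e : Fin 2 → K) (he : e ≠ 0) :
    ∃ g : SpecialLinearGroup (Fin 2) K, (g : Matrix (Fin 2) (Fin 2) K) *ᵥ ![1, 0] = e := by
  by_cases h0 : e 0 = 0
  · have h1 : e 1 ≠ 0 := fun h1 => he (by ext i; fin_cases i <;> assumption)
    refine ⟨⟨!![0, (e 1)⁻¹; e 1, 0], by simp [det_fin_two, h1, CharTwo.neg_eq]⟩, ?_⟩
    ext i; fin_cases i <;> simp [Matrix.mulVec, dotProduct, Fin.sum_univ_two, h0]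
  · refine ⟨⟨!![e 0, 0; e 1, (e 0)⁻¹], by simp [det_fin_two, h0]⟩, ?_⟩
    ext i; fin_cases i <;> simp [Matrix.mulVec, dotProduct, Fin.sum_univ_two]

theorem eq_uu_of_fix {g : SpecialLinearGroup (Fin 2) K}
    (h : (g : Matrix (Fin 2) (Fin 2) K) *ᵥ ![1, 0] = ![1, 0]) : ∃ c, g = uu c := by
  have h0 := congrFun h 0
  have h1 := congrFun h 1
  have hd := g.prop
  simp [Matrix.mulVec, dotProduct, Fin.sum_univ_two] at h0 h1
  rw [det_fin_two, h0, h1, one_mul, mul_zero, sub_zero] at hd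
  refine ⟨(g : Matrix (Fin 2) (Fin 2) K) 0 1, Subtype.ext ?_⟩
  ext i j
  fin_cases i <;> fin_cases j <;> simp [uu, h0, h1, hd]

/-- A vector fixed by the upper root group generates a natural module. -/
theorem exists_nat (h2 : ∀ v : V, v + v = 0) (hf : Fpf ρ) (v : V) (hv : ∀ c, ρ (uu c) v = v) :
    ∃ Ψ : (Fin 2 → K) →+ V, IsNat ρ Ψ ∧ Ψ ![1, 0] = v := by
  classical
  choose γ hγ using exists_move (K := K)
  let f : (Fin 2 → K) → V := fun e => if he : e = 0 then 0 else ρ (γ e he) v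
  have hf0 : f 0 = 0 := dif_pos rfl
  have key : ∀ (g : SpecialLinearGroup (Fin 2) K),
      f ((g : Matrix (Fin 2) (Fin 2) K) *ᵥ ![1, 0]) = ρ g v := by
    intro g
    have hne : (g : Matrix (Fin 2) (Fin 2) K) *ᵥ ![1, 0] ≠ 0 := by
      intro h
      have h' := congrArg (fun w => ((g⁻¹ : SpecialLinearGroup (Fin 2) K) : Matrix (Fin 2) (Fin 2) K) *ᵥ w) h
      simp only [mv_mul, inv_mul_cancel, Matrix.mulVec_zero] at h'
      rw [mv_one] at h'
      simpa using congrFun h' 0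
    simp only [f, dif_neg hne]
    obtain ⟨c, hc⟩ := eq_uu_of_fix (g := g⁻¹ * γ _ hne) (by
      rw [← mv_mul, hγ, mv_mul, inv_mul_cancel, mv_one])
    rw [show γ _ hne = g * uu c by rw [← hc, mul_inv_cancel_left], act_mul, hv]
  have heq : ∀ (g : SpecialLinearGroup (Fin 2) K) (e : Fin 2 → K),
      ρ g (f e) = f ((g : Matrix (Fin 2) (Fin 2) K) *ᵥ e) := by
    intro g e
    by_cases he : e = 0
    · simp [he, hf0]
    · obtain ⟨h, rfl⟩ := exists_move e he
      rw [key, mv_mul, key, act_mul]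
  have hadd₁ : ∀ e d : Fin 2 → K, e 0 * d 1 - e 1 * d 0 ≠ 0 → f (e + d) = f e + f d := by
    intro e d hD
    set D := e 0 * d 1 - e 1 * d 0 with hDdef
    let P : Matrix (Fin 2) (Fin 2) K := !![e 0, d 0; e 1, d 1]
    have hP : P.det = D := by simp [P, det_fin_two, hDdef, mul_comm]
    have hu : IsUnit P.det := by rw [hP]; exact isUnit_iff_ne_zero.mpr hD
    set C : Matrix (Fin 2) (Fin 2) K := H40.comp2 1 1 with hC
    let t : SpecialLinearGroup (Fin 2) K := ⟨P * C * P⁻¹, by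
      rw [det_mul, det_mul, det_nonsing_inv, H40.det_comp2, mul_one, Ring.inverse_eq_inv',
        mul_inv_cancel₀ hu.ne_zero]⟩
    have htr : (t : Matrix (Fin 2) (Fin 2) K).trace = 1 := by
      show (P * C * P⁻¹).trace = 1
      rw [Matrix.trace_mul_comm, ← Matrix.mul_assoc, nonsing_inv_mul P hu, Matrix.one_mul, H40.trace_comp2]
    have hPe : ∀ w : Fin 2 → K, (t : Matrix (Fin 2) (Fin 2) K) *ᵥ (P *ᵥ w) = P *ᵥ (C *ᵥ w) := by
      intro w
      show (P * C * P⁻¹) *ᵥ (P *ᵥ w) = _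
      rw [Matrix.mulVec_mulVec, Matrix.mul_assoc, nonsing_inv_mul P hu, Matrix.mul_one, Matrix.mulVec_mulVec]
    have e1 : P *ᵥ ![1, 0] = e := by
      ext i; fin_cases i <;> simp [P, Matrix.mulVec, dotProduct, Fin.sum_univ_two]
    have e2 : P *ᵥ ![0, 1] = d := by
      ext i; fin_cases i <;> simp [P, Matrix.mulVec, dotProduct, Fin.sum_univ_two]
    have e3 : P *ᵥ ![1, 1] = e + d := by
      ext i; fin_cases i <;> simp [P, Matrix.mulVec, dotProduct, Fin.sum_univ_two]
    have c1 : C *ᵥ ![1, 0] = ![0, 1] := by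
      ext i; fin_cases i <;> simp [hC, H40.comp2, Matrix.mulVec, dotProduct, Fin.sum_univ_two]
    have c2 : C *ᵥ ![0, 1] = ![1, 1] := by
      ext i; fin_cases i <;> simp [hC, H40.comp2, Matrix.mulVec, dotProduct, Fin.sum_univ_two, CharTwo.neg_eq]
    have h := hf t htr (f e)
    have t1 : (t : Matrix (Fin 2) (Fin 2) K) *ᵥ e = d := by rw [← e1, hPe, c1, e2]
    have t2 : (t : Matrix (Fin 2) (Fin 2) K) *ᵥ d = e + d := by rw [← e2, hPe, c2, e3, e2]
    rw [heq, t1, heq, t2] at h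
    calc f (e + d) = f (e + d) + (f e + f d + (f e + f d)) := by rw [h2, add_zero]
      _ = (f e + f d) + (f e + f d + f (e + d)) := by abel
      _ = f e + f d := by rw [h, add_zero]
  have hadd : ∀ e d, f (e + d) = f e + f d := by
    intro e d
    by_cases he : e = 0
    · simp [he, hf0]
    by_cases hd : d = 0
    · simp [hd, hf0]
    by_cases hD : e 0 * d 1 - e 1 * d 0 = 0
    swap
    · exact hadd₁ e d hD
    obtain ⟨w, hw⟩ : ∃ w : Fin 2 → K, e 0 * w 1 - e 1 * w 0 ≠ 0 := by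
      by_cases h0 : e 0 = 0
      · refine ⟨![1, 0], ?_⟩
        have h1 : e 1 ≠ 0 := fun h1 => he (by ext i; fin_cases i <;> assumption)
        simpa using h1
      · exact ⟨![0, 1], by simpa using h0⟩
    have hdw : d 0 * w 1 - d 1 * w 0 ≠ 0 := by
      intro hdw
      obtain ⟨i, hi⟩ : ∃ i, d i ≠ 0 := Function.ne_iff.mp hd
      have k0 : d 0 * (e 0 * w 1 - e 1 * w 0) = 0 := by linear_combination e 0 * hdw + w 0 * hD
      have k1 : d 1 * (e 0 * w 1 - e 1 * w 0) = 0 := by linear_combination e 1 * hdw + w 1 * hD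
      fin_cases i
      · exact hi ((mul_eq_zero.mp k0).resolve_right hw)
      · exact hi ((mul_eq_zero.mp k1).resolve_right hw)
    by_cases hed : e + d = 0
    · have : d = e := by
        rw [add_eq_zero_iff_eq_neg] at hed
        rw [hed]; ext i; simp [CharTwo.neg_eq]
      rw [hed, hf0, this, h2]
    have hedw : (e + d) 0 * w 1 - (e + d) 1 * w 0 ≠ 0 := by
      intro h
      obtain ⟨i, hi⟩ : ∃ i, (e + d) i ≠ 0 := Function.ne_iff.mp hed
      have k0 : (e + d) 0 * (e 0 * w 1 - e 1 * w 0) = 0 := by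
        simp only [Pi.add_apply] at h ⊢
        linear_combination e 0 * h + w 0 * hD
      have k1 : (e + d) 1 * (e 0 * w 1 - e 1 * w 0) = 0 := by
        simp only [Pi.add_apply] at h ⊢
        linear_combination e 1 * h + w 1 * hD
      fin_cases i
      · exact hi ((mul_eq_zero.mp k0).resolve_right hw)
      · exact hi ((mul_eq_zero.mp k1).resolve_right hw)
    have h3 : e 0 * (d + w) 1 - e 1 * (d + w) 0 ≠ 0 := by
      simp only [Pi.add_apply]
      intro h
      exact hw (by linear_combination h - hD)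
    have h4 : f (e + d) + f w = f e + (f d + f w) := by
      rw [← hadd₁ (e + d) w hedw, add_assoc e d w, hadd₁ e (d + w) h3, hadd₁ d w hdw]
    rw [← add_assoc] at h4
    exact add_right_cancel h4
  exact ⟨AddMonoidHom.mk' f hadd, fun g e => heq g e, by
    show f ![1, 0] = v
    rw [← act_one ρ v, ← key 1, mv_one]⟩

/-- An equivariant map from the natural module is injective or zero. -/
theorem IsNat.injective {Ψ : (Fin 2 → K) →+ V} (hΨ : IsNat ρ Ψ) (h : Ψ ≠ 0) :
    Function.Injective Ψ := by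
  rw [injective_iff_map_eq_zero]
  intro e he
  by_contra hne
  apply h
  refine AddMonoidHom.ext fun d => ?_
  by_cases hd : d = 0
  · simp [hd]
  obtain ⟨g, hg⟩ := exists_move e hne
  obtain ⟨g', hg'⟩ := exists_move d hd
  have : d = ((g' * g⁻¹ : SpecialLinearGroup (Fin 2) K) : Matrix (Fin 2) (Fin 2) K) *ᵥ e := by
    rw [← hg, mv_mul, inv_mul_cancel_right, hg']
  rw [this, ← hΨ, he, map_zero]
  rfl

theorem IsNat.uu (c : K) {Ψ : (Fin 2 → K) →+ V} (hΨ : IsNat ρ Ψ) (e : Fin 2 → K) :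
    ρ (SL2Fpf.uu c) (Ψ e) = Ψ e + Ψ ![c * e 1, 0] := by rw [hΨ, uu_mulVec, map_add]

theorem IsNat.ww (a : K) (ha : a ≠ 0) {Ψ : (Fin 2 → K) →+ V} (hΨ : IsNat ρ Ψ) (e : Fin 2 → K) :
    ρ (SL2Fpf.ww a ha) (Ψ e) = Ψ ![a * e 1, a⁻¹ * e 0] := by rw [hΨ, ww_mulVec]

/-- For `a ≠ 0`, the monomial element is the sum of two unipotent ones. -/
theorem act_ww (h2 : ∀ v : V, v + v = 0) (hf : Fpf ρ) (a : K) (ha : a ≠ 0) (v : V) :
    ρ (ww a ha) v = ρ (uu a) v + ρ (ll a⁻¹) v := by
  set g := uu a * ll a⁻¹ with hg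
  have htr : (g : Matrix (Fin 2) (Fin 2) K).trace = 1 := by
    show (!![1, a; 0, 1] * !![1, 0; a⁻¹, 1]).trace = 1
    simp [Matrix.mul_fin_two, Matrix.trace_fin_two, mul_inv_cancel₀ ha, CharTwo.add_self_eq_zero]
  have h := hf g htr (ρ (uu a) v)
  have e1 : g * uu a = ww a ha := by
    apply Subtype.ext
    show !![1, a; 0, 1] * !![1, 0; a⁻¹, 1] * !![1, a; 0, 1] = !![0, a; a⁻¹, 0]
    rw [Matrix.mul_fin_two, Matrix.mul_fin_two]
    ext i j
    fin_cases i <;> fin_cases j <;> simp [mul_inv_cancel₀ ha, inv_mul_cancel₀ ha, CharTwo.add_self_eq_zero]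
  have e2 : g * ww a ha = ll a⁻¹ := by
    apply Subtype.ext
    show !![1, a; 0, 1] * !![1, 0; a⁻¹, 1] * !![0, a; a⁻¹, 0] = !![1, 0; a⁻¹, 1]
    simp [Matrix.mul_fin_two, mul_inv_cancel₀ ha, inv_mul_cancel₀ ha, CharTwo.add_self_eq_zero]
  rw [← act_mul ρ g (uu a), e1, ← act_mul ρ g (ww a ha), e2] at h
  calc ρ (ww a ha) v = ρ (ww a ha) v + (ρ (uu a) v + ρ (ll a⁻¹) v + (ρ (uu a) v + ρ (ll a⁻¹) v)) := by
        rw [h2, add_zero]
    _ = (ρ (uu a) v + ρ (ll a⁻¹) v) + (ρ (uu a) v + ρ (ww a ha) v + ρ (ll a⁻¹) v) := by abel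
    _ = _ := by rw [h, add_zero]

/-- Fixed vectors lift along a natural submodule. -/
theorem exists_lift [Finite K] (hK : 4 ≤ Nat.card K) (h2 : ∀ v : V, v + v = 0) (hf : Fpf ρ)
    {Ψ : (Fin 2 → K) →+ V} (hΨ : IsNat ρ Ψ) (hinj : Function.Injective Ψ)
    (σ : (Fin 2 → K) → V)
    (hσadd : ∀ e d, σ (e + d) - (σ e + σ d) ∈ Ψ.range)
    (hσeq : ∀ (g : SpecialLinearGroup (Fin 2) K) e,
      ρ g (σ e) - σ ((g : Matrix (Fin 2) (Fin 2) K) *ᵥ e) ∈ Ψ.range) :
    ∃ v, (∀ c, ρ (uu c) v = v) ∧ v - σ ![1, 0] ∈ Ψ.range := by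
  classical
  set M := Ψ.range with hM
  have h2K : ∀ a : K, a + a = 0 := CharTwo.add_self_eq_zero
  have hsub : ∀ a b : V, a - b = a + b := fun a b => by
    rw [sub_eq_add_neg, neg_eq_of_add_eq_zero_left (h2 b)]
  have hvec : ∀ a b : K, (![a, b] : Fin 2 → K) = ![a, 0] + ![0, b] := fun a b => by
    ext i; fin_cases i <;> simp
  -- the unipotent displacements
  let T : K → V →+ V := fun c => AddMonoidHom.mk' (fun v => ρ (uu c) v + v)
    (fun v w => by simp only [map_add]; abel)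
  let S : K → V →+ V := fun c => AddMonoidHom.mk' (fun v => ρ (ll c) v + v)
    (fun v w => by simp only [map_add]; abel)
  have Tdef : ∀ c v, T c v = ρ (uu c) v + v := fun _ _ => rfl
  have Sdef : ∀ c v, S c v = ρ (ll c) v + v := fun _ _ => rfl
  have hTS : ∀ (a : K), a ≠ 0 → ∀ v, T a (S a⁻¹ v) + S a⁻¹ (T a v) = v := by
    intro a ha v
    set g := uu a * ll a⁻¹ with hg
    have htr : (g : Matrix (Fin 2) (Fin 2) K).trace = 1 := by
      show (!![1, a; 0, 1] * !![1, 0; a⁻¹, 1]).trace = 1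
      simp [Matrix.mul_fin_two, Matrix.trace_fin_two, mul_inv_cancel₀ ha, h2K]
    have h := hf g htr v
    have e : g * g = ll a⁻¹ * uu a := by
      apply Subtype.ext
      show !![1, a; 0, 1] * !![1, 0; a⁻¹, 1] * (!![1, a; 0, 1] * !![1, 0; a⁻¹, 1]) =
        !![1, 0; a⁻¹, 1] * !![1, a; 0, 1]
      simp [Matrix.mul_fin_two, mul_inv_cancel₀ ha, inv_mul_cancel₀ ha, h2K]
    rw [← act_mul ρ g g, e, hg, act_mul, act_mul] at h
    simp only [Tdef, Sdef, map_add]
    calc _ = (v + ρ (uu a) (ρ (ll a⁻¹) v) + ρ (ll a⁻¹) (ρ (uu a) v)) + v +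
          (ρ (uu a) v + ρ (uu a) v) + (ρ (ll a⁻¹) v + ρ (ll a⁻¹) v) := by abel
      _ = v := by rw [h, h2, h2]; simp
  have TΨ : ∀ c e, T c (Ψ e) = Ψ ![c * e 1, 0] := fun c e => by
    rw [Tdef, hΨ.uu, add_right_comm, h2, zero_add]
  set W := ρ (ww (1 : K) one_ne_zero) with hW
  have WW : ∀ v, W (W v) = v := fun v => by
    rw [hW, ← act_mul]
    rw [show ww (1 : K) one_ne_zero * ww 1 one_ne_zero = 1 from Subtype.ext (by
      show !![0, (1 : K); 1⁻¹, 0] * !![0, 1; 1⁻¹, 0] = (1 : Matrix (Fin 2) (Fin 2) K)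
      simp [Matrix.mul_fin_two, Matrix.one_fin_two]), act_one]
  have WΨ : ∀ e, W (Ψ e) = Ψ ![e 1, e 0] := fun e => by rw [hW, hΨ.ww]; simp
  have WT : ∀ c v, W (T c v) = S c (W v) := fun c v => by
    rw [Tdef, Sdef, map_add, hW, ← act_mul, ← act_mul, ww_uu]
    simp
  have SΨ : ∀ c e, S c (Ψ e) = Ψ ![0, c * e 0] := fun c e => by
    have : Ψ e = W (W (Ψ e)) := (WW _).symm
    rw [this, ← WT, WΨ, TΨ, WΨ]
    simp
  have hTσ : ∀ c e, T c (σ e) - σ ![c * e 1, 0] ∈ M := by
    intro c e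
    have h1 := hσeq (uu c) e
    have h3 := hσadd e ![c * e 1, 0]
    rw [uu_mulVec] at h1
    have h4 := add_mem h1 h3
    have h5 : T c (σ e) - σ ![c * e 1, 0] =
        ρ (uu c) (σ e) - σ (e + ![c * e 1, 0]) + (σ (e + ![c * e 1, 0]) - (σ e + σ ![c * e 1, 0]))
          + (σ e + σ e) := by rw [Tdef]; abel
    rw [h5, h2, add_zero]
    exact h4
  -- the lifts fixed by `uu 1`
  let P : K → V := fun x => T 1 (σ ![0, x])
  have hP : ∀ x, P x - σ ![x, 0] ∈ M := fun x => by simpa [P] using hTσ 1 ![0, x]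
  have T1P : ∀ x, T 1 (P x) = 0 := fun x => by
    show T 1 (T 1 _) = 0
    rw [Tdef, Tdef, map_add, ← act_mul, uu_mul_self, act_one, add_comm (σ _), h2]
  let Q : K → V := fun y => W (P y)
  have hQ : ∀ y, Q y - σ ![0, y] ∈ M := by
    intro y
    obtain ⟨e, he⟩ := hP y
    have h1 : W (σ ![y, 0]) - σ ![0, y] ∈ M := by
      have := hσeq (ww 1 one_ne_zero) ![y, 0]
      rwa [ww_mulVec, show (![1 * ![y, 0] 1, 1⁻¹ * ![y, 0] 0] : Fin 2 → K) = ![0, y] by simp] at this
    have h3 : W (P y - σ ![y, 0]) ∈ M := by rw [← he, WΨ]; exact ⟨_, rfl⟩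
    have h4 := add_mem h3 h1
    rw [map_sub, sub_add_sub_cancel] at h4
    exact h4
  have hTP : ∀ c x, ∃ d : K, T c (P x) = Ψ ![d, 0] := by
    intro c x
    obtain ⟨m, hm⟩ := hP x
    have hz : σ (0 : Fin 2 → K) ∈ M := by
      have h := hσadd 0 0
      rw [add_zero, sub_add_cancel_left] at h
      simpa using neg_mem h
    have h1 : T c (σ ![x, 0]) ∈ M := by
      have h := hTσ c ![x, 0]
      rw [show (![c * ![x, 0] 1, 0] : Fin 2 → K) = 0 by simp] at h
      simpa using add_mem h hz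
    have h3 : T c (P x) ∈ M := by
      rw [show P x = Ψ m + σ ![x, 0] by rw [hm, sub_add_cancel], map_add, TΨ]
      exact add_mem ⟨_, rfl⟩ h1
    obtain ⟨d, hd⟩ := h3
    have h5 : T 1 (T c (P x)) = 0 := by
      rw [Tdef 1, Tdef c, map_add, ← act_mul, ← uu_add, add_comm (1 : K) c, uu_add, act_mul]
      have := T1P x
      rw [Tdef] at this
      have e : ρ (uu 1) (P x) = P x := by
        calc ρ (uu 1) (P x) = ρ (uu 1) (P x) + (P x + P x) := by rw [h2, add_zero]
          _ = _ := by rw [← add_assoc, this, zero_add]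
      rw [e, ← add_assoc, add_right_comm (ρ (uu c) (P x)), h2, zero_add, h2]
    rw [← hd, TΨ, one_mul] at h5
    have hd1 : d 1 = 0 := by simpa using congrFun (hinj (h5.trans (map_zero Ψ).symm)) 0
    exact ⟨d 0, by rw [← hd]; congr 1; ext i; fin_cases i <;> simp [hd1]⟩
  choose δ hδ using hTP
  have hPadd : ∀ x y, ∃ a, P (x + y) = P x + P y + Ψ ![a, 0] := by
    intro x y
    have hmem : P (x + y) - (P x + P y) ∈ M := by
      have h1 := sub_mem (hP (x + y)) (add_mem (hP x) (hP y))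
      have h3 := hσadd ![x, 0] ![y, 0]
      rw [show (![x, 0] + ![y, 0] : Fin 2 → K) = ![x + y, 0] by simp] at h3
      have h4 := add_mem h1 h3
      rwa [show P (x + y) - σ ![x + y, 0] - (P x - σ ![x, 0] + (P y - σ ![y, 0])) +
        (σ ![x + y, 0] - (σ ![x, 0] + σ ![y, 0])) = P (x + y) - (P x + P y) by abel] at h4
    obtain ⟨d, hd⟩ := hmem
    have h5 : T 1 (Ψ d) = 0 := by rw [hd, map_sub, map_add, T1P, T1P, T1P]; simp
    rw [TΨ, one_mul] at h5
    have hd1 : d 1 = 0 := by simpa using congrFun (hinj (h5.trans (map_zero Ψ).symm)) 0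
    refine ⟨d 0, ?_⟩
    rw [show (![d 0, 0] : Fin 2 → K) = d by ext i; fin_cases i <;> simp [hd1], hd]
    abel
  have inj0 : ∀ {a b : K}, Ψ ![a, 0] = Ψ ![b, 0] → a = b := fun h => by
    simpa using congrFun (hinj h) 0
  have δ_add : ∀ c x y, δ c (x + y) = δ c x + δ c y := by
    intro c x y
    obtain ⟨a, ha⟩ := hPadd x y
    apply inj0
    rw [← hδ, ha, map_add, map_add, hδ, hδ, TΨ, ← map_add, ← map_add]
    congr 1; ext i; fin_cases i <;> simp
  have δ_add' : ∀ c d x, δ (c + d) x = δ c x + δ d x := by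
    intro c d x
    apply inj0
    have hTT : T (c + d) (P x) = T c (P x) + T d (P x) + T c (T d (P x)) := by
      have he : ρ (uu (c + d)) (P x) = ρ (uu c) (ρ (uu d) (P x)) := by rw [uu_add, act_mul]
      rw [Tdef (c + d), he]
      simp only [Tdef, map_add]
      calc _ = (ρ (uu c) (ρ (uu d) (P x)) + P x) + (ρ (uu c) (P x) + ρ (uu c) (P x)) +
            (ρ (uu d) (P x) + ρ (uu d) (P x)) + (P x + P x) := by rw [h2, h2, h2]; simp
        _ = _ := by abel
    rw [← hδ, hTT, hδ, hδ, TΨ, ← map_add, ← map_add]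
    congr 1; ext i; fin_cases i <;> simp
  have δ_one : ∀ x, δ 1 x = 0 := fun x => inj0 (by
    rw [← hδ, T1P, show (![0, 0] : Fin 2 → K) = 0 by ext i; fin_cases i <;> rfl, map_zero])
  -- displacements of the other lifts
  have hTQ : ∀ c y, ∃ e, T c (Q y) = P (c * y) + Ψ e := by
    intro c y
    obtain ⟨m, hm⟩ := hQ y
    have h1 := hTσ c ![0, y]
    rw [show (![c * ![0, y] 1, 0] : Fin 2 → K) = ![c * y, 0] by simp] at h1
    have h4 : T c (Ψ m) + (T c (σ ![0, y]) - σ ![c * y, 0]) - (P (c * y) - σ ![c * y, 0]) ∈ M :=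
      sub_mem (add_mem (by rw [TΨ]; exact ⟨_, rfl⟩) h1) (hP _)
    obtain ⟨e, he⟩ := h4
    refine ⟨e, ?_⟩
    rw [he, show Q y = Ψ m + σ ![0, y] by rw [hm, sub_add_cancel], map_add]
    abel
  choose ε hε using hTQ
  have ε1 : ∀ y, ε 1 y 1 = 0 := by
    intro y
    have h : T 1 (T 1 (Q y)) = 0 := by
      rw [Tdef, Tdef, map_add, ← act_mul, uu_mul_self, act_one, add_comm (Q y), h2]
    rw [hε, map_add, one_mul, T1P, zero_add, TΨ, one_mul] at h
    simpa using congrFun (hinj (h.trans (map_zero Ψ).symm)) 0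
  have εδ : ∀ c y, ε c y 1 = δ c y := by
    intro c y
    have hcm : ∀ v, ρ (uu 1) (ρ (uu c) v) = ρ (uu c) (ρ (uu 1) v) := fun v => by
      rw [← act_mul, ← act_mul, ← uu_add, ← uu_add, add_comm (1 : K) c]
    have hcomm : T 1 (T c (Q y)) = T c (T 1 (Q y)) := by
      simp only [Tdef, map_add, hcm]
      abel
    rw [hε, hε, map_add, map_add, T1P, zero_add, TΨ, TΨ, one_mul, one_mul, hδ, ε1, mul_zero,
      ← map_add] at hcomm
    simpa using congrFun (hinj hcomm) 0
  have SP : ∀ r x, S r (P x) = Q (r * x) + Ψ ![ε r x 1, ε r x 0] := by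
    intro r x
    rw [show P x = W (Q x) from (WW _).symm, ← WT, hε, map_add, WΨ]
  have SQ : ∀ r y, S r (Q y) = Ψ ![0, δ r y] := by
    intro r y
    show S r (W (P y)) = _
    rw [← WT, hδ, WΨ]
    simp
  -- `δ r` commutes with multiplication by `r`
  have hcomm1 : ∀ r y, δ r (r * y) = r * δ r y := by
    intro r y
    by_cases hr : r = 0
    · subst hr
      have : ∀ x, δ 0 x = 0 := fun x => by
        have h := δ_add' 0 0 x
        rwa [add_zero, h2K] at h
      simp [this]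
    have h := hTS r⁻¹ (inv_ne_zero hr) (Q (r * y))
    rw [inv_inv, SQ, TΨ, hε, inv_mul_cancel_left₀ hr, map_add, SP, SΨ] at h
    have h3 : Ψ ![r⁻¹ * δ r (r * y), 0] + (Ψ ![ε r y 1, ε r y 0] + Ψ ![0, r * ε r⁻¹ (r * y) 0]) = 0 := by
      calc _ = (Ψ ![r⁻¹ * δ r (r * y), 0] + (Q (r * y) + Ψ ![ε r y 1, ε r y 0] +
            Ψ ![0, r * ε r⁻¹ (r * y) 0])) + Q (r * y) := by
            rw [show ∀ a b c q : V, (a + (q + b + c)) + q = a + (b + c) + (q + q) from
              fun a b c q => by abel, h2, add_zero]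
        _ = 0 := by simp only [Matrix.cons_val_one, Matrix.cons_val_zero] at h; rw [h, h2]
    rw [← map_add, ← map_add] at h3
    have h4 := congrFun (hinj (h3.trans (map_zero Ψ).symm)) 0
    simp [εδ] at h4
    have h5 : r⁻¹ * δ r (r * y) = δ r y := CharTwo.add_eq_zero.mp h4
    rw [← h5, mul_inv_cancel_left₀ hr]
  have hpolar : ∀ c d y, δ c (d * y) + δ d (c * y) = c * δ d y + d * δ c y := by
    intro c d y
    have h := hcomm1 (c + d) y
    simp only [δ_add', add_mul, δ_add, hcomm1] at h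
    linear_combination h
  obtain ⟨γ, hγ⟩ := IsCyclic.exists_generator (α := Kˣ)
  have hlin : ∀ c x, δ c x = x * δ c 1 := by
    have hγc : ∀ c y, δ c ((γ : K) * y) = (γ : K) * δ c y := by
      have hγγ : ∀ (a : K) (y : K), δ γ (a * y) = a * δ γ y := by
        intro a y
        by_cases ha : a = 0
        · subst ha
          have h := δ_add γ 0 0
          rw [add_zero, h2K] at h
          simp [h]
        obtain ⟨k, hk⟩ := mem_powers_iff_mem_zpowers.mpr (hγ (Units.mk0 a ha))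
        have hk' : (γ : K) ^ k = a := by
          have := congrArg Units.val hk
          simpa using this
        subst hk'
        clear ha hk
        induction k generalizing y with
        | zero => simp
        | succ k ih => rw [pow_succ', mul_assoc, hcomm1, ih, mul_assoc]
      intro c y
      have h := hpolar c γ y
      rw [hγγ] at h
      linear_combination h
    intro c x
    by_cases hx : x = 0
    · subst hx
      have h := δ_add c 0 0
      rw [add_zero, h2K] at h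
      simp [h]
    obtain ⟨k, hk⟩ := mem_powers_iff_mem_zpowers.mpr (hγ (Units.mk0 x hx))
    have hk' : (γ : K) ^ k = x := by
      have := congrArg Units.val hk
      simpa using this
    subst hk'
    clear hx hk
    induction k with
    | zero => simp
    | succ k ih => rw [pow_succ', hγc, ih, mul_assoc]
  -- the torus relation
  have hrel : ∀ (a : K), a ≠ 0 → ∀ c, δ (c / (a * a)) 1 = δ c 1 + c / a * (δ a 1 + δ a⁻¹ 1) := by
    intro a ha c
    have hWa : ρ (ww a ha) (P 1) = Q a⁻¹ + Ψ ![δ a 1 + δ a⁻¹ 1, ε a⁻¹ 1 0] := by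
      rw [act_ww ρ h2 hf a ha]
      have : ρ (uu a) (P 1) + ρ (ll a⁻¹) (P 1) = T a (P 1) + S a⁻¹ (P 1) + (P 1 + P 1) := by
        simp only [Tdef, Sdef]
        calc _ = ρ (uu a) (P 1) + ρ (ll a⁻¹) (P 1) + (P 1 + P 1) + (P 1 + P 1) := by rw [h2]; simp
          _ = _ := by abel
      rw [this, h2, add_zero, hδ, SP, mul_one, εδ, add_left_comm, ← map_add]
      congr 2; ext i; fin_cases i <;> simp
    have h : ρ (ww a ha) (T c (P 1)) = S (c / (a * a)) (ρ (ww a ha) (P 1)) := by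
      rw [Tdef, Sdef, map_add, ← act_mul, ← act_mul, ww_uu]
    rw [hWa, hδ, hΨ.ww, map_add, SQ, SΨ, ← map_add] at h
    have h1 := congrFun (hinj h) 1
    simp only [Matrix.cons_val_one, Matrix.cons_val_zero, Pi.add_apply] at h1
    rw [hlin (c / (a * a)) a⁻¹] at h1
    set X1 := δ (c / (a * a)) 1
    have h6 : a⁻¹ * δ c 1 = a⁻¹ * (X1 + c / a * (δ a 1 + δ a⁻¹ 1)) := by
      rw [h1]; field_simp
    have h7 := mul_left_cancel₀ (inv_ne_zero ha) h6
    rw [h7, add_assoc, h2K, add_zero]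
  have hD : ∀ c, δ c 1 = 0 := by
    set D := fun c => δ c 1 with hDdef
    have hmul : ∀ c m : K, m ≠ 0 → D (c * m) = D c + c * m * D m⁻¹ := by
      intro c m hm
      obtain ⟨a, ha⟩ : ∃ a : K, a * a = m⁻¹ := by
        haveI := Fintype.ofFinite K
        obtain ⟨a, ha⟩ := FiniteField.isSquare_of_char_two (ringChar.eq K 2) m⁻¹
        exact ⟨a, ha.symm⟩
      have ha0 : a ≠ 0 := fun h => inv_ne_zero hm (by rw [← ha, h, mul_zero])
      have h1 := hrel a ha0 c
      have h3 := hrel a ha0 (a * a)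
      rw [div_self (mul_ne_zero ha0 ha0), δ_one, mul_div_cancel_right₀ a ha0] at h3
      rw [ha, div_inv_eq_mul] at h1
      show D (c * m) = _
      simp only [hDdef]
      rw [h1, ← ha]
      have h4 : δ (a * a) 1 = a * (δ a 1 + δ a⁻¹ 1) := CharTwo.add_eq_zero.mp h3.symm
      rw [h4]
      have hma : c * m = c / (a * a) := by rw [ha, div_inv_eq_mul]
      rw [hma]
      field_simp
    have h1 : D 1 = 0 := δ_one 1
    have hinv : ∀ m : K, m ≠ 0 → D m = m * D m⁻¹ := fun m hm => by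
      have := hmul 1 m hm
      rwa [one_mul, h1, zero_add] at this
    have hder : ∀ c m : K, m ≠ 0 → D (c * m) = D c + c * D m := fun c m hm => by
      rw [hmul c m hm, hinv m hm]; ring
    have hsym : ∀ c m : K, c ≠ 0 → m ≠ 0 → (1 + m) * D c = (1 + c) * D m := fun c m hc hm => by
      have a1 := hder c m hm
      have a2 := hder m c hc
      rw [mul_comm m c, a1] at a2
      calc (1 + m) * D c = D c + m * D c := by ring
        _ = (D c + c * D m) + (c * D m + m * D c) := by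
            rw [show (D c + c * D m) + (c * D m + m * D c) = D c + m * D c + (c * D m + c * D m) by ring,
              h2K, add_zero]
        _ = (D m + m * D c) + (c * D m + m * D c) := by rw [a2]
        _ = (1 + c) * D m + (m * D c + m * D c) := by ring
        _ = (1 + c) * D m := by rw [h2K, add_zero]
    intro c
    show D c = 0
    by_cases hc0 : c = 0
    · subst hc0
      have h := δ_add' 0 0 1
      rwa [add_zero, h2K] at h
    by_cases hc1 : c = 1
    · rw [hc1, h1]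
    haveI := Fintype.ofFinite K
    obtain ⟨d, -, hd⟩ : ∃ d ∈ (Finset.univ : Finset K), d ∉ ({0, 1, c} : Finset K) := by
      by_contra! hall
      have h3 := Finset.card_le_card (fun x hx => hall x hx : (Finset.univ : Finset K) ⊆ {0, 1, c})
      have h4 : ({0, 1, c} : Finset K).card ≤ 3 := Finset.card_le_three
      rw [Finset.card_univ, ← Nat.card_eq_fintype_card] at h3
      omega
    simp only [Finset.mem_insert, Finset.mem_singleton, not_or] at hd
    have hcd : c + d ≠ 0 := fun h => hd.2.2 (CharTwo.add_eq_zero.mp h).symm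
    have hA := hsym c d hc0 hd.1
    have hB := hsym c (c + d) hc0 hcd
    rw [show D (c + d) = D c + D d from δ_add' c d 1] at hB
    have e : (1 + c + d) * D c + (1 + c) * (D c + D d) + ((1 + d) * D c + (1 + c) * D d) = D c := by
      have e2 : (2 : K) = 0 := CharTwo.two_eq_zero
      linear_combination (D c + (c + d) * D c + (1 + c) * D d) * e2
    have z1 : (1 + c + d) * D c + (1 + c) * (D c + D d) = 0 := by
      rw [show (1 + c + d) = (1 + (c + d)) by ring, hB, h2K]
    have z2 : (1 + d) * D c + (1 + c) * D d = 0 := by rw [hA, h2K]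
    rw [← e, z1, z2, add_zero]
  refine ⟨P 1, fun c => ?_, hP 1⟩
  have h : T c (P 1) = 0 := by
    rw [hδ, hD]
    rw [show (![0, 0] : Fin 2 → K) = 0 by simp, map_zero]
  rw [Tdef] at h
  calc ρ (uu c) (P 1) = ρ (uu c) (P 1) + (P 1 + P 1) := by rw [h2, add_zero]
    _ = _ := by rw [← add_assoc, h, zero_add]

end H79.SL2Fpf
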