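import Cfsg.Agent.CompLayer
import Cfsg.Agent.H1.Cores
import Cfsg.Agent.H71.BenderLeads
import Cfsg.Agent.H75.Basic
import Cfsg.Agent.S3012
import Cfsg.Prelude.Def_SubgroupEmbedding
import Cfsg.Prelude.Def_Transfer

/-!
A minimal counterexample to the Sidki pair statement is almost simple.
-/

set_option autoImplicit false
set_option linter.style.haveILetI false
set_option linter.unusedSectionVars false

namespace H79.Sidki

open Subgroup

universe u

/-- A minimal counterexample. -/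
structure Ctx {G : Type u} [Group G] (V : Subgroup G) : Prop where
  elem : Cfsg.IsElementaryAbelian 2 V
  ne : V ≠ ⊥
  pair : Cfsg.IsSidkiPair V
  meet : V ⊓ Cfsg.pCore 2 G = ⊥
  minG : ∀ (H : Type u) [Group H] [Finite H] (W : Subgroup H), Nat.card H < Nat.card G →
    Cfsg.IsElementaryAbelian 2 W → W ≠ ⊥ → Cfsg.IsSidkiPair W → W ⊓ Cfsg.pCore 2 H ≠ ⊥
  minV : ∀ W : Subgroup G, Nat.card W < Nat.card V → Cfsg.IsElementaryAbelian 2 W → W ≠ ⊥ →
    Cfsg.IsSidkiPair W → W ⊓ Cfsg.pCore 2 G ≠ ⊥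

variable {G : Type u} [Group G]

theorem odd_of_inv_mul_sq {K : Subgroup G} {h : G} (hodd : Odd (orderOf h)) (h2 : h * h ∈ K) :
    h ∈ K := by
  obtain ⟨k, hk⟩ := hodd
  have h1 : h = ((h * h) ^ k)⁻¹ := by
    refine eq_inv_of_mul_eq_one_right ?_
    rw [← pow_two, ← pow_mul, ← pow_succ, ← hk]
    exact pow_orderOf_eq_one h
  rw [h1]
  exact inv_mem (pow_mem h2 k)

theorem eq_one_of_odd_sq {h : G} (hodd : Odd (orderOf h)) (h2 : h * h = 1) : h = 1 :=
  mem_bot.mp (odd_of_inv_mul_sq (K := ⊥) hodd (mem_bot.mpr h2))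

theorem odd_mul {a b : G} (hab : Commute a b) (ha : Odd (orderOf a)) (hb : Odd (orderOf b)) :
    Odd (orderOf (a * b)) :=
  Odd.of_dvd_nat (ha.mul hb) hab.orderOf_mul_dvd_mul_orderOf

variable [Finite G] {V : Subgroup G}

theorem Ctx.mul_self (h : Ctx V) {v : G} (hv : v ∈ V) : v * v = 1 := by
  simpa [pow_two] using h.elem.2 v hv

theorem Ctx.inv_eq (h : Ctx V) {v : G} (hv : v ∈ V) : v⁻¹ = v :=
  inv_eq_of_mul_eq_one_right (h.mul_self hv)

theorem Ctx.comm (h : Ctx V) {a b : G} (ha : a ∈ V) (hb : b ∈ V) : a * b = b * a :=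
  congrArg Subtype.val (h.elem.1.is_comm.comm ⟨a, ha⟩ ⟨b, hb⟩)

theorem isElem_of_le {W : Subgroup G} (hV : Cfsg.IsElementaryAbelian 2 V) (hW : W ≤ V) :
    Cfsg.IsElementaryAbelian 2 W :=
  ⟨⟨⟨fun x y => Subtype.ext (congrArg Subtype.val
    (hV.1.is_comm.comm ⟨x, hW x.2⟩ ⟨y, hW y.2⟩) :)⟩⟩, fun a ha => hV.2 a (hW ha)⟩

theorem Ctx.core_eq_bot (h : Ctx V) : Cfsg.pCore 2 G = ⊥ := by
  by_contra hne
  set O := Cfsg.pCore 2 G
  haveI : O.Normal := H1.pCore_normal' 2 G
  set f := QuotientGroup.mk' O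
  have hlt : Nat.card (G ⧸ O) < Nat.card G := by
    rw [O.card_eq_card_quotient_mul_card_subgroup]
    exact lt_mul_of_one_lt_right Nat.card_pos (O.one_lt_card_iff_ne_bot.mpr hne)
  have he : Cfsg.IsElementaryAbelian 2 (V.map f) := by
    refine ⟨⟨⟨fun ⟨_, a, ha, rfl⟩ ⟨_, b, hb, rfl⟩ => Subtype.ext ?_⟩⟩, ?_⟩
    · show f a * f b = f b * f a
      rw [← map_mul, ← map_mul, h.comm ha hb]
    · rintro _ ⟨a, ha, rfl⟩
      rw [← map_pow, h.elem.2 a ha, map_one]
  have h1 : V.map f ≠ ⊥ := by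
    rw [Ne, Subgroup.map_eq_bot_iff, QuotientGroup.ker_mk']
    exact fun hle => h.ne (by rw [← inf_eq_left.mpr hle]; exact h.meet)
  refine h.minG _ _ hlt he h1 (Cfsg.Agent.S3012.result V O h.elem h.ne h.pair h.meet) ?_
  refine (eq_bot_iff_forall _).mpr ?_
  rintro _ ⟨⟨v, hv, rfl⟩, hv2⟩
  have hX : IsPGroup 2 ((Cfsg.pCore 2 (G ⧸ O)).comap f) :=
    (H1.isPGroup_pCore 2 _).comap_of_ker_isPGroup _ (by
      rw [QuotientGroup.ker_mk']; exact H1.isPGroup_pCore 2 G)
  haveI : (Cfsg.pCore 2 (G ⧸ O)).Normal := H1.pCore_normal' 2 _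
  have hvO : v ∈ O := H1.le_pCore hX hv2
  exact (QuotientGroup.eq_one_iff v).mpr hvO

theorem Ctx.subnormal_two_group (h : Ctx V) {T : Subgroup G} (hT : T.IsSubnormal)
    (h2 : IsPGroup 2 T) : T = ⊥ :=
  le_bot_iff.mp (h.core_eq_bot ▸ Cfsg.Comp.le_pCore_of_subnormal hT h2)

/-- In a proper subgroup, a pair meets the `2`-core. -/
theorem Ctx.exists_mem_core (h : Ctx V) {H W : Subgroup G} (hH : H ≠ ⊤) (hWH : W ≤ H) (hWV : W ≤ V)
    (hW : W ≠ ⊥) (hpair : ∀ x v : G, x ∈ H → v ∈ W → Odd (orderOf x) → v * x * v⁻¹ = x⁻¹ →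
      ∃ w ∈ W, w ≠ 1 ∧ w * x = x * w) :
    ∃ v ∈ W, v ≠ 1 ∧ v ∈ (Cfsg.pCore 2 H).map H.subtype := by
  have hlt : Nat.card H < Nat.card G := lt_of_le_of_ne (card_le_card_group H)
    fun e => hH ((card_eq_iff_eq_top H).1 e)
  have hne : W.subgroupOf H ≠ ⊥ := by
    rw [Ne, subgroupOf_eq_bot, disjoint_iff, inf_eq_left.mpr hWH]
    exact hW
  have he : Cfsg.IsElementaryAbelian 2 (W.subgroupOf H) :=
    ⟨⟨⟨fun x y => Subtype.ext (Subtype.ext (h.comm (hWV x.2) (hWV y.2)))⟩⟩,
      fun a ha => Subtype.ext (h.elem.2 _ (hWV ha))⟩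
  have hS : Cfsg.IsSidkiPair (W.subgroupOf H) := by
    intro x v hv hodd hinv
    rw [← orderOf_coe] at hodd
    obtain ⟨w, hw, hw1, hwx⟩ := hpair x v x.2 hv hodd (congrArg Subtype.val hinv)
    exact ⟨⟨w, hWH hw⟩, hw, fun e => hw1 (congrArg Subtype.val e), Subtype.ext hwx⟩
  obtain ⟨v, hv, hv1⟩ := (bot_or_exists_ne_one _).resolve_left (h.minG _ _ hlt he hne hS)
  exact ⟨v, hv.1, fun e => hv1 (Subtype.ext e), v, hv.2, rfl⟩

/-- In `U N`, the elements in the `2`-core centralise `N`. -/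
theorem Ctx.core_le_centralizer (h : Ctx V) {N U : Subgroup G} (hN : N.IsSubnormal)
    (hU : U ≤ normalizer (N : Set G)) {v : G}
    (hv : v ∈ (Cfsg.pCore 2 (U ⊔ N : Subgroup G)).map (U ⊔ N).subtype) :
    v ∈ centralizer (N : Set G) := by
  set H := U ⊔ N
  set P := (Cfsg.pCore 2 H).map H.subtype
  haveI : (Cfsg.pCore 2 H).Normal := H1.pCore_normal' 2 _
  have hP : H ≤ normalizer (P : Set G) := by
    intro g hg
    refine mem_normalizer_iff_map_conj_eq.mpr (eq_of_le_of_card_ge ?_
      (card_map_of_injective (MulAut.conj g).injective).ge)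
    rintro _ ⟨_, ⟨y, hy, rfl⟩, rfl⟩
    exact ⟨⟨g, hg⟩ * y * (⟨g, hg⟩ : H)⁻¹, Normal.conj_mem inferInstance y hy _, rfl⟩
  have hHN : H ≤ normalizer (N : Set G) := sup_le hU le_normalizer
  have hsn : (P ⊓ N).IsSubnormal := by
    refine IsSubnormal.trans inf_le_right ?_ hN
    refine Normal.isSubnormal ((normal_subgroupOf_iff_le_normalizer inf_le_right).mpr ?_)
    exact (le_inf ((le_sup_right : N ≤ H).trans hP) le_normalizer).trans inf_normalizer_le_normalizer_inf
  have h0 : P ⊓ N = ⊥ := h.subnormal_two_group hsn (((H1.isPGroup_pCore 2 H).map _).to_le inf_le_left)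
  rw [mem_centralizer_iff]
  intro n hn
  have hvH : v ∈ H := map_subtype_le _ hv
  have hc : v * n * v⁻¹ * n⁻¹ ∈ P ⊓ N := by
    refine mem_inf.mpr ⟨?_, mul_mem ((mem_normalizer_iff.mp (hHN hvH) n).mp hn) (inv_mem hn)⟩
    rw [show v * n * v⁻¹ * n⁻¹ = v * (n * v⁻¹ * n⁻¹) by group]
    exact mul_mem hv ((mem_normalizer_iff.mp (hP ((le_sup_right : N ≤ H) hn)) _).mp (inv_mem hv))
  rw [h0, mem_bot, mul_inv_eq_one, mul_inv_eq_iff_eq_mul] at hc
  exact hc.symm

/-- A group of operators of a subnormal subgroup has a free inverted element. -/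
theorem Ctx.key (h : Ctx V) {N U : Subgroup G} (hN : N.IsSubnormal) (hUV : U ≤ V)
    (hU : U ≤ normalizer (N : Set G)) (hUC : ∀ w ∈ U, w ∈ centralizer (N : Set G) → w = 1)
    (hlt : U ⊔ N ≠ ⊤) :
    ∃ n ∈ N, Odd (orderOf n) ∧ ∃ u ∈ U, u * n * u⁻¹ = n⁻¹ ∧ ∀ w ∈ U, w * n = n * w → w = 1 := by
  by_cases hU0 : U = ⊥
  · exact ⟨1, one_mem _, by simp, 1, one_mem _, by simp, fun w hw _ => mem_bot.mp (hU0 ▸ hw)⟩
  by_contra hno
  push Not at hno
  obtain ⟨v, hv, hv1, hvP⟩ := h.exists_mem_core hlt le_sup_left hUV hU0 (fun x v hx hv hodd hinv => by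
    have hxN : x ∈ N := by
      refine odd_of_inv_mul_sq hodd ?_
      rw [← SetLike.mem_coe, coe_mul_of_left_le_normalizer_right U N hU] at hx
      obtain ⟨a, ha, n, hn, rfl⟩ := hx
      have haa : a * a = 1 := h.mul_self (hUV ha)
      have : a * n * (a * n) = (a * n * a⁻¹) * (a * a) * n := by group
      rw [this, haa, mul_one]
      exact mul_mem ((mem_normalizer_iff.mp (hU ha) n).mp hn) hn
    obtain ⟨w, hw, hwx, hw1⟩ := hno x hxN hodd v hv hinv
    exact ⟨w, hw, hw1, hwx⟩)
  exact hv1 (hUC v hv (h.core_le_centralizer hN hU hvP))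

theorem Ctx.eq_one_of_sq (h : Ctx V) {N : Subgroup G} (hN : N.IsSubnormal) {x : G} (hx : x ∈ N)
    (hxC : x ∈ centralizer (N : Set G)) (h2 : x * x = 1) : x = 1 := by
  have hle : zpowers x ≤ N := zpowers_le.mpr hx
  have h0 : zpowers x = ⊥ := h.subnormal_two_group
    (IsSubnormal.trans hle (Normal.isSubnormal ((normal_subgroupOf_iff_le_normalizer hle).mpr
      (le_centralizer_iff.mp (zpowers_le.mpr hxC) |>.trans (centralizer_le_normalizer _)))) hN)
    (by
      rintro ⟨y, hy⟩
      obtain ⟨k, rfl⟩ := mem_zpowers_iff.mp hy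
      exact ⟨1, Subtype.ext (by
        show (x ^ k) ^ (2 ^ 1) = 1
        rw [pow_one, pow_two, ← Commute.mul_zpow (Commute.refl x), h2, one_zpow])⟩)
  exact zpowers_eq_bot.mp h0

/-- A normal subgroup not supplemented by `V` is central. -/
theorem Ctx.le_center (h : Ctx V) {N : Subgroup G} (hN : N.Normal) (hlt : V ⊔ N ≠ ⊤) :
    centralizer (N : Set G) = ⊤ := by
  haveI := hN
  set C := centralizer (N : Set G)
  haveI : C.Normal := normal_centralizer
  have hVn : V ≤ normalizer (N : Set G) := le_normalizer_of_normal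
  set W := V ⊓ C
  obtain ⟨v, hv, hv1, hvP⟩ := h.exists_mem_core hlt le_sup_left le_rfl h.ne
    (fun x v _ hv hodd hinv => h.pair x v hv hodd hinv)
  have hvW : v ∈ W := ⟨hv, h.core_le_centralizer hN.isSubnormal hVn hvP⟩
  have hW1 : W ≠ ⊥ := fun e => hv1 (mem_bot.mp (e ▸ hvW))
  have hWS : Cfsg.IsSidkiPair W := by
    intro x w hw hodd hinv
    by_contra hno
    push Not at hno
    have hxC : x ∈ C := by
      refine odd_of_inv_mul_sq (K := C) hodd ?_
      rw [← inv_mem_iff, _root_.mul_inv_rev]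
      nth_rewrite 1 [← hinv]
      rw [show w * x * w⁻¹ * x⁻¹ = w * (x * w⁻¹ * x⁻¹) by group]
      exact mul_mem hw.2 (Normal.conj_mem inferInstance _ (inv_mem hw.2) x)
    let U : Subgroup G := V ⊓ centralizer ({x} : Set G)
    have hUC : ∀ a ∈ U, a ∈ C → a = 1 := fun a ha hac => by
      by_contra ha1
      exact hno a ⟨ha.1, hac⟩ ha1 (mem_centralizer_singleton_iff.mp ha.2)
    obtain ⟨n, hn, hnodd, u, hu, hun, hfree⟩ := h.key hN.isSubnormal inf_le_left
      (inf_le_left.trans hVn) hUC (fun e => hlt (eq_top_iff.mpr (e ▸ sup_le_sup_right inf_le_left N)))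
    have hxn : Commute x n := (mem_centralizer_iff.mp hxC n hn).symm
    have hwn : Commute w n := (mem_centralizer_iff.mp hw.2 n hn).symm
    have hux : Commute u x := mem_centralizer_singleton_iff.mp hu.2
    obtain ⟨y, hy, hy1, hyxn⟩ := h.pair (x * n) (w * u) (mul_mem hw.1 hu.1) (odd_mul hxn hodd hnodd) (by
      calc w * u * (x * n) * (w * u)⁻¹ = w * ((u * x * u⁻¹) * (u * n * u⁻¹)) * w⁻¹ := by group
        _ = w * (x * n⁻¹) * w⁻¹ := by rw [hun, show u * x * u⁻¹ = x from mul_inv_eq_of_eq_mul hux.eq]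
        _ = (w * x * w⁻¹) * (w * n⁻¹ * w⁻¹) := by group
        _ = (x * n)⁻¹ := by
          rw [hinv, show w * n⁻¹ * w⁻¹ = n⁻¹ from mul_inv_eq_of_eq_mul hwn.inv_right.eq,
            _root_.mul_inv_rev, hxn.inv_inv.eq])
    set m := x⁻¹ * (y * x * y⁻¹) with hm
    have hmN : m ∈ N := by
      have e : m = n * (y * n * y⁻¹)⁻¹ := by
        rw [hm, eq_mul_inv_iff_mul_eq]
        calc x⁻¹ * (y * x * y⁻¹) * (y * n * y⁻¹) = x⁻¹ * (y * (x * n) * y⁻¹) := by group
          _ = n := by rw [hyxn, mul_inv_cancel_right, inv_mul_cancel_left]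
      rw [e]
      exact mul_mem hn (inv_mem (hN.conj_mem n hn y))
    have hmC : m ∈ C := mul_mem (inv_mem hxC) (Normal.conj_mem inferInstance x hxC y)
    have e1 : y * x * y⁻¹ = x * m := by rw [hm, mul_inv_cancel_left]
    have e2 : y * x⁻¹ * y⁻¹ = x⁻¹ * m := by
      calc y * x⁻¹ * y⁻¹ = y * (w * x * w⁻¹) * y⁻¹ := by rw [hinv]
        _ = (y * w) * x * (y * w)⁻¹ := by group
        _ = (w * y) * x * (w * y)⁻¹ := by rw [h.comm hy hw.1]
        _ = w * (y * x * y⁻¹) * w⁻¹ := by group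
        _ = (w * x * w⁻¹) * (w * m * w⁻¹) := by rw [e1]; group
        _ = x⁻¹ * m := by
          rw [hinv, show w * m * w⁻¹ = m from
            mul_inv_eq_of_eq_mul (mem_centralizer_iff.mp hw.2 m hmN).symm]
    have hm2 : m * m = 1 := by
      have e3 : x * m * (x⁻¹ * m) = 1 := by
        rw [← e1, ← e2]; group
      have hxm : Commute x m := (mem_centralizer_iff.mp hxC m hmN).symm
      rwa [mul_assoc, ← mul_assoc m, ← (hxm.inv_left).eq, mul_assoc, mul_inv_cancel_left] at e3
    have hyx : y * x = x * y := by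
      rw [h.eq_one_of_sq hN.isSubnormal hmN hmC hm2, mul_one] at e1
      exact mul_inv_eq_iff_eq_mul.mp e1
    have hyn : y * n = n * y := by
      have := hyxn
      rw [← mul_assoc, hyx, mul_assoc, mul_assoc] at this
      exact mul_left_cancel this
    exact hy1 (hfree y ⟨hy, mem_centralizer_singleton_iff.mpr hyx⟩ hyn)
  have hWV : W = V := by
    by_contra hne
    refine h.minV W ?_ (isElem_of_le h.elem inf_le_left) hW1 hWS ?_
    · exact lt_of_le_of_ne (card_le_of_le inf_le_left)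
        fun e => hne (eq_of_le_of_card_ge inf_le_left e.ge)
    · rw [h.core_eq_bot, inf_bot_eq]
  by_contra hC
  obtain ⟨a, -, ha1, haP⟩ := h.exists_mem_core hC (hWV ▸ inf_le_right : V ≤ C) le_rfl h.ne
    (fun x v _ hv hodd hinv => h.pair x v hv hodd hinv)
  haveI : (Cfsg.pCore 2 C).Characteristic := inferInstance
  have hsn : ((Cfsg.pCore 2 C).map C.subtype).IsSubnormal :=
    IsSubnormal.trans' (Normal.isSubnormal inferInstance) (Normal.isSubnormal inferInstance)
  exact ha1 (mem_bot.mp (h.subnormal_two_group hsn ((H1.isPGroup_pCore 2 C).map _) ▸ haP))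

/-- No nontrivial abelian normal subgroup. -/
theorem Ctx.abelian_normal (h : Ctx V) {A : Subgroup G} (hA : A.Normal) (hAc : IsMulCommutative A) :
    A = ⊥ := by
  by_contra hne
  obtain ⟨N, hNA, hN⟩ := Finite.exists_le_minimal (p := fun T : Subgroup G => T.Normal ∧ T ≠ ⊥)
    (a := A) ⟨hA, hne⟩
  haveI := hN.prop.1
  have hNc : N ≤ centralizer (N : Set G) := by
    intro a ha
    rw [mem_centralizer_iff]
    exact fun b hb => congrArg Subtype.val (hAc.is_comm.comm ⟨b, hNA hb⟩ ⟨a, hNA ha⟩)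
  have hodd : ∀ x ∈ N, Odd (orderOf x) := by
    intro x hx
    by_contra heven
    obtain ⟨k, hk⟩ := Nat.not_odd_iff_even.mp heven
    have hk0 : 0 < k := by have := orderOf_pos x; omega
    have h1 := h.eq_one_of_sq hN.prop.1.isSubnormal (pow_mem hx k) (hNc (pow_mem hx k))
      (by rw [← pow_add, ← hk]; exact pow_orderOf_eq_one x)
    have := Nat.le_of_dvd hk0 (orderOf_dvd_of_pow_eq_one h1)
    omega
  by_cases htop : V ⊔ N = ⊤
  · obtain ⟨v, hv, hv1⟩ := V.bot_or_exists_ne_one.resolve_left h.ne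
    -- every fixed-point group is normal
    have hfix : ∀ w ∈ V, N ⊓ centralizer ({w} : Set G) ≠ ⊥ → w = 1 := by
      intro w hw hw0
      have hwn : (N ⊓ centralizer ({w} : Set G)).Normal := by
        rw [← normalizer_eq_top_iff, eq_top_iff, ← htop]
        refine sup_le ?_ ?_
        · refine (le_inf le_normalizer_of_normal ?_).trans inf_normalizer_le_normalizer_inf
          exact fun a ha => le_normalizer (mem_centralizer_singleton_iff.mpr (h.comm ha hw))
        · exact hNc.trans ((centralizer_le fun z hz => hz.1).trans (centralizer_le_normalizer _))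
      have hall : N ≤ centralizer ({w} : Set G) :=
        (hN.le_of_le ⟨hwn, hw0⟩ inf_le_left).trans inf_le_right
      have hwz : w ∈ center G := by
        rw [← centralizer_univ]
        have : (⊤ : Subgroup G) ≤ centralizer ({w} : Set G) := by
          rw [← htop]
          exact sup_le (fun a ha => mem_centralizer_singleton_iff.mpr (h.comm ha hw)) hall
        exact mem_centralizer_iff.mpr fun g _ => mem_centralizer_singleton_iff.mp (this (mem_top g))
      exact h.eq_one_of_sq (Normal.isSubnormal (inferInstance : (center G).Normal)) hwz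
        (mem_centralizer_iff.mpr fun g _ => mem_center_iff.mp hwz g) (h.mul_self hw)
    obtain ⟨n, hn, hn1⟩ := N.bot_or_exists_ne_one.resolve_left hN.prop.2
    -- `v` inverts a nontrivial element
    set d := n⁻¹ * (v * n * v⁻¹) with hd
    have hdN : d ∈ N := mul_mem (inv_mem hn) (hN.prop.1.conj_mem n hn v)
    have hvd : v * d * v⁻¹ = d⁻¹ := by
      have e : v * (v * n * v⁻¹) * v⁻¹ = n := by
        rw [show v * (v * n * v⁻¹) * v⁻¹ = (v * v) * n * (v * v)⁻¹ by group, h.mul_self hv]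
        simp
      calc v * d * v⁻¹ = (v * n * v⁻¹)⁻¹ * (v * (v * n * v⁻¹) * v⁻¹) := by rw [hd]; group
        _ = (v * n * v⁻¹)⁻¹ * n := by rw [e]
        _ = d⁻¹ := by rw [hd]; group
    have hd1 : d ≠ 1 := fun e => by
      refine hv1 (hfix v hv fun e' => hn1 (mem_bot.mp (e' ▸ ⟨hn, ?_⟩)))
      show n ∈ centralizer ({v} : Set G)
      rw [mem_centralizer_singleton_iff]
      rw [hd, inv_mul_eq_one] at e
      exact (mul_inv_eq_iff_eq_mul.mp e.symm).symm
    obtain ⟨w, hw, hw1, hwd⟩ := h.pair d v hv (hodd d hdN) hvd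
    exact hw1 (hfix w hw fun e => hd1 (mem_bot.mp (e ▸ ⟨hdN, mem_centralizer_singleton_iff.mpr hwd.symm⟩)))
  · -- a central odd subgroup
    have hc := h.le_center hN.prop.1 htop
    have hNZ : N ≤ center G := fun a ha => mem_center_iff.mpr fun g =>
      (mem_centralizer_iff.mp (hc.symm ▸ mem_top g : g ∈ centralizer (N : Set G)) a ha).symm
    set f := QuotientGroup.mk' N
    have hVN : V ⊓ N = ⊥ := (eq_bot_iff_forall _).mpr fun a ha =>
      eq_one_of_odd_sq (hodd a ha.2) (h.mul_self ha.1)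
    have hlt : Nat.card (G ⧸ N) < Nat.card G := by
      rw [N.card_eq_card_quotient_mul_card_subgroup]
      exact lt_mul_of_one_lt_right Nat.card_pos (N.one_lt_card_iff_ne_bot.mpr hN.prop.2)
    have he : Cfsg.IsElementaryAbelian 2 (V.map f) := by
      refine ⟨⟨⟨fun ⟨_, a, ha, rfl⟩ ⟨_, b, hb, rfl⟩ => Subtype.ext ?_⟩⟩, ?_⟩
      · show f a * f b = f b * f a
        rw [← map_mul, ← map_mul, h.comm ha hb]
      · rintro _ ⟨a, ha, rfl⟩
        rw [← map_pow, h.elem.2 a ha, map_one]
    have h1 : V.map f ≠ ⊥ := by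
      rw [Ne, Subgroup.map_eq_bot_iff, QuotientGroup.ker_mk']
      exact fun hle => h.ne (by rw [← inf_eq_left.mpr hle]; exact hVN)
    refine h.minG _ _ hlt he h1 (Cfsg.Agent.S3012.result V N h.elem h.ne h.pair hVN) ?_
    refine (eq_bot_iff_forall _).mpr ?_
    rintro _ ⟨⟨v, hv, rfl⟩, hv2⟩
    haveI : (Cfsg.pCore 2 (G ⧸ N)).Normal := H1.pCore_normal' 2 _
    set X := (Cfsg.pCore 2 (G ⧸ N)).comap f
    haveI : Fact (Nat.Prime 2) := ⟨Nat.prime_two⟩
    haveI : Group.IsNilpotent (Cfsg.pCore 2 (G ⧸ N)) := (H1.isPGroup_pCore 2 _).isNilpotent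
    haveI : Group.IsNilpotent X := by
      refine Subgroup.isNilpotent_of_ker_le_center (f.subgroupComap (Cfsg.pCore 2 (G ⧸ N))) ?_
      intro a ha
      have haN : (a : G) ∈ N := (QuotientGroup.eq_one_iff _).mp (congrArg Subtype.val ha)
      exact mem_center_iff.mpr fun b => Subtype.ext (mem_center_iff.mp (hNZ haN) b)
    have hvX : zpowers v ≤ X := zpowers_le.mpr hv2
    have h0 := h.subnormal_two_group (IsSubnormal.trans hvX (H71.isSubnormal_of_nilpotent _)
      (Normal.isSubnormal inferInstance)) ((hV2 h).to_le (zpowers_le.mpr hv))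
    rw [zpowers_eq_bot.mp h0, map_one]
where hV2 (h : Ctx V) : IsPGroup 2 V := fun a => ⟨1, Subtype.ext (by
    show (a : G) ^ (2 ^ 1) = 1
    rw [pow_one]; exact h.elem.2 a a.2)⟩

/-- The conclusion. -/
theorem Ctx.almost_simple (h : Ctx V) :
    IsSimpleGroup (Cfsg.generalizedFittingSubgroup G) ∧
      ¬ IsMulCommutative (Cfsg.generalizedFittingSubgroup G) ∧
      V ⊔ Cfsg.generalizedFittingSubgroup G = ⊤ := by
  haveI : Nontrivial G := by
    obtain ⟨v, -, hv1⟩ := V.bot_or_exists_ne_one.resolve_left h.ne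
    exact ⟨⟨v, 1, hv1⟩⟩
  obtain ⟨N, -, hN⟩ := Finite.exists_le_minimal (p := fun T : Subgroup G => T.Normal ∧ T ≠ ⊥)
    (a := (⊤ : Subgroup G)) ⟨inferInstance, top_ne_bot⟩
  haveI hNn := hN.prop.1
  have hnc : ¬ IsMulCommutative N := fun hc => hN.prop.2 (h.abelian_normal hN.prop.1 hc)
  have htop : V ⊔ N = ⊤ := by
    by_contra hlt
    have hc := h.le_center hN.prop.1 hlt
    exact hnc (le_centralizer_iff_isMulCommutative.mp (hc.symm ▸ le_top))
  have hGN : ⁅(⊤ : Subgroup G), ⊤⁆ ≤ N := by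
    have h1 : (⊤ : Subgroup G).map (QuotientGroup.mk' N) = V.map (QuotientGroup.mk' N) := by
      rw [← htop, Subgroup.map_sup, (Subgroup.map_eq_bot_iff N).mpr (QuotientGroup.ker_mk' N).ge, sup_bot_eq]
    have h2 : (⁅(⊤ : Subgroup G), ⊤⁆ : Subgroup G).map (QuotientGroup.mk' N) = ⊥ := by
      rw [Subgroup.map_commutator, h1, ← Subgroup.map_commutator,
        commutator_eq_bot_iff_le_centralizer.mpr (le_centralizer_iff_isMulCommutative.mpr h.elem.1),
        Subgroup.map_bot]
    rwa [Subgroup.map_eq_bot_iff, QuotientGroup.ker_mk'] at h2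
  set C := centralizer (N : Set G)
  haveI hCn : C.Normal := normal_centralizer
  have hCN : C ⊓ N = ⊥ := h.abelian_normal inferInstance
    (le_centralizer_iff_isMulCommutative.mp (inf_le_left.trans (centralizer_le inf_le_right)))
  have hC : C = ⊥ := by
    refine h.abelian_normal hCn (le_centralizer_iff_isMulCommutative.mp ?_)
    rw [← commutator_eq_bot_iff_le_centralizer, ← le_bot_iff, ← hCN]
    exact le_inf (commutator_le_left C C) ((commutator_mono le_top le_top).trans hGN)
  -- conjugates of a minimal normal subgroup of `N`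
  have hV : ∀ S : Subgroup G, S ≤ N → N ≤ normalizer (S : Set G) → S ≠ ⊥ →
      (∀ T : Subgroup G, T ≤ S → N ≤ normalizer (T : Set G) → T ≠ ⊥ → T = S) →
      V ≤ normalizer (S : Set G) := by
    intro S hSN hNS hS0 hSmin
    by_contra hnot
    obtain ⟨u, hu, huS⟩ := SetLike.not_le_iff_exists.mp hnot
    let T : G → Subgroup G := fun y => S.map (MulAut.conj y).toMonoidHom
    have hTN : ∀ y, T y ≤ N := fun y => by
      rintro _ ⟨s, hs, rfl⟩; exact hNn.conj_mem s (hSN hs) y
    have hTn : ∀ y, N ≤ normalizer (T y : Set G) := fun y => by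
      intro g hg
      refine mem_normalizer_iff_map_conj_eq.mpr (eq_of_le_of_card_ge ?_
        (card_map_of_injective (MulAut.conj g).injective).ge)
      rintro _ ⟨_, ⟨s, hs, rfl⟩, rfl⟩
      refine ⟨(y⁻¹ * g * y) * s * (y⁻¹ * g * y)⁻¹,
        (mem_normalizer_iff.mp (hNS (by simpa using hNn.conj_mem g hg y⁻¹)) s).mp hs, ?_⟩
      simp [mul_assoc]
    have hT1 : T 1 = S := by
      refine le_antisymm ?_ fun s hs => ⟨s, hs, by simp⟩
      rintro _ ⟨s, hs, rfl⟩; simpa using hs
    have hTT : ∀ a b, (T b).map (MulAut.conj a).toMonoidHom = T (a * b) := fun a b => by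
      rw [map_map]; congr 1; ext; simp [mul_assoc]
    have hTmin : ∀ a b, T a ≠ T b → T a ⊓ T b = ⊥ := by
      intro a b hab
      by_contra hne
      set R := (T a ⊓ T b).map (MulAut.conj a⁻¹).toMonoidHom with hR
      have hRS : R ≤ S := (map_mono inf_le_left).trans_eq (by rw [hTT, inv_mul_cancel, hT1])
      have hRn : N ≤ normalizer (R : Set G) := by
        refine le_trans ?_ (map_equiv_normalizer_eq (T a ⊓ T b) (MulAut.conj a⁻¹)).le
        refine le_trans ?_ (map_mono ((le_inf (hTn a) (hTn b)).trans inf_normalizer_le_normalizer_inf))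
        intro g hg
        exact ⟨a * g * a⁻¹, hNn.conj_mem g hg a, by simp [mul_assoc]⟩
      have hRe : R = S := hSmin R hRS hRn fun e => hne
        ((map_eq_bot_iff_of_injective _ (MulAut.conj a⁻¹).injective).mp e)
      have : T a ≤ T b := by
        have h1 : T a = R.map (MulAut.conj a).toMonoidHom := by rw [hRe]
        rw [h1, hR, map_map]
        rintro _ ⟨g, hg, rfl⟩
        simpa [mul_assoc] using hg.2
      exact hab (eq_of_le_of_card_ge this (by
        simp only [T]; rw [card_map_of_injective (MulAut.conj b).injective,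
          card_map_of_injective (MulAut.conj a).injective]))
    have hTc : ∀ a b, T a ≠ T b → ∀ x ∈ T a, ∀ y ∈ T b, x * y = y * x := by
      intro a b hab x hx y hy
      have : x * y * x⁻¹ * y⁻¹ ∈ T a ⊓ T b := by
        refine mem_inf.mpr ⟨?_, mul_mem ((mem_normalizer_iff.mp (hTn b (hTN a hx)) y).mp hy) (inv_mem hy)⟩
        rw [show x * y * x⁻¹ * y⁻¹ = x * (y * x⁻¹ * y⁻¹) by group]
        exact mul_mem hx ((mem_normalizer_iff.mp (hTn a (hTN b hy)) _).mp (inv_mem hx))
      rw [hTmin a b hab, mem_bot, mul_inv_eq_one, mul_inv_eq_iff_eq_mul] at this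
      exact this
    have hsn : S.IsSubnormal :=
      IsSubnormal.trans hSN (Normal.isSubnormal ((normal_subgroupOf_iff_le_normalizer hSN).mpr hNS))
        hNn.isSubnormal
    have hjle : ⨆ v : V, T (v : G) ≤ N := iSup_le fun v => hTN v
    have hjoin : ⨆ v : V, T (v : G) = N := by
      refine le_antisymm hjle (hN.le_of_le ⟨?_, ?_⟩ hjle)
      · rw [← normalizer_eq_top_iff, eq_top_iff, ← htop]
        refine sup_le ?_ ?_
        · intro a ha
          rw [mem_normalizer_iff_map_conj_eq]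
          refine eq_of_le_of_card_ge ?_ (card_map_of_injective (MulAut.conj a).injective).ge
          rw [Subgroup.map_iSup]
          exact iSup_le fun v => (hTT a v).le.trans (le_iSup (fun v : V => T (v : G)) ⟨a * v, mul_mem ha v.2⟩)
        · exact (le_iInf fun v : V => hTn v).trans (iInf_normalizer_le_normalizer_iSup fun v : V => T v)
      · intro e
        apply hS0
        rw [eq_bot_iff, ← e, ← hT1]
        exact le_iSup_of_le (1 : V) le_rfl
    have hSC : S ⊓ centralizer (S : Set G) = ⊥ := by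
      by_contra hne
      have he := hSmin _ inf_le_left ((le_inf hNS (Cfsg.Comp.le_normalizer_centralizer hNS)).trans
        inf_normalizer_le_normalizer_inf) hne
      have hSc : ∀ x ∈ S, ∀ y ∈ S, x * y = y * x := fun x hx y hy =>
        mem_centralizer_iff.mp (inf_eq_left.mp he hy) x hx
      apply hnc
      rw [← hjoin, ← le_centralizer_iff_isMulCommutative]
      refine iSup_le fun a => le_centralizer_iff.mp (iSup_le fun b => ?_)
      intro x hx
      rw [mem_centralizer_iff]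
      intro y hy
      by_cases hab : T (a : G) = T (b : G)
      · rw [← hab] at hx
        obtain ⟨s, hs, rfl⟩ := hx
        obtain ⟨t, ht, rfl⟩ := hy
        rw [← map_mul, ← map_mul, hSc t ht s hs]
      · exact hTc a b hab y hy x hx
    have hVcomm : ∀ w ∈ V, w ∈ centralizer (S : Set G) → w = 1 := by
      intro w hw hwS
      have hw' : N ≤ centralizer ({w} : Set G) := by
        rw [← hjoin]
        refine iSup_le fun v => ?_
        rintro _ ⟨s, hs, rfl⟩
        rw [mem_centralizer_singleton_iff]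
        show (v : G) * s * (v : G)⁻¹ * w = w * ((v : G) * s * (v : G)⁻¹)
        have h1 := mem_centralizer_iff.mp hwS s hs
        have h2 := h.comm v.2 hw
        have h3 : (v : G)⁻¹ * w = w * (v : G)⁻¹ := h.comm (inv_mem v.2) hw
        calc (v : G) * s * (v : G)⁻¹ * w = (v : G) * (s * w) * (v : G)⁻¹ := by
              rw [mul_assoc _ (v : G)⁻¹, h3]; group
          _ = ((v : G) * w) * s * (v : G)⁻¹ := by rw [h1]; group
          _ = _ := by rw [h2]; group
      have hwC : w ∈ C := mem_centralizer_iff.mpr fun g hg => mem_centralizer_singleton_iff.mp (hw' hg)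
      rwa [hC, mem_bot] at hwC
    have hnS : ∀ y, T y = S → y ∈ normalizer (S : Set G) := fun y hy =>
      mem_normalizer_iff_map_conj_eq.mpr hy
    set V₁ := V ⊓ normalizer (S : Set G)
    have huT : T u ≠ S := fun e => huS (hnS u e)
    by_cases hV₁ : V₁ = ⊥
    · obtain ⟨x, hx, hxodd, hx1⟩ : ∃ x ∈ S, Odd (orderOf x) ∧ x ≠ 1 := by
        by_contra hno
        haveI : Fact (Nat.Prime 2) := ⟨Nat.prime_two⟩
        refine hS0 (h.subnormal_two_group hsn (H75.isPGroup_of_no_coprime fun x hx hco => ?_))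
        by_contra hx1
        exact hno ⟨x, hx, Nat.coprime_two_right.mp hco, hx1⟩
      set x' := u * x⁻¹ * u⁻¹ with hx'
      have hx'T : x' ∈ T u := ⟨x⁻¹, inv_mem hx, rfl⟩
      have hxx' : Commute x x' := hTc 1 u (by rw [hT1]; exact huT.symm) x (hT1.symm ▸ hx) x' hx'T
      have hx'odd : Odd (orderOf x') := by
        have : x' = MulAut.conj u x⁻¹ := rfl
        rw [this, MulEquiv.orderOf_eq, orderOf_inv]
        exact hxodd
      have hux' : u * x' * u⁻¹ = x⁻¹ := by
        rw [hx', show u * (u * x⁻¹ * u⁻¹) * u⁻¹ = (u * u) * x⁻¹ * (u * u)⁻¹ by group, h.mul_self hu]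
        simp
      have hinv : u * (x * x') * u⁻¹ = (x * x')⁻¹ := by
        calc u * (x * x') * u⁻¹ = (u * x * u⁻¹) * (u * x' * u⁻¹) := by group
          _ = x'⁻¹ * x⁻¹ := by rw [hux', hx']; group
          _ = _ := (_root_.mul_inv_rev _ _).symm
      obtain ⟨y, hy, hy1, hyc⟩ := h.pair (x * x') u hu (odd_mul hxx' hxodd hx'odd) hinv
      by_cases hyS : T y = S
      · exact hy1 (mem_bot.mp (hV₁ ▸ ⟨hy, hnS y hyS⟩))
      by_cases hyu : T y = T u
      · have h2 : T (u * y) = S := by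
          rw [← hTT, hyu, hTT, h.mul_self hu, hT1]
        have h3 : u * y = 1 := mem_bot.mp (hV₁ ▸ ⟨mul_mem hu hy, hnS _ h2⟩)
        have h4 : y = u := by rw [eq_inv_of_mul_eq_one_right h3, h.inv_eq hu]
        rw [h4] at hyc
        have h5 : x * x' = 1 := by
          refine eq_one_of_odd_sq (odd_mul hxx' hxodd hx'odd) ?_
          rw [hyc, mul_inv_cancel_right] at hinv
          nth_rewrite 2 [hinv]
          exact mul_inv_cancel _
        have h6 : x ∈ T 1 ⊓ T u := mem_inf.mpr ⟨hT1.symm ▸ hx, by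
          rw [eq_inv_of_mul_eq_one_left h5]; exact inv_mem hx'T⟩
        rw [hTmin 1 u (by rw [hT1]; exact huT.symm), mem_bot] at h6
        exact hx1 h6
      -- `T y` is a further conjugate
      set a := y * x * y⁻¹ with ha
      have haT : a ∈ T y := ⟨x, hx, rfl⟩
      have hb : y * x' * y⁻¹ ∈ T (y * u) := by
        rw [← hTT]; exact ⟨x', hx'T, rfl⟩
      have hyu' : T (y * u) ≠ T y := fun e => by
        refine huT ?_
        have := congrArg (fun R : Subgroup G => R.map (MulAut.conj y⁻¹).toMonoidHom) e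
        simpa only [hTT, inv_mul_cancel_left, inv_mul_cancel, hT1] using this
      have hac : ∀ z ∈ T y, a * z = z * a := by
        intro z hz
        have h1 : Commute z x := hTc y 1 (by rw [hT1]; exact hyS) z hz x (hT1.symm ▸ hx)
        have h2 : Commute z x' := hTc y u hyu z hz x' hx'T
        have h3 : Commute z (y * x' * y⁻¹) := hTc y (y * u) hyu'.symm z hz _ hb
        have h4 : a = (x * x') * (y * x' * y⁻¹)⁻¹ := by
          rw [ha, eq_mul_inv_iff_mul_eq]
          calc y * x * y⁻¹ * (y * x' * y⁻¹) = y * (x * x') * y⁻¹ := by group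
            _ = _ := by rw [hyc, mul_inv_cancel_right]
        rw [h4]
        exact ((h1.mul_right h2).mul_right h3.inv_right).eq.symm
      have hxS : x ∈ S ⊓ centralizer (S : Set G) := by
        refine ⟨hx, mem_centralizer_iff.mpr fun s hs => ?_⟩
        have := hac (y * s * y⁻¹) ⟨s, hs, rfl⟩
        rw [ha] at this
        have h5 : y * (x * s) * y⁻¹ = y * (s * x) * y⁻¹ := by
          simpa [mul_assoc] using this
        exact (mul_left_cancel (mul_right_cancel h5)).symm
      rw [hSC, mem_bot] at hxS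
      exact hx1 hxS
    · have hlt : V₁ ⊔ S ≠ ⊤ := fun e => huS ((sup_le inf_le_right le_normalizer : V₁ ⊔ S ≤ _) (e ▸ mem_top u))
      obtain ⟨x, hx, hxodd, v, hv, hinv, hfree⟩ := h.key hsn inf_le_left inf_le_right
        (fun w hw hwc => hVcomm w hw.1 hwc) hlt
      have hx1 : x ≠ 1 := fun e => by
        obtain ⟨w, hw, hw1⟩ := V₁.bot_or_exists_ne_one.resolve_left hV₁
        exact hw1 (hfree w hw (by rw [e]; simp))
      obtain ⟨y, hy, hy1, hyx⟩ := h.pair x v hv.1 hxodd hinv
      by_cases hyS : T y = S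
      · exact hy1 (hfree y ⟨hy, hnS y hyS⟩ hyx)
      have h6 : x ∈ T y ⊓ T 1 :=
        ⟨⟨x, hx, show y * x * y⁻¹ = x from mul_inv_eq_of_eq_mul hyx⟩, hT1.symm ▸ hx⟩
      rw [hTmin y 1 (hT1.symm ▸ hyS), mem_bot] at h6
      exact hx1 h6
  -- `N` is simple
  haveI : Nontrivial N := (nontrivial_iff_ne_bot N).mpr hN.prop.2
  have hsimple : IsSimpleGroup N := by
    refine ⟨fun K hK => ?_⟩
    by_contra! hcon
    set K' := K.map N.subtype with hK'
    have hK'n : N ≤ normalizer (K' : Set G) := by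
      have h1 := le_normalizer_map (H := K) N.subtype
      rwa [normalizer_eq_top, ← MonoidHom.range_eq_map, range_subtype] at h1
    obtain ⟨S, hSK, hS⟩ := Finite.exists_le_minimal
      (p := fun T : Subgroup G => N ≤ normalizer (T : Set G) ∧ T ≠ ⊥) (a := K')
      ⟨hK'n, (map_eq_bot_iff_of_injective _ N.subtype_injective).not.mpr hcon.1⟩
    have hSN : S ≤ N := hSK.trans (map_subtype_le _)
    have hn : S.Normal := by
      rw [← normalizer_eq_top_iff, eq_top_iff, ← htop]
      exact sup_le (hV S hSN hS.prop.1 hS.prop.2 fun T hT h1 h2 =>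
        le_antisymm hT (hS.le_of_le ⟨h1, h2⟩ hT)) hS.prop.1
    have hSe : S = N := le_antisymm hSN (hN.le_of_le ⟨hn, hS.prop.2⟩ hSN)
    refine hcon.2 (eq_top_iff.mpr fun a _ => ?_)
    obtain ⟨b, hb, hba⟩ := hSK (hSe.symm ▸ a.2 : (a : G) ∈ S)
    rwa [← Subtype.ext hba]
  have hperf : commutator N = ⊤ := by
    rcases (commutator_normal (⊤ : Subgroup N) ⊤).eq_bot_or_eq_top with h1 | h1
    · exact absurd (le_centralizer_iff_isMulCommutative.mp (commutator_eq_bot_iff_le_centralizer.mp h1))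
        (fun hc => hnc ⟨⟨fun a b => congrArg Subtype.val
          (hc.is_comm.comm ⟨a, mem_top a⟩ ⟨b, mem_top b⟩)⟩⟩)
    · exact h1
  have hcomp : Cfsg.IsComponent N := ⟨hNn.isSubnormal, Cfsg.Comp.isQuasisimple_of_dichotomy hperf
    fun K hK => (hK.eq_bot_or_eq_top).symm.imp_right fun e => by rw [e]; exact bot_le⟩
  have hfit : Cfsg.fittingSubgroup G = ⊥ := by
    set F := Cfsg.fittingSubgroup G
    haveI : F.Normal := inferInstance
    haveI : Group.IsNilpotent F := Cfsg.Comp.fitting_isNilpotent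
    have hFN : F ⊓ N = ⊥ := by
      by_contra hne
      have h1 : N ≤ F := (hN.le_of_le ⟨inferInstance, hne⟩ inf_le_right).trans inf_le_left
      haveI : Group.IsNilpotent N :=
        Group.nilpotent_of_mulEquiv (subgroupOfEquivOfLe h1)
      rcases (inferInstance : (center N).Normal).eq_bot_or_eq_top with h2 | h2
      · haveI : Nontrivial N := (nontrivial_iff_ne_bot N).mpr hN.prop.2
        exact absurd h2 (Group.IsNilpotent.center_ne_bot N)
      · exact hnc ⟨⟨fun a b => (mem_center_iff.mp (h2 ▸ mem_top a) b).symm⟩⟩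
    rw [← le_bot_iff, ← hC]
    intro f hf
    rw [mem_centralizer_iff]
    exact fun n hn => ((commute_of_normal_of_disjoint F N inferInstance hNn
      (disjoint_iff.mpr hFN)) f n hf hn).eq.symm
  have hF : Cfsg.generalizedFittingSubgroup G = N := by
    rw [Cfsg.generalizedFittingSubgroup, hfit, sup_bot_eq]
    refine le_antisymm (Cfsg.Comp.layer_le_iff.mpr fun L hL => ?_) (Cfsg.Comp.le_layer hcomp)
    exact (Cfsg.Comp.isComponent_perfect hL).ge.trans ((commutator_mono le_top le_top).trans hGN)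
  rw [hF]
  exact ⟨hsimple, hnc, htop⟩

end H79.Sidki
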