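import Cfsg.Agent.H79.StrongFusionDefs
import Cfsg.Agent.H79.CentricSylow
import Cfsg.Agent.H79.CoprimeGen
import Cfsg.Agent.H79.Sylow
import Cfsg.Agent.H5.PResidual
import Cfsg.Agent.H76.SPE
import Cfsg.Agent.H34.Index

/-!
The strong form of the Alperin–Goldschmidt fusion theorem.
-/

set_option autoImplicit false
set_option linter.unusedSectionVars false
set_option linter.style.haveILetI false

namespace H79.StrongFusion

open Subgroup
open scoped Pointwise commutatorElement
open H71 (cjBy mem_cjBy cjBy_mono cjBy_mul cjBy_one card_cjBy normalizer_cjBy isPGroup_cjBy)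

variable {G : Type*} [Group G] [Finite G] {p : ℕ} [Fact p.Prime]

/-- A proper subgroup of a `p`-group grows in its normalizer. -/
theorem lt_inf_normalizer {P B : Subgroup G} (hP : IsPGroup p P) (hB : B ≤ P) (hne : B ≠ P) :
    B < P ⊓ normalizer (B : Set G) := by
  refine lt_of_le_of_ne (le_inf hB le_normalizer) fun h => hne ?_
  haveI := hP.isNilpotent
  by_contra hBP
  have hne' : B.subgroupOf P ≠ ⊤ := fun ht => hBP (le_antisymm hB (subgroupOf_eq_top.mp ht))
  have hlt := Group.normalizerCondition_of_isNilpotent (B.subgroupOf P) (lt_top_iff_ne_top.mpr hne')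
  refine hlt.ne (le_antisymm hlt.le fun z hz => ?_)
  rw [mem_subgroupOf]
  rw [h]
  refine ⟨z.2, mem_normalizer_iff.mpr fun w => ⟨fun hw => (mem_normalizer_iff.mp hz ⟨w, hB hw⟩).mp hw,
    fun hw => ?_⟩⟩
  have hwP : w ∈ P := by
    have := mul_mem (mul_mem (inv_mem z.2) (hB hw)) z.2
    simpa [mul_assoc] using this
  exact (mem_normalizer_iff.mp hz ⟨w, hwP⟩).mpr hw

/-- The core: in a fully normalized `D` every element of the normalizer is good. -/
theorem good_core (P : Sylow p G) (D : Subgroup G) (hD : D ≤ (P : Subgroup G))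
    (hfn : ¬ p ∣ ((P : Subgroup G) ⊓ normalizer (D : Set G)).relIndex (normalizer (D : Set G)))
    (hbig : ∀ (B : Subgroup G) (u : G), D < B → B ≤ (P : Subgroup G) → cjBy u B ≤ (P : Subgroup G) →
      Good (P : Subgroup G) p (B : Set G) u)
    {y : G} (hy : y ∈ normalizer (D : Set G)) : Good (P : Subgroup G) p (D : Set G) y := by
  classical
  have hpr : p.Prime := Fact.out
  by_cases hDP : D = (P : Subgroup G)
  · exact Good.of_normalizer (hDP ▸ hy)
  set P' := (P : Subgroup G) with hP'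
  set N := normalizer (D : Set G) with hN
  set L := goodSubgroup P' D p with hL
  suffices hLtop : L = ⊤ by
    have : (⟨y, hy⟩ : N) ∈ L := hLtop.symm ▸ mem_top _
    exact this
  set D' := D.subgroupOf N with hD'
  have hDN : D ≤ N := le_normalizer
  haveI hD'n : D'.Normal := normal_in_normalizer
  have hS' : ¬ p ∣ ((P' ⊓ N).subgroupOf N).index := hfn
  set S' : Sylow p N :=
    ((P.isPGroup'.to_le inf_le_left : IsPGroup p (P' ⊓ N : Subgroup G)).comap_subtype (K := N)).toSylow hS'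
    with hSdef
  set S := (S' : Subgroup N) with hSS
  have memS : ∀ u : N, u ∈ S ↔ (u : G) ∈ P' := fun u =>
    ⟨fun h => h.1, fun h => ⟨h, u.2⟩⟩
  have hDS : D' ≤ S := fun d hd => (memS d).mpr (hD hd)
  have hDp : IsPGroup p D' := S'.isPGroup'.to_le hDS
  -- elements fusing a larger subgroup of `S` into `S` are good
  have hgen : ∀ (s u : N), s ∈ S → s ∉ D' → u⁻¹ * s * u ∈ S → u ∈ L := by
    intro s u hs hsD hsu
    refine mem_goodSubgroup.mpr (Good.mono (B := ((D ⊔ zpowers (s : G) : Subgroup G) : Set G))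
      (SetLike.coe_subset_coe.mpr le_sup_left) (hbig _ _ ?_ ?_ ?_))
    · exact lt_of_le_of_ne le_sup_left fun h => hsD (mem_subgroupOf.mpr (h ▸ mem_sup_right (mem_zpowers _)))
    · exact sup_le hD (zpowers_le.mpr ((memS s).mp hs))
    · rw [H71.cjBy, Subgroup.map_sup, MonoidHom.map_zpowers]
      refine sup_le ?_ (zpowers_le.mpr ?_)
      · rintro _ ⟨d, hd, rfl⟩
        have := (mem_normalizer_iff''.mp u.2 d).mp hd
        exact hD (by simpa using this)
      · simpa using (memS _).mp hsu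
  have hlt : D < P' ⊓ N := lt_inf_normalizer P.isPGroup' hD hDP
  obtain ⟨s₀, hs₀, hs₀D⟩ : ∃ s ∈ S, s ∉ D' := by
    obtain ⟨w, hw, hwD⟩ := SetLike.exists_of_lt hlt
    exact ⟨⟨w, hw.2⟩, (memS _).mpr hw.1, fun h => hwD h⟩
  have hSL : S ≤ L := fun u hu => hgen s₀ u hs₀ hs₀D (mul_mem (mul_mem (inv_mem hu) hs₀) hu)
  have hDL : D' ≤ L := hDS.trans hSL
  -- the Frattini step
  have hfrat : ∀ M : Subgroup N, M.Normal → M ≤ L → ¬ M ⊓ S ≤ D' → L = ⊤ := by
    intro M hM hML hMD
    haveI := hM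
    obtain ⟨e, he, heD⟩ := SetLike.not_le_iff_exists.mp hMD
    have hT : IsPGroup p ((M ⊓ S).subgroupOf M) := (S'.isPGroup'.to_le inf_le_right).comap_subtype
    have hTi : ¬ p ∣ ((M ⊓ S).subgroupOf M).index := by
      show ¬ p ∣ (M ⊓ S).relIndex M
      rw [inf_relIndex_left]
      exact H79.not_dvd_relIndex_normal M S'
    have htop := Sylow.normalizer_sup_eq_top (hT.toSylow hTi)
    rw [show ((hT.toSylow hTi : Sylow p M) : Subgroup M).map M.subtype = M ⊓ S from
      (subgroupOf_map_subtype _ _).trans (inf_eq_left.mpr inf_le_left)] at htop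
    refine eq_top_iff.mpr (htop ▸ sup_le (fun u hu => ?_) hML)
    exact hgen e u he.2 heD ((mem_normalizer_iff''.mp hu e).mp he).2
  -- the preimage of `O_p(N/C(D))`
  set C := centralizer (D' : Set N) with hC
  haveI : C.Normal := inferInstance
  set π := QuotientGroup.mk' C with hπ
  set N₁ := (Cfsg.pCore p (N ⧸ C)).comap π with hN₁
  haveI hN₁n : N₁.Normal := (H1.pCore_normal' p (N ⧸ C)).comap _
  have hCcent : ∀ c : N, c ∈ C ↔ (c : G) ∈ centralizer (D : Set G) := by
    intro c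
    rw [hC, mem_centralizer_iff, mem_centralizer_iff]
    constructor
    · intro h d hd
      exact congrArg Subtype.val (h ⟨d, hDN hd⟩ hd)
    · intro h d hd
      exact Subtype.ext (h d hd)
  have hCL : C ≤ L := fun c hc => mem_goodSubgroup.mpr (Good.of_centralizer ((hCcent c).mp hc))
  have hN₁L : N₁ ≤ L := by
    intro x hx
    have h1 : π x ∈ ((S'.mapSurjective (f := π) (QuotientGroup.mk'_surjective C)) : Subgroup (N ⧸ C)) :=
      H1.pCore_le_sylow _ hx
    obtain ⟨s, hs, hsx⟩ := h1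
    have h2 : s⁻¹ * x ∈ C := QuotientGroup.eq.mp hsx
    simpa using mul_mem (hSL hs) (hCL h2)
  by_cases hcase : N₁ ⊓ S ≤ D'
  swap
  · exact hfrat N₁ hN₁n hN₁L hcase
  have hsyl := (H79.centric_sylow_iff D' hDp C hC S').mp ⟨by
      intro d hd
      haveI : (D'.map π).Normal := hD'n.map π (QuotientGroup.mk'_surjective C)
      exact H1.le_pCore (hDp.map π) ⟨d, hd, rfl⟩, by
      intro hd
      apply H79.not_dvd_relIndex_normal N₁ S'
      rw [← inf_relIndex_left]
      exact hd.trans (relIndex_dvd_of_le_left _ hcase)⟩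
  have hcentric : P' ⊓ centralizer (D : Set G) ≤ D := by
    intro g hg
    have hgN : g ∈ N := centralizer_le_normalizer _ hg.2
    exact hsyl.1 (show (⟨g, hgN⟩ : N) ∈ S ⊓ C from ⟨(memS _).mpr hg.1, (hCcent _).mpr hg.2⟩)
  have hpp : (Cfsg.pPrimePCore p ↥N).map N.subtype = D ⊔ centralizer (D : Set G) := by
    rw [hsyl.2, Subgroup.map_sup, subgroupOf_map_subtype, inf_eq_left.mpr hDN]
    congr 1
    ext g
    constructor
    · rintro ⟨c, hc, rfl⟩; exact (hCcent c).mp hc
    · exact fun hg => ⟨⟨g, centralizer_le_normalizer _ hg⟩, (hCcent _).mpr hg, rfl⟩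
  -- the quotient by `D`
  set θ := QuotientGroup.mk' D' with hθ
  have hθs : Function.Surjective θ := QuotientGroup.mk'_surjective D'
  have memSθ : ∀ u : N, θ u ∈ S.map θ ↔ u ∈ S := by
    intro u
    refine ⟨fun h => ?_, fun h => ⟨u, h, rfl⟩⟩
    obtain ⟨s, hs, hsu⟩ := h
    have h1 : s⁻¹ * u ∈ S := hDS (QuotientGroup.eq.mp hsu)
    simpa using mul_mem hs h1
  by_cases hconn : Cfsg.IsSylowChainConnected p (N ⧸ D')
  · refine eq_top_iff.mpr fun u _ => ?_
    set S₁ := S'.mapSurjective (f := θ) hθs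
    have memc : ∀ (v z : N), θ z ∈ ((θ v • S₁ : Sylow p (N ⧸ D')) : Subgroup (N ⧸ D')) ↔
        v⁻¹ * z * v ∈ S := by
      intro v z
      rw [Sylow.coe_subgroup_smul, mem_pointwise_smul_iff_inv_smul_mem, ← memSθ]
      simp [S₁, MulAut.smul_def, MulAut.inv_apply, MulAut.conj_symm_apply, hSS]
    obtain ⟨n, c, h0, hlast, -, hadj⟩ := hconn S₁ (θ u • S₁)
    suffices h : ∀ (i : Fin (n + 1)) (v : N), c i = θ v • S₁ → v ∈ L from h _ u hlast
    intro i
    induction i using Fin.induction with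
    | zero =>
      intro v hv
      rw [h0] at hv
      have hv' := fun z => (memc v z).trans Iff.rfl
      refine hgen s₀ v hs₀ hs₀D ((hv' s₀).mp ?_)
      rw [← hv]
      exact ⟨s₀, hs₀, rfl⟩
    | succ i ih =>
      intro v hv
      obtain ⟨a, ha⟩ := MulAction.exists_smul_eq (N ⧸ D') S₁ (c i.castSucc)
      obtain ⟨w, rfl⟩ := hθs a
      have hw := ih w ha.symm
      obtain ⟨z', hz', hz1⟩ := (bot_or_exists_ne_one
        ((c i.castSucc : Subgroup (N ⧸ D')) ⊓ (c i.succ : Subgroup (N ⧸ D')))).resolve_left (hadj i).2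
      obtain ⟨z, rfl⟩ := hθs z'
      rw [hv, ← ha] at hz'
      have hvw : w⁻¹ * v ∈ L := by
        refine hgen (w⁻¹ * z * w) _ ((memc w z).mp hz'.1) ?_ ?_
        · intro h
          apply hz1
          have := hD'n.conj_mem _ h w
          rw [show w * (w⁻¹ * z * w) * w⁻¹ = z by group] at this
          exact (QuotientGroup.eq_one_iff z).mpr this
        · rw [show (w⁻¹ * v)⁻¹ * (w⁻¹ * z * w) * (w⁻¹ * v) = v⁻¹ * z * v by group]
          exact (memc v z).mp hz'.2
      simpa using mul_mem hw hvw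
  -- normal subgroups over `D` of index divisible by `p`
  have hdiv : ∀ M : Subgroup N, M.Normal → D' ≤ M → (p ∣ D'.relIndex M ↔ ¬ M ⊓ S ≤ D') := by
    intro M hM hDM
    haveI := hM
    constructor
    · intro hd hle
      refine H79.not_dvd_relIndex_normal M S' ?_
      rw [← inf_relIndex_left]
      exact hd.trans (relIndex_dvd_of_le_left _ hle)
    · intro hnle
      have h1 : (M ⊓ S) ≠ D' := fun h => hnle h.le
      have hE : IsPGroup p (M ⊓ S : Subgroup N) := S'.isPGroup'.to_le inf_le_right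
      obtain ⟨a, ha⟩ := hE.index (D'.subgroupOf (M ⊓ S))
      have ha0 : a ≠ 0 := by
        rintro rfl
        rw [pow_zero] at ha
        exact h1 (le_antisymm (relIndex_eq_one.mp ha) (le_inf hDM hDS))
      have hmul := relIndex_mul_relIndex D' (M ⊓ S) M (le_inf hDM hDS) inf_le_left
      exact hmul ▸ dvd_mul_of_dvd_left (show p ∣ D'.relIndex (M ⊓ S) by rw [relIndex, ha]; exact dvd_pow_self p ha0) _
  set ℱ : Set (Subgroup N) := {M | M.Normal ∧ D' ≤ M ∧ ¬ M ⊓ S ≤ D'} with hℱ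
  by_cases hmeet : ∀ A ∈ ℱ, ∀ B ∈ ℱ, A ⊓ B ∈ ℱ
  swap
  · push Not at hmeet
    obtain ⟨A, ⟨hAn, hDA, hAS⟩, B, ⟨hBn, hDB, hBS⟩, hAB⟩ := hmeet
    haveI := hAn
    haveI := hBn
    set K := A ⊓ B with hK
    have hKS : K ⊓ S ≤ D' := by
      by_contra h
      exact hAB ⟨inferInstance, le_inf hDA hDB, h⟩
    -- the images in the quotient
    obtain ⟨a₁, ha₁, ha₁D⟩ := SetLike.not_le_iff_exists.mp hAS
    obtain ⟨b₁, hb₁, hb₁D⟩ := SetLike.not_le_iff_exists.mp hBS
    have hQp : ∀ E : Subgroup N, E ≤ S → ∀ x ∈ E, x ∉ D' → ∃ w ∈ E, θ w ≠ 1 ∧ θ w ^ p = 1 := by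
      intro E hES x hx hxD
      have hxp : IsPGroup p (S.map θ) := S'.isPGroup'.map θ
      obtain ⟨k, hk⟩ := IsPGroup.iff_orderOf.mp hxp ⟨θ x, mem_map_of_mem θ (hES hx)⟩
      rw [orderOf_mk] at hk
      have hk0 : k ≠ 0 := by
        rintro rfl
        rw [pow_zero, orderOf_eq_one_iff] at hk
        exact hxD ((QuotientGroup.eq_one_iff x).mp hk)
      refine ⟨x ^ p ^ (k - 1), pow_mem hx _, ?_, ?_⟩
      · rw [map_pow]
        refine pow_ne_one_of_lt_orderOf (pow_ne_zero _ hpr.ne_zero) ?_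
        rw [hk]
        exact Nat.pow_lt_pow_right hpr.one_lt (by omega)
      · rw [map_pow, ← pow_mul, ← pow_succ, Nat.sub_add_cancel (Nat.one_le_iff_ne_zero.mpr hk0), ← hk,
          pow_orderOf_eq_one]
    obtain ⟨a, ha, ha1, hap⟩ := hQp (A ⊓ S) inf_le_right a₁ ha₁ ha₁D
    obtain ⟨b, hb, hb1, hbp⟩ := hQp (B ⊓ S) inf_le_right b₁ hb₁ hb₁D
    obtain ⟨haA, haS⟩ : a ∈ A ∧ a ∈ S := ha
    obtain ⟨hbB, hbS⟩ : b ∈ B ∧ b ∈ S := hb
    obtain ⟨hbB₁, hbS₁⟩ : b₁ ∈ B ∧ b₁ ∈ S := hb₁
    have hab : θ a * θ b = θ b * θ a := by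
      rw [← commutatorElement_eq_one_iff_mul_comm, ← map_commutatorElement]
      refine (QuotientGroup.eq_one_iff _).mpr (hKS (mem_inf.mpr ⟨mem_inf.mpr ⟨?_, ?_⟩, ?_⟩))
      · rw [commutatorElement_def, mul_assoc a b a⁻¹, mul_assoc a]
        exact mul_mem haA (hAn.conj_mem _ (inv_mem haA) b)
      · rw [commutatorElement_def]
        exact mul_mem (hBn.conj_mem b hbB a) (inv_mem hbB)
      · rw [commutatorElement_def]
        exact mul_mem (mul_mem (mul_mem haS hbS) (inv_mem haS)) (inv_mem hbS)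
    set V : Subgroup (N ⧸ D') := closure {θ a, θ b} with hV
    haveI : IsMulCommutative V := isMulCommutative_closure (by
      rintro u (rfl | rfl) w (rfl | rfl)
      · rfl
      · exact hab
      · exact hab.symm
      · rfl)
    have hVS : V ≤ S.map θ := (closure_le _).mpr (by
      rintro u (rfl | rfl)
      · exact ⟨a, haS, rfl⟩
      · exact ⟨b, hbS, rfl⟩)
    have hVexp : ∀ x ∈ V, x ^ p = 1 := by
      intro x hx
      induction hx using closure_induction with
      | mem u hu => rcases hu with rfl | rfl; exacts [hap, hbp]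
      | one => exact one_pow p
      | mul u w hu hw ihu ihw =>
        rw [(show Commute u w from congrArg Subtype.val (mul_comm' (⟨u, hu⟩ : V) ⟨w, hw⟩)).mul_pow, ihu, ihw,
          one_mul]
      | inv u _ ih => rw [inv_pow, ih, inv_one]
    have haV : θ a ∈ V := subset_closure (Or.inl rfl)
    have hbV : θ b ∈ V := subset_closure (Or.inr rfl)
    have hnc : ¬ IsCyclic V := by
      intro hcyc
      obtain ⟨g, hg⟩ := IsCyclic.exists_generator (α := V)
      have ho : orderOf g ∣ p := orderOf_dvd_of_pow_eq_one (Subtype.ext (hVexp _ g.2))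
      have hVc : Nat.card V ∣ p := (orderOf_eq_card_of_forall_mem_zpowers hg) ▸ ho
      have hzp : zpowers (θ b) = V := by
        refine eq_of_le_of_card_ge (zpowers_le.mpr hbV) ?_
        rw [Nat.card_zpowers, orderOf_eq_prime hbp hb1]
        exact Nat.le_of_dvd hpr.pos hVc
      obtain ⟨i, hi⟩ := mem_zpowers_iff.mp (hzp.symm ▸ haV : θ a ∈ zpowers (θ b))
      apply ha1
      refine (QuotientGroup.eq_one_iff a).mpr (hKS ⟨⟨haA, ?_⟩, haS⟩)
      have h1 : (b ^ i)⁻¹ * a ∈ D' := QuotientGroup.eq.mp ((map_zpow θ b i).trans hi)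
      simpa using mul_mem (zpow_mem hbB i) (hDB h1)
    -- `K` is good
    have hKθ : ∀ k ∈ K, θ k ∈ K.map θ := fun k hk => ⟨k, hk, rfl⟩
    haveI : (K.map θ).Normal := (inferInstance : K.Normal).map θ hθs
    have hKle : K.map θ ≤ L.map θ := by
      refine H79.le_of_centralizers_le (A := V) hVexp hnc ?_ ?_ ?_
      · rw [normalizer_eq_top]; exact le_top
      · refine Nat.coprime_comm.mp (hpr.coprime_iff_not_dvd.mpr fun hd => ?_)
        obtain ⟨⟨t, ht⟩, hto⟩ := exists_prime_orderOf_dvd_card' p hd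
        rw [orderOf_mk] at hto
        set S₁ := S'.mapSurjective (f := θ) hθs
        have hpz : IsPGroup p (zpowers t) := IsPGroup.of_card (n := 1) (by rw [Nat.card_zpowers, hto, pow_one])
        obtain ⟨T, hT⟩ := hpz.exists_le_sylow
        obtain ⟨g, hg⟩ := MulAction.exists_smul_eq (N ⧸ D') T S₁
        have h1 : g * t * g⁻¹ ∈ S.map θ := by
          have h0 : g * t * g⁻¹ ∈ (S₁ : Subgroup (N ⧸ D')) := by
            rw [← hg, Sylow.coe_subgroup_smul, mem_pointwise_smul_iff_inv_smul_mem]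
            simpa [MulAut.smul_def, mul_assoc] using hT (mem_zpowers t)
          exact h0
        obtain ⟨k, hk, hkt⟩ := (inferInstance : (K.map θ).Normal).conj_mem t ht g
        have hkS : k ∈ S := (memSθ k).mp (hkt ▸ h1)
        have hk1 : θ k = 1 := (QuotientGroup.eq_one_iff k).mpr (hKS ⟨hk, hkS⟩)
        rw [hk1] at hkt
        have : t = 1 := by
          have := congrArg (fun q => g⁻¹ * q * g) hkt
          simpa [mul_assoc] using this.symm
        rw [this, orderOf_one] at hto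
        exact hpr.one_lt.ne hto
      · intro x hx hx1
        rintro _ ⟨⟨k, hk, rfl⟩, hkx⟩
        obtain ⟨s, hs, rfl⟩ := hVS hx
        refine ⟨k, hgen s k hs (fun h => hx1 ((QuotientGroup.eq_one_iff s).mpr h)) ?_, rfl⟩
        rw [← memSθ, map_mul, map_mul, map_inv, mul_assoc, ← mem_centralizer_singleton_iff.mp hkx,
          inv_mul_cancel_left]
        exact ⟨s, hs, rfl⟩
    have hKL : K ≤ L := by
      intro k hk
      obtain ⟨l, hl, hlk⟩ := hKle (hKθ k hk)
      have h1 : l⁻¹ * k ∈ D' := QuotientGroup.eq.mp hlk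
      simpa using mul_mem hl (hDL h1)
    -- hence `A` is good
    set F := B ⊓ S with hF
    have hFL : F ≤ L := inf_le_right.trans hSL
    refine hfrat A hAn (fun x hx => ?_) hAS
    have hFx : F.map (MulAut.conj x).toMonoidHom ≤ K ⊔ F := by
      rintro _ ⟨f, hf, rfl⟩
      obtain ⟨hfB, hfS⟩ : f ∈ B ∧ f ∈ S := hf
      have h1 : x * f * x⁻¹ * f⁻¹ ∈ K := mem_inf.mpr ⟨by
        rw [mul_assoc x f x⁻¹, mul_assoc x]
        exact mul_mem hx (hAn.conj_mem _ (inv_mem hx) f), mul_mem (hBn.conj_mem f hfB x) (inv_mem hfB)⟩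
      show x * f * x⁻¹ ∈ K ⊔ F
      simpa using mul_mem (mem_sup_left h1 : _ ∈ K ⊔ F) (mem_sup_right (show f ∈ F from ⟨hfB, hfS⟩))
    have hKF : ¬ p ∣ F.relIndex (K ⊔ F) := by
      haveI : K.Normal := inferInstance
      have hle : D' ≤ K ⊓ F := le_inf (le_inf hDA hDB) (le_inf hDB hDS)
      have heq : K ⊓ F = D' := le_antisymm ((inf_le_inf_left K inf_le_right).trans hKS) hle
      rw [sup_comm, H34.relIndex_sup_normal, ← inf_relIndex_right, inf_comm, heq, hdiv K inferInstance (le_inf hDA hDB)]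
      exact fun h => h hKS
    have hFp : IsPGroup p F := S'.isPGroup'.to_le inf_le_right
    obtain ⟨m, hm, hmF⟩ := H71.exists_cjBy_le hFp le_sup_right hKF (hFp.map _) hFx
    have hmL : m ∈ L := (sup_le hKL hFL) hm
    have hb₁' : m⁻¹ * x * b₁ * (m⁻¹ * x)⁻¹ ∈ F := hmF (mem_cjBy.mpr ⟨b₁, ⟨hbB₁, hbS₁⟩, by simp [mul_assoc]⟩)
    have hu : (m⁻¹ * x)⁻¹ ∈ L := hgen b₁ _ hbS₁ hb₁D (by rw [inv_inv]; exact hb₁'.2)
    simpa [mul_assoc] using mul_mem hmL (inv_mem hu)
  -- the least member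
  obtain ⟨X₀, hX₀, hmin⟩ := (Set.toFinite ℱ).exists_minimal
    ⟨⊤, inferInstance, le_top, fun h => hs₀D (h ⟨mem_top _, hs₀⟩)⟩
  obtain ⟨hX₀n, hDX₀, hX₀S⟩ := hX₀
  haveI := hX₀n
  have hleast : ∀ M ∈ ℱ, X₀ ≤ M := fun M hM =>
    (hmin (hmeet _ ⟨hX₀n, hDX₀, hX₀S⟩ _ hM) inf_le_left).trans inf_le_right
  set R := (Cfsg.pResidual p ↥X₀).map X₀.subtype with hR
  haveI hRn : R.Normal := by
    haveI : (Cfsg.pResidual p ↥X₀).Characteristic := by
      refine characteristic_iff_map_le.mpr fun e => ?_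
      exact H5.pResidual_map_le (p := p) e.toMonoidHom
    infer_instance
  set X : Subgroup G := X₀.map N.subtype with hX
  have hsub : ∀ Y : Subgroup G, Y ≤ N → (Y.subgroupOf N).map N.subtype = Y := fun Y hY => by
    rw [subgroupOf_map_subtype, inf_eq_left.mpr hY]
  have hXsub : X.subgroupOf N = X₀ := comap_map_eq_self_of_injective N.subtype_injective _
  have hrel : ∀ Y : Subgroup G, Y ≤ N → D.relIndex Y = D'.relIndex (Y.subgroupOf N) := fun Y hY => by
    rw [hD', relIndex_subgroupOf hY]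
  have hstep : ∀ r ∈ R, Step p P' D ((r : N) : G) := by
    intro r hr
    refine ⟨hD, hfn, hcentric, hpp, hconn, X, ⟨?_, map_subtype_le _, hXsub.symm ▸ hX₀n, ?_, ?_⟩, ?_⟩
    · intro d hd
      exact ⟨⟨d, hDN hd⟩, hDX₀ hd, rfl⟩
    · rw [hrel X (map_subtype_le _), hXsub, hdiv X₀ hX₀n hDX₀]
      exact hX₀S
    · intro Y hDY hYN hYn hYp
      rw [hrel Y hYN, hdiv _ hYn (fun d hd => hDY hd)] at hYp
      have := map_mono (f := N.subtype) (hleast _ ⟨hYn, fun d hd => hDY hd, hYp⟩)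
      rwa [hsub Y hYN] at this
    · rw [map_pResidual_subtype]
      have h1 : ((r : N) : G) ∈ ((Cfsg.pResidual p ↥X₀).map X₀.subtype).map N.subtype := ⟨r, hr, rfl⟩
      rw [map_pResidual_subtype, MonoidHom.map_closure] at h1
      refine closure_mono ?_ h1
      rintro _ ⟨g, ⟨hg, hgo⟩, rfl⟩
      exact ⟨⟨g, hg, rfl⟩, by rw [Subgroup.coe_subtype, Subgroup.orderOf_coe]; exact hgo⟩
  have hRL : R ≤ L := fun r hr => mem_goodSubgroup.mpr (Good.of_step (hstep r hr) subset_rfl)
  refine hfrat X₀ hX₀n ?_ hX₀S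
  have hT : IsPGroup p ((X₀ ⊓ S).subgroupOf X₀) := (S'.isPGroup'.to_le inf_le_right).comap_subtype
  have hTi : ¬ p ∣ ((X₀ ⊓ S).subgroupOf X₀).index := by
    show ¬ p ∣ (X₀ ⊓ S).relIndex X₀
    rw [inf_relIndex_left]
    exact H79.not_dvd_relIndex_normal X₀ S'
  have htop := H5.pResidual_sup_sylow (hT.toSylow hTi)
  intro x hx
  have hx' : (⟨x, hx⟩ : X₀) ∈ Cfsg.pResidual p ↥X₀ ⊔ ((hT.toSylow hTi : Sylow p X₀) : Subgroup X₀) :=
    htop.symm ▸ mem_top _
  have hle : (Cfsg.pResidual p ↥X₀ ⊔ (X₀ ⊓ S).subgroupOf X₀).map X₀.subtype ≤ L := by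
    rw [Subgroup.map_sup, subgroupOf_map_subtype]
    exact sup_le hRL (inf_le_left.trans (inf_le_right.trans hSL))
  exact hle ⟨⟨x, hx⟩, hx', rfl⟩

/-- The strong fusion theorem for subgroups. -/
theorem good_sylow (P : Sylow p G) : ∀ (n : ℕ) (R : Subgroup G) (g : G),
    Nat.card (P : Subgroup G) ≤ Nat.card R + n → R ≤ P → cjBy g R ≤ P →
    Good (P : Subgroup G) p R g := by
  intro n
  induction n using Nat.strong_induction_on with
  | _ n ih =>
  intro R g hn hR hRg
  set P' := (P : Subgroup G)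
  have hPp : IsPGroup p P' := P.isPGroup'
  have hbig : ∀ (B : Subgroup G) (u : G), B ≤ P' → cjBy u B ≤ P' → Nat.card R < Nat.card B →
      Good P' p B u := by
    intro B u hB hBu hlt
    have h1 : Nat.card B ≤ Nat.card P' := card_le_of_le hB
    exact ih (Nat.card P' - Nat.card B) (by omega) B u (by omega) hB hBu
  have hcard : ∀ {A B : Subgroup G}, A < B → Nat.card A < Nat.card B := fun {A B} h =>
    lt_of_le_of_ne (card_le_of_le h.le) fun e => h.ne (eq_of_le_of_card_ge h.le e.ge)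
  by_cases hRP : R = P'
  · subst hRP
    have h1 : cjBy g P' = P' := eq_of_le_of_card_ge hRg (card_cjBy g P').ge
    refine Good.of_normalizer (mem_normalizer_iff''.mpr fun x => ?_)
    conv_rhs => rw [← h1]
    rw [mem_cjBy]
    simp [mul_assoc]
  set N := normalizer (R : Set G)
  have hbigN : ∀ (B : Subgroup G), B ≤ P' → Nat.card B = Nat.card R →
      Nat.card R < Nat.card (P' ⊓ normalizer (B : Set G) : Subgroup G) := by
    intro B hB hc
    rw [← hc]
    refine hcard (lt_inf_normalizer hPp hB fun h => hRP ?_)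
    exact eq_of_le_of_card_ge hR (by rw [← hc, h])
  obtain ⟨S₀, hS₀⟩ := ((hPp.to_le inf_le_left : IsPGroup p (P' ⊓ N : Subgroup G)).comap_subtype (K := N)).exists_le_sylow
  obtain ⟨T, hT⟩ := (S₀.isPGroup'.map N.subtype).exists_le_sylow
  obtain ⟨a, ha⟩ := MulAction.exists_smul_eq G T P
  set h := a⁻¹
  set D := cjBy h R
  have hS₀P : cjBy h ((S₀ : Subgroup N).map N.subtype) ≤ P' := by
    intro z hz
    rw [mem_cjBy] at hz
    show z ∈ (P : Subgroup G)
    rw [← ha, Sylow.coe_subgroup_smul, mem_pointwise_smul_iff_inv_smul_mem]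
    simpa [h, mul_assoc] using hT hz
  have hRS : R ≤ P' ⊓ N := le_inf hR le_normalizer
  have hSS : P' ⊓ N ≤ (S₀ : Subgroup N).map N.subtype := by
    intro z hz
    exact ⟨⟨z, hz.2⟩, hS₀ hz, rfl⟩
  have hD : D ≤ P' := (cjBy_mono (hRS.trans hSS)).trans hS₀P
  set ND := normalizer (D : Set G) with hND
  have hND' : ND = cjBy h N := normalizer_cjBy h R
  have hSD : cjBy h ((S₀ : Subgroup N).map N.subtype) ≤ ND :=
    hND' ▸ cjBy_mono (map_subtype_le _)
  have hfn : ¬ p ∣ (P' ⊓ ND).relIndex ND := by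
    intro hd
    have h1 : (cjBy h ((S₀ : Subgroup N).map N.subtype)).relIndex ND = (S₀ : Subgroup N).index := by
      rw [hND', cjBy, cjBy, relIndex_map_map_of_injective _ _ (MulAut.conj h⁻¹).injective,
        relIndex, subgroupOf, comap_map_eq_self_of_injective N.subtype_injective]
    exact S₀.not_dvd_index (h1 ▸ hd.trans (relIndex_dvd_of_le_left ND (le_inf hS₀P hSD)))
  have hgood₁ : Good P' p R h := by
    refine Good.mono (B := ((P' ⊓ N : Subgroup G) : Set G)) (fun x hx => hRS hx) ?_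
    exact hbig _ h inf_le_left ((cjBy_mono hSS).trans hS₀P) (hbigN R hR rfl)
  set R' := cjBy g R
  have hR'c : Nat.card R' = Nat.card R := card_cjBy g R
  set T' := cjBy (g⁻¹ * h) (P' ⊓ normalizer (R' : Set G))
  have hDR' : cjBy (g⁻¹ * h) R' = D := by rw [cjBy_mul, mul_inv_cancel_left]
  have hT'N : T' ≤ ND := by
    have : ND = cjBy (g⁻¹ * h) (normalizer (R' : Set G)) := by rw [← normalizer_cjBy, hDR']
    rw [this]
    exact cjBy_mono inf_le_right
  obtain ⟨m, hm, hmT⟩ := H71.exists_cjBy_le (hPp.to_le inf_le_left : IsPGroup p (P' ⊓ ND : Subgroup G))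
    inf_le_right hfn (isPGroup_cjBy (hPp.to_le inf_le_left) : IsPGroup p T') hT'N
  set h' := g⁻¹ * h * m
  set R'' := cjBy h' (P' ⊓ normalizer (R' : Set G))
  have hR''P : R'' ≤ P' := by
    show cjBy (g⁻¹ * h * m) _ ≤ _
    rw [← cjBy_mul]
    exact hmT.trans inf_le_left
  have hDR'' : D ≤ R'' := by
    have h1 : cjBy m D = D := by
      ext z
      rw [mem_cjBy]
      exact (mem_normalizer_iff.mp hm z).symm
    rw [← h1, ← hDR', cjBy_mul]
    exact cjBy_mono (le_inf hRg le_normalizer)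
  have hgood₃ : Good P' p D h'⁻¹ := by
    refine Good.mono (B := (R'' : Set G)) hDR'' (hbig R'' h'⁻¹ hR''P ?_ ?_)
    · rw [cjBy_mul, mul_inv_cancel, cjBy_one]
      exact inf_le_left
    · rw [card_cjBy]
      exact hbigN R' hRg hR'c
  have hy : h⁻¹ * g * h' ∈ ND := by
    have : h⁻¹ * g * h' = m := by simp [h', mul_assoc]
    rw [this]
    exact hm
  have hgood₂ : Good P' p D (h⁻¹ * g * h') := good_core P D hD hfn (fun B u hDB hB hBu =>
    hbig B u hB hBu (by rw [← card_cjBy h R]; exact hcard hDB)) hy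
  have e : g = h * ((h⁻¹ * g * h') * h'⁻¹) := by simp [mul_assoc]
  rw [e]
  refine hgood₁.trans (Good.mono ?_ (hgood₂.trans (Good.mono ?_ hgood₃)))
  · rintro _ ⟨r, hr, rfl⟩
    exact mem_cjBy.mpr (by simpa [mul_assoc] using hr)
  · rw [image_conj_normalizer hy]

end H79.StrongFusion
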