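import Cfsg.Prelude.Def_SylowChains
import Cfsg.Prelude.Def_Local
import Cfsg.Prelude.Def_Transfer
import Cfsg.Agent.H71.Goldschmidt
import Cfsg.Agent.H1.Cores
import Mathlib.GroupTheory.QuotientGroup.Basic

/-!
Steps and chains for the strong form of the Alperin–Goldschmidt fusion theorem, and their invariance
under automorphisms fixing the Sylow subgroup.
-/

set_option autoImplicit false
set_option linter.unusedSectionVars false

namespace H79.StrongFusion

open Subgroup
open scoped Pointwise
open H71 (cjBy mem_cjBy conj_image_mul conj_image_of_centralizes)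

variable {G : Type*} [Group G] {p : ℕ}

/-- An admissible step. -/
def Step (p : ℕ) (P H : Subgroup G) (x : G) : Prop :=
  H ≤ P ∧
  ¬ p ∣ (P ⊓ normalizer (H : Set G)).relIndex (normalizer (H : Set G)) ∧
  P ⊓ centralizer (H : Set G) ≤ H ∧
  (Cfsg.pPrimePCore p ↥(normalizer (H : Set G))).map (normalizer (H : Set G)).subtype =
    H ⊔ centralizer (H : Set G) ∧
  ¬ Cfsg.IsSylowChainConnected p (↥(normalizer (H : Set G)) ⧸ H.subgroupOf (normalizer (H : Set G))) ∧
  ∃ X : Subgroup G,
    (H ≤ X ∧ X ≤ normalizer (H : Set G) ∧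
      (X.subgroupOf (normalizer (H : Set G))).Normal ∧ p ∣ H.relIndex X ∧
      ∀ Y : Subgroup G, H ≤ Y → Y ≤ normalizer (H : Set G) →
        (Y.subgroupOf (normalizer (H : Set G))).Normal → p ∣ H.relIndex Y → X ≤ Y) ∧
    x ∈ (Cfsg.pResidual p ↥X).map X.subtype

/-- A chain of steps carrying `A`. -/
def Chain (P : Subgroup G) (p : ℕ) : Set G → List (Subgroup G × G) → Prop
  | _, [] => True
  | A, (H, x) :: l => Step p P H x ∧ A ⊆ (H : Set G) ∧ Chain P p ((fun a => x⁻¹ * a * x) '' A) l

/-- A factorization of the conjugation of `A` by `g`. -/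
def Good (P : Subgroup G) (p : ℕ) (A : Set G) (g : G) : Prop :=
  ∃ (c : G) (l : List (Subgroup G × G)) (y : G), c ∈ centralizer A ∧ y ∈ normalizer (P : Set G) ∧
    Chain P p A l ∧ g = c * (l.map Prod.snd).prod * y

theorem Chain.mono {P : Subgroup G} : ∀ {l : List (Subgroup G × G)} {A B : Set G}, A ⊆ B →
    Chain P p B l → Chain P p A l := by
  intro l
  induction l with
  | nil => exact fun _ _ => trivial
  | cons d l ih => exact fun hAB h => ⟨h.1, hAB.trans h.2.1, ih (Set.image_mono hAB) h.2.2⟩

theorem Good.mono {P : Subgroup G} {A B : Set G} {g : G} (hAB : A ⊆ B) (h : Good P p B g) :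
    Good P p A g := by
  obtain ⟨c, l, y, hc, hy, hl, e⟩ := h
  exact ⟨c, l, y, centralizer_le hAB hc, hy, hl.mono hAB, e⟩

theorem chain_append {P : Subgroup G} : ∀ {l l' : List (Subgroup G × G)} {A : Set G},
    Chain P p A l →
    Chain P p ((fun a => ((l.map Prod.snd).prod)⁻¹ * a * (l.map Prod.snd).prod) '' A) l' →
    Chain P p A (l ++ l') := by
  intro l
  induction l with
  | nil => intro l' A _ h; simpa using h
  | cons d l ih =>
    intro l' A h h'
    refine ⟨h.1, h.2.1, ih h.2.2 ?_⟩
    rw [conj_image_mul]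
    simpa using h'

theorem chain_fin {P : Subgroup G} : ∀ {l : List (Subgroup G × G)} {A : Set G}, Chain P p A l →
    ∀ i : Fin l.length, Step p P (l.get i).1 (l.get i).2 ∧
      (fun a => (((l.map Prod.snd).take i.val).prod)⁻¹ * a * ((l.map Prod.snd).take i.val).prod) '' A ⊆
        ((l.get i).1 : Set G) := by
  intro l
  induction l with
  | nil => exact fun _ i => i.elim0
  | cons d l ih =>
    intro A h i
    refine Fin.cases ?_ (fun j => ?_) i
    · exact ⟨h.1, by simpa using h.2.1⟩
    · obtain ⟨h1, h3⟩ := ih h.2.2 j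
      refine ⟨h1, ?_⟩
      rw [conj_image_mul] at h3
      simpa using h3

section transport

variable [Finite G]

theorem map_pPrimePCore_equiv {A B : Type*} [Group A] [Group B] [Finite A] (f : A ≃* B) :
    (Cfsg.pPrimePCore p A).map f.toMonoidHom = Cfsg.pPrimePCore p B := by
  haveI := H1.pPrimeCore_normal' p A
  haveI := H1.pPrimeCore_normal' p B
  set F := QuotientGroup.congr (Cfsg.pPrimeCore p A) (Cfsg.pPrimeCore p B) f (H1.map_pPrimeCore_equiv p f)
  ext y
  rw [mem_map_equiv]
  show QuotientGroup.mk' _ (f.symm y) ∈ Cfsg.pCore p _ ↔ QuotientGroup.mk' _ y ∈ Cfsg.pCore p _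
  rw [← H1.map_pCore_equiv p F, show ((F : A ⧸ Cfsg.pPrimeCore p A →* B ⧸ Cfsg.pPrimeCore p B)) = F.toMonoidHom from rfl, mem_map_equiv]
  have : F.symm (QuotientGroup.mk' _ y) = QuotientGroup.mk' _ (f.symm y) := by
    rw [MulEquiv.symm_apply_eq]
    show _ = F (QuotientGroup.mk (f.symm y))
    rw [QuotientGroup.congr_mk]
    simp
  rw [this]

theorem connected_congr {A B : Type*} [Group A] [Group B] (f : A ≃* B)
    (h : Cfsg.IsSylowChainConnected p A) : Cfsg.IsSylowChainConnected p B := by
  intro S T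
  have hs : Function.Surjective f.symm.toMonoidHom := f.symm.surjective
  let dn : Sylow p B → Sylow p A := fun S =>
    S.comapOfInjective f.toMonoidHom f.injective (by
      rw [MonoidHom.range_eq_top.mpr f.surjective]; exact le_top)
  let up : Sylow p A → Sylow p B := fun S =>
    S.comapOfInjective f.symm.toMonoidHom f.symm.injective (by
      rw [MonoidHom.range_eq_top.mpr f.symm.surjective]; exact le_top)
  have hmem : ∀ (S : Sylow p A) (x : B), x ∈ (up S : Subgroup B) ↔ f.symm x ∈ (S : Subgroup A) :=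
    fun S x => Iff.rfl
  have hud : ∀ S : Sylow p B, up (dn S) = S := fun S => Sylow.ext (SetLike.ext fun x => by
    rw [hmem]
    show f (f.symm x) ∈ (S : Subgroup B) ↔ _
    rw [f.apply_symm_apply])
  obtain ⟨n, c, h0, hl, hin, hadj⟩ := h (dn S) (dn T)
  refine ⟨n, fun i => up (c i), by simp [h0, hud], by simp [hl, hud], fun i x hx => ?_, fun i => ⟨fun e => ?_, fun e => ?_⟩⟩
  · rw [hmem]
    refine hin i ⟨?_, ?_⟩
    · show f (f.symm x) ∈ (S : Subgroup B); rw [f.apply_symm_apply]; exact hx.1
    · show f (f.symm x) ∈ (T : Subgroup B); rw [f.apply_symm_apply]; exact hx.2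
  · refine (hadj i).1 (Sylow.ext (SetLike.ext fun a => ?_))
    have := SetLike.ext_iff.mp (congrArg Sylow.toSubgroup e) (f a)
    rwa [hmem, hmem, f.symm_apply_apply] at this
  · refine (hadj i).2 ((eq_bot_iff_forall _).mpr fun a ha => ?_)
    have h2 : f a ∈ (up (c i.castSucc) : Subgroup B) ⊓ (up (c i.succ) : Subgroup B) :=
      ⟨(hmem _ _).mpr (by rw [f.symm_apply_apply]; exact ha.1),
       (hmem _ _).mpr (by rw [f.symm_apply_apply]; exact ha.2)⟩
    rw [e, mem_bot] at h2
    simpa using h2

theorem map_pResidual_subtype (X : Subgroup G) :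
    (Cfsg.pResidual p ↥X).map X.subtype = closure {g : G | g ∈ X ∧ Nat.Coprime (orderOf g) p} := by
  rw [Cfsg.pResidual, MonoidHom.map_closure]
  congr 1
  ext g
  constructor
  · rintro ⟨x, hx, rfl⟩
    exact ⟨x.2, by rw [Subgroup.coe_subtype, Subgroup.orderOf_coe]; exact hx⟩
  · rintro ⟨hg, ho⟩
    exact ⟨⟨g, hg⟩, by rw [Set.mem_ofPred_eq, orderOf_mk]; exact ho, rfl⟩

theorem Step.map (e : G ≃* G) {P H : Subgroup G} {x : G} (heP : P.map e.toMonoidHom = P)
    (h : Step p P H x) : Step p P (H.map e.toMonoidHom) (e x) := by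
  obtain ⟨h1, h2, h3, h4, h5, X, ⟨hHX, hXN, hXn, hXp, hXmin⟩, hx⟩ := h
  have hN : normalizer ((H.map e.toMonoidHom : Subgroup G) : Set G) =
      (normalizer (H : Set G)).map e.toMonoidHom := (map_equiv_normalizer_eq H e).symm
  have hC : centralizer ((H.map e.toMonoidHom : Subgroup G) : Set G) =
      (centralizer (H : Set G)).map e.toMonoidHom := by
    ext g
    rw [mem_map_equiv, mem_centralizer_iff, mem_centralizer_iff]
    constructor
    · intro hg a ha
      apply e.injective
      simpa using hg (e a) ⟨a, ha, rfl⟩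
    · rintro hg _ ⟨a, ha, rfl⟩
      apply e.symm.injective
      simpa using hg a ha
  set N := normalizer (H : Set G) with hNdef
  set N' := normalizer ((H.map e.toMonoidHom : Subgroup G) : Set G) with hN'def
  let f : N ≃* N' := (e.subgroupMap N).trans (MulEquiv.subgroupCongr hN.symm)
  have hf : ∀ a : N, ((f a : N') : G) = e a := fun a => rfl
  have hfmap : ∀ K : Subgroup N, (K.map f.toMonoidHom).map N'.subtype =
      (K.map N.subtype).map e.toMonoidHom := fun K => by
    rw [Subgroup.map_map, Subgroup.map_map]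
    rfl
  refine ⟨(map_mono h1).trans heP.le, ?_, ?_, ?_, ?_, X.map e.toMonoidHom,
    ⟨map_mono hHX, (map_mono hXN).trans hN.ge, ?_, ?_, ?_⟩, ?_⟩
  · rw [show normalizer ((H.map e.toMonoidHom : Subgroup G) : Set G) = N.map e.toMonoidHom from hN]
    conv in P ⊓ _ => rw [← heP]
    rw [← map_inf _ _ _ e.injective, relIndex_map_map_of_injective _ _ e.injective]
    exact h2
  · rw [hC]
    conv_lhs => rw [← heP]
    rw [← map_inf _ _ _ e.injective]
    exact map_mono h3
  · rw [← map_pPrimePCore_equiv f, hfmap, h4, hC, Subgroup.map_sup]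
  · intro hc
    apply h5
    have hHf : (H.subgroupOf N).map f.toMonoidHom = (H.map e.toMonoidHom).subgroupOf N' := by
      ext a
      rw [mem_map_equiv, mem_subgroupOf, mem_subgroupOf, mem_map_equiv]
      have : ((f.symm a : N) : G) = e.symm a := by
        rw [eq_comm, MulEquiv.symm_apply_eq, ← hf, f.apply_symm_apply]
      rw [this]
    exact connected_congr (QuotientGroup.congr _ _ f hHf).symm hc
  · refine ⟨fun a ha g => ?_⟩
    rw [mem_subgroupOf] at ha ⊢
    rw [mem_map_equiv] at ha ⊢
    have hg : e.symm (g : G) ∈ N := mem_map_equiv.mp (hN ▸ g.2)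
    have ha' : e.symm (a : G) ∈ N := hXN ha
    have := hXn.conj_mem ⟨_, ha'⟩ ha ⟨_, hg⟩
    rw [mem_subgroupOf] at this
    show e.symm ((g : G) * (a : G) * (g : G)⁻¹) ∈ X
    simpa [map_mul] using this
  · rw [relIndex_map_map_of_injective _ _ e.injective]; exact hXp
  · intro Y hHY hYN hYn hYp
    have key : X ≤ Y.map e.symm.toMonoidHom := by
      refine hXmin _ ?_ ?_ ⟨fun a ha g => ?_⟩ ?_
      · intro a ha
        exact ⟨e a, hHY ⟨a, ha, rfl⟩, e.symm_apply_apply a⟩
      · rintro _ ⟨y, hy, rfl⟩
        exact mem_map_equiv.mp (hN ▸ hYN hy)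
      · rw [mem_subgroupOf, mem_map_equiv, MulEquiv.symm_symm] at ha ⊢
        have hg : e (g : G) ∈ N' := by rw [hN]; exact ⟨g, g.2, rfl⟩
        have ha' : e (a : G) ∈ N' := hYN ha
        have := hYn.conj_mem ⟨_, ha'⟩ ha ⟨_, hg⟩
        rw [mem_subgroupOf] at this
        simp only [coe_mul, coe_inv] at this
        simpa [map_mul] using this
      · rw [← relIndex_map_map_of_injective (f := e.toMonoidHom) _ _ e.injective, Subgroup.map_map]
        convert hYp using 2
        conv_rhs => rw [← Subgroup.map_id Y]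
        congr 1
        exact MonoidHom.ext fun a => by simp
    rintro _ ⟨a, ha, rfl⟩
    obtain ⟨y, hy, rfl⟩ := key ha
    simpa using hy
  · rw [map_pResidual_subtype] at hx ⊢
    have := mem_map_of_mem e.toMonoidHom hx
    rw [MonoidHom.map_closure] at this
    refine closure_mono ?_ this
    rintro _ ⟨a, ⟨ha, ho⟩, rfl⟩
    exact ⟨⟨a, ha, rfl⟩, by rw [MulEquiv.coe_toMonoidHom, e.orderOf_eq]; exact ho⟩

theorem Chain.map (e : G ≃* G) {P : Subgroup G} (heP : P.map e.toMonoidHom = P) :
    ∀ {l : List (Subgroup G × G)} {A : Set G}, Chain P p A l →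
      Chain P p (e '' A) (l.map fun d => (d.1.map e.toMonoidHom, e d.2)) := by
  intro l
  induction l with
  | nil => exact fun _ => trivial
  | cons d l ih =>
    intro A h
    refine ⟨h.1.map e heP, ?_, ?_⟩
    · rintro _ ⟨a, ha, rfl⟩
      exact ⟨a, h.2.1 ha, rfl⟩
    · have := ih h.2.2
      rw [Set.image_image] at this ⊢
      simpa using this

theorem Good.trans {P : Subgroup G} {A : Set G} {g g' : G} (h : Good P p A g)
    (h' : Good P p ((fun a => g⁻¹ * a * g) '' A) g') : Good P p A (g * g') := by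
  obtain ⟨c, l, y, hc, hy, hl, rfl⟩ := h
  obtain ⟨c', l', y', hc', hy', hl', rfl⟩ := h'
  set u := (l.map Prod.snd).prod with hu
  have e1 : (fun a => (c * u * y)⁻¹ * a * (c * u * y)) '' A = (fun a => (u * y)⁻¹ * a * (u * y)) '' A := by
    rw [mul_assoc c]; exact conj_image_of_centralizes hc (u * y)
  rw [e1] at hc' hl'
  have hyP : P.map (MulAut.conj y).toMonoidHom = P := mem_normalizer_iff_map_conj_eq.mp hy
  have h2 := hl'.map (MulAut.conj y) hyP
  rw [Set.image_image] at h2
  refine ⟨c * (u * y * c' * y⁻¹ * u⁻¹), l ++ l'.map (fun d => (d.1.map (MulAut.conj y).toMonoidHom,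
    MulAut.conj y d.2)), y * y', mul_mem hc ?_, mul_mem hy hy', chain_append hl ?_, ?_⟩
  · intro a ha
    have h1 := congrArg (fun z => u * y * z * y⁻¹ * u⁻¹) (hc' _ ⟨a, ha, rfl⟩)
    simpa [mul_assoc] using h1
  · convert h2 using 1
    refine Set.image_congr fun a _ => ?_
    simp [← hu, mul_assoc]
  · rw [List.map_append, List.prod_append, List.map_map,
      show (Prod.snd ∘ fun d : Subgroup G × G => (d.1.map (MulAut.conj y).toMonoidHom, MulAut.conj y d.2)) =
        MulAut.conj y ∘ Prod.snd from rfl, ← List.map_map, ← map_list_prod]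
    simp [hu, mul_assoc]

theorem Good.one (P : Subgroup G) (A : Set G) : Good P p A 1 :=
  ⟨1, [], 1, one_mem _, one_mem _, trivial, by simp⟩

theorem Good.of_centralizer {P : Subgroup G} {A : Set G} {c : G} (hc : c ∈ centralizer A) :
    Good P p A c := ⟨c, [], 1, hc, one_mem _, trivial, by simp⟩

theorem Good.of_normalizer {P : Subgroup G} {A : Set G} {y : G} (hy : y ∈ normalizer (P : Set G)) :
    Good P p A y := ⟨1, [], y, one_mem _, hy, trivial, by simp⟩

theorem Good.of_step {P H : Subgroup G} {A : Set G} {x : G} (h : Step p P H x) (hA : A ⊆ (H : Set G)) :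
    Good P p A x := ⟨1, [(H, x)], 1, one_mem _, one_mem _, ⟨h, hA, trivial⟩, by simp⟩

theorem image_conj_normalizer {D : Subgroup G} {u : G} (hu : u ∈ normalizer (D : Set G)) :
    (fun a => u⁻¹ * a * u) '' (D : Set G) = D := by
  ext x
  constructor
  · rintro ⟨a, ha, rfl⟩
    exact (mem_normalizer_iff''.mp hu a).mp ha
  · intro hx
    exact ⟨u * x * u⁻¹, (mem_normalizer_iff.mp hu x).mp hx, by group⟩

/-- The elements of the normalizer of `D` which are good for `D`. -/
def goodSubgroup (P D : Subgroup G) (p : ℕ) : Subgroup ↥(normalizer (D : Set G)) where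
  carrier := {u | Good P p (D : Set G) (u : G)}
  one_mem' := Good.one P _
  mul_mem' := fun {u v} hu hv => by
    refine Good.trans hu ?_
    rw [image_conj_normalizer u.2]
    exact hv
  inv_mem' := fun {u} hu => by
    have h : ∀ n : ℕ, Good P p (D : Set G) ((u : G) ^ n) := by
      intro n
      induction n with
      | zero => simpa using Good.one P _
      | succ n ih =>
        rw [pow_succ]
        refine Good.trans ih ?_
        rw [image_conj_normalizer (pow_mem u.2 n)]
        exact hu
    have e : ((u⁻¹ : ↥(normalizer (D : Set G))) : G) = (u : G) ^ (orderOf (u : G) - 1) := by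
      rw [coe_inv, inv_eq_iff_mul_eq_one, ← pow_succ',
        Nat.sub_add_cancel (orderOf_pos (u : G)), pow_orderOf_eq_one]
    rw [Set.mem_ofPred_eq, e]
    exact h _

theorem mem_goodSubgroup {P D : Subgroup G} {u : ↥(normalizer (D : Set G))} :
    u ∈ goodSubgroup P D p ↔ Good P p (D : Set G) (u : G) := Iff.rfl

end transport

end H79.StrongFusion
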