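import Cfsg.Agent.H76.SPE
import Cfsg.Agent.H79.Sylow
import Cfsg.Prelude.Def_SylowChains
import Mathlib.Logic.Relation
import Mathlib.Data.List.Chain
import Mathlib.Tactic.Group

set_option autoImplicit false

/-!
Chain-connectedness of the Sylow subgroups and strongly p-embedded subgroups.
-/

namespace H79

open Subgroup
open scoped Pointwise

variable {G : Type*} [Group G] {p : ℕ}

/-- The classical definition of a strongly `p`-embedded subgroup. -/
def ClassicalSPE (p : ℕ) (H : Subgroup G) : Prop :=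
  H ≠ ⊤ ∧ p ∣ Nat.card H ∧
    ∀ g : G, g ∉ H → ¬ p ∣ Nat.card ↥(H ⊓ H.map (MulAut.conj g).toMonoidHom)

theorem mem_conj_map {g x : G} {H : Subgroup G} :
    x ∈ H.map (MulAut.conj g).toMonoidHom ↔ g⁻¹ * x * g ∈ H := by
  constructor
  · rintro ⟨y, hy, rfl⟩
    simpa [mul_assoc] using hy
  · exact fun h => ⟨_, h, by simp [mul_assoc]⟩

theorem dvd_card_of_orderOf_eq [Finite G] {H : Subgroup G} {x : G} (hx : x ∈ H)
    (ho : orderOf x = p) : p ∣ Nat.card H := by
  have := orderOf_dvd_natCard (⟨x, hx⟩ : H)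
  rwa [Subgroup.orderOf_mk, ho] at this

theorem classicalSPE_iff [Finite G] [Fact p.Prime] {H : Subgroup G} :
    ClassicalSPE p H ↔ Cfsg.IsStronglyPEmbedded p H := by
  constructor
  · rintro ⟨hne, hd, hse⟩
    have key : ∀ g x : G, x ∈ H → g⁻¹ * x * g ∈ H → orderOf x = p → g ∈ H := by
      intro g x hx hgx ho
      by_contra hg
      exact hse g hg (dvd_card_of_orderOf_eq (H := H ⊓ H.map (MulAut.conj g).toMonoidHom)
        ⟨hx, mem_conj_map.mpr hgx⟩ ho)
    refine H76.spe_of_centralizer_le hne (fun x hx ho c hc => key c x hx ?_ ho) fun S g hg => ?_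
    · rw [mul_assoc, ← mem_centralizer_singleton_iff.mp hc, inv_mul_cancel_left]
      exact hx
    · obtain ⟨x, hx⟩ := exists_prime_orderOf_dvd_card' p (S.dvd_card_of_dvd_card hd)
      have hm : ((x : H) : G) ∈ (S : Subgroup H).map H.subtype := ⟨_, x.2, rfl⟩
      refine key g ((x : H) : G) (x : H).2 ?_ (by rw [orderOf_coe, orderOf_coe, hx])
      exact map_subtype_le _ ((mem_normalizer_iff''.mp hg _).mp hm)
  · intro hH
    refine ⟨H76.spe_ne_top hH, H76.spe_dvd_card hH, fun g hg hd => hg ?_⟩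
    obtain ⟨x, hx⟩ := exists_prime_orderOf_dvd_card' p hd
    obtain ⟨h1, h2⟩ := mem_inf.mp x.2
    have := H76.spe_conj_mem hH (g := g⁻¹) h1 (by rw [orderOf_coe, hx])
      (by rw [inv_inv]; exact mem_conj_map.mp h2)
    exact (inv_mem_iff).mp this

/-- Two Sylow subgroups are linked. -/
def SylowAdj (S T : Sylow p G) : Prop :=
  S ≠ T ∧ (S : Subgroup G) ⊓ (T : Subgroup G) ≠ ⊥

theorem SylowAdj.symm {S T : Sylow p G} (h : SylowAdj S T) : SylowAdj T S :=
  ⟨h.1.symm, by rw [inf_comm]; exact h.2⟩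

theorem SylowAdj.smul {S T : Sylow p G} (h : SylowAdj S T) (g : G) : SylowAdj (g • S) (g • T) := by
  refine ⟨fun e => h.1 (smul_left_cancel g e), fun e => h.2 ?_⟩
  rw [eq_bot_iff]
  intro x hx
  have hmem : ∀ U : Sylow p G, x ∈ (U : Subgroup G) → g * x * g⁻¹ ∈ ((g • U : Sylow p G) : Subgroup G) := by
    intro U hU
    rw [Sylow.coe_subgroup_smul]
    exact ⟨x, hU, rfl⟩
  have : g * x * g⁻¹ ∈ (⊥ : Subgroup G) := e ▸ ⟨hmem S hx.1, hmem T hx.2⟩
  simpa using this

theorem reflTransGen_smul {S T : Sylow p G} (h : Relation.ReflTransGen SylowAdj S T) (g : G) :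
    Relation.ReflTransGen SylowAdj (g • S) (g • T) :=
  h.lift (g • ·) fun _ _ hab => hab.smul g

theorem reflTransGen_symm {S T : Sylow p G} (h : Relation.ReflTransGen SylowAdj S T) :
    Relation.ReflTransGen SylowAdj T S := by
  induction h with
  | refl => exact .refl
  | tail _ hbc ih => exact .head hbc.symm ih

theorem isSylowChainConnected_iff :
    Cfsg.IsSylowChainConnected p G ↔ ∀ S T : Sylow p G, Relation.ReflTransGen SylowAdj S T := by
  constructor
  · intro h S T
    obtain ⟨n, c, h0, hn, -, hs⟩ := h S T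
    rw [← h0, ← hn]
    suffices ∀ i : Fin (n + 1), Relation.ReflTransGen SylowAdj (c 0) (c i) from this _
    intro i
    induction i using Fin.induction with
    | zero => exact .refl
    | succ j ih => exact ih.tail (hs j)
  · intro h S T
    by_cases hST : S = T
    · exact ⟨0, fun _ => S, rfl, hST, fun _ => inf_le_left, fun i => i.elim0⟩
    by_cases hI : (S : Subgroup G) ⊓ (T : Subgroup G) = ⊥
    · obtain ⟨l, hne, hc, hh, hl⟩ := List.exists_isChain_ne_nil_of_relationReflTransGen (h S T)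
      obtain ⟨n, hn⟩ : ∃ n, l.length = n + 1 :=
        Nat.exists_eq_add_one.mpr (List.length_pos_iff.mpr hne)
      refine ⟨n, fun i => l[i.val]'(by omega), ?_, ?_, fun i => hI.le.trans bot_le, fun i => ?_⟩
      · rw [← hh]; exact (List.head_eq_getElem hne).symm
      · rw [← hl, List.getLast_eq_getElem]; simp [hn]
      · simpa [SylowAdj] using List.isChain_iff_getElem.mp hc i.val (by omega)
    · refine ⟨1, ![S, T], rfl, rfl, fun i => ?_, fun i => ?_⟩
      · fin_cases i <;> simp
      · fin_cases i; simpa using ⟨hST, hI⟩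

theorem exists_spe_of_not_connected [Finite G] [Fact p.Prime]
    (h : ¬ Cfsg.IsSylowChainConnected p G) : ∃ H : Subgroup G, ClassicalSPE p H := by
  rw [isSylowChainConnected_iff] at h
  push_neg at h
  obtain ⟨S, T, hST⟩ := h
  let H : Subgroup G :=
    { carrier := {g | Relation.ReflTransGen SylowAdj S (g • S)}
      one_mem' := by show Relation.ReflTransGen SylowAdj S ((1 : G) • S); rw [one_smul]
      mul_mem' := by
        intro a b ha hb
        show Relation.ReflTransGen SylowAdj S ((a * b) • S)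
        rw [mul_smul]
        exact ha.trans (reflTransGen_smul hb a)
      inv_mem' := by
        intro a ha
        have := reflTransGen_symm (reflTransGen_smul ha a⁻¹)
        rwa [inv_smul_smul] at this }
  refine ⟨H, ?_, ?_, ?_⟩
  · intro htop
    obtain ⟨g, rfl⟩ := MulAction.exists_smul_eq G S T
    have : g ∈ H := htop ▸ mem_top g
    exact hST this
  · have hS1 : (S : Subgroup G) ≠ ⊥ := by
      intro h0
      have e : S = T := by
        refine Sylow.ext (eq_of_le_of_card_ge (h0 ▸ bot_le) (le_of_eq ?_))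
        rw [T.card_eq_multiplicity, S.card_eq_multiplicity]
      exact hST (e ▸ .refl)
    have hSH : (S : Subgroup G) ≤ H := by
      intro s hs
      show Relation.ReflTransGen SylowAdj S (s • S)
      rw [Sylow.smul_eq_iff_mem_normalizer.mpr (le_normalizer hs)]
    obtain ⟨x, hx, hxp, -⟩ := H76.exists_central_orderOf_eq S.isPGroup' hS1
    exact dvd_card_of_orderOf_eq (hSH hx) hxp
  · intro g hg hd
    apply hg
    obtain ⟨x, hx⟩ := exists_prime_orderOf_dvd_card' p hd
    obtain ⟨h1, h2⟩ := mem_inf.mp x.2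
    rw [mem_conj_map] at h2
    have hxp : orderOf (x : G) = p := by rw [orderOf_coe, hx]
    have hSH : (S : Subgroup G) ≤ H := by
      intro s hs
      show Relation.ReflTransGen SylowAdj S (s • S)
      rw [Sylow.smul_eq_iff_mem_normalizer.mpr (le_normalizer hs)]
    have inH : ∀ y ∈ H, orderOf y = p → ∃ U : Sylow p G,
        y ∈ (U : Subgroup G) ∧ Relation.ReflTransGen SylowAdj S U := by
      intro y hy ho
      obtain ⟨k, hk, hky⟩ := H76.exists_conj_mem_sylow (S.subtype hSH) (zpowers_le.mpr hy)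
        (IsPGroup.iff_card.mpr ⟨1, by rw [Nat.card_zpowers, ho, pow_one]⟩)
      have := hky y (mem_zpowers y)
      rw [Sylow.coe_subtype, map_subgroupOf_eq_of_le hSH] at this
      refine ⟨k⁻¹ • S, ?_, H.inv_mem hk⟩
      rw [Sylow.coe_subgroup_smul]
      exact ⟨_, this, by simp [mul_assoc]⟩
    obtain ⟨U, hU, hSU⟩ := inH _ h1 hxp
    obtain ⟨V, hV, hSV⟩ := inH _ h2 (by
      have := H76.orderOf_conj g⁻¹ (x : G)
      rwa [inv_inv, hxp] at this)
    have hgV : (x : G) ∈ ((g • V : Sylow p G) : Subgroup G) := by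
      rw [Sylow.coe_subgroup_smul]
      exact ⟨_, hV, by simp [mul_assoc]⟩
    show Relation.ReflTransGen SylowAdj S (g • S)
    have hUV : Relation.ReflTransGen SylowAdj U (g • V) := by
      by_cases e : U = g • V
      · rw [e]
      · refine .single ⟨e, fun hb => ?_⟩
        have : (x : G) ∈ (⊥ : Subgroup G) := hb ▸ ⟨hU, hgV⟩
        rw [mem_bot.mp this, orderOf_one] at hxp
        exact (Fact.out : p.Prime).ne_one hxp.symm
    exact (hSU.trans hUV).trans (reflTransGen_smul (reflTransGen_symm hSV) g)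

theorem not_connected_of_spe [Finite G] [Fact p.Prime] {H : Subgroup G}
    (hH : Cfsg.IsStronglyPEmbedded p H) : ¬ Cfsg.IsSylowChainConnected p G := by
  rw [isSylowChainConnected_iff]
  intro h
  obtain ⟨S, hS, hS1, -⟩ := H76.spe_exists_sylow_le hH
  have hall : ∀ T : Sylow p G, (T : Subgroup G) ≤ H := by
    intro T
    induction h S T with
    | refl => exact hS
    | @tail U V _ hUV ih =>
      obtain ⟨x, hx, hx1⟩ := (bot_or_exists_ne_one _).resolve_left hUV.2
      exact H76.spe_pgroup_le hH V.isPGroup' hx.2 (ih hx.1) hx1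
  apply H76.spe_ne_top hH
  rw [eq_top_iff]
  intro g _
  obtain ⟨x, hx, hxp, -⟩ := H76.exists_central_orderOf_eq S.isPGroup' hS1
  refine H76.spe_conj_mem hH (hS hx) hxp (hall (g • S) ?_)
  rw [Sylow.coe_subgroup_smul]
  exact ⟨x, hx, rfl⟩

theorem not_connected_iff [Finite G] [Fact p.Prime] :
    ¬ Cfsg.IsSylowChainConnected p G ↔ ∃ H : Subgroup G, ClassicalSPE p H :=
  ⟨exists_spe_of_not_connected, fun ⟨_, hH⟩ => not_connected_of_spe (classicalSPE_iff.mp hH)⟩

theorem exists_orderOf_mem_inf_normal [Finite G] [Fact p.Prime] (S : Sylow p G) (N : Subgroup G)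
    [N.Normal] (hN : p ∣ Nat.card N) : ∃ a, a ∈ (S : Subgroup G) ∧ a ∈ N ∧ orderOf a = p := by
  have hne : (S : Subgroup G) ⊓ N ≠ ⊥ := by
    intro h
    apply not_dvd_relIndex_normal N S
    rw [← inf_relIndex_right, h, relIndex_bot_left]
    exact hN
  obtain ⟨z, hz, hzp, -⟩ := H76.exists_central_orderOf_eq
    ((S.isPGroup'.to_le inf_le_left : IsPGroup p ((S : Subgroup G) ⊓ N : Subgroup G))) hne
  exact ⟨z, hz.1, hz.2, hzp⟩

end H79
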