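import Cfsg.Agent.H79.TICountFrob
import Cfsg.Agent.H67.CAIdent
import Cfsg.Agent.H37.Torus
import Cfsg.Agent.H70.DihedralIso
import Cfsg.Prelude.Def_Transfer

/-!
TI subgroups with many involutions, `C_N(z) = ⟨z⟩`: the group is `PSL(2, 2^e)` or has a normal
elementary abelian `2`-complement to a dihedral normaliser.
-/

set_option autoImplicit false
set_option linter.unusedSectionVars false
set_option linter.style.haveILetI false

namespace H79.TI

open Subgroup

variable {G : Type*} [Group G] [Finite G] {M : Subgroup G} {z : G}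

namespace Dense

theorem card_cz_two (D : Dense M z) (hC : ∀ k ∈ cz M z, k = 1 ∨ k = z) :
    Nat.card (cz M z) = 2 := by
  have e : cz M z = zpowers z := by
    refine le_antisymm (fun k hk => ?_) (zpowers_le.2 D.hyp.z_mem_cz)
    rcases hC k hk with rfl | rfl
    · exact one_mem _
    · exact mem_zpowers _
  rw [e, Nat.card_zpowers, D.hyp.hz]

theorem cent_sq (D : Dense M z) (hC : ∀ k ∈ cz M z, k = 1 ∨ k = z) {g : G}
    (hg : g ∈ centralizer ({z} : Set G)) : g * g = 1 := by
  have hgz := mem_centralizer_singleton_iff.1 hg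
  by_cases hgN : g ∈ nz M
  · rcases hC g (mem_cz.2 ⟨hgN, hgz⟩) with rfl | rfl
    · exact mul_one 1
    · exact D.hyp.z_sq
  · exact H65.mul_self_of_two (D.cent_invol hgz hgN)

theorem cent_pgroup (D : Dense M z) (hC : ∀ k ∈ cz M z, k = 1 ∨ k = z) :
    IsPGroup 2 (centralizer ({z} : Set G)) := fun g =>
  ⟨1, Subtype.ext (by rw [pow_one, sq]; exact D.cent_sq hC g.2)⟩

/-- The arithmetic of the elementary abelian centraliser case. -/
theorem two_params (D : Dense M z) (hC : ∀ k ∈ cz M z, k = 1 ∨ k = z)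
    (hle : ¬ centralizer ({z} : Set G) ≤ nz M) :
    ∃ d : ℕ, 1 ≤ d ∧ Nat.card (centralizer ({z} : Set G)) = 2 * 2 ^ d ∧
      ((Nat.card M = 2 ^ (d + 1) + 1 ∧ ∀ t : G, orderOf t = 2 → IsConj z t) ∨
       (Nat.card M = 2 ^ d + 1 ∧ (nz M).index = 2 ^ d * 2 ^ d ∧
        Nat.card G = 2 * (2 ^ d * 2 ^ d) * Nat.card M ∧
        Nat.card {t : G // orderOf t = 2} + 1 =
          Nat.card {t : G // IsConj z t} + 2 ^ d * 2 ^ d)) := by
  have h := D.hyp
  obtain ⟨f, hf⟩ := IsPGroup.iff_card.1 (D.cent_pgroup hC)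
  have hc := D.card_cz_two hC
  have hz0 := D.card_zfix_mul
  rw [hc, hf] at hz0
  have hlt : 2 < 2 ^ f := by
    by_contra hcon
    refine hle ?_
    have hEq : cz M z = centralizer ({z} : Set G) :=
      eq_of_le_of_card_ge inf_le_right (by rw [hf, hc]; omega)
    exact hEq ▸ inf_le_left
  obtain ⟨d, rfl⟩ : ∃ d, f = d + 1 := ⟨f - 1, by
    rcases f with _ | f
    · simp at hlt
    · omega⟩
  have hd : 1 ≤ d := by
    rcases d with _ | d
    · simp at hlt
    · omega
  refine ⟨d, hd, by rw [hf, pow_succ, mul_comm], ?_⟩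
  have hF : Nat.card (zFix M z) = 2 ^ d := by rw [pow_succ] at hz0; omega
  have hp := D.card_points (D.fpf_two hC)
  rw [hF] at hp
  have hG := (nz M).card_mul_index
  rw [h.card_nz, hc] at hG
  have hj := D.card_class_mul
  rw [hf, ← hG] at hj
  have hi := D.count
  rw [hc, ← hG] at hi
  have hji := D.class_le
  have hodd := h.odd_M
  have hm3 : 2 < Nat.card M := hc ▸ D.lt
  set J := Nat.card {t : G // IsConj z t} with hJ
  set I := Nat.card {t : G // orderOf t = 2} with hI
  set m := Nat.card M with hm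
  set n := (nz M).index with hn
  set F := 2 ^ d with hFdef
  have hF2 : 2 ≤ F := by
    calc 2 = 2 ^ 1 := (pow_one 2).symm
      _ ≤ F := Nat.pow_le_pow_right (by omega) hd
  have hjF : J * F = m * n := by
    rw [pow_succ] at hj
    apply Nat.eq_of_mul_eq_mul_right (show 0 < 2 by omega)
    rw [mul_assoc, hj]; ring
  have hi' : I + 2 = 2 * n + m := by
    apply Nat.eq_of_mul_eq_mul_left (show 0 < m by omega)
    rw [mul_add, mul_comm m I, hi]; ring
  have hcop : Nat.Coprime F m := (Nat.coprime_two_left.2 hodd).pow_left d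
  obtain ⟨e, he⟩ : F ∣ n := hcop.dvd_of_dvd_mul_left ⟨J, by rw [← hjF]; ring⟩
  have hJe : J = m * e := by
    apply Nat.eq_of_mul_eq_mul_right (show 0 < F by omega)
    rw [hjF, he]; ring
  have hem : e ≤ m := by
    by_contra hcon
    have := Nat.mul_le_mul_left F (show m + 1 ≤ e by omega)
    rw [mul_add, mul_one] at this
    omega
  obtain ⟨q, hq⟩ : ∃ q, m = e + q := ⟨m - e, by omega⟩
  have hmq : m = F * q + 1 := by
    rw [he, hq] at hp
    rw [hq]
    rw [mul_add] at hp
    omega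
  have hq0 : 1 ≤ q := by
    by_contra hcon
    have : q = 0 := by omega
    rw [this, mul_zero] at hmq
    omega
  have hq2 : q ≤ 2 := by
    by_contra hcon
    obtain ⟨q', rfl⟩ : ∃ q', q = q' + 3 := ⟨q - 3, by omega⟩
    have hle1 : e * (F * (q' + 1) + 1) + 1 ≤ F * (q' + 3) := by
      rw [hJe, hmq] at hji
      rw [he, hmq] at hi'
      ring_nf at hji hi' ⊢
      omega
    have h2F := Nat.mul_le_mul_right (q' + 3) hF2
    have hle2 := Nat.mul_le_mul_right (F * (q' + 1) + 1) (show q' + 4 ≤ e by omega)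
    nlinarith
  rcases (show q = 2 ∨ q = 1 by omega) with rfl | rfl
  · left
    have hpow : 2 ^ (d + 1) = F * 2 := pow_succ 2 d
    refine ⟨by rw [hpow]; exact hmq, fun t ht => ?_⟩
    have hne : I = J := by
      rw [hJe, hmq]
      rw [he] at hi'
      ring_nf at hi' ⊢
      omega
    let ι : {t : G // IsConj z t} → {t : G // orderOf t = 2} :=
      fun t => ⟨t.1, H65.two_of_isConj h.hz t.2⟩
    have hinj : Function.Injective ι := fun a b e => Subtype.ext (congrArg Subtype.val e :)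
    obtain ⟨⟨t', ht'⟩, e'⟩ :=
      ((Nat.bijective_iff_injective_and_card ι).2 ⟨hinj, hne.symm⟩).2 ⟨t, ht⟩
    have : t' = t := congrArg Subtype.val e'
    exact this ▸ ht'
  · right
    rw [mul_one] at hmq
    have heF : e = F := by omega
    rw [heF] at he hJe
    refine ⟨hmq, he, by rw [← hG, he]; ring, ?_⟩
    rw [he, hmq] at hi'
    rw [hJe, hmq]
    ring_nf at hi' ⊢
    omega

theorem disjoint_of_pgroup (D : Dense M z) {R : Subgroup G} (hR : IsPGroup 2 R) {a : G}
    (ha : a ∈ M) (haR : a ∈ R) : a = 1 := by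
  obtain ⟨k, hk⟩ := hR ⟨a, haR⟩
  have h1 : a ^ 2 ^ k = 1 := congrArg Subtype.val hk
  have h2 : a ^ Nat.card M = 1 := congrArg Subtype.val (pow_card_eq_one' (x := (⟨a, ha⟩ : M)))
  exact orderOf_eq_one_iff.1 (Nat.eq_one_of_dvd_coprimes
    ((Nat.coprime_two_left.2 D.hyp.odd_M).pow_left k) (orderOf_dvd_of_pow_eq_one h1)
    (orderOf_dvd_of_pow_eq_one h2))

theorem not_normal_two (D : Dense M z) {T : Subgroup G} (hT : IsPGroup 2 T) (hz : z ∈ T) :
    ¬ T.Normal := by
  intro hn
  obtain ⟨⟨x, hx⟩, hx1⟩ := Subgroup.ne_bot_iff_exists_ne_one.1 D.hyp.ne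
  have hzx : z * x⁻¹ * z = x := by rw [D.hyp.z_inv_M (M.inv_mem hx), inv_inv]
  have h1 : x * x ∈ T := by
    have h2 : (x * z * x⁻¹) * z ∈ T := T.mul_mem (hn.conj_mem z hz x) hz
    rwa [show (x * z * x⁻¹) * z = x * (z * x⁻¹ * z) by group, hzx] at h2
  have h3 := D.disjoint_of_pgroup hT (M.mul_mem hx hx) h1
  exact D.hyp.two_notMem (H65.two_iff.2 ⟨h3, fun e => hx1 (Subtype.ext e)⟩) hx

/-- The `PSL(2, 2^e)` case. -/
theorem psl_case (D : Dense M z) (hC : ∀ k ∈ cz M z, k = 1 ∨ k = z) {d : ℕ} (hd : 1 ≤ d)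
    (hz0 : Nat.card (centralizer ({z} : Set G)) = 2 * 2 ^ d)
    (hconj : ∀ t : G, orderOf t = 2 → IsConj z t) :
    ∃ (F : Type) (_ : Field F) (_ : Fintype F), Fintype.card F = 2 ^ (d + 1) ∧ IsCyclic M ∧
      Nonempty (G ≃* Matrix.ProjectiveSpecialLinearGroup (Fin 2) F) := by
  classical
  have h := D.hyp
  haveI : Fact (Nat.Prime 2) := ⟨Nat.prime_two⟩
  obtain ⟨T, hT⟩ := (D.cent_pgroup hC).exists_le_sylow
  have hzZ : z ∈ centralizer ({z} : Set G) := mem_centralizer_singleton_iff.2 rfl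
  have h4 : 2 * 2 ^ 1 ≤ 2 * 2 ^ d := Nat.mul_le_mul_left 2 (Nat.pow_le_pow_right (by omega) hd)
  have hd' : H67.CAData T := by
    refine ⟨fun hcyc => ?_, D.not_normal_two T.2 (hT hzZ), fun t ht => ?_⟩
    · haveI := hcyc
      haveI : IsCyclic (centralizer ({z} : Set G)) :=
        isCyclic_of_injective (Subgroup.inclusion hT) (Subgroup.inclusion_injective hT)
      obtain ⟨g, hg⟩ := IsCyclic.exists_ofOrder_eq_natCard (α := centralizer ({z} : Set G))
      have : orderOf g ∣ 2 := orderOf_dvd_of_pow_eq_one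
        (Subtype.ext (by rw [sq]; exact D.cent_sq hC g.2))
      have := Nat.le_of_dvd (by omega) this
      omega
    · obtain ⟨g, rfl⟩ := isConj_iff.1 (hconj t ht)
      have hm : ∀ w ∈ centralizer ({g * z * g⁻¹} : Set G),
          g⁻¹ * w * g ∈ centralizer ({z} : Set G) := by
        intro w hw
        rw [mem_centralizer_singleton_iff] at hw ⊢
        calc g⁻¹ * w * g * z = g⁻¹ * (w * (g * z * g⁻¹)) * g := by group
          _ = g⁻¹ * ((g * z * g⁻¹) * w) * g := by rw [hw]
          _ = z * (g⁻¹ * w * g) := by group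
      have hsq : ∀ w ∈ centralizer ({g * z * g⁻¹} : Set G), w * w = 1 := by
        intro w hw
        calc w * w = g * ((g⁻¹ * w * g) * (g⁻¹ * w * g)) * g⁻¹ := by group
          _ = 1 := by rw [D.cent_sq hC (hm w hw)]; group
      refine ⟨⟨⟨fun a b => Subtype.ext ?_⟩⟩, fun w hw => by rw [sq]; exact hsq w hw⟩
      have e1 := hsq _ (mul_mem a.2 b.2)
      have ea := hsq _ a.2
      have eb := hsq _ b.2
      calc (a : G) * b = ((a : G) * b)⁻¹ := eq_inv_of_mul_eq_one_left e1
        _ = b * a := by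
          rw [mul_inv_rev, inv_eq_of_mul_eq_one_right ea, inv_eq_of_mul_eq_one_right eb]
  obtain ⟨F, hF, hFin, hcard, ⟨φ⟩⟩ := hd'.exists_iso_PSL
  rw [show Nat.card T = Nat.card (T : Subgroup G) from rfl,
    ← hd'.centralizer_eq (hT hzZ) h.hz, hz0] at hcard
  refine ⟨F, hF, hFin, by rw [hcard, pow_succ, mul_comm], ?_, ⟨φ⟩⟩
  haveI : CharP F 2 := by
    obtain ⟨p, hp⟩ := CharP.exists F
    obtain ⟨n, hpp, hn⟩ := FiniteField.card F p
    have : p ∣ 2 ^ (d + 1) := by
      rw [pow_succ, mul_comm, ← hcard, hn]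
      exact dvd_pow_self p n.2.ne'
    rw [(Nat.prime_dvd_prime_iff_eq hpp Nat.prime_two).1 (hpp.dvd_of_dvd_pow this)] at hp
    exact hp
  have hcent : ∀ g : Matrix.SpecialLinearGroup (Fin 2) F,
      g ∈ Subgroup.center (Matrix.SpecialLinearGroup (Fin 2) F) → g = 1 := by
    intro g hg
    obtain ⟨r, hr, hrg⟩ := Matrix.SpecialLinearGroup.mem_center_iff.1 hg
    have hr1 : r = 1 := by
      have : (r - 1) ^ 2 = 0 := by
        simp only [Fintype.card_fin] at hr
        linear_combination hr + (1 - r) * (CharTwo.two_eq_zero (R := F))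
      exact sub_eq_zero.1 (pow_eq_zero_iff (n := 2) (by omega) |>.1 this)
    exact Subtype.ext (by rw [← hrg, hr1, map_one]; rfl)
  let π : Matrix.SpecialLinearGroup (Fin 2) F →*
      Matrix.ProjectiveSpecialLinearGroup (Fin 2) F := QuotientGroup.mk' _
  have hπ : Function.Injective π := by
    rw [← MonoidHom.ker_eq_bot_iff, QuotientGroup.ker_mk', eq_bot_iff]
    exact fun g hg => Subgroup.mem_bot.2 (hcent g hg)
  let A : Subgroup (Matrix.SpecialLinearGroup (Fin 2) F) := (M.map φ.toMonoidHom).comap π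
  have hA : ∀ x ∈ A, ∀ y ∈ A, x * y = y * x := by
    rintro x ⟨a, ha, hax⟩ y ⟨b, hb, hby⟩
    apply hπ
    rw [map_mul, map_mul, ← hax, ← hby, ← map_mul, ← map_mul, h.comm_M ha hb]
  have hA2 : ∀ x ∈ A, x ^ 2 = 1 → x = 1 := by
    rintro x ⟨a, ha, hax⟩ hx
    apply hπ
    rw [← hax, map_one]
    have : a * a = 1 := by
      apply φ.injective
      change φ.toMonoidHom (a * a) = φ 1
      rw [map_mul, hax, ← map_mul, ← sq, hx, map_one, map_one]
    by_contra hne
    exact h.two_notMem (H65.two_iff.2 ⟨this, fun e => hne (by rw [e, map_one])⟩) ha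
  haveI := H37.isCyclic_of_abelian 2 A hA hA2
  have hsurj : Function.Surjective π := QuotientGroup.mk'_surjective _
  have hAM : A.map π = M.map φ.toMonoidHom := Subgroup.map_comap_eq_self_of_surjective hsurj _
  haveI : IsCyclic (A.map π) :=
    isCyclic_of_surjective (π.subgroupMap A) (π.subgroupMap_surjective A)
  haveI : IsCyclic (M.map φ.toMonoidHom) := hAM ▸ inferInstance
  exact isCyclic_of_injective (φ.toMonoidHom.subgroupMap M)
    fun a b e => Subtype.ext (φ.injective (congrArg Subtype.val e :))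

/-- The affine case. -/
theorem affine_case (D : Dense M z) (hC : ∀ k ∈ cz M z, k = 1 ∨ k = z) {d : ℕ} (hd : 1 ≤ d)
    (hz0 : Nat.card (centralizer ({z} : Set G)) = 2 * 2 ^ d)
    (hm : Nat.card M = 2 ^ d + 1) (hG : Nat.card G = 2 * (2 ^ d * 2 ^ d) * Nat.card M)
    (hIJ : Nat.card {t : G // orderOf t = 2} + 1 =
      Nat.card {t : G // IsConj z t} + 2 ^ d * 2 ^ d) :
    ∃ E : Subgroup G, E.Normal ∧ Cfsg.IsElementaryAbelian 2 E ∧ Nat.card E = 2 ^ (2 * d) ∧
      E ⊓ nz M = ⊥ ∧ E ⊔ nz M = ⊤ ∧ Nonempty (nz M ≃* DihedralGroup (2 ^ d + 1)) := by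
  classical
  have h := D.hyp
  have hf := D.fpf_two hC
  haveI : Fact (Nat.Prime 2) := ⟨Nat.prime_two⟩
  have hq : 2 * (2 ^ d * 2 ^ d) = 2 ^ (2 * d + 1) := by
    rw [pow_succ, two_mul d, pow_add]; ring
  obtain ⟨S, hS⟩ := (D.cent_pgroup hC).exists_le_sylow
  have hzS : z ∈ (S : Subgroup G) := hS (mem_centralizer_singleton_iff.2 rfl)
  -- odd prime divisors lie in conjugates of `M`
  have hMindex : M.index = 2 * (2 ^ d * 2 ^ d) := by
    have h1 := M.card_mul_index
    rw [hG, mul_comm] at h1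
    exact Nat.eq_of_mul_eq_mul_right Nat.card_pos h1
  have hintoM : ∀ r : ℕ, r.Prime → r ≠ 2 → ∀ x : G, orderOf x = r → ∃ g, g * x * g⁻¹ ∈ M := by
    intro r hr hr2 x hx
    haveI := Fact.mk hr
    obtain ⟨P⟩ : Nonempty (Sylow r M) := inferInstance
    have hP' : IsPGroup r ((P : Subgroup M).map M.subtype) := P.2.map M.subtype
    have hndvd : ¬ r ∣ ((P : Subgroup M).map M.subtype).index := by
      rw [index_map_subtype, hMindex, hq]
      intro hdvd
      rcases hr.dvd_mul.1 hdvd with h1 | h1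
      · exact P.not_dvd_index h1
      · exact hr2 ((Nat.prime_dvd_prime_iff_eq hr Nat.prime_two).1 (hr.dvd_of_dvd_pow h1))
    obtain ⟨Q, hQ⟩ := (IsPGroup.of_card (p := r) (n := 1)
      (show Nat.card (zpowers x) = r ^ 1 by rw [Nat.card_zpowers, hx, pow_one])).exists_le_sylow
    obtain ⟨g, hg⟩ := MulAction.exists_smul_eq G Q (hP'.toSylow hndvd)
    refine ⟨g, map_subtype_le (P : Subgroup M) ?_⟩
    have h2 : g * x * g⁻¹ ∈ ((g • Q : Sylow r G) : Subgroup G) := by
      rw [Sylow.coe_subgroup_smul]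
      exact ⟨x, hQ (mem_zpowers x), rfl⟩
    rw [hg] at h2
    exact h2
  -- the Sylow order and the central involution
  have hScard : Nat.card (S : Subgroup G) = 2 * (2 ^ d * 2 ^ d) := by
    rw [hq]
    refine Nat.dvd_antisymm ?_ ?_
    · obtain ⟨a, ha⟩ := IsPGroup.iff_card.1 S.2
      have h1 : 2 ^ a ∣ 2 ^ (2 * d + 1) * Nat.card M := by
        rw [← hq, ← hG, ← ha]
        exact card_subgroup_dvd_card _
      rw [ha]
      exact ((Nat.coprime_two_left.2 h.odd_M).pow_left a).dvd_of_dvd_mul_right h1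
    · exact S.pow_dvd_card_of_pow_dvd_card (by rw [hG, hq]; exact dvd_mul_right _ _)
  haveI : Nontrivial (S : Subgroup G) :=
    ⟨⟨⟨z, hzS⟩, 1, fun e => h.z_ne (congrArg Subtype.val e)⟩⟩
  haveI := S.2.center_nontrivial
  obtain ⟨a0, ha0⟩ := IsPGroup.iff_card.1 (S.2.to_subgroup (Subgroup.center (S : Subgroup G)))
  have h2dvd : 2 ∣ Nat.card (Subgroup.center (S : Subgroup G)) := by
    rw [ha0]
    refine dvd_pow_self 2 fun e => ?_
    have := Finite.one_lt_card (α := Subgroup.center (S : Subgroup G))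
    rw [ha0, e] at this
    norm_num at this
  obtain ⟨u0, hu0⟩ := exists_prime_orderOf_dvd_card' 2 h2dvd
  set u : G := ((u0 : (S : Subgroup G)) : G)
  have hu : orderOf u = 2 := by rw [Subgroup.orderOf_coe, Subgroup.orderOf_coe]; exact hu0
  have hSu : (S : Subgroup G) ≤ centralizer ({u} : Set G) := fun w hw =>
    mem_centralizer_singleton_iff.2
      (congrArg Subtype.val (Subgroup.mem_center_iff.1 u0.2 ⟨w, hw⟩))
  have hnoM : ∀ g w : G, orderOf w = 2 → g ∈ M → g ≠ 1 → w * g = g * w → False :=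
    fun g w hw hg hg1 e => h.not_two_cent hg hg1 hw e
  have hCu : centralizer ({u} : Set G) = (S : Subgroup G) := by
    refine (eq_of_le_of_card_ge hSu ?_).symm
    have hdv := card_subgroup_dvd_card (centralizer ({u} : Set G))
    rw [hG, ← hScard] at hdv
    refine Nat.le_of_dvd Nat.card_pos (Nat.Coprime.dvd_of_dvd_mul_right ?_ hdv)
    refine Nat.coprime_of_dvd fun r hr hrC hrM => ?_
    haveI := Fact.mk hr
    obtain ⟨⟨x, hx⟩, hxr⟩ := exists_prime_orderOf_dvd_card' r hrC
    have hxr' : orderOf x = r := by rw [← hxr, orderOf_mk]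
    have hr2 : r ≠ 2 := fun e => Nat.not_even_iff_odd.2 h.odd_M
      (even_iff_two_dvd.2 (e ▸ hrM))
    obtain ⟨g, hg⟩ := hintoM r hr hr2 x hxr'
    refine hnoM _ _ (H65.two_conj hu g) hg ?_ ?_
    · intro e
      rw [conj_eq_one_iff] at e
      rw [e, orderOf_one] at hxr'
      exact hr.ne_one hxr'.symm
    · calc g * u * g⁻¹ * (g * x * g⁻¹) = g * (u * x) * g⁻¹ := by group
        _ = g * (x * u) * g⁻¹ := by rw [mem_centralizer_singleton_iff.1 hx]
        _ = g * x * g⁻¹ * (g * u * g⁻¹) := by group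
  -- the class of `u`
  have hclassu : ∀ v, IsConj u v → ∃ a ∈ M, a * u * a⁻¹ = v := by
    have hk : Nat.card {v : G // IsConj u v} = Nat.card M := by
      have h1 := H65.card_conjugates_mul u
      rw [hCu, hScard, hG] at h1
      rw [mul_comm] at h1
      exact Nat.eq_of_mul_eq_mul_left (by positivity) h1
    let ι : M → {v : G // IsConj u v} := fun a => ⟨a * u * (a : G)⁻¹, isConj_iff.2 ⟨a, rfl⟩⟩
    have hinj : Function.Injective ι := by
      intro a b e
      have e' : (a : G) * u * (a : G)⁻¹ = b * u * (b : G)⁻¹ := congrArg Subtype.val e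
      by_contra hne
      refine hnoM ((b : G)⁻¹ * a) u hu (M.mul_mem (M.inv_mem b.2) a.2)
        (fun e1 => hne (Subtype.ext (inv_mul_eq_one.1 e1).symm)) ?_
      calc u * ((b : G)⁻¹ * a) = (b : G)⁻¹ * (b * u * (b : G)⁻¹) * a := by group
        _ = (b : G)⁻¹ * (a * u * (a : G)⁻¹) * a := by rw [e']
        _ = (b : G)⁻¹ * a * u := by group
    intro v hv
    obtain ⟨a, ha⟩ := ((Nat.bijective_iff_injective_and_card ι).2 ⟨hinj, hk.symm⟩).2 ⟨v, hv⟩
    exact ⟨a, a.2, congrArg Subtype.val ha⟩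
  have huz : u * z = z * u :=
    (mem_centralizer_singleton_iff.1 (hSu hzS)).symm
  have huniq : ∀ v, IsConj u v → z * v = v * z → v = u := by
    intro v hv hzv
    obtain ⟨a, ha, rfl⟩ := hclassu v hv
    have hcomm : u * (a * a) = a * a * u := by
      have e1 : z * (a * u * a⁻¹) * z = a⁻¹ * u * a := by
        calc z * (a * u * a⁻¹) * z = (z * a * z) * (z * u * z) * (z * a⁻¹ * z) := by
              simp [mul_assoc, ← mul_assoc z z, h.z_sq]
          _ = a⁻¹ * u * a := by
            rw [h.z_inv_M ha, h.z_inv_M (M.inv_mem ha), inv_inv, ← huz]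
            simp [mul_assoc, h.z_sq]
      rw [hzv, mul_assoc, h.z_sq, mul_one] at e1
      calc u * (a * a) = a * (a⁻¹ * u * a) * a := by group
        _ = a * (a * u * a⁻¹) * a := by rw [← e1]
        _ = a * a * u := by group
    have ha1 : a * a = 1 := by
      by_contra hne
      exact hnoM _ u hu (M.mul_mem ha ha) hne hcomm
    have : a = 1 := by
      by_contra hne
      exact h.two_notMem (H65.two_iff.2 ⟨ha1, hne⟩) ha
    rw [this]; group
  have hSuniq : ∀ Q : Sylow 2 G, z ∈ (Q : Subgroup G) → Q = S := by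
    intro Q hQ
    obtain ⟨g, hg⟩ := MulAction.exists_smul_eq G S Q
    rw [← hg, Sylow.coe_subgroup_smul] at hQ
    obtain ⟨w, hw, e⟩ := hQ
    have e' : g * w * g⁻¹ = z := e
    have hwu : w * u = u * w := mem_centralizer_singleton_iff.1 (hSu hw)
    have hv : g * u * g⁻¹ = u := huniq _ (isConj_iff.2 ⟨g, rfl⟩) (by
      rw [← e']
      calc g * w * g⁻¹ * (g * u * g⁻¹) = g * (w * u) * g⁻¹ := by group
        _ = g * (u * w) * g⁻¹ := by rw [hwu]
        _ = g * u * g⁻¹ * (g * w * g⁻¹) := by group)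
    rw [← hg, Sylow.smul_eq_iff_mem_normalizer]
    refine le_normalizer ?_
    rw [← hCu]
    exact mem_centralizer_singleton_iff.2 (by
      calc g * u = g * u * g⁻¹ * g := by group
        _ = u * g := by rw [hv])
  -- involutions not conjugate to `z` lie in `S`
  have hOS : ∀ t, orderOf t = 2 → ¬ IsConj z t → t ∈ (S : Subgroup G) := by
    intro t ht hnc
    have hpow : ∀ r : ℕ, r.Prime → r ∣ orderOf (z * t) → r = 2 := by
      intro r hr hrd
      by_contra hr2
      have hx : orderOf ((z * t) ^ (orderOf (z * t) / r)) = r := by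
        rw [orderOf_pow_of_dvd
          (Nat.div_pos (Nat.le_of_dvd (orderOf_pos _) hrd) hr.pos).ne' (Nat.div_dvd_of_dvd hrd),
          Nat.div_div_self hrd (orderOf_pos _).ne']
      set x := (z * t) ^ (orderOf (z * t) / r) with hxdef
      have htx : t * x * t⁻¹ = x⁻¹ := by
        have hcp : (t * (z * t) * t⁻¹) ^ (orderOf (z * t) / r) =
            t * (z * t) ^ (orderOf (z * t) / r) * t⁻¹ := conj_pow
        rw [hxdef, ← hcp, ← inv_pow, mul_inv_rev, H65.inv_of_two ht, h.z_inv]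
        congr 1
        simp [mul_assoc, H65.mul_self_of_two ht]
      obtain ⟨g, hg⟩ := hintoM r hr hr2 x hx
      have hx1 : g * x * g⁻¹ ≠ 1 := fun e => by
        rw [conj_eq_one_iff] at e
        rw [e, orderOf_one] at hx
        exact hr.ne_one hx.symm
      have htM : g * t * g⁻¹ ∈ nz M := h.mem_nz_of_conj hg hx1 (by
        rw [show g * t * g⁻¹ * (g * x * g⁻¹) * (g * t * g⁻¹)⁻¹ = g * (t * x * t⁻¹) * g⁻¹ by group,
          htx, show g * x⁻¹ * g⁻¹ = (g * x * g⁻¹)⁻¹ by group]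
        exact M.inv_mem hg)
      obtain ⟨a, ha, hazt⟩ := h.invol_nz (H65.two_conj ht g) htM
      obtain ⟨j, hj⟩ := h.odd_M
      have hbb : a ^ (j + 1) * a ^ (j + 1) = a := by
        rw [← pow_add, show j + 1 + (j + 1) = 2 * j + 1 + 1 by ring, pow_succ, ← hj,
          show a ^ Nat.card M = 1 from congrArg Subtype.val (pow_card_eq_one' (x := (⟨a, ha⟩ : M))),
          one_mul]
      apply hnc
      refine IsConj.trans (isConj_iff.2 ⟨a ^ (j + 1), ?_⟩)
        ((isConj_iff.2 ⟨g, rfl⟩ : IsConj t (g * t * g⁻¹)).symm)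
      rw [← hazt]
      have hzb : z * (a ^ (j + 1))⁻¹ = a ^ (j + 1) * z := by
        have h1 := h.z_inv_M (M.inv_mem (M.pow_mem ha (j + 1)))
        rw [inv_inv] at h1
        conv_rhs => rw [← h1]
        simp [mul_assoc, h.z_sq]
      rw [mul_assoc, hzb, ← mul_assoc, hbb]
    have hk : orderOf (z * t) ∣ 2 ^ (orderOf (z * t)).primeFactorsList.length := by
      conv_lhs => rw [Nat.eq_prime_pow_of_unique_prime_dvd (p := 2) (orderOf_pos _).ne'
        (fun {r} hr hrd => hpow r hr hrd)]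
    obtain ⟨Q, hQ⟩ := (H65.isPGroup_closure_pair h.hz ht hk).exists_le_sylow
    rw [← hSuniq Q (hQ (subset_closure (Or.inl rfl)))]
    exact hQ (subset_closure (Or.inr rfl))
  -- the normal subgroup
  set R := (S : Subgroup G).normalCore
  have hRS : R ≤ (S : Subgroup G) := Subgroup.normalCore_le _
  have hRp : IsPGroup 2 R := S.2.to_le hRS
  have hOR : ∀ t, orderOf t = 2 → ¬ IsConj z t → t ∈ R := fun t ht hnc g =>
    hOS _ (H65.two_conj ht g) fun hc =>
      hnc (hc.trans (isConj_iff.2 ⟨g, rfl⟩ : IsConj t (g * t * g⁻¹)).symm)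
  have hzR : z ∉ R := by
    intro hzR
    refine D.not_normal_two S.2 hzS ⟨fun w hw g => ?_⟩
    have hmem : z ∈ ((g • S : Sylow 2 G) : Subgroup G) := by
      rw [Sylow.coe_subgroup_smul]
      exact ⟨g⁻¹ * z * g⁻¹⁻¹, hzR g⁻¹, by
        change g * (g⁻¹ * z * g⁻¹⁻¹) * g⁻¹ = z
        group⟩
    rw [← hSuniq _ hmem, Sylow.coe_subgroup_smul]
    exact ⟨w, hw, rfl⟩
  haveI hRn : R.Normal := Subgroup.normalCore_normal _
  have hRN : R ⊓ nz M = ⊥ := by
    rw [eq_bot_iff]
    rintro y ⟨hyR, hyN⟩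
    rw [Subgroup.mem_bot]
    obtain ⟨⟨x, hx⟩, hxne⟩ := Subgroup.ne_bot_iff_exists_ne_one.1 h.ne
    have hx1 : x ≠ 1 := fun e => hxne (Subtype.ext e)
    have h1 : y * x * y⁻¹ * x⁻¹ = 1 := D.disjoint_of_pgroup hRp
      (M.mul_mem (h.conj_mem hyN hx) (M.inv_mem hx)) (by
        rw [show y * x * y⁻¹ * x⁻¹ = y * (x * y⁻¹ * x⁻¹) by group]
        exact R.mul_mem hyR (hRn.conj_mem _ (R.inv_mem hyR) x))
    rw [mul_inv_eq_one, mul_inv_eq_iff_eq_mul] at h1
    exact D.disjoint_of_pgroup hRp (D.cent_eq hf hx hx1 h1) hyR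
  have hnzcard : Nat.card (nz M) = 2 * Nat.card M := by rw [h.card_nz, D.card_cz_two hC, mul_comm]
  let μ : R × nz M → G := fun p => (p.1 : G) * p.2
  have hμ : Function.Injective μ := by
    rintro ⟨a, b⟩ ⟨a', b'⟩ e
    have e' : (a : G) * b = a' * b' := e
    have h1 : (a' : G)⁻¹ * a = b' * (b : G)⁻¹ := by
      rw [inv_mul_eq_iff_eq_mul, ← mul_assoc, eq_mul_inv_iff_mul_eq]; exact e'
    have h2 : (a' : G)⁻¹ * a ∈ R ⊓ nz M :=
      ⟨R.mul_mem (R.inv_mem a'.2) a.2, h1 ▸ (nz M).mul_mem b'.2 ((nz M).inv_mem b.2)⟩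
    rw [hRN, Subgroup.mem_bot, inv_mul_eq_one] at h2
    have hab : a = a' := Subtype.ext h2.symm
    subst hab
    exact Prod.ext rfl (Subtype.ext (mul_left_cancel e'))
  have hRle : Nat.card R ≤ 2 ^ d * 2 ^ d := by
    have h1 := Nat.card_le_card_of_injective μ hμ
    rw [Nat.card_prod, hnzcard, hG] at h1
    refine le_of_mul_le_mul_right ?_ (Nat.mul_pos Nat.two_pos Nat.card_pos : 0 < 2 * Nat.card M)
    calc Nat.card R * (2 * Nat.card M) ≤ _ := h1
      _ = 2 ^ d * 2 ^ d * (2 * Nat.card M) := by ring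
  -- `R` consists of `1` and the involutions outside the class of `z`
  let O := {t : G // orderOf t = 2 ∧ ¬ IsConj z t}
  have hO : Nat.card O + 1 = 2 ^ d * 2 ^ d := by
    have h1 : Nat.card {t : G // orderOf t = 2} =
        Nat.card {t : G // IsConj z t} + Nat.card O := by
      rw [← Nat.card_sum]
      refine Nat.card_congr ((Equiv.sumCompl
        (fun t : {t : G // orderOf t = 2} => IsConj z t.1)).symm.trans
        (Equiv.sumCongr (Equiv.subtypeSubtypeEquivSubtype
          (fun {t} hc => H65.two_of_isConj h.hz hc))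
          (Equiv.subtypeSubtypeEquivSubtypeInter (fun t : G => orderOf t = 2)
            fun t => ¬ IsConj z t)))
    omega
  let ι : Option O → R := fun o => o.elim 1 fun t => ⟨t.1, hOR t.1 t.2.1 t.2.2⟩
  have hι : Function.Injective ι := by
    rintro (_ | t) (_ | s) e
    · rfl
    · exact absurd (congrArg Subtype.val e).symm (H65.ne_one_of_two s.2.1)
    · exact absurd (congrArg Subtype.val e) (H65.ne_one_of_two t.2.1)
    · exact congrArg some (Subtype.ext (congrArg Subtype.val e :))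
  have hRge := Nat.card_le_card_of_injective ι hι
  rw [Finite.card_option, hO] at hRge
  have hRcard : Nat.card R = 2 ^ d * 2 ^ d := le_antisymm hRle hRge
  have hιs : Function.Surjective ι := ((Nat.bijective_iff_injective_and_card ι).2
    ⟨hι, by rw [Finite.card_option, hO, hRcard]⟩).2
  have hRsq : ∀ a ∈ R, a ^ 2 = 1 := by
    intro a ha
    obtain ⟨o, ho⟩ := hιs ⟨a, ha⟩
    have e := congrArg Subtype.val ho
    rcases o with _ | t
    · simp [← (show (1 : G) = a from e)]
    · rw [← (show t.1 = a from e)]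
      have h2 := pow_orderOf_eq_one t.1
      rwa [t.2.1] at h2
  have hRcomm : IsMulCommutative R := ⟨⟨fun a b => Subtype.ext (by
    have e1 : (a : G) * b * (a * b) = 1 := by rw [← sq]; exact hRsq _ (R.mul_mem a.2 b.2)
    have ea : (a : G) * a = 1 := by rw [← sq]; exact hRsq _ a.2
    have eb : (b : G) * b = 1 := by rw [← sq]; exact hRsq _ b.2
    calc (a : G) * b = ((a : G) * b)⁻¹ := eq_inv_of_mul_eq_one_left e1
      _ = b * a := by
        rw [mul_inv_rev, inv_eq_of_mul_eq_one_right ea, inv_eq_of_mul_eq_one_right eb])⟩⟩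
  have htop : R ⊔ nz M = ⊤ := by
    have hsur : Function.Surjective μ := ((Nat.bijective_iff_injective_and_card μ).2
      ⟨hμ, by rw [Nat.card_prod, hRcard, hnzcard, hG]; ring⟩).2
    refine eq_top_iff.2 fun g _ => ?_
    obtain ⟨⟨a, b⟩, rfl⟩ := hsur g
    exact Subgroup.mul_mem_sup a.2 b.2
  -- `M` is cyclic and the normaliser is dihedral
  have hRne : R ≠ ⊥ := by
    intro e
    rw [e, Subgroup.card_bot] at hRcard
    have : 2 ≤ 2 ^ d := by
      calc 2 = 2 ^ 1 := (pow_one 2).symm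
        _ ≤ 2 ^ d := Nat.pow_le_pow_right (by omega) hd
    nlinarith
  haveI := hRcomm
  have hMR : M ≤ normalizer (R : Set G) := by
    rw [Subgroup.normalizer_eq_top]; exact le_top
  haveI : IsCyclic M := H2.isCyclic_of_fpf_subgroup M R hMR hRne (fun a ha ha1 => by
    rw [eq_bot_iff]
    rintro y ⟨hyR, hya⟩
    rw [← hRN]
    exact ⟨hyR, h.cent_le ha ha1 (mem_centralizer_singleton_iff.1 hya)⟩)
    (Or.inl ⟨⟨fun a b => Subtype.ext (h.comm_M a.2 b.2)⟩⟩)
  refine ⟨R, hRn, ⟨hRcomm, hRsq⟩, by rw [hRcard, two_mul, pow_add], hRN, htop, ?_⟩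
  obtain ⟨c, hc⟩ := IsCyclic.exists_ofOrder_eq_natCard (α := M)
  let c' : nz M := ⟨c, le_normalizer c.2⟩
  have hc' : orderOf c' = 2 ^ d + 1 := by
    rw [← Subgroup.orderOf_coe]
    change orderOf ((c : M) : G) = _
    rw [Subgroup.orderOf_coe, hc, hm]
  rw [← hc']
  refine H70.nonempty_mulEquiv_dihedral (x := (⟨z, h.hzN⟩ : nz M)) ?_ ?_ ?_ ?_
  · rw [hnzcard, hm, hc']
  · exact Subtype.ext h.z_sq
  · intro hmem
    obtain ⟨i, hi⟩ := mem_zpowers_iff.1 hmem
    have e : (c : G) ^ i = z := by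
      have := congrArg Subtype.val hi
      simpa using this
    exact h.two_notMem h.hz (e ▸ M.zpow_mem c.2 i)
  · refine Subtype.ext ?_
    change z * (c : G) * z⁻¹ = (c : G)⁻¹
    rw [h.z_inv, h.z_inv_M c.2]

end Dense

end H79.TI
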