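import Mathlib
import Cfsg.Agent.H65.Counting
import Cfsg.Agent.H65.Dihedral

/-!
A TI subgroup `M` inverted by an involution `z` of its normaliser, all centralisers of nontrivial
elements of `M` being of odd order: basic facts and the coset count of involutions.
-/

set_option autoImplicit false
set_option linter.unusedSectionVars false

namespace H79.TI

open Subgroup

variable {G : Type*} [Group G]

/-- The hypotheses. -/
structure Hyp (M : Subgroup G) (z : G) : Prop where
  ne : M ≠ ⊥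
  ti : ∀ g : G, M ⊓ M.map (MulAut.conj g).toMonoidHom ≠ ⊥ →
    M.map (MulAut.conj g).toMonoidHom = M
  hz : orderOf z = 2
  hzN : z ∈ normalizer (M : Set G)
  fac : M ⊔ (normalizer (M : Set G) ⊓ centralizer ({z} : Set G)) = normalizer (M : Set G)
  odd : ∀ x ∈ M, x ≠ 1 → Odd (Nat.card ↥(centralizer ({x} : Set G)))

/-- `N_G(M)`. -/
abbrev nz (M : Subgroup G) : Subgroup G := normalizer (M : Set G)

/-- `C_{N_G(M)}(z)`. -/
abbrev cz (M : Subgroup G) (z : G) : Subgroup G := nz M ⊓ centralizer ({z} : Set G)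

theorem mem_cz {M : Subgroup G} {z k : G} : k ∈ cz M z ↔ k ∈ nz M ∧ k * z = z * k := by
  rw [Subgroup.mem_inf, mem_centralizer_singleton_iff]

variable [Finite G] {M : Subgroup G} {z : G}

namespace Hyp

theorem z_sq (h : Hyp M z) : z * z = 1 := H65.mul_self_of_two h.hz

theorem z_ne (h : Hyp M z) : z ≠ 1 := H65.ne_one_of_two h.hz

theorem z_inv (h : Hyp M z) : z⁻¹ = z := H65.inv_of_two h.hz

theorem not_two_cent (h : Hyp M z) {x t : G} (hx : x ∈ M) (hx1 : x ≠ 1) (ht : orderOf t = 2)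
    (hc : t * x = x * t) : False := by
  refine Nat.not_even_iff_odd.2 (h.odd x hx hx1) ?_
  rw [even_iff_two_dvd, ← ht, ← Nat.card_zpowers]
  exact card_dvd_of_le (zpowers_le.2 (mem_centralizer_singleton_iff.2 hc))

theorem odd_M (h : Hyp M z) : Odd (Nat.card M) := by
  rw [← Nat.not_even_iff_odd, even_iff_two_dvd]
  intro h2
  obtain ⟨⟨u, hu⟩, hu2⟩ := exists_prime_orderOf_dvd_card' 2 h2
  have hu2' : orderOf u = 2 := by rw [← hu2, orderOf_mk]
  exact h.not_two_cent hu (H65.ne_one_of_two hu2') hu2' rfl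

theorem two_notMem (h : Hyp M z) {t : G} (ht : orderOf t = 2) : t ∉ M := fun hm =>
  h.not_two_cent hm (H65.ne_one_of_two ht) ht rfl

theorem conj_mem (_h : Hyp M z) {g x : G} (hg : g ∈ nz M) (hx : x ∈ M) : g * x * g⁻¹ ∈ M :=
  (mem_normalizer_iff.1 hg x).1 hx

theorem conj_mem' (_h : Hyp M z) {g x : G} (hg : g ∈ nz M) (hx : x ∈ M) : g⁻¹ * x * g ∈ M :=
  (mem_normalizer_iff''.1 hg x).1 hx

theorem mem_nz_of_conj (h : Hyp M z) {g x : G} (hx : x ∈ M) (hx1 : x ≠ 1)
    (hg : g * x * g⁻¹ ∈ M) : g ∈ nz M := by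
  have hne : M ⊓ M.map (MulAut.conj g).toMonoidHom ≠ ⊥ := by
    intro e
    have hm : g * x * g⁻¹ ∈ M ⊓ M.map (MulAut.conj g).toMonoidHom := ⟨hg, x, hx, rfl⟩
    rw [e, Subgroup.mem_bot, conj_eq_one_iff] at hm
    exact hx1 hm
  have he := h.ti g hne
  rw [mem_normalizer_iff]
  intro w
  constructor
  · intro hw
    rw [← he]
    exact ⟨w, hw, rfl⟩
  · intro hw
    rw [← he] at hw
    obtain ⟨v, hv, e⟩ := hw
    have hvw : v = w := by simpa [MulAut.conj_apply] using e
    exact hvw ▸ hv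

theorem cent_le (h : Hyp M z) {g x : G} (hx : x ∈ M) (hx1 : x ≠ 1) (hc : g * x = x * g) :
    g ∈ nz M :=
  h.mem_nz_of_conj hx hx1 (by rw [hc, mul_assoc, mul_inv_cancel, mul_one]; exact hx)

theorem inv_M (h : Hyp M z) {t : G} (ht : orderOf t = 2) (htN : t ∈ nz M) {w : G} (hw : w ∈ M) :
    t * w * t = w⁻¹ := by
  have hti : t⁻¹ = t := H65.inv_of_two ht
  have htt : t * t = 1 := H65.mul_self_of_two ht
  have hmem : ∀ x : M, (x : G)⁻¹ * (t * x * t) ∈ M := fun x =>
    M.mul_mem (M.inv_mem x.2) (by simpa [hti] using h.conj_mem htN x.2)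
  let φ : M → M := fun x => ⟨_, hmem x⟩
  have hinj : Function.Injective φ := by
    intro x y e
    have e' : (x : G)⁻¹ * (t * x * t) = (y : G)⁻¹ * (t * y * t) := congrArg Subtype.val e
    by_contra hne
    have hm : (y : G) * (x : G)⁻¹ ∈ M := M.mul_mem y.2 (M.inv_mem x.2)
    refine h.not_two_cent hm (fun e1 => hne (Subtype.ext ?_)) ht ?_
    · rw [mul_inv_eq_one] at e1
      exact e1.symm
    · calc t * ((y : G) * (x : G)⁻¹)
          = (t * y * t) * (t * x * t)⁻¹ * t := by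
            simp only [mul_inv_rev, hti]
            simp [mul_assoc, ← mul_assoc t t, htt]
        _ = (y : G) * ((y : G)⁻¹ * (t * y * t)) * (t * x * t)⁻¹ * t := by group
        _ = (y : G) * ((x : G)⁻¹ * (t * x * t)) * (t * x * t)⁻¹ * t := by rw [e']
        _ = (y : G) * (x : G)⁻¹ * t := by group
  obtain ⟨x, hx⟩ := (Finite.injective_iff_surjective.1 hinj) ⟨w, hw⟩
  have hx' : (x : G)⁻¹ * (t * x * t) = w := congrArg Subtype.val hx
  rw [← hx']
  simp only [mul_inv_rev, hti, inv_inv]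
  simp [mul_assoc, htt]

theorem z_inv_M (h : Hyp M z) {w : G} (hw : w ∈ M) : z * w * z = w⁻¹ := h.inv_M h.hz h.hzN hw

theorem comm_M (h : Hyp M z) {a b : G} (ha : a ∈ M) (hb : b ∈ M) : a * b = b * a := by
  have h1 : z * (a * b) * z = a⁻¹ * b⁻¹ := by
    rw [← h.z_inv_M ha, ← h.z_inv_M hb]
    simp [mul_assoc, ← mul_assoc z z, h.z_sq]
  rw [h.z_inv_M (M.mul_mem ha hb)] at h1
  simpa using (congrArg (fun x : G => x⁻¹) h1)

theorem z_mem_cz (h : Hyp M z) : z ∈ cz M z := mem_cz.2 ⟨h.hzN, rfl⟩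

theorem exists_decomp (h : Hyp M z) {g : G} (hg : g ∈ nz M) :
    ∃ a ∈ M, ∃ k ∈ cz M z, a * k = g := by
  have hle : cz M z ≤ normalizer (M : Set G) := inf_le_left
  rw [nz, ← h.fac, ← SetLike.mem_coe, coe_mul_of_right_le_normalizer_left _ _ hle] at hg
  obtain ⟨a, ha, k, hk, e⟩ := hg
  exact ⟨a, ha, k, hk, e⟩

theorem M_inf_cz (h : Hyp M z) {a : G} (ha : a ∈ M) (hc : a ∈ cz M z) : a = 1 := by
  by_contra hne
  exact h.not_two_cent ha hne h.hz (mem_cz.1 hc).2.symm

theorem cz_two (h : Hyp M z) {t : G} (ht : orderOf t = 2) (htC : t ∈ cz M z) : t = z := by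
  obtain ⟨htN, htz⟩ := mem_cz.1 htC
  by_contra hne
  obtain ⟨⟨x, hx⟩, hxne⟩ := Subgroup.ne_bot_iff_exists_ne_one.1 h.ne
  have hx1 : x ≠ 1 := fun e => hxne (Subtype.ext e)
  have htt := H65.mul_self_of_two ht
  refine h.not_two_cent hx hx1 (t := t * z) (H65.two_iff.2 ⟨?_, ?_⟩) ?_
  · calc t * z * (t * z) = t * (z * t) * z := by group
      _ = t * (t * z) * z := by rw [htz]
      _ = 1 := by simp [mul_assoc, h.z_sq, htt]
  · intro e
    exact hne (mul_left_injective z (show t * z = z * z by rw [e, h.z_sq]))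
  · have e1 : z * x * z = x⁻¹ := h.z_inv_M hx
    calc t * z * x = t * (z * x * z) * z := by simp [mul_assoc, h.z_sq]
      _ = t * x⁻¹ * z := by rw [e1]
      _ = (t * x⁻¹ * t) * (t * z) := by simp [mul_assoc, ← mul_assoc t t, htt]
      _ = x * (t * z) := by rw [h.inv_M ht htN (M.inv_mem hx), inv_inv]

theorem az_invol (h : Hyp M z) {a : G} (ha : a ∈ M) : orderOf (a * z) = 2 := by
  refine H65.two_iff.2 ⟨?_, ?_⟩
  · calc a * z * (a * z) = a * (z * a * z) := by group
      _ = 1 := by rw [h.z_inv_M ha, mul_inv_cancel]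
  · intro e
    apply h.two_notMem h.hz
    rw [eq_inv_of_mul_eq_one_right e]
    exact M.inv_mem ha

theorem invol_nz (h : Hyp M z) {t : G} (ht : orderOf t = 2) (htN : t ∈ nz M) :
    ∃ a ∈ M, a * z = t := by
  obtain ⟨a, ha, k, hk, rfl⟩ := h.exists_decomp htN
  refine ⟨a, ha, ?_⟩
  have e : (a * k) * a * (a * k) = a⁻¹ := h.inv_M ht htN ha
  have hk2 : k * k = 1 := by
    have h1 : k = a⁻¹ * (a * k) := by group
    calc k * k = a⁻¹ * (a * k) * (a⁻¹ * (a * k)) := by rw [← h1]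
      _ = a⁻¹ * ((a * k) * a⁻¹ * (a * k)) := by group
      _ = a⁻¹ * a := by rw [h.inv_M ht htN (M.inv_mem ha), inv_inv]
      _ = 1 := inv_mul_cancel a
  have hk1 : k ≠ 1 := by
    rintro rfl
    rw [mul_one] at ht
    exact h.two_notMem ht ha
  rw [h.cz_two (H65.two_iff.2 ⟨hk2, hk1⟩) hk]

/-- A right coset outside the normaliser contains at most one involution. -/
theorem coset_unique (h : Hyp M z) {g a : G} (hg : g ∉ nz M) (ha : a ∈ M) (hgg : g * g = 1)
    (hag : a * g * (a * g) = 1) : a = 1 := by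
  by_contra hne
  refine hg (h.mem_nz_of_conj ha hne ?_)
  have hgi : g⁻¹ = g := inv_eq_of_mul_eq_one_right hgg
  have e : g * a * g⁻¹ = a⁻¹ := by
    rw [hgi]
    apply eq_inv_of_mul_eq_one_right
    rw [← hag]; group
  rw [e]
  exact M.inv_mem ha

theorem mul_notMem (_h : Hyp M z) {g a : G} (hg : g ∉ nz M) (ha : a ∈ M) : a * g ∉ nz M :=
  fun hm => hg (((nz M).mul_mem_cancel_left (le_normalizer ha)).1 hm)

theorem mul_notMem' (_h : Hyp M z) {g a : G} (hg : g ∉ nz M) (ha : a ∈ M) : g * a ∉ nz M :=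
  fun hm => hg (((nz M).mul_mem_cancel_right (le_normalizer ha)).1 hm)

theorem card_nz (h : Hyp M z) : Nat.card (nz M) = Nat.card M * Nat.card (cz M z) := by
  rw [← Nat.card_prod]
  symm
  refine Nat.card_eq_of_bijective
    (fun p : M × cz M z => (⟨(p.1 : G) * p.2, (nz M).mul_mem (le_normalizer p.1.2) p.2.2.1⟩ :
      nz M)) ⟨?_, ?_⟩
  · rintro ⟨a, k⟩ ⟨b, l⟩ e
    have e' : (a : G) * k = (b : G) * l := congrArg Subtype.val e
    have e2 : (b : G)⁻¹ * a = l * (k : G)⁻¹ := by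
      rw [inv_mul_eq_iff_eq_mul, ← mul_assoc, eq_mul_inv_iff_mul_eq]; exact e'
    have h1 := h.M_inf_cz (M.mul_mem (M.inv_mem b.2) a.2)
      (e2 ▸ (cz M z).mul_mem l.2 ((cz M z).inv_mem k.2))
    have hab : a = b := Subtype.ext (inv_mul_eq_one.1 h1).symm
    subst hab
    exact Prod.ext rfl (Subtype.ext (mul_left_cancel e'))
  · rintro ⟨g, hg⟩
    obtain ⟨a, ha, k, hk, e⟩ := h.exists_decomp hg
    exact ⟨(⟨a, ha⟩, ⟨k, hk⟩), Subtype.ext e⟩

end Hyp

/-- The conclusion of the coset count: every coset outside `N_G(M)` carries an involution. -/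
structure Dense (M : Subgroup G) (z : G) : Prop where
  hyp : Hyp M z
  surj : ∀ g : G, g ∉ nz M → ∃ a ∈ M, orderOf (a * g) = 2
  lt : Nat.card (cz M z) < Nat.card M
  count : Nat.card {g : G // orderOf g = 2} * Nat.card M + Nat.card M * Nat.card (cz M z) =
    Nat.card G + Nat.card M * Nat.card M

namespace Hyp

theorem card_invol_nz (h : Hyp M z) :
    Nat.card {t : G // orderOf t = 2 ∧ t ∈ nz M} = Nat.card M := by
  symm
  refine Nat.card_eq_of_bijective
    (fun a : M => ⟨(a : G) * z, h.az_invol a.2, (nz M).mul_mem (le_normalizer a.2) h.hzN⟩)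
    ⟨fun a b e => ?_, ?_⟩
  · exact Subtype.ext (mul_right_cancel (congrArg Subtype.val e))
  · rintro ⟨t, ht, htN⟩
    obtain ⟨a, ha, e⟩ := h.invol_nz ht htN
    exact ⟨⟨a, ha⟩, Subtype.ext e⟩

theorem dense (h : Hyp M z) (hI : M.index < Nat.card {g : G // orderOf g = 2}) : Dense M z := by
  classical
  have := Fintype.ofFinite G
  let I := {g : G // orderOf g = 2}
  let Io := {t : G // orderOf t = 2 ∧ t ∉ nz M}
  let U : Set G := {g | g ∉ nz M ∧ ∃ a ∈ M, orderOf (a * g) = 2}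
  let W : Set G := {g | g ∉ nz M ∧ ¬ ∃ a ∈ M, orderOf (a * g) = 2}
  have hU : Nat.card U = Nat.card M * Nat.card Io := by
    rw [← Nat.card_prod]
    symm
    refine Nat.card_eq_of_bijective
      (fun p : M × Io => (⟨(p.1 : G) * p.2, h.mul_notMem p.2.2.2 p.1.2,
        (p.1 : G)⁻¹, M.inv_mem p.1.2, by rw [inv_mul_cancel_left]; exact p.2.2.1⟩ : U)) ⟨?_, ?_⟩
    · rintro ⟨a, t⟩ ⟨b, s⟩ e
      have e' : (a : G) * t = (b : G) * s := congrArg Subtype.val e
      have e2 : (b : G)⁻¹ * a * t = s := by rw [mul_assoc, e', inv_mul_cancel_left]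
      have h1 := h.coset_unique t.2.2 (M.mul_mem (M.inv_mem b.2) a.2)
        (H65.mul_self_of_two t.2.1) (by rw [e2]; exact H65.mul_self_of_two s.2.1)
      have hab : a = b := Subtype.ext (inv_mul_eq_one.1 h1).symm
      subst hab
      exact Prod.ext rfl (Subtype.ext (mul_left_cancel e'))
    · rintro ⟨g, hg, a, ha, hag⟩
      exact ⟨(⟨a⁻¹, M.inv_mem ha⟩, ⟨a * g, hag, h.mul_notMem hg ha⟩),
        Subtype.ext (inv_mul_cancel_left a g)⟩
  have hsplit : Nat.card G = Nat.card (nz M) + Nat.card U + Nat.card W := by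
    simp only [Nat.card_eq_fintype_card]
    rw [← Fintype.card_congr (Equiv.Set.univ G)]
    have h1 : (Set.univ : Set G) = ((nz M : Set G) ∪ U) ∪ W := by
      ext g
      refine iff_of_true trivial ?_
      by_cases hgN : g ∈ nz M
      · exact Or.inl (Or.inl hgN)
      · by_cases he : ∃ a ∈ M, orderOf (a * g) = 2
        · exact Or.inl (Or.inr ⟨hgN, he⟩)
        · exact Or.inr ⟨hgN, he⟩
    rw [← Nat.card_eq_fintype_card, ← Nat.card_eq_fintype_card, ← Nat.card_eq_fintype_card,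
      ← Nat.card_eq_fintype_card, Nat.card_coe_set_eq, Nat.card_coe_set_eq, Nat.card_coe_set_eq,
      h1, Set.ncard_union_eq, Set.ncard_union_eq, ← Nat.card_coe_set_eq (nz M : Set G)]
    · rfl
    · exact Set.disjoint_left.2 fun g hg hg' => hg'.1 hg
    · refine Set.disjoint_left.2 ?_
      rintro g (hg | hg) hg'
      · exact hg'.1 hg
      · exact hg'.2 hg.2
  have hIcard : Nat.card I = Nat.card M + Nat.card Io := by
    rw [← h.card_invol_nz, ← Nat.card_sum]
    refine Nat.card_congr ?_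
    exact (Equiv.sumCompl (fun t : I => (t : G) ∈ nz M)).symm.trans
      (Equiv.sumCongr (Equiv.subtypeSubtypeEquivSubtypeInter _ _)
        (Equiv.subtypeSubtypeEquivSubtypeInter (fun g : G => orderOf g = 2) fun g => g ∉ nz M))
  have hG : Nat.card M * M.index = Nat.card G := M.card_mul_index
  have hN := h.card_nz
  -- a bad double coset would be too big
  have hW : ∀ g ∈ W, False := by
    intro g hg
    have hsub : Nat.card M * Nat.card M ≤ Nat.card W := by
      rw [← Nat.card_prod]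
      refine Nat.card_le_card_of_injective (fun p : M × M => (⟨(p.1 : G) * g * p.2,
        h.mul_notMem' (h.mul_notMem hg.1 p.1.2) p.2.2, ?_⟩ : W)) ?_
      · rintro ⟨a, ha, hag⟩
        apply hg.2
        refine ⟨(p.2 : G) * a * p.1, M.mul_mem (M.mul_mem p.2.2 ha) p.1.2, ?_⟩
        have hc := H65.two_conj hag (p.2 : G)
        rw [show (p.2 : G) * (a * ((p.1 : G) * g * p.2)) * (p.2 : G)⁻¹ =
          (p.2 : G) * a * p.1 * g by group] at hc
        exact hc
      · rintro ⟨a, b⟩ ⟨a', b'⟩ e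
        have e' : (a : G) * g * b = (a' : G) * g * b' := congrArg Subtype.val e
        have hm : g * ((b : G) * (b' : G)⁻¹) * g⁻¹ = (a : G)⁻¹ * a' := by
          calc g * ((b : G) * (b' : G)⁻¹) * g⁻¹
              = (a : G)⁻¹ * ((a : G) * g * b) * (b' : G)⁻¹ * g⁻¹ := by group
            _ = (a : G)⁻¹ * ((a' : G) * g * b') * (b' : G)⁻¹ * g⁻¹ := by rw [e']
            _ = (a : G)⁻¹ * a' := by group
        have hb : b = b' := by
          by_contra hne
          exact hg.1 (h.mem_nz_of_conj (M.mul_mem b.2 (M.inv_mem b'.2))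
            (fun e1 => hne (Subtype.ext (mul_inv_eq_one.1 e1)))
            (hm ▸ M.mul_mem (M.inv_mem a.2) a'.2))
        subst hb
        exact Prod.ext (Subtype.ext (mul_right_cancel (mul_right_cancel e'))) rfl
    have h1 : Nat.card M * M.index < Nat.card M * Nat.card I :=
      Nat.mul_lt_mul_of_pos_left hI Nat.card_pos
    rw [hG, hsplit, hN, hU, hIcard, mul_add] at h1
    omega
  have hW0 : Nat.card W = 0 := Nat.card_eq_zero.2 (Or.inl ⟨fun g => hW g.1 g.2⟩)
  have hcount : Nat.card I * Nat.card M + Nat.card M * Nat.card (cz M z) =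
      Nat.card G + Nat.card M * Nat.card M := by
    rw [hsplit, hN, hU, hW0, hIcard]
    ring
  refine ⟨h, fun g hg => ?_, ?_, hcount⟩
  · by_contra hne
    exact hW g ⟨hg, hne⟩
  · have h1 : Nat.card M * M.index < Nat.card M * Nat.card I :=
      Nat.mul_lt_mul_of_pos_left hI Nat.card_pos
    rw [hG, hsplit, hN, hU, hW0, hIcard, mul_add, add_zero] at h1
    exact Nat.lt_of_mul_lt_mul_left (a := Nat.card M) (by omega)

end Hyp

end H79.TI
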