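import Cfsg.Agent.H79.TICountBasic
import Cfsg.Agent.H2.FPFSubgroup

/-!
TI subgroups with many involutions: the centraliser of `z`, fixed-point-freeness of `C_N(z)` on `M`
and the action on the cosets of `N_G(M)`.
-/

set_option autoImplicit false
set_option linter.unusedSectionVars false
set_option linter.style.haveILetI false
set_option linter.unusedSimpArgs false

namespace H79.TI

open Subgroup

variable {G : Type*} [Group G] [Finite G] {M : Subgroup G} {z : G}

/-- `C_N(z)` acts fixed-point-freely on `M`. -/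
def Fpf (M : Subgroup G) (z : G) : Prop :=
  ∀ k ∈ cz M z, k ≠ 1 → ∀ x ∈ M, k * x = x * k → x = 1

namespace Dense

theorem cent_invol (D : Dense M z) {g : G} (hg : g * z = z * g) (hgN : g ∉ nz M) :
    orderOf g = 2 := by
  obtain ⟨a, ha, hag⟩ := D.surj g hgN
  have h := D.hyp
  have e : z * (a * g) * z⁻¹ = a⁻¹ * g := by
    rw [h.z_inv, ← h.z_inv_M ha]
    simp [mul_assoc, hg]
  have h2 : orderOf (a⁻¹ * g) = 2 := e ▸ H65.two_conj hag z
  have h1 := h.coset_unique (h.mul_notMem hgN ha) (M.mul_mem (M.inv_mem ha) (M.inv_mem ha))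
    (H65.mul_self_of_two hag) (by
      rw [show a⁻¹ * a⁻¹ * (a * g) = a⁻¹ * g by group]
      exact H65.mul_self_of_two h2)
  have ha1 : a = 1 := by
    have haa : a * a = 1 := by simpa using (congrArg (fun x : G => x⁻¹) h1)
    by_contra hne
    exact h.two_notMem (H65.two_iff.2 ⟨haa, hne⟩) ha
  rwa [ha1, one_mul] at hag

theorem card_class_mul (_D : Dense M z) :
    Nat.card {t : G // IsConj z t} * Nat.card (centralizer ({z} : Set G)) = Nat.card G :=
  H65.card_conjugates_mul z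

theorem class_le (D : Dense M z) :
    Nat.card {t : G // IsConj z t} ≤ Nat.card {g : G // orderOf g = 2} :=
  Nat.card_le_card_of_injective (fun t => ⟨t.1, H65.two_of_isConj D.hyp.hz t.2⟩)
    (fun _ _ e => Subtype.ext (congrArg Subtype.val e :))

theorem normal_of_cent_le (D : Dense M z) (hle : centralizer ({z} : Set G) ≤ nz M) :
    M.Normal := by
  rw [← normalizer_eq_top_iff, ← Subgroup.index_eq_one]
  have h := D.hyp
  have hCz : centralizer ({z} : Set G) = cz M z := (inf_eq_right.2 hle).symm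
  have h1 := D.card_class_mul
  rw [hCz] at h1
  have h2 := D.class_le
  have h3 := D.count
  have h4 := (nz M).card_mul_index
  rw [h.card_nz] at h4
  have hlt := D.lt
  have hc0 : 0 < Nat.card (cz M z) := Nat.card_pos
  have hn0 : 0 < (nz M).index := Nat.pos_of_ne_zero index_ne_zero_of_finite
  generalize Nat.card {t : G // IsConj z t} = j at h1 h2
  generalize Nat.card {g : G // orderOf g = 2} = i at h2 h3
  generalize Nat.card G = N at h1 h3 h4
  generalize Nat.card M = m at h3 h4 hlt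
  generalize Nat.card (cz M z) = c at h1 h3 h4 hlt hc0
  generalize (nz M).index = n at h4 hn0 ⊢
  have hj : j = m * n := Nat.eq_of_mul_eq_mul_right hc0 (by rw [h1, ← h4]; ring)
  subst hj
  by_contra hne
  obtain ⟨n', rfl⟩ : ∃ n', n = n' + 2 := ⟨n - 2, by omega⟩
  obtain ⟨d, rfl⟩ : ∃ d, m = c + (d + 1) := ⟨m - c - 1, by omega⟩
  have h5 := Nat.mul_le_mul_right (c + (d + 1)) h2
  nlinarith [mul_pos (mul_pos (Nat.succ_pos (n')) (Nat.succ_pos d)) (Nat.succ_pos (c + d))]

theorem cent_structure (D : Dense M z) (hle : ¬ centralizer ({z} : Set G) ≤ nz M) :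
    (∀ k ∈ cz M z, k = 1 ∨ k = z) ∨
    ((∀ g, g * z = z * g → g ∉ nz M → ∀ k ∈ cz M z, g * k * g⁻¹ = k⁻¹) ∧
      Nat.card (centralizer ({z} : Set G)) = 2 * Nat.card (cz M z)) := by
  have h := D.hyp
  by_cases hex : ∀ k ∈ cz M z, k * k = 1
  · left
    intro k hk
    rw [or_iff_not_imp_left]
    exact fun hne => h.cz_two (H65.two_iff.2 ⟨hex k hk, hne⟩) hk
  right
  push Not at hex
  obtain ⟨k0, hk0, hk0ne⟩ := hex
  have hinv : ∀ g, g * z = z * g → g ∉ nz M → ∀ k ∈ cz M z, g * k * g⁻¹ = k⁻¹ := by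
    intro g hg hgN k hk
    obtain ⟨hkN, hkz⟩ := mem_cz.1 hk
    have hgk : g * k * z = z * (g * k) := by rw [mul_assoc, hkz, ← mul_assoc, hg, mul_assoc]
    have h2 := D.cent_invol hgk fun hm => hgN (((nz M).mul_mem_cancel_right hkN).1 hm)
    rw [H65.inv_of_two (D.cent_invol hg hgN)]
    apply eq_inv_of_mul_eq_one_left
    rw [← H65.mul_self_of_two h2]; group
  refine ⟨hinv, ?_⟩
  obtain ⟨s, hs, hsN⟩ := SetLike.not_le_iff_exists.1 hle
  have hsz := mem_centralizer_singleton_iff.1 hs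
  have key : ∀ g, g * z = z * g → g ∉ nz M → s * g ∈ cz M z := by
    intro g hg hgN
    have hsg : s * g * z = z * (s * g) := by rw [mul_assoc, hg, ← mul_assoc, hsz, mul_assoc]
    by_contra hne
    have hN : s * g ∉ nz M := fun hm => hne (mem_cz.2 ⟨hm, hsg⟩)
    have h1 := hinv _ hsg hN k0 hk0
    have h2 : g * k0 * g⁻¹ = k0⁻¹ := hinv g hg hgN k0 hk0
    have h3 : s * k0⁻¹ * s⁻¹ = k0 := by
      rw [hinv s hsz hsN _ ((cz M z).inv_mem hk0), inv_inv]
    apply hk0ne
    have h4 : k0 = k0⁻¹ :=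
      calc k0 = s * (g * k0 * g⁻¹) * s⁻¹ := by rw [h2, h3]
        _ = s * g * k0 * (s * g)⁻¹ := by group
        _ = k0⁻¹ := h1
    calc k0 * k0 = k0 * k0⁻¹ := by rw [← h4]
      _ = 1 := mul_inv_cancel k0
  have hsplit : Nat.card (centralizer ({z} : Set G)) = Nat.card (cz M z ⊕ cz M z) := by
    symm
    refine Nat.card_eq_of_bijective (Sum.elim
      (fun k => (⟨(k : G), mem_centralizer_singleton_iff.2 (mem_cz.1 k.2).2⟩ :
        centralizer ({z} : Set G)))
      (fun k => ⟨s * k, mem_centralizer_singleton_iff.2 (by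
        rw [mul_assoc, (mem_cz.1 k.2).2, ← mul_assoc, hsz, mul_assoc])⟩)) ⟨?_, ?_⟩
    · have hne : ∀ k l : cz M z, s * (k : G) ≠ l := fun k l e =>
        hsN (((nz M).mul_mem_cancel_right k.2.1).1 (e ▸ l.2.1))
      rintro (k | k) (l | l) e <;> have e' := congrArg Subtype.val e <;>
        simp only [Sum.elim_inl, Sum.elim_inr] at e'
      · exact congrArg Sum.inl (Subtype.ext e')
      · exact absurd e'.symm (hne l k)
      · exact absurd e' (hne k l)
      · exact congrArg Sum.inr (Subtype.ext (mul_left_cancel e'))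
    · rintro ⟨g, hg⟩
      have hgz := mem_centralizer_singleton_iff.1 hg
      by_cases hgN : g ∈ nz M
      · exact ⟨Sum.inl ⟨g, mem_cz.2 ⟨hgN, hgz⟩⟩, rfl⟩
      · refine ⟨Sum.inr ⟨s * g, key g hgz hgN⟩, Subtype.ext ?_⟩
        simp [← mul_assoc, H65.mul_self_of_two (D.cent_invol hsz hsN)]
  rw [hsplit, Nat.card_sum, two_mul]

theorem fpf_two (D : Dense M z) (hC : ∀ k ∈ cz M z, k = 1 ∨ k = z) : Fpf M z := by
  intro k hk hk1 x hx hc
  by_contra hx1
  rcases hC k hk with rfl | rfl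
  · exact hk1 rfl
  · exact D.hyp.not_two_cent hx hx1 D.hyp.hz hc

theorem fpf_inverted (D : Dense M z) (hle : ¬ centralizer ({z} : Set G) ≤ nz M)
    (hinv : ∀ g, g * z = z * g → g ∉ nz M → ∀ k ∈ cz M z, g * k * g⁻¹ = k⁻¹) : Fpf M z := by
  classical
  intro d hd hd1 x hx hdx
  by_contra hx1
  have h := D.hyp
  obtain ⟨s, hs, hsN⟩ := SetLike.not_le_iff_exists.1 hle
  have hsz := mem_centralizer_singleton_iff.1 hs
  have hs2 := D.cent_invol hsz hsN
  have hdne : d ≠ z := fun e => h.not_two_cent hx hx1 h.hz (e ▸ hdx)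
  have hdsq : d * d ≠ 1 := fun e => hdne (h.cz_two (H65.two_iff.2 ⟨e, hd1⟩) hd)
  have hcomm : ∀ k ∈ cz M z, k * d = d * k := by
    intro k hk
    have h1 := hinv s hsz hsN _ ((cz M z).mul_mem hk hd)
    rw [show s * (k * d) * s⁻¹ = (s * k * s⁻¹) * (s * d * s⁻¹) by group,
      hinv s hsz hsN k hk, hinv s hsz hsN d hd] at h1
    simpa using (congrArg (fun w : G => w⁻¹) h1).symm
  set C := centralizer ({d} : Set G) with hC
  have hmem : ∀ g, g ∈ C ↔ g * d = d * g := fun g => mem_centralizer_singleton_iff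
  have hczC : cz M z ≤ C := fun k hk => (hmem k).2 (hcomm k hk)
  have hzC : z ∈ C := hczC h.z_mem_cz
  have hCz : ∀ g ∈ C, g * z = z * g → g ∈ cz M z := by
    intro g hg hgz
    refine mem_cz.2 ⟨?_, hgz⟩
    by_contra hgN
    apply hdsq
    have h1 := hinv g hgz hgN d hd
    rw [(hmem g).1 hg, mul_inv_cancel_right] at h1
    calc d * d = d * d⁻¹ := by rw [← h1]
      _ = 1 := mul_inv_cancel d
  -- involutions of `C` are conjugate to `z` in `C`
  have hclass : ∀ t ∈ C, orderOf t = 2 → ∃ g ∈ C, g * z * g⁻¹ = t := by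
    intro t ht ht2
    rcases Nat.even_or_odd (orderOf (z * t)) with he | ho
    · obtain ⟨u, hu, huz, hut, hmem'⟩ := H65.exists_commuting h.hz ht2 he
      have huC : u ∈ C := zpowers_le.2 (C.mul_mem hzC ht) hmem'
      have huz' : u = z := h.cz_two hu (hCz u huC huz)
      subst huz'
      exact ⟨1, C.one_mem, by rw [h.cz_two ht2 (hCz t ht hut.symm)]; group⟩
    · obtain ⟨g, hg, e⟩ := H65.conj_of_odd h.hz ht2 ho
      refine ⟨g, ?_, e⟩
      refine (closure_le C).2 ?_ hg
      rintro w (rfl | rfl)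
      · exact hzC
      · exact ht
  have hcard1 : Nat.card {t : G // orderOf t = 2 ∧ t ∈ C} * Nat.card (cz M z) = Nat.card C := by
    rw [← H65.card_conjugates_mul (⟨z, hzC⟩ : C)]
    congr 1
    · symm
      refine Nat.card_eq_of_bijective (fun y => ⟨((y.1 : C) : G), ?_, y.1.2⟩) ⟨?_, ?_⟩
      · obtain ⟨g, hg⟩ := isConj_iff.1 y.2
        rw [← hg]
        exact H65.two_conj h.hz (g : G)
      · exact fun a b e => Subtype.ext (Subtype.ext (congrArg Subtype.val e :))
      · rintro ⟨t, ht2, ht⟩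
        obtain ⟨g, hg, e⟩ := hclass t ht ht2
        exact ⟨⟨⟨t, ht⟩, isConj_iff.2 ⟨⟨g, hg⟩, Subtype.ext e⟩⟩, rfl⟩
    · refine Nat.card_eq_of_bijective (fun k => (⟨⟨(k : G), hczC k.2⟩,
        mem_centralizer_singleton_iff.2 (Subtype.ext (mem_cz.1 k.2).2)⟩ :
          centralizer ({⟨z, hzC⟩} : Set C))) ⟨?_, ?_⟩
      · exact fun a b e => Subtype.ext (congrArg (fun w => ((w.1 : C) : G)) e)
      · rintro ⟨⟨g, hg⟩, hgz⟩
        exact ⟨⟨g, hCz g hg (congrArg Subtype.val (mem_centralizer_singleton_iff.1 hgz))⟩, rfl⟩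
  let Io := {t : G // orderOf t = 2 ∧ t ∈ C ∧ t ∉ nz M}
  have hI : Nat.card {t : G // orderOf t = 2 ∧ t ∈ C} =
      Nat.card (M ⊓ C : Subgroup G) + Nat.card Io := by
    rw [← Nat.card_sum]
    symm
    refine Nat.card_eq_of_bijective (Sum.elim
      (fun a => ⟨(a : G) * z, h.az_invol a.2.1, C.mul_mem a.2.2 hzC⟩)
      (fun t => ⟨t.1, t.2.1, t.2.2.1⟩)) ⟨?_, ?_⟩
    · rintro (a | a) (b | b) e <;> have e' := congrArg Subtype.val e <;>
        simp only [Sum.elim_inl, Sum.elim_inr] at e'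
      · exact congrArg Sum.inl (Subtype.ext (mul_right_cancel e'))
      · exact absurd (e' ▸ (nz M).mul_mem (le_normalizer a.2.1) h.hzN) b.2.2.2
      · exact absurd (e'.symm ▸ (nz M).mul_mem (le_normalizer b.2.1) h.hzN) a.2.2.2
      · exact congrArg Sum.inr (Subtype.ext e')
    · rintro ⟨t, ht2, ht⟩
      by_cases htN : t ∈ nz M
      · obtain ⟨a, ha, rfl⟩ := h.invol_nz ht2 htN
        exact ⟨Sum.inl ⟨a, ha, (C.mul_mem_cancel_right hzC).1 ht⟩, rfl⟩
      · exact ⟨Sum.inr ⟨t, ht2, ht, htN⟩, rfl⟩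
  have hCC : Nat.card C = Nat.card (M ⊓ C : Subgroup G) * Nat.card (cz M z) +
      Nat.card (M ⊓ C : Subgroup G) * Nat.card Io := by
    rw [← Nat.card_prod, ← Nat.card_prod, ← Nat.card_sum]
    symm
    refine Nat.card_eq_of_bijective (Sum.elim
      (fun p => (⟨(p.1 : G) * p.2, C.mul_mem p.1.2.2 (hczC p.2.2)⟩ : C))
      (fun p => ⟨(p.1 : G) * p.2.1, C.mul_mem p.1.2.2 p.2.2.2.1⟩)) ⟨?_, ?_⟩
    · have hne : ∀ (a b : (M ⊓ C : Subgroup G)) (k : cz M z) (t : Io),
          (a : G) * k ≠ b * t.1 := fun a b k t e =>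
        h.mul_notMem t.2.2.2 b.2.1 (e ▸ (nz M).mul_mem (le_normalizer a.2.1) k.2.1)
      rintro (⟨a, k⟩ | ⟨a, k⟩) (⟨b, l⟩ | ⟨b, l⟩) e <;> have e' := congrArg Subtype.val e <;>
        simp only [Sum.elim_inl, Sum.elim_inr] at e'
      · have e2 : (b : G)⁻¹ * a = l * (k : G)⁻¹ := by
          rw [inv_mul_eq_iff_eq_mul, ← mul_assoc, eq_mul_inv_iff_mul_eq]; exact e'
        have h1 := h.M_inf_cz (M.mul_mem (M.inv_mem b.2.1) a.2.1)
          (e2 ▸ (cz M z).mul_mem l.2 ((cz M z).inv_mem k.2))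
        have hab : a = b := Subtype.ext (inv_mul_eq_one.1 h1).symm
        subst hab
        exact congrArg Sum.inl (Prod.ext rfl (Subtype.ext (mul_left_cancel e')))
      · exact absurd e' (hne a b k l)
      · exact absurd e'.symm (hne b a l k)
      · have e2 : (b : G)⁻¹ * a * k.1 = l.1 := by rw [mul_assoc, e', inv_mul_cancel_left]
        have h1 := h.coset_unique k.2.2.2 (M.mul_mem (M.inv_mem b.2.1) a.2.1)
          (H65.mul_self_of_two k.2.1) (by rw [e2]; exact H65.mul_self_of_two l.2.1)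
        have hab : a = b := Subtype.ext (inv_mul_eq_one.1 h1).symm
        subst hab
        exact congrArg Sum.inr (Prod.ext rfl (Subtype.ext (mul_left_cancel e')))
    · rintro ⟨g, hg⟩
      by_cases hgN : g ∈ nz M
      · obtain ⟨a, ha, k, hk, rfl⟩ := h.exists_decomp hgN
        exact ⟨Sum.inl (⟨a, ha, (C.mul_mem_cancel_right (hczC hk)).1 hg⟩, ⟨k, hk⟩), rfl⟩
      · obtain ⟨a, ha, hag⟩ := D.surj g hgN
        have hdN : d ∈ nz M := hd.1
        have hda : d * a * d⁻¹ * a⁻¹ ∈ M := M.mul_mem (h.conj_mem hdN ha) (M.inv_mem ha)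
        have h1 := h.coset_unique (h.mul_notMem hgN ha) hda (H65.mul_self_of_two hag) (by
          have h2 := H65.two_conj hag d
          rw [show d * (a * g) * d⁻¹ = d * a * d⁻¹ * a⁻¹ * (a * g) by
            calc d * (a * g) * d⁻¹ = d * a * (g * d⁻¹) := by group
              _ = d * a * (d⁻¹ * g) := by
                rw [(show Commute g d from (hmem g).1 hg).inv_right.eq]
              _ = d * a * d⁻¹ * a⁻¹ * (a * g) := by group] at h2
          exact H65.mul_self_of_two h2)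
        have hac : a ∈ C := by
          rw [mul_inv_eq_one, mul_inv_eq_iff_eq_mul] at h1
          exact (hmem a).2 h1.symm
        exact ⟨Sum.inr (⟨a⁻¹, M.inv_mem ha, C.inv_mem hac⟩,
          ⟨a * g, hag, C.mul_mem hac hg, h.mul_notMem hgN ha⟩),
          Subtype.ext (inv_mul_cancel_left a g)⟩
  have hodd : Odd (Nat.card (M ⊓ C : Subgroup G)) :=
    h.odd_M.of_dvd_nat (card_dvd_of_le inf_le_left)
  have heven : Even (Nat.card (cz M z)) := by
    rw [even_iff_two_dvd, ← h.hz, ← Nat.card_zpowers]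
    exact card_dvd_of_le (zpowers_le.2 h.z_mem_cz)
  rw [hI, hCC] at hcard1
  have hIo : Nat.card Io = 0 := by
    by_contra hne
    have he : Nat.card (cz M z) = Nat.card (M ⊓ C : Subgroup G) := by
      refine Nat.eq_of_mul_eq_mul_left (Nat.pos_of_ne_zero hne) ?_
      rw [add_mul] at hcard1
      rw [mul_comm _ (Nat.card (M ⊓ C : Subgroup G))]
      omega
    exact Nat.not_even_iff_odd.2 hodd (he ▸ heven)
  have hCN : C ≤ nz M := by
    intro g hg
    by_contra hgN
    obtain ⟨a, ha, hag⟩ := D.surj g hgN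
    have hda : d * a * d⁻¹ * a⁻¹ ∈ M := M.mul_mem (h.conj_mem hd.1 ha) (M.inv_mem ha)
    have h1 := h.coset_unique (h.mul_notMem hgN ha) hda (H65.mul_self_of_two hag) (by
      have h2 := H65.two_conj hag d
      rw [show d * (a * g) * d⁻¹ = d * a * d⁻¹ * a⁻¹ * (a * g) by
        calc d * (a * g) * d⁻¹ = d * a * (g * d⁻¹) := by group
          _ = d * a * (d⁻¹ * g) := by
            rw [(show Commute g d from (hmem g).1 hg).inv_right.eq]
          _ = d * a * d⁻¹ * a⁻¹ * (a * g) := by group] at h2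
      exact H65.mul_self_of_two h2)
    rw [mul_inv_eq_one, mul_inv_eq_iff_eq_mul] at h1
    exact (Nat.card_eq_zero.1 hIo).elim
      (fun he => he.elim ⟨a * g, hag, C.mul_mem ((hmem a).2 h1.symm) hg, h.mul_notMem hgN ha⟩)
      (fun hi => not_finite Io)
  -- `s` moves `x` into `M`
  have hsd : s * d * s = d⁻¹ := by
    have h1 := hinv s hsz hsN d hd
    rwa [H65.inv_of_two hs2] at h1
  have hss := H65.mul_self_of_two hs2
  have hdy : s * x * s ∈ C := by
    rw [hmem]
    have hdi : d⁻¹ * x = x * d⁻¹ := (show Commute d x from hdx).inv_left.eq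
    have hds : d * s = s * d⁻¹ := by
      rw [← hsd]; simp [← mul_assoc, hss]
    have hsd' : s * d = d⁻¹ * s := by
      rw [← hsd]; simp [mul_assoc, hss]
    calc s * x * s * d = s * x * (d⁻¹ * s) := by rw [mul_assoc, hsd']
      _ = s * (d⁻¹ * x) * s := by rw [hdi]; simp [mul_assoc]
      _ = d * (s * x * s) := by simp [← mul_assoc, hds]
  obtain ⟨a, ha, k, hk, hak⟩ := h.exists_decomp (hCN hdy)
  have hzy : z * (s * x * s) * z = (s * x * s)⁻¹ := by
    have hzs : z * s = s * z := hsz.symm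
    calc z * (s * x * s) * z = (z * s) * x * (s * z) := by group
      _ = (s * z) * x * (z * s) := by rw [hzs]
      _ = s * (z * x * z) * s := by group
      _ = s * x⁻¹ * s := by rw [h.z_inv_M hx]
      _ = (s * x * s)⁻¹ := by simp [H65.inv_of_two hs2, mul_assoc]
  have hzk : z * (a * k) * z = a⁻¹ * k := by
    rw [← h.z_inv_M ha]
    calc z * (a * k) * z = z * a * (k * z) := by group
      _ = z * a * (z * k) := by rw [(mem_cz.1 hk).2]
      _ = z * a * z * k := by group
  rw [← hak, hzk, mul_inv_rev] at hzy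
  have hkk : k * k = 1 := by
    have hm : k * a * k⁻¹ * a⁻¹ ∈ M := M.mul_mem (h.conj_mem hk.1 ha) (M.inv_mem ha)
    have e : k * k = k * a * k⁻¹ * a⁻¹ := by
      calc k * k = k * a * (a⁻¹ * k) := by group
        _ = k * a * (k⁻¹ * a⁻¹) := by rw [hzy]
        _ = k * a * k⁻¹ * a⁻¹ := by group
    exact h.M_inf_cz (e ▸ hm) ((cz M z).mul_mem hk hk)
  by_cases hk1 : k = 1
  · rw [hk1, mul_one] at hak
    exact hsN (h.mem_nz_of_conj hx hx1 (by rw [H65.inv_of_two hs2, ← hak]; exact ha))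
  · rw [h.cz_two (H65.two_iff.2 ⟨hkk, hk1⟩) hk] at hak
    have h2 := H65.two_conj (h.az_invol ha) s
    rw [hak, H65.inv_of_two hs2,
      show s * (s * x * s) * s = x by simp [mul_assoc, ← mul_assoc s s, hss]] at h2
    exact h.two_notMem h2 hx

variable (D : Dense M z) (hf : Fpf M z)

include hf in
theorem cent_eq (D : Dense M z) {g x : G} (hx : x ∈ M) (hx1 : x ≠ 1) (hc : g * x = x * g) :
    g ∈ M := by
  have h := D.hyp
  obtain ⟨a, ha, k, hk, rfl⟩ := h.exists_decomp (h.cent_le hx hx1 hc)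
  by_cases hk1 : k = 1
  · rw [hk1, mul_one]; exact ha
  · refine absurd (hf k hk hk1 x hx ?_) hx1
    calc k * x = a⁻¹ * (a * k * x) := by group
      _ = a⁻¹ * (x * (a * k)) := by rw [hc]
      _ = a⁻¹ * (x * a) * k := by group
      _ = x * k := by rw [h.comm_M hx ha, inv_mul_cancel_left]

include hf in
theorem card_cz_dvd (D : Dense M z) : Nat.card (cz M z) ∣ Nat.card M - 1 := by
  have h := D.hyp
  haveI : IsMulCommutative M := ⟨⟨fun a b => Subtype.ext (h.comm_M a.2 b.2)⟩⟩
  letI := H2.commGroupOfComm M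
  letI := H2.conjActionOfLe (cz M z) M inf_le_left
  refine H2.card_dvd_of_fpf (F := cz M z) (M := M) (H2.fpf_conjAction (cz M z) M inf_le_left ?_)
  intro a ha ha1
  rw [eq_bot_iff]
  rintro x ⟨hx, hxa⟩
  exact Subgroup.mem_bot.2 (hf a ha ha1 x hx (mem_centralizer_singleton_iff.1 hxa).symm)

include hf in
theorem coprime_card (D : Dense M z) : Nat.Coprime (Nat.card M) (Nat.card (cz M z)) := by
  refine Nat.Coprime.coprime_dvd_right (D.card_cz_dvd hf) ?_
  have h1 : 0 < Nat.card M := Nat.card_pos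
  have h2 := Nat.coprime_self_sub_right (m := 1) (n := Nat.card M) h1
  exact h2.2 (Nat.coprime_one_right _)

include hf in
theorem conj_notMem (D : Dense M z) {g x : G} (hg : g ∉ nz M) (hx : x ∈ M)
    (hgx : g⁻¹ * x * g ∈ nz M) : x = 1 := by
  have h := D.hyp
  by_contra hx1
  obtain ⟨a, ha, k, hk, e⟩ := h.exists_decomp hgx
  have hpow : ∀ j : ℕ, ∃ b ∈ M, (a * k) ^ j = b * k ^ j := by
    intro j
    induction j with
    | zero => exact ⟨1, M.one_mem, by simp⟩
    | succ j ih =>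
      obtain ⟨b, hb, e'⟩ := ih
      refine ⟨b * (k ^ j * a * (k ^ j)⁻¹),
        M.mul_mem hb (h.conj_mem ((nz M).pow_mem hk.1 j) ha), ?_⟩
      rw [pow_succ, e', pow_succ]; group
  obtain ⟨b, hb, e'⟩ := hpow (Nat.card M)
  have hxm : x ^ Nat.card M = 1 := by
    have := pow_card_eq_one' (x := (⟨x, hx⟩ : M))
    exact congrArg Subtype.val this
  have h1 : (g⁻¹ * x * g) ^ Nat.card M = 1 := by
    have hcp : (g⁻¹ * x * g⁻¹⁻¹) ^ Nat.card M = g⁻¹ * x ^ Nat.card M * g⁻¹⁻¹ := conj_pow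
    rw [inv_inv] at hcp
    rw [hcp, hxm]; group
  rw [← e, e'] at h1
  have hkm : k ^ Nat.card M = 1 := h.M_inf_cz (by
    rw [eq_inv_of_mul_eq_one_right h1]; exact M.inv_mem hb) ((cz M z).pow_mem hk _)
  have hkc : k ^ Nat.card (cz M z) = 1 := by
    have := pow_card_eq_one' (x := (⟨k, hk⟩ : cz M z))
    exact congrArg Subtype.val this
  have hk1 : k = 1 := by
    rw [← orderOf_eq_one_iff]
    exact Nat.eq_one_of_dvd_coprimes (D.coprime_card hf) (orderOf_dvd_of_pow_eq_one hkm)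
      (orderOf_dvd_of_pow_eq_one hkc)
  rw [hk1, mul_one] at e
  refine hg (inv_inv g ▸ (nz M).inv_mem (h.mem_nz_of_conj hx hx1 ?_))
  rw [inv_inv, ← e]
  exact ha

/-- The base point of the action on the cosets of `N_G(M)`. -/
abbrev base (M : Subgroup G) : G ⧸ nz M := QuotientGroup.mk (1 : G)

theorem smul_base {M : Subgroup G} (g : G) : g • base M = (g : G ⧸ nz M) := by
  rw [MulAction.Quotient.smul_coe, smul_eq_mul, mul_one]

theorem smul_base_iff {M : Subgroup G} (g : G) : g • base M = base M ↔ g ∈ nz M := by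
  rw [smul_base, base, QuotientGroup.eq, mul_one, inv_mem_iff]

include hf in
theorem semiregular (D : Dense M z) {p : G ⧸ nz M} (hp : p ≠ base M) {a : G} (ha : a ∈ M)
    (he : a • p = p) : a = 1 := by
  obtain ⟨g, rfl⟩ := QuotientGroup.mk_surjective p
  rw [MulAction.Quotient.smul_coe, smul_eq_mul, QuotientGroup.eq] at he
  have hg : g ∉ nz M := fun hm => hp (by rw [← smul_base, smul_base_iff]; exact hm)
  refine D.conj_notMem hf hg ha ?_
  have := (nz M).inv_mem he
  rwa [show ((a * g)⁻¹ * g)⁻¹ = g⁻¹ * a * g by group] at this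

theorem cz_orbit (D : Dense M z) {p : G ⧸ nz M} (hp : p ≠ base M) {k : G} (hk : k ∈ cz M z) :
    ∃ a ∈ M, k • p = a • p := by
  have h := D.hyp
  obtain ⟨g, rfl⟩ := QuotientGroup.mk_surjective p
  have hg : g ∉ nz M := fun hm => hp (by rw [← smul_base, smul_base_iff]; exact hm)
  obtain ⟨a, ha, hag⟩ := D.surj g hg
  have htN := h.mul_notMem hg ha
  set t := a * g with ht
  have hp' : (g : G ⧸ nz M) = a⁻¹ • t • base M := by
    rw [smul_base, MulAction.Quotient.smul_coe, smul_eq_mul, ht, inv_mul_cancel_left]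
  clear_value t
  -- apply the density to `k * t`
  obtain ⟨b, hb, hbkt⟩ := D.surj (k * t) (fun hm => htN (((nz M).mul_mem_cancel_left hk.1).1 hm))
  have e : t * k⁻¹ = b * (k * t) * b := by
    have h1 := H65.inv_of_two hbkt
    rw [mul_inv_rev, mul_inv_rev, H65.inv_of_two hag] at h1
    calc t * k⁻¹ = t * k⁻¹ * b⁻¹ * b := by group
      _ = b * (k * t) * b := by rw [← h1]
  have hkt : k • t • base M = b⁻¹ • t • base M := by
    have h2 : (t * k⁻¹) • base M = (b * (k * t) * b) • base M := by rw [e]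
    rw [mul_smul, mul_smul, mul_smul, mul_smul,
      (smul_base_iff k⁻¹).2 ((nz M).inv_mem hk.1),
      (smul_base_iff b).2 (le_normalizer hb)] at h2
    exact eq_inv_smul_iff.2 h2.symm
  refine ⟨(k * a⁻¹ * k⁻¹) * b⁻¹ * a,
    M.mul_mem (M.mul_mem (h.conj_mem hk.1 (M.inv_mem ha)) (M.inv_mem hb)) ha, ?_⟩
  rw [hp', ← mul_smul ((k * a⁻¹ * k⁻¹) * b⁻¹ * a), mul_inv_cancel_right, mul_smul _ b⁻¹, ← hkt,
    ← mul_smul (k * a⁻¹ * k⁻¹), inv_mul_cancel_right, mul_smul]

/-- The fixed points of `z`. -/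
def zFix (M : Subgroup G) (z : G) : Type _ := {p : G ⧸ nz M // z • p = p}

theorem zfix_iff (D : Dense M z) (p : G ⧸ nz M) :
    z • p = p ↔ ∃ g : G, g * z = z * g ∧ g • base M = p := by
  have h := D.hyp
  constructor
  · intro hzp
    obtain ⟨g, rfl⟩ := QuotientGroup.mk_surjective p
    rw [MulAction.Quotient.smul_coe, smul_eq_mul, QuotientGroup.eq] at hzp
    have h2 : orderOf (g⁻¹ * z * g) = 2 := by
      have := H65.two_conj h.hz g⁻¹
      rwa [inv_inv] at this
    have hm : g⁻¹ * z * g ∈ nz M := by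
      rwa [show (z * g)⁻¹ * g = g⁻¹ * z * g by rw [mul_inv_rev, h.z_inv]] at hzp
    obtain ⟨a, ha, e⟩ := h.invol_nz h2 hm
    obtain ⟨b, hb, hbb⟩ : ∃ b ∈ M, b * b = a := by
      obtain ⟨j, hj⟩ := h.odd_M
      refine ⟨a ^ (j + 1), M.pow_mem ha _, ?_⟩
      rw [← pow_add, show j + 1 + (j + 1) = 2 * j + 1 + 1 by ring, pow_succ, ← hj]
      have := congrArg Subtype.val (pow_card_eq_one' (x := (⟨a, ha⟩ : M)))
      rw [show a ^ Nat.card M = 1 from this, one_mul]
    refine ⟨g * b, ?_, ?_⟩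
    · have hbz : b * z = z * b⁻¹ := by
        rw [← h.z_inv_M hb]; simp [← mul_assoc, h.z_sq]
      calc g * b * z = g * (b * z) := by group
        _ = g * (z * b⁻¹) := by rw [hbz]
        _ = g * ((b * b)⁻¹ * (a * z)) * b⁻¹ := by rw [hbb]; group
        _ = g * (b * b)⁻¹ * (g⁻¹ * z * g) * b⁻¹ := by rw [e]; group
        _ = g * (b * b)⁻¹ * (g⁻¹ * z * g) * b⁻¹ := rfl
        _ = z * (g * b) := by
          have hz' : g⁻¹ * z * g = z * (b * b)⁻¹ := by
            rw [← e, hbb, ← h.z_inv_M ha]; simp [← mul_assoc, h.z_sq]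
          have hcomm : (b * b)⁻¹ * (g⁻¹ * z * g) = (g⁻¹ * z * g) * (b * b) := by
            rw [hz', hbb]
            calc a⁻¹ * (z * a⁻¹) = (z * a * z) * z * a⁻¹ := by rw [h.z_inv_M ha]; group
              _ = z * a * (z * z) * a⁻¹ := by group
              _ = z * a * a⁻¹ := by rw [h.z_sq, mul_one]
              _ = z * a⁻¹ * a := by group
          calc g * (b * b)⁻¹ * (g⁻¹ * z * g) * b⁻¹
              = g * ((b * b)⁻¹ * (g⁻¹ * z * g)) * b⁻¹ := by group
            _ = g * ((g⁻¹ * z * g) * (b * b)) * b⁻¹ := by rw [hcomm]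
            _ = z * (g * b) := by group
    · rw [mul_smul, (smul_base_iff b).2 (le_normalizer hb), smul_base]
  · rintro ⟨g, hg, rfl⟩
    rw [← mul_smul, ← hg, mul_smul, (smul_base_iff z).2 h.hzN]

theorem card_zfix_mul (D : Dense M z) :
    Nat.card (zFix M z) * Nat.card (cz M z) = Nat.card (centralizer ({z} : Set G)) := by
  set Z := centralizer ({z} : Set G)
  have hK : (cz M z).subgroupOf Z = (nz M).subgroupOf Z := inf_subgroupOf_right _ _
  have h1 : Nat.card (zFix M z) = ((cz M z).subgroupOf Z).index := by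
    rw [Subgroup.index]
    symm
    refine Nat.card_eq_of_bijective (Quotient.lift
      (fun g : Z => (⟨(g : G) • base M, (D.zfix_iff _).2 ⟨g, mem_centralizer_singleton_iff.1 g.2,
        rfl⟩⟩ : zFix M z)) ?_) ⟨?_, ?_⟩
    · intro a b hab
      refine Subtype.ext ?_
      have hab' : a⁻¹ * b ∈ (nz M).subgroupOf Z := hK ▸ QuotientGroup.leftRel_apply.1 hab
      change (a : G) • base M = (b : G) • base M
      rw [eq_comm, ← inv_smul_eq_iff, ← mul_smul, smul_base_iff]
      exact hab'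
    · intro a b
      induction a using QuotientGroup.induction_on with | _ a => ?_
      induction b using QuotientGroup.induction_on with | _ b => ?_
      intro e
      rw [QuotientGroup.eq, hK, mem_subgroupOf]
      have e' : (a : G) • base M = (b : G) • base M := congrArg Subtype.val e
      rw [eq_comm, ← inv_smul_eq_iff, ← mul_smul, smul_base_iff] at e'
      exact e'
    · rintro ⟨p, hp⟩
      obtain ⟨g, hg, rfl⟩ := (D.zfix_iff p).1 hp
      exact ⟨QuotientGroup.mk (⟨g, mem_centralizer_singleton_iff.2 hg⟩ : Z), rfl⟩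
  rw [h1, ← Subgroup.index_mul_card ((cz M z).subgroupOf Z),
    Nat.card_congr (subgroupOfEquivOfLe (inf_le_right : cz M z ≤ Z)).toEquiv]

include hf in
theorem card_points (D : Dense M z) :
    (nz M).index + Nat.card M = Nat.card (zFix M z) * Nat.card M + 1 := by
  classical
  have := Fintype.ofFinite (G ⧸ nz M)
  have h := D.hyp
  let X' := {p : G ⧸ nz M // p ≠ base M}
  let F' := {p : G ⧸ nz M // z • p = p ∧ p ≠ base M}
  have h1 : Nat.card X' + 1 = (nz M).index := by
    rw [Subgroup.index, ← Nat.card_congr (Equiv.optionSubtypeNe (base M)),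
      Finite.card_option]
  have h2 : Nat.card F' + 1 = Nat.card (zFix M z) := by
    rw [← Finite.card_option]
    refine Nat.card_eq_of_bijective (fun o => (o.elim ⟨base M, (smul_base_iff z).2 h.hzN⟩
      fun p => ⟨p.1, p.2.1⟩ : zFix M z)) ⟨?_, ?_⟩
    · rintro (_ | p) (_ | q) e <;> have e' := congrArg Subtype.val e <;>
        simp only [Option.elim_none, Option.elim_some] at e'
      · rfl
      · exact absurd e'.symm q.2.2
      · exact absurd e' p.2.2
      · exact congrArg some (Subtype.ext e')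
    · rintro ⟨p, hp⟩
      by_cases hb : p = base M
      · exact ⟨none, Subtype.ext hb.symm⟩
      · exact ⟨some ⟨p, hp, hb⟩, rfl⟩
  have hne : ∀ {a : G} {p : G ⧸ nz M}, a ∈ M → p ≠ base M → a • p ≠ base M := by
    intro a p ha hp e
    apply hp
    rw [← inv_smul_smul a p, e, smul_base_iff]
    exact le_normalizer (M.inv_mem ha)
  have h3 : Nat.card X' = Nat.card M * Nat.card F' := by
    rw [← Nat.card_prod]
    symm
    refine Nat.card_eq_of_bijective
      (fun q : M × F' => (⟨(q.1 : G) • q.2.1, hne q.1.2 q.2.2.2⟩ : X')) ⟨?_, ?_⟩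
    · rintro ⟨a, p⟩ ⟨b, q⟩ e
      have e' : (a : G) • p.1 = (b : G) • q.1 := congrArg Subtype.val e
      have hq : q.1 = ((b : G)⁻¹ * a) • p.1 := by rw [mul_smul, e', inv_smul_smul]
      set w := (b : G)⁻¹ * a
      have hw : w ∈ M := M.mul_mem (M.inv_mem b.2) a.2
      have hzw : z * w = w⁻¹ * z := by
        rw [← h.z_inv_M hw]; simp [mul_assoc, h.z_sq]
      have hww : (w * w) • p.1 = p.1 := by
        have h4 : w⁻¹ • p.1 = w • p.1 := by
          conv_rhs => rw [← hq, ← q.2.1, hq, ← mul_smul, hzw, mul_smul, p.2.1]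
        rw [mul_smul, ← h4, smul_inv_smul]
      have h5 := D.semiregular hf p.2.2 (M.mul_mem hw hw) hww
      have hw1 : w = 1 := by
        by_contra hne'
        exact h.two_notMem (H65.two_iff.2 ⟨h5, hne'⟩) hw
      rw [hw1, one_smul] at hq
      exact Prod.ext (Subtype.ext (inv_mul_eq_one.1 hw1).symm) (Subtype.ext hq.symm)
    · rintro ⟨p, hp⟩
      obtain ⟨a, ha, he⟩ := D.cz_orbit hp h.z_mem_cz
      obtain ⟨b, hb, hbb⟩ : ∃ b ∈ M, b * b = a := by
        obtain ⟨j, hj⟩ := h.odd_M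
        refine ⟨a ^ (j + 1), M.pow_mem ha _, ?_⟩
        rw [← pow_add, show j + 1 + (j + 1) = 2 * j + 1 + 1 by ring, pow_succ, ← hj,
          show a ^ Nat.card M = 1 from congrArg Subtype.val (pow_card_eq_one' (x := (⟨a, ha⟩ : M))),
          one_mul]
      refine ⟨(⟨b⁻¹, M.inv_mem hb⟩, ⟨b • p, ?_, hne hb hp⟩), Subtype.ext (inv_smul_smul b p)⟩
      have hzb : z * b = b⁻¹ * z := by rw [← h.z_inv_M hb]; simp [mul_assoc, h.z_sq]
      rw [← mul_smul, hzb, mul_smul, he, ← mul_smul, ← hbb, inv_mul_cancel_left]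
  rw [← h1, ← h2, h3]
  ring

end Dense

end H79.TI
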