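import Cfsg.Agent.H79.TICountFrob
import Cfsg.Agent.H59.HalfPSL
import Cfsg.Prelude.Def_Transfer
import Cfsg.Prelude.Def_LieExceptional

/-!
TI subgroups with many involutions, `C_G(z)` generalised dihedral over `C_N(z)`: the group is a
Zassenhaus group on the cosets of `N_G(M)`, so `PGL(2,q)` or `PSL(2,q)`.
-/

set_option autoImplicit false
set_option linter.unusedSectionVars false
set_option linter.style.haveILetI false

namespace H79.TI

open Subgroup

variable {G : Type*} [Group G] [Finite G] {M : Subgroup G} {z : G}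

namespace Dense

/-- If `C` has at most two orbits on `M#`, then `M` is elementary abelian of prime power order. -/
theorem prime_exponent (D : Dense M z) (hf : Fpf M z)
    (hm : Nat.card M ≤ 2 * Nat.card (cz M z) + 1) :
    ∃ r k : ℕ, r.Prime ∧ Nat.card M = r ^ k ∧ ∀ a ∈ M, a ^ r = 1 := by
  classical
  have h := D.hyp
  have hm1 : Nat.card M ≠ 1 := fun e => h.ne (Subgroup.card_eq_one.1 e)
  obtain ⟨r, hr, hrd⟩ := Nat.exists_prime_and_dvd hm1
  haveI := Fact.mk hr
  obtain ⟨⟨x, hx⟩, hxr⟩ := exists_prime_orderOf_dvd_card' r hrd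
  have hxr' : orderOf x = r := by rw [← hxr, orderOf_mk]
  have hx1 : x ≠ 1 := fun e => hr.ne_one (by rw [← hxr', e, orderOf_one])
  let E : Subgroup G :=
    { carrier := {a | a ∈ M ∧ a ^ r = 1}
      one_mem' := ⟨M.one_mem, one_pow r⟩
      mul_mem' := fun {a b} ha hb => ⟨M.mul_mem ha.1 hb.1, by
        rw [(show Commute a b from h.comm_M ha.1 hb.1).mul_pow, ha.2, hb.2, one_mul]⟩
      inv_mem' := fun {a} ha => ⟨M.inv_mem ha.1, by rw [inv_pow, ha.2, inv_one]⟩ }
  have hEM : E ≤ M := fun a ha => ha.1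
  have horb : Nat.card (Option (cz M z)) ≤ Nat.card E := by
    refine Nat.card_le_card_of_injective (fun o => (o.elim 1 fun k =>
      ⟨(k : G) * x * (k : G)⁻¹, h.conj_mem k.2.1 hx, by
        have hcp : ((k : G) * x * (k : G)⁻¹) ^ r = (k : G) * x ^ r * (k : G)⁻¹ := conj_pow
        rw [hcp, ← hxr', pow_orderOf_eq_one]; group⟩ : E)) ?_
    rintro (_ | k) (_ | l) e
    · rfl
    · exact absurd (conj_eq_one_iff.1 (congrArg Subtype.val e).symm) hx1
    · exact absurd (conj_eq_one_iff.1 (congrArg Subtype.val e :)) hx1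
    · have e' : (k : G) * x * (k : G)⁻¹ = l * x * (l : G)⁻¹ := congrArg Subtype.val e
      refine congrArg some (Subtype.ext ?_)
      by_contra hne
      refine hx1 (hf _ ((cz M z).mul_mem ((cz M z).inv_mem l.2) k.2)
        (fun e1 => hne (inv_mul_eq_one.1 e1).symm) x hx ?_)
      calc (l : G)⁻¹ * k * x = (l : G)⁻¹ * (k * x * (k : G)⁻¹) * k := by group
        _ = (l : G)⁻¹ * (l * x * (l : G)⁻¹) * k := by rw [e']
        _ = x * ((l : G)⁻¹ * k) := by group
  rw [Finite.card_option] at horb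
  have hEeq : E = M := by
    refine eq_of_le_of_card_ge hEM ?_
    obtain ⟨j, hj⟩ := card_dvd_of_le hEM
    by_contra hlt
    have hj2 : 2 ≤ j := by
      by_contra hcon
      rcases (show j = 0 ∨ j = 1 by omega) with rfl | rfl
      · have := Nat.card_pos (α := M); omega
      · omega
    have := Nat.mul_le_mul_left (Nat.card E) hj2
    omega
  have hexp : ∀ a ∈ M, a ^ r = 1 := fun a ha => (hEeq.symm ▸ ha : a ∈ E).2
  have hp : IsPGroup r M := fun a => ⟨1, Subtype.ext (by rw [pow_one]; exact hexp a a.2)⟩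
  obtain ⟨k, hk⟩ := IsPGroup.iff_card.1 hp
  exact ⟨r, k, hr, hk, hexp⟩

/-- The consequences of `|C_G(z)| = 2|C_N(z)|`. -/
theorem zass_params (D : Dense M z) (hf : Fpf M z)
    (hz0 : Nat.card (centralizer ({z} : Set G)) = 2 * Nat.card (cz M z)) :
    Nat.card (zFix M z) = 2 ∧ (nz M).index = Nat.card M + 1 ∧
      (Nat.card M = Nat.card (cz M z) + 1 ∨
        (Nat.card M = 2 * Nat.card (cz M z) + 1 ∧ ∀ t : G, orderOf t = 2 → IsConj z t)) := by
  have h := D.hyp
  have hF : Nat.card (zFix M z) = 2 :=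
    Nat.eq_of_mul_eq_mul_right Nat.card_pos (D.card_zfix_mul.trans hz0)
  have hp := D.card_points hf
  rw [hF] at hp
  have hn : (nz M).index = Nat.card M + 1 := by omega
  refine ⟨hF, hn, ?_⟩
  have hG := (nz M).card_mul_index
  rw [h.card_nz, hn] at hG
  have hj := D.card_class_mul
  rw [hz0, ← hG] at hj
  have hi := D.count
  rw [← hG] at hi
  have hji := D.class_le
  obtain ⟨q, hq⟩ := D.card_cz_dvd hf
  have hlt := D.lt
  have hc0 : 0 < Nat.card (cz M z) := Nat.card_pos
  set J := Nat.card {t : G // IsConj z t}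
  set I := Nat.card {t : G // orderOf t = 2}
  set m := Nat.card M
  set c := Nat.card (cz M z)
  have hJ : 2 * J = m * (m + 1) := by
    apply Nat.eq_of_mul_eq_mul_right hc0
    calc 2 * J * c = J * (2 * c) := by ring
      _ = _ := hj
      _ = m * (m + 1) * c := by ring
  have hI : I = m * c + m := by
    have h1 : (I + c) * m = (m * c + m + c) * m := by
      calc (I + c) * m = I * m + m * c := by ring
        _ = _ := hi
        _ = (m * c + m + c) * m := by ring
    have := Nat.eq_of_mul_eq_mul_right (by omega) h1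
    omega
  have hle : m + 1 ≤ 2 * c + 2 := by
    refine le_of_mul_le_mul_left ?_ (show 0 < m by omega)
    calc m * (m + 1) = 2 * J := hJ.symm
      _ ≤ 2 * I := Nat.mul_le_mul_left 2 hji
      _ = m * (2 * c + 2) := by rw [hI]; ring
  have hq2 : q ≤ 2 := by
    by_contra hcon
    have := Nat.mul_le_mul_left c (show 3 ≤ q by omega)
    omega
  interval_cases q
  · omega
  · left; omega
  · right
    refine ⟨by omega, fun t ht => ?_⟩
    have hIJ : J = I := by
      apply Nat.eq_of_mul_eq_mul_left (show 0 < 2 by omega)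
      rw [hJ, hI, show m + 1 = 2 * c + 2 by omega]; ring
    let ι : {t : G // IsConj z t} → {t : G // orderOf t = 2} :=
      fun t => ⟨t.1, H65.two_of_isConj h.hz t.2⟩
    have hinj : Function.Injective ι := fun a b e => Subtype.ext (congrArg Subtype.val e :)
    obtain ⟨⟨t', ht'⟩, e'⟩ :=
      ((Nat.bijective_iff_injective_and_card ι).2 ⟨hinj, hIJ⟩).2 ⟨t, ht⟩
    have : t' = t := congrArg Subtype.val e'
    exact this ▸ ht'

/-- The Zassenhaus recognition. -/
theorem zass_case (D : Dense M z) (hle : ¬ centralizer ({z} : Set G) ≤ nz M)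
    (hinv : ∀ g, g * z = z * g → g ∉ nz M → ∀ k ∈ cz M z, g * k * g⁻¹ = k⁻¹)
    (hz0 : Nat.card (centralizer ({z} : Set G)) = 2 * Nat.card (cz M z)) :
    ∃ (F : Type) (_ : Field F) (_ : Fintype F) (p : ℕ) (_ : Fact p.Prime) (_ : CharP F p),
      Fintype.card F = Nat.card M ∧ Cfsg.IsElementaryAbelian p M ∧
        (Nonempty (G ≃* (GL (Fin 2) F ⧸ Subgroup.center (GL (Fin 2) F))) ∨
         (Fintype.card F % 4 = 1 ∧
          Nonempty (G ≃* Matrix.ProjectiveSpecialLinearGroup (Fin 2) F))) := by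
  classical
  have h := D.hyp
  have hf := D.fpf_inverted hle hinv
  obtain ⟨hF2, hn, hcases⟩ := D.zass_params hf hz0
  obtain ⟨r, k0, hr, hrk, hexp⟩ := D.prime_exponent hf (by rcases hcases with e | ⟨e, -⟩ <;> omega)
  have hMab : Cfsg.IsElementaryAbelian r M :=
    ⟨⟨⟨fun a b => Subtype.ext (h.comm_M a.2 b.2)⟩⟩, hexp⟩
  have hfinal : ∀ (F : Type) [Field F] [Fintype F], Fintype.card F = Nat.card M →
      Fact r.Prime ∧ CharP F r := by
    intro F _ _ hc
    refine ⟨⟨hr⟩, ?_⟩
    obtain ⟨p, hp⟩ := CharP.exists F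
    obtain ⟨n, hpp, hn'⟩ := FiniteField.card F p
    have hdvd : p ∣ r ^ k0 := by
      rw [← hrk, ← hc, hn']
      exact dvd_pow_self p n.2.ne'
    exact (Nat.prime_dvd_prime_iff_eq hpp hr).1 (hpp.dvd_of_dvd_pow hdvd) ▸ hp
  -- the action
  obtain ⟨s, hs, hsN⟩ := SetLike.not_le_iff_exists.1 hle
  have hsz := mem_centralizer_singleton_iff.1 hs
  have hs2 := D.cent_invol hsz hsN
  set α := base M
  set β := s • base M with hβ
  have hβα : β ≠ α := fun e => hsN ((smul_base_iff s).1 e)
  have hczβ : ∀ k ∈ cz M z, k • β = β := by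
    intro k hk
    have e : k * s = s * k⁻¹ := by
      have h1 := hinv s hsz hsN k hk
      rw [← h1, H65.inv_of_two hs2, ← mul_assoc, ← mul_assoc, H65.mul_self_of_two hs2, one_mul]
    rw [hβ, ← mul_smul, e, mul_smul, (smul_base_iff k⁻¹).2 ((nz M).inv_mem hk.1)]
  have hne : ∀ {a : G} {p : G ⧸ nz M}, a ∈ M → p ≠ α → a • p ≠ α := by
    intro a p ha hp e
    apply hp
    rw [← inv_smul_smul a p, e]
    exact (smul_base_iff _).2 (le_normalizer (M.inv_mem ha))
  haveI : Fintype (G ⧸ nz M) := Fintype.ofFinite _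
  have hcardX : Fintype.card (G ⧸ nz M) = Nat.card M + 1 := by
    rw [← hn, Subgroup.index, Nat.card_eq_fintype_card]
  have hreg : ∀ p, p ≠ α → ∃ a ∈ M, a • β = p := by
    let μ : M → {p : G ⧸ nz M // p ≠ α} := fun a => ⟨(a : G) • β, hne a.2 hβα⟩
    have hinj : Function.Injective μ := by
      intro a b e
      have e' : (a : G) • β = (b : G) • β := congrArg Subtype.val e
      have := D.semiregular hf hβα (M.mul_mem (M.inv_mem b.2) a.2)
        (by rw [mul_smul, e', inv_smul_smul])
      exact Subtype.ext (inv_mul_eq_one.1 this).symm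
    have hc : Nat.card M = Nat.card {p : G ⧸ nz M // p ≠ α} := by
      have := Nat.card_congr (Equiv.optionSubtypeNe α)
      rw [Finite.card_option, Nat.card_eq_fintype_card (α := G ⧸ nz M), hcardX] at this
      omega
    intro p hp
    obtain ⟨a, ha⟩ := ((Nat.bijective_iff_injective_and_card μ).2 ⟨hinj, hc⟩).2 ⟨p, hp⟩
    exact ⟨a, a.2, congrArg Subtype.val ha⟩
  have hinjM : ∀ {a b : G}, a ∈ M → b ∈ M → a • β = b • β → a = b := by
    intro a b ha hb e
    exact (inv_mul_eq_one.1 (D.semiregular hf hβα (M.mul_mem (M.inv_mem hb) ha)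
      (by rw [mul_smul, e, inv_smul_smul]))).symm
  have hmove : ∀ a b : G ⧸ nz M, a ≠ b → ∃ g : G, g • α = a ∧ g • β = b := by
    intro a b hab
    obtain ⟨g0, hg0⟩ := MulAction.exists_smul_eq G α a
    have hb : g0⁻¹ • b ≠ α := fun e => hab (by rw [← hg0, ← e, smul_inv_smul])
    obtain ⟨x, hx, hxb⟩ := hreg _ hb
    refine ⟨g0 * x, ?_, ?_⟩
    · rw [mul_smul, (smul_base_iff x).2 (le_normalizer hx), hg0]
    · rw [mul_smul, hxb, smul_inv_smul]
  have hstab : ∀ g : G, g • α = α → g • β = β → g ∈ cz M z := by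
    intro g ha hb
    obtain ⟨a, haM, k, hk, rfl⟩ := h.exists_decomp ((smul_base_iff g).1 ha)
    rw [mul_smul, hczβ k hk] at hb
    rw [D.semiregular hf hβα haM hb, one_mul]
    exact hk
  have hfix : ∀ g : G, ∀ a b c : G ⧸ nz M, a ≠ b → a ≠ c → b ≠ c →
      g • a = a → g • b = b → g • c = c → g = 1 := by
    intro g a b c hab hac hbc ga gb gc
    obtain ⟨w, hwa, hwb⟩ := hmove a b hab
    have hk : w⁻¹ * g * w ∈ cz M z := by
      refine hstab _ ?_ ?_
      · rw [mul_smul, mul_smul, hwa, ga, ← hwa, inv_smul_smul]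
      · rw [mul_smul, mul_smul, hwb, gb, ← hwb, inv_smul_smul]
    have hkc : (w⁻¹ * g * w) • (w⁻¹ • c) = w⁻¹ • c := by
      rw [mul_smul, mul_smul, smul_inv_smul, gc]
    obtain ⟨x, hx, hxc⟩ := hreg (w⁻¹ • c) (fun e => hac (by rw [← hwa, ← e, smul_inv_smul]))
    have hx1 : x ≠ 1 := by
      rintro rfl
      rw [one_smul] at hxc
      exact hbc (by rw [← hwb, hxc, smul_inv_smul])
    set v := w⁻¹ * g * w
    have hvx : (v * x * v⁻¹) • β = x • β := by
      rw [mul_smul, hczβ _ ((cz M z).inv_mem hk), mul_smul, hxc, hkc]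
    have hv1 : v = 1 := by
      by_contra hne'
      have e := hinjM (h.conj_mem hk.1 hx) hx hvx
      exact hx1 (hf v hk hne' x hx (mul_inv_eq_iff_eq_mul.1 e))
    calc g = w * v * w⁻¹ := by simp only [v]; group
      _ = 1 := by rw [hv1]; group
  have h2 : MulAction.IsMultiplyPretransitive G (G ⧸ nz M) 2 := by
    rw [MulAction.is_two_pretransitive_iff]
    intro a b c d hab hcd
    obtain ⟨g1, h1a, h1b⟩ := hmove a b hab
    obtain ⟨g2, h2a, h2b⟩ := hmove c d hcd
    exact ⟨g2 * g1⁻¹, by rw [mul_smul, ← h1a, inv_smul_smul, h2a],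
      by rw [mul_smul, ← h1b, inv_smul_smul, h2b]⟩
  have hcomm0 : ∀ a ∈ cz M z, ∀ b ∈ cz M z, a * b = b * a := by
    intro a ha b hb
    have h1 := hinv s hsz hsN _ ((cz M z).mul_mem ha hb)
    rw [show s * (a * b) * s⁻¹ = (s * a * s⁻¹) * (s * b * s⁻¹) by group,
      hinv s hsz hsN a ha, hinv s hsz hsN b hb] at h1
    simpa using (congrArg (fun x : G => x⁻¹) h1).symm
  have hM3 : 3 ≤ Nat.card M := by
    have h2' := Nat.le_of_dvd Nat.card_pos (show 2 ∣ Nat.card (cz M z) by
      rw [← h.hz, ← Nat.card_zpowers]; exact card_dvd_of_le (zpowers_le.2 h.z_mem_cz))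
    have := D.lt
    omega
  rcases hcases with hcase | ⟨hcase, hall⟩
  · -- sharply triply transitive
    have h3 : MulAction.IsMultiplyPretransitive G (G ⧸ nz M) 3 := by
      have e0 : Nontrivial (G ⧸ nz M) := Fintype.one_lt_card_iff_nontrivial.1 (by omega)
      constructor
      intro x y
      let μ : G → (Fin 3 ↪ G ⧸ nz M) := fun g => g • x
      have hinj : Function.Injective μ := by
        intro g g' e
        have hi : ∀ i, g • x i = g' • x i := fun i => congrArg (fun f => f i) e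
        have hfixi : ∀ i, (g'⁻¹ * g) • x i = x i := fun i => by
          rw [mul_smul, hi, inv_smul_smul]
        have := hfix (g'⁻¹ * g) (x 0) (x 1) (x 2) (x.injective.ne (by decide))
          (x.injective.ne (by decide)) (x.injective.ne (by decide)) (hfixi 0) (hfixi 1) (hfixi 2)
        exact (inv_mul_eq_one.1 this).symm
      have hc : Nat.card G = Nat.card (Fin 3 ↪ G ⧸ nz M) := by
        rw [Nat.card_eq_fintype_card (α := Fin 3 ↪ G ⧸ nz M), Fintype.card_embedding_eq,
          Fintype.card_fin, hcardX, ← (nz M).card_mul_index, h.card_nz, hn, hcase]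
        simp [Nat.descFactorial]
        ring
      exact ((Nat.bijective_iff_injective_and_card μ).2 ⟨hinj, hc⟩).2 y
    have hcommX : ∀ w o : G ⧸ nz M, o ≠ w → ∀ g g' : G,
        g • w = w → g • o = o → g' • w = w → g' • o = o → g * g' = g' * g := by
      intro w o how g g' gw go g'w g'o
      obtain ⟨v, hvw, hvo⟩ := hmove w o (Ne.symm how)
      have hin : ∀ y : G, y • w = w → y • o = o → v⁻¹ * y * v ∈ cz M z := fun y yw yo =>
        hstab _ (by rw [mul_smul, mul_smul, hvw, yw, ← hvw, inv_smul_smul])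
          (by rw [mul_smul, mul_smul, hvo, yo, ← hvo, inv_smul_smul])
      have e := hcomm0 _ (hin g gw go) _ (hin g' g'w g'o)
      calc g * g' = v * ((v⁻¹ * g * v) * (v⁻¹ * g' * v)) * v⁻¹ := by group
        _ = v * ((v⁻¹ * g' * v) * (v⁻¹ * g * v)) * v⁻¹ := by rw [e]
        _ = g' * g := by group
    obtain ⟨K, hK, hKf, hKc, hiso⟩ :=
      H59.sharp_three_PGL (G := G) (X := G ⧸ nz M) (by omega) h3 hfix hcommX
    have hKm : Fintype.card K = Nat.card M := by omega
    obtain ⟨hfact, hchar⟩ := hfinal K hKm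
    exact ⟨K, hK, hKf, r, hfact, hchar, hKm, hMab, Or.inl hiso⟩
  · -- the half case
    have hfaith : FaithfulSMul G (G ⧸ nz M) := by
      refine ⟨fun {g g'} e => ?_⟩
      obtain ⟨x, hx, hx1⟩ : ∃ x ∈ M, x ≠ 1 := by
        obtain ⟨⟨x, hx⟩, hx1⟩ := Subgroup.ne_bot_iff_exists_ne_one.1 h.ne
        exact ⟨x, hx, fun e => hx1 (Subtype.ext e)⟩
      have hfx : ∀ p : G ⧸ nz M, (g'⁻¹ * g) • p = p := fun p => by rw [mul_smul, e, inv_smul_smul]
      have := hfix (g'⁻¹ * g) α β (x • β) hβα.symm (hne hx hβα).symm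
        (fun e1 => hx1 (hinjM hx M.one_mem (by rw [one_smul, ← e1])))
        (hfx _) (hfx _) (hfx _)
      exact (inv_mul_eq_one.1 this).symm
    have hZ : Cfsg.IsZassenhausGroup G (G ⧸ nz M) := by
      refine ⟨hfaith, h2, fun g a b c hab hbc hac => hfix g a b c hab hac hbc,
        ⟨z, h.z_ne, α, β, hβα.symm, (smul_base_iff z).2 h.hzN, hczβ z h.z_mem_cz⟩, ?_⟩
      intro N hN htr
      by_contra hcon
      push Not at hcon
      have hfree : ∀ (w : N) (p : G ⧸ nz M), (w : G) • p = p → w = 1 := fun w p e => by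
        have hmem : w ∈ _ := (MulAction.mem_stabilizer_iff).2 (e : w • p = p)
        exact Subgroup.mem_bot.1 ((hcon p) ▸ hmem)
      have hcardN : Nat.card N = Nat.card M + 1 := by
        rw [← hcardX, ← Nat.card_eq_fintype_card]
        refine Nat.card_eq_of_bijective (fun w : N => (w : G) • α) ⟨?_, ?_⟩
        · intro w w' e
          have e' : (w : G) • α = (w' : G) • α := e
          exact (inv_mul_eq_one.1 (hfree (w'⁻¹ * w) α (by
            rw [Subgroup.coe_mul, Subgroup.coe_inv, mul_smul, e', inv_smul_smul]))).symm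
        · intro p
          obtain ⟨w, hw⟩ := htr.exists_smul_eq α p
          exact ⟨w, hw⟩
      have heven : 2 ∣ Nat.card N := by
        obtain ⟨j, hj⟩ := h.odd_M
        exact ⟨j + 1, by omega⟩
      haveI : Fact (Nat.Prime 2) := ⟨Nat.prime_two⟩
      obtain ⟨⟨t, ht⟩, ht2⟩ := exists_prime_orderOf_dvd_card' 2 heven
      have ht2' : orderOf t = 2 := by rw [← ht2, orderOf_mk]
      obtain ⟨g, hg⟩ := isConj_iff.1 (hall t ht2')
      have hfx : t • g • α = g • α := by
        rw [← hg, ← mul_smul, show g * z * g⁻¹ * g = g * z by group, mul_smul,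
          (smul_base_iff z).2 h.hzN]
      exact H65.ne_one_of_two ht2' (congrArg Subtype.val (hfree ⟨t, ht⟩ (g • α) hfx))
    have hstabEq : MulAction.stabilizer G α ⊓ MulAction.stabilizer G β = cz M z := by
      ext g
      constructor
      · rintro ⟨ha, hb⟩; exact hstab g ha hb
      · exact fun hk => ⟨(smul_base_iff g).2 hk.1, hczβ g hk⟩
    have hss := H65.mul_self_of_two hs2
    obtain ⟨K, hK, hKf, -, hKc, hiso⟩ := H59.half_PSL hZ hβα.symm
      (by rw [hstabEq]; omega) (s := s) rfl (by rw [hβ, ← mul_smul, hss, one_smul]) hss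
      (by rw [hstabEq]; exact hcomm0)
      (by rw [hstabEq]; exact hinv s hsz hsN)
    have hKm : Fintype.card K = Nat.card M := by omega
    obtain ⟨hfact, hchar⟩ := hfinal K hKm
    refine ⟨K, hK, hKf, r, hfact, hchar, hKm, hMab, Or.inr ⟨?_, hiso⟩⟩
    obtain ⟨j, hj⟩ : 2 ∣ Nat.card (cz M z) := by
      rw [← h.hz, ← Nat.card_zpowers]; exact card_dvd_of_le (zpowers_le.2 h.z_mem_cz)
    omega

end Dense

end H79.TI
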