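import Mathlib.GroupTheory.Index
import Mathlib.GroupTheory.Subgroup.Center
import Mathlib.Algebra.Group.Subgroup.Pointwise
import Mathlib.Algebra.BigOperators.Field
import Mathlib.Data.Rat.Defs
import Mathlib.Tactic

/-!
The class equation of a group in which, outside a central subgroup `Z`, centralizers are abelian and of
index at most two in their normalizers (as for semisimple elements of `GL₂`): there are at most six
centralizers with `[A : Z] ≥ 4`, and just one if some `[A : Z] ≥ 6`.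
-/

set_option autoImplicit false

namespace H79.TorusPartition

open Subgroup

set_option linter.unusedSectionVars false

variable {H : Type*} [Group H] [Finite H] (Z : Subgroup H)

/-- The hypotheses. -/
structure Hyp : Prop where
  central : Z ≤ center H
  abelian : ∀ g ∉ Z, ∀ x ∈ centralizer ({g} : Set H), ∀ y ∈ centralizer ({g} : Set H), Commute x y
  index_le : ∀ g ∉ Z, (centralizer ({g} : Set H)).relIndex
    (normalizer (centralizer ({g} : Set H) : Set H)) ≤ 2

/-- `[A : Z]`, as a rational number. -/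
noncomputable def ratio (A : Subgroup H) : ℚ := (Nat.card A : ℚ) / Nat.card Z

variable {Z}

theorem Hyp.le_centralizer (hyp : Hyp Z) (g : H) : Z ≤ centralizer ({g} : Set H) := fun _ hz =>
  mem_centralizer_singleton_iff.mpr (mem_center_iff.mp (hyp.central hz) g).symm

theorem Hyp.centralizer_eq (hyp : Hyp Z) {g x : H} (hg : g ∉ Z) (hx : x ∉ Z)
    (h : x ∈ centralizer ({g} : Set H)) : centralizer ({x} : Set H) = centralizer ({g} : Set H) := by
  have hgx : g ∈ centralizer ({x} : Set H) :=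
    mem_centralizer_singleton_iff.mpr (mem_centralizer_singleton_iff.mp h).symm
  have hgg : g ∈ centralizer ({g} : Set H) := mem_centralizer_singleton_iff.mpr rfl
  have hxx : x ∈ centralizer ({x} : Set H) := mem_centralizer_singleton_iff.mpr rfl
  apply le_antisymm
  · intro y hy
    exact mem_centralizer_singleton_iff.mpr (hyp.abelian x hx y hy g hgx).eq
  · intro y hy
    exact mem_centralizer_singleton_iff.mpr (hyp.abelian g hg y hy x h).eq

theorem ratio_mul_relIndex (A : Subgroup H) (hA : Z ≤ A) :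
    (Nat.card A : ℚ) = Nat.card Z * (Z.relIndex A : ℚ) := by
  have h := (Z.subgroupOf A).card_mul_index
  rw [Nat.card_congr (subgroupOfEquivOfLe hA).toEquiv] at h
  rw [relIndex]
  exact_mod_cast h.symm

/-- The centralizers of the elements outside `Z`. -/
def IsTorus (Z A : Subgroup H) : Prop := ∃ g ∉ Z, A = centralizer ({g} : Set H)

open Classical in
/-- The conjugates of a subgroup. -/
noncomputable def cls (A : Subgroup H) : Finset (Subgroup H) :=
  (Set.toFinite (Set.range fun g : H => A.map (MulAut.conj g).toMonoidHom)).toFinset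

theorem mem_cls {A B : Subgroup H} : B ∈ cls A ↔ ∃ g : H, A.map (MulAut.conj g).toMonoidHom = B := by
  simp [cls]

theorem map_conj_conj (A : Subgroup H) (g h : H) :
    (A.map (MulAut.conj h).toMonoidHom).map (MulAut.conj g).toMonoidHom =
      A.map (MulAut.conj (g * h)).toMonoidHom := by
  rw [Subgroup.map_map]
  congr 1
  exact MonoidHom.ext fun x => by simp [mul_assoc]

theorem map_conj_one (A : Subgroup H) : A.map (MulAut.conj (1 : H)).toMonoidHom = A := by
  conv_rhs => rw [← Subgroup.map_id A]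
  congr 1
  exact MonoidHom.ext fun x => by simp

theorem self_mem_cls (A : Subgroup H) : A ∈ cls A := mem_cls.mpr ⟨1, map_conj_one A⟩

theorem cls_eq_of_mem {A B : Subgroup H} (h : B ∈ cls A) : cls B = cls A := by
  obtain ⟨g, rfl⟩ := mem_cls.mp h
  ext C
  rw [mem_cls, mem_cls]
  constructor
  · rintro ⟨k, rfl⟩
    exact ⟨k * g, (map_conj_conj A k g).symm⟩
  · rintro ⟨k, rfl⟩
    refine ⟨k * g⁻¹, ?_⟩
    rw [map_conj_conj, inv_mul_cancel_right]

theorem mem_normalizer_iff_map {A : Subgroup H} {g : H} :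
    g ∈ normalizer (A : Set H) ↔ A.map (MulAut.conj g).toMonoidHom = A :=
  mem_normalizer_iff_map_conj_eq

theorem card_cls (A : Subgroup H) : (cls A).card = (normalizer (A : Set H)).index := by
  classical
  rw [← Nat.card_eq_finsetCard]
  let f : H ⧸ normalizer (A : Set H) → cls A :=
    Quotient.lift (fun g => ⟨A.map (MulAut.conj g).toMonoidHom, mem_cls.mpr ⟨g, rfl⟩⟩)
      (fun g h hgh => by
        have h1 : g⁻¹ * h ∈ normalizer (A : Set H) := QuotientGroup.leftRel_apply.mp hgh
        apply Subtype.ext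
        show A.map (MulAut.conj g).toMonoidHom = A.map (MulAut.conj h).toMonoidHom
        conv_lhs => rw [← mem_normalizer_iff_map.mp h1]
        rw [map_conj_conj, mul_inv_cancel_left])
  refine (Nat.card_congr (Equiv.ofBijective f ⟨?_, ?_⟩)).symm
  · intro a b
    induction a using QuotientGroup.induction_on with
    | H g =>
      induction b using QuotientGroup.induction_on with
      | H h =>
        intro hab
        refine QuotientGroup.eq.mpr (mem_normalizer_iff_map.mpr ?_)
        have e : A.map (MulAut.conj g).toMonoidHom = A.map (MulAut.conj h).toMonoidHom :=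
          congrArg Subtype.val hab
        rw [← map_conj_conj, ← e, map_conj_conj, inv_mul_cancel, map_conj_one]
  · rintro ⟨B, hB⟩
    obtain ⟨g, rfl⟩ := mem_cls.mp hB
    exact ⟨(g : H ⧸ normalizer (A : Set H)), rfl⟩

theorem Hyp.isTorus_conj (hyp : Hyp Z) {A : Subgroup H} (hA : IsTorus Z A) (k : H) :
    IsTorus Z (A.map (MulAut.conj k).toMonoidHom) := by
  obtain ⟨g, hg, rfl⟩ := hA
  have hgz : k * g * k⁻¹ ∉ Z := fun h => hg (by
    have hc := mem_center_iff.mp (hyp.central h) k⁻¹
    have e : g = k * g * k⁻¹ := by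
      calc g = k⁻¹ * (k * g * k⁻¹) * k := by group
        _ = k * g * k⁻¹ := by rw [hc, inv_mul_cancel_right]
    rwa [e])
  refine ⟨k * g * k⁻¹, hgz, ?_⟩
  ext x
  constructor
  · rintro ⟨y, hy, rfl⟩
    refine mem_centralizer_singleton_iff.mpr ?_
    show k * y * k⁻¹ * (k * g * k⁻¹) = k * g * k⁻¹ * (k * y * k⁻¹)
    calc k * y * k⁻¹ * (k * g * k⁻¹) = k * (y * g) * k⁻¹ := by group
      _ = k * (g * y) * k⁻¹ := by rw [mem_centralizer_singleton_iff.mp hy]
      _ = _ := by group
  · intro hx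
    refine ⟨k⁻¹ * x * k, mem_centralizer_singleton_iff.mpr ?_, by simp [mul_assoc]⟩
    calc k⁻¹ * x * k * g = k⁻¹ * (x * (k * g * k⁻¹)) * k := by group
      _ = k⁻¹ * (k * g * k⁻¹ * x) * k := by rw [mem_centralizer_singleton_iff.mp hx]
      _ = g * (k⁻¹ * x * k) := by group

theorem Hyp.ratio_eq (hyp : Hyp Z) {A : Subgroup H} (hA : IsTorus Z A) :
    ∃ a : ℕ, 2 ≤ a ∧ ratio Z A = a := by
  obtain ⟨g, hg, rfl⟩ := hA
  refine ⟨Z.relIndex (centralizer ({g} : Set H)), ?_, ?_⟩
  · have h0 : Z.relIndex (centralizer ({g} : Set H)) ≠ 0 := index_ne_zero_of_finite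
    have h1 : Z.relIndex (centralizer ({g} : Set H)) ≠ 1 := fun h =>
      hg (relIndex_eq_one.mp h (mem_centralizer_singleton_iff.mpr rfl))
    omega
  · rw [ratio, ratio_mul_relIndex _ (hyp.le_centralizer g),
      mul_div_cancel_left₀ _ (Nat.cast_ne_zero.mpr Nat.card_pos.ne')]

open Classical in
/-- The contribution of a conjugacy class of centralizers. -/
noncomputable def contrib (Z : Subgroup H) (C : Finset (Subgroup H)) : ℚ :=
  (∑ A ∈ C, ((Nat.card A : ℚ) - Nat.card Z)) / Nat.card H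

theorem Hyp.contrib_cls (hyp : Hyp Z) {A : Subgroup H} (hA : IsTorus Z A) :
    ∃ e : ℕ, (e = 1 ∨ e = 2) ∧ contrib Z (cls A) = (1 - 1 / ratio Z A) / e ∧
      ((cls A).card : ℚ) * e * ratio Z A = (Nat.card H : ℚ) / Nat.card Z := by
  obtain ⟨g, hg, rfl⟩ := hA
  set A := centralizer ({g} : Set H) with hAdef
  set e := A.relIndex (normalizer (A : Set H)) with he
  have hsum : ∑ B ∈ cls A, ((Nat.card B : ℚ) - Nat.card Z) =
      (cls A).card * ((Nat.card A : ℚ) - Nat.card Z) := by
    rw [Finset.sum_congr rfl (fun B hB => ?_), Finset.sum_const, nsmul_eq_mul]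
    obtain ⟨k, rfl⟩ := mem_cls.mp hB
    rw [card_map_of_injective (MulAut.conj k).injective]
  have hH : Nat.card H = (cls A).card * (e * Nat.card A) := by
    have h1 : Nat.card A * e = Nat.card (normalizer (A : Set H) : Subgroup H) := by
      rw [he, relIndex, ← Nat.card_congr (subgroupOfEquivOfLe (le_normalizer (H := A))).toEquiv]
      exact card_mul_index _
    rw [card_cls, ← (normalizer (A : Set H)).card_mul_index, ← h1]
    ring
  have hz : (Nat.card Z : ℚ) ≠ 0 := Nat.cast_ne_zero.mpr Nat.card_pos.ne'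
  have ha : (Nat.card A : ℚ) ≠ 0 := Nat.cast_ne_zero.mpr Nat.card_pos.ne'
  have he0 : e ≠ 0 := index_ne_zero_of_finite
  have heq : (e : ℚ) ≠ 0 := Nat.cast_ne_zero.mpr he0
  have hc : ((cls A).card : ℚ) ≠ 0 :=
    Nat.cast_ne_zero.mpr (Finset.card_pos.mpr ⟨A, self_mem_cls A⟩).ne'
  refine ⟨e, ?_, ?_, ?_⟩
  · have := hyp.index_le g hg
    rw [← hAdef, ← he] at this
    omega
  · rw [contrib, hsum, hH, ratio]
    push_cast
    field_simp
  · rw [hH, ratio]
    push_cast
    field_simp

/-- The class equation: the classes of centralizers, with their contributions. -/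
theorem Hyp.exists_classes (hyp : Hyp Z) :
    ∃ 𝒞 : Finset (Finset (Subgroup H)),
      (∀ A, IsTorus Z A → cls A ∈ 𝒞) ∧ (∀ C ∈ 𝒞, ∃ A, IsTorus Z A ∧ C = cls A) ∧
      ∑ C ∈ 𝒞, contrib Z C = 1 - 1 / ((Nat.card H : ℚ) / Nat.card Z) := by
  classical
  haveI : Fintype H := Fintype.ofFinite H
  set X : Finset H := Finset.univ.filter (fun g => g ∉ Z) with hX
  set 𝒜 : Finset (Subgroup H) := X.image (fun g => centralizer ({g} : Set H)) with h𝒜
  have hmem : ∀ A, A ∈ 𝒜 ↔ IsTorus Z A := fun A => by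
    simp [h𝒜, hX, IsTorus, eq_comm]
  refine ⟨𝒜.image cls, fun A hA => Finset.mem_image_of_mem _ ((hmem A).mpr hA),
    fun C hC => ?_, ?_⟩
  · obtain ⟨A, hA, rfl⟩ := Finset.mem_image.mp hC
    exact ⟨A, (hmem A).mp hA, rfl⟩
  have hdisj : ∀ C ∈ 𝒜.image cls, 𝒜.filter (fun A => cls A = C) = C := by
    intro C hC
    obtain ⟨A, hA, rfl⟩ := Finset.mem_image.mp hC
    ext B
    rw [Finset.mem_filter]
    constructor
    · rintro ⟨-, hB⟩
      exact hB ▸ self_mem_cls B
    · intro hB
      refine ⟨?_, cls_eq_of_mem hB⟩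
      obtain ⟨k, rfl⟩ := mem_cls.mp hB
      exact (hmem _).mpr (hyp.isTorus_conj ((hmem A).mp hA) k)
  have hsum : ∑ C ∈ 𝒜.image cls, ∑ A ∈ C, ((Nat.card A : ℚ) - Nat.card Z) =
      ∑ A ∈ 𝒜, ((Nat.card A : ℚ) - Nat.card Z) := by
    rw [← Finset.sum_fiberwise_of_maps_to (g := cls) (t := 𝒜.image cls)
      (fun A hA => Finset.mem_image_of_mem _ hA)]
    exact Finset.sum_congr rfl fun C hC => by rw [hdisj C hC]
  have hcount : ∑ A ∈ 𝒜, ((Nat.card A : ℚ) - Nat.card Z) = (Nat.card H : ℚ) - Nat.card Z := by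
    have hfib : ∀ A ∈ 𝒜, ((X.filter fun g => centralizer ({g} : Set H) = A).card : ℚ) =
        (Nat.card A : ℚ) - Nat.card Z := by
      intro A hA
      obtain ⟨g, hg, rfl⟩ := (hmem A).mp hA
      set A := centralizer ({g} : Set H) with hAdef
      have e1 : X.filter (fun x => centralizer ({x} : Set H) = A) =
          (Finset.univ.filter fun x => x ∈ A) \ (Finset.univ.filter fun x => x ∈ Z) := by
        ext x
        simp only [hX, Finset.mem_filter, Finset.mem_univ, true_and, Finset.mem_sdiff]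
        constructor
        · rintro ⟨hx, e⟩
          exact ⟨e ▸ mem_centralizer_singleton_iff.mpr rfl, hx⟩
        · rintro ⟨hx, hxz⟩
          exact ⟨hxz, hyp.centralizer_eq hg hxz hx⟩
      have hsub : (Finset.univ.filter fun x => x ∈ Z) ⊆ (Finset.univ.filter fun x => x ∈ A) := by
        intro x
        simp only [Finset.mem_filter, Finset.mem_univ, true_and]
        exact fun hx => hyp.le_centralizer g hx
      rw [e1, Finset.card_sdiff_of_subset hsub, Nat.cast_sub (Finset.card_le_card hsub)]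
      simp only [← Fintype.card_subtype, ← Nat.card_eq_fintype_card]
    rw [← Finset.sum_congr rfl hfib, ← Nat.cast_sum,
      ← Finset.card_eq_sum_card_fiberwise (f := fun g : H => centralizer ({g} : Set H)) (s := X)
        (t := 𝒜) (fun g hg => Finset.mem_image_of_mem _ hg)]
    have e : X = Finset.univ \ (Finset.univ.filter fun x => x ∈ Z) := by
      ext x; simp [hX]
    rw [e, Finset.card_sdiff_of_subset (Finset.subset_univ _),
      Finset.card_univ, Nat.cast_sub (Finset.card_le_univ _), ← Fintype.card_subtype,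
      ← Nat.card_eq_fintype_card, ← Nat.card_eq_fintype_card]
  simp only [contrib, ← Finset.sum_div]
  rw [hsum, hcount, sub_div, div_self (Nat.cast_ne_zero.mpr Nat.card_pos.ne'), one_div_div]

/-- At most six centralizers `A` with `[A : Z] ≥ 4`, and one if some `[A : Z] ≥ 6`. -/
theorem Hyp.card_le (hyp : Hyp Z) {A₀ : Subgroup H} (hA₀ : IsTorus Z A₀)
    (ha₀ : 4 ≤ ratio Z A₀) (S : Finset (Subgroup H))
    (hS : ∀ A ∈ S, IsTorus Z A ∧ 4 ≤ ratio Z A) :
    S.card ≤ 6 ∧ (6 ≤ ratio Z A₀ → S.card ≤ 1) := by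
  classical
  obtain ⟨𝒞, hin, hout, hsum⟩ := hyp.exists_classes
  set N : ℚ := (Nat.card H : ℚ) / Nat.card Z with hN
  have hN1 : 0 < N := div_pos (Nat.cast_pos.mpr Nat.card_pos) (Nat.cast_pos.mpr Nat.card_pos)
  have hlow : ∀ A, IsTorus Z A → 1 / 4 ≤ contrib Z (cls A) := by
    intro A hA
    obtain ⟨e, he, h1, -⟩ := hyp.contrib_cls hA
    obtain ⟨a, ha, e'⟩ := hyp.ratio_eq hA
    have : (1 : ℚ) / a ≤ 1 / 2 :=
      one_div_le_one_div_of_le (by norm_num) (by exact_mod_cast ha)
    rw [h1, e']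
    rcases he with rfl | rfl <;> push_cast <;> linarith
  set R := 𝒞.erase (cls A₀) with hR
  have hsplit : contrib Z (cls A₀) + ∑ C ∈ R, contrib Z C = 1 - 1 / N :=
    (Finset.add_sum_erase _ _ (hin A₀ hA₀)).trans hsum
  have hRlow : (R.card : ℚ) * (1 / 4) ≤ ∑ C ∈ R, contrib Z C := by
    rw [← nsmul_eq_mul]
    refine Finset.card_nsmul_le_sum _ _ _ fun C hC => ?_
    obtain ⟨A, hA, rfl⟩ := hout C (Finset.mem_of_mem_erase hC)
    exact hlow A hA
  obtain ⟨e₀, he₀, hc₀, hn₀⟩ := hyp.contrib_cls hA₀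
  obtain ⟨a, ha, ea⟩ := hyp.ratio_eq hA₀
  rw [ea] at ha₀ hc₀ hn₀
  rw [ea]
  have ha4 : 4 ≤ a := by exact_mod_cast ha₀
  have haQ : (0 : ℚ) < a := by exact_mod_cast (by omega : 0 < a)
  have hainv : (1 : ℚ) / a ≤ 1 / 4 :=
    one_div_le_one_div_of_le (by norm_num) ha₀
  set r := (cls A₀).card with hr
  have hr1 : 1 ≤ r := Finset.card_pos.mpr ⟨A₀, self_mem_cls A₀⟩
  have hNinv : 0 < 1 / N := one_div_pos.mpr hN1
  -- all large centralizers are conjugate to `A₀`
  suffices key : (∀ C ∈ R, ∀ A, IsTorus Z A → C = cls A → ratio Z A < 4) ∧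
      r ≤ 6 ∧ (6 ≤ (a : ℚ) → r ≤ 1) by
    have hsub : S ⊆ cls A₀ := by
      intro A hA
      obtain ⟨hT, h4⟩ := hS A hA
      by_contra hne
      have hCR : cls A ∈ R :=
        Finset.mem_erase.mpr ⟨fun h => hne (h ▸ self_mem_cls A), hin A hT⟩
      exact absurd h4 (not_le.mpr (key.1 _ hCR A hT rfl))
    have := Finset.card_le_card hsub
    exact ⟨this.trans key.2.1, fun h => this.trans (key.2.2 h)⟩
  have hN2 : 1 / N = 1 / ((r : ℚ) * e₀ * a) := by rw [hn₀]
  rcases he₀ with rfl | rfl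
  · -- self-normalizing: nothing else
    push_cast at hc₀ hN2
    rw [div_one] at hc₀
    have hRc : R.card = 0 := by
      by_contra h
      have : (1 : ℚ) ≤ R.card := by exact_mod_cast Nat.one_le_iff_ne_zero.mpr h
      linarith
    rw [Finset.card_eq_zero] at hRc
    rw [hRc] at hsplit ⊢
    rw [Finset.sum_empty, add_zero, hc₀, hN2] at hsplit
    have h1 : (1 : ℚ) / a = 1 / ((r : ℚ) * 1 * a) := by linarith
    have hr' : (r : ℚ) = 1 := by
      field_simp at h1
      linarith
    have hr'' : r = 1 := by exact_mod_cast hr'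
    exact ⟨by simp, by omega, fun _ => by omega⟩
  push_cast at hc₀ hN2
  have hRc : R.card ≤ 2 := by
    by_contra h
    have : (3 : ℚ) ≤ R.card := by exact_mod_cast (show 3 ≤ R.card by omega)
    linarith
  have hsingle : ∀ A, IsTorus Z A → ∃ e c : ℕ, (e = 1 ∨ e = 2) ∧ 2 ≤ c ∧
      ratio Z A = c ∧ contrib Z (cls A) = (1 - 1 / (c : ℚ)) / e := by
    intro A hA
    obtain ⟨e, he, h1, -⟩ := hyp.contrib_cls hA
    obtain ⟨c, hc, hc'⟩ := hyp.ratio_eq hA
    exact ⟨e, c, he, hc, hc', hc' ▸ h1⟩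
  have hrel : ∀ C, ∀ A B, IsTorus Z A → cls A = C → IsTorus Z B → cls B = C →
      ratio Z A = ratio Z B := by
    intro C A B _ hAC _ hBC
    obtain ⟨k, hk⟩ := mem_cls.mp (show B ∈ cls A from hAC ▸ hBC ▸ self_mem_cls B)
    rw [ratio, ratio, ← hk, card_map_of_injective (MulAut.conj k).injective]
  have inv_pos' : (0 : ℚ) < 1 / ((r : ℚ) * 2 * a) := hN2 ▸ hNinv
  have inv_le : 1 / ((r : ℚ) * 2 * a) ≤ 1 / (2 * a) := by
    apply one_div_le_one_div_of_le (by positivity)
    have : (1 : ℚ) ≤ r := by exact_mod_cast hr1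
    nlinarith
  interval_cases h : R.card
  · rw [Finset.card_eq_zero.mp h, Finset.sum_empty, add_zero, hc₀, hN2] at hsplit
    exfalso
    have : 1 / (2 * (a : ℚ)) = 1 / (a : ℚ) / 2 := by ring
    linarith
  · obtain ⟨C, hC⟩ := Finset.card_eq_one.mp h
    obtain ⟨A, hA, hAC⟩ := hout C (Finset.mem_of_mem_erase (hC ▸ Finset.mem_singleton_self C :))
    obtain ⟨e, c, he, hc2, hca, hcA⟩ := hsingle A hA
    rw [hC, Finset.sum_singleton, hAC, hcA, hc₀, hN2] at hsplit
    have hcQ : (1 : ℚ) / c ≤ 1 / 2 :=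
      one_div_le_one_div_of_le (by norm_num) (by exact_mod_cast hc2)
    have h2a : 1 / (2 * (a : ℚ)) = 1 / (a : ℚ) / 2 := by ring
    have hc' : c = 2 ∧ e = 1 := by
      rcases he with rfl | rfl
      · refine ⟨?_, rfl⟩
        by_contra hne
        have : (1 : ℚ) / c ≤ 1 / 3 :=
          one_div_le_one_div_of_le (by norm_num) (by exact_mod_cast (show 3 ≤ c by omega))
        push_cast at hsplit
        linarith
      · exfalso
        push_cast at hsplit
        have : (0 : ℚ) < 1 / c := one_div_pos.mpr (by exact_mod_cast (show 0 < c by omega))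
        linarith
    obtain ⟨rfl, rfl⟩ := hc'
    push_cast at hsplit hca
    have h1 : 1 / ((r : ℚ) * 2 * a) = 1 / (2 * a) := by linarith
    have hr' : (r : ℚ) = 1 := by
      field_simp at h1
      linarith
    have hr'' : r = 1 := by exact_mod_cast hr'
    refine ⟨fun D hD B hB hDB => ?_, by omega, fun _ => by omega⟩
    rw [hC, Finset.mem_singleton] at hD
    rw [hrel C B A hB (by rw [← hDB, hD]) hA hAC.symm, hca]
    norm_num
  · obtain ⟨C₁, C₂, hne, hC⟩ := Finset.card_eq_two.mp h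
    obtain ⟨A₁, hA₁, hAC₁⟩ := hout C₁ (Finset.mem_of_mem_erase (show C₁ ∈ R by simp [hC]))
    obtain ⟨A₂, hA₂, hAC₂⟩ := hout C₂ (Finset.mem_of_mem_erase (show C₂ ∈ R by simp [hC]))
    obtain ⟨e₁, c₁, he₁, hc₁, hca₁, hcA₁⟩ := hsingle A₁ hA₁
    obtain ⟨e₂, c₂, he₂, hc₂, hca₂, hcA₂⟩ := hsingle A₂ hA₂
    rw [hC, Finset.sum_pair hne, hAC₁, hAC₂, hcA₁, hcA₂, hc₀, hN2] at hsplit
    have q₁ : (1 : ℚ) / c₁ ≤ 1 / 2 :=
      one_div_le_one_div_of_le (by norm_num) (by exact_mod_cast hc₁)
    have q₂ : (1 : ℚ) / c₂ ≤ 1 / 2 :=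
      one_div_le_one_div_of_le (by norm_num) (by exact_mod_cast hc₂)
    have he₁' : e₁ = 2 := by
      rcases he₁ with rfl | rfl
      · exfalso; rcases he₂ with rfl | rfl <;> push_cast at hsplit <;> linarith
      · rfl
    have he₂' : e₂ = 2 := by
      rcases he₂ with rfl | rfl
      · exfalso; subst he₁'; push_cast at hsplit; linarith
      · rfl
    subst he₁' he₂'
    push_cast at hsplit
    have hsum' : 1 / ((r : ℚ) * a) = 1 / (a : ℚ) + 1 / c₁ + 1 / c₂ - 1 := by
      have : 1 / ((r : ℚ) * 2 * a) = 1 / ((r : ℚ) * a) / 2 := by ring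
      linarith
    have hra : (0 : ℚ) < 1 / ((r : ℚ) * a) := one_div_pos.mpr (by
      have : (1 : ℚ) ≤ r := by exact_mod_cast hr1
      positivity)
    have hsmall : (c₁ = 2 ∧ c₂ ≤ 3) ∨ (c₂ = 2 ∧ c₁ ≤ 3) := by
      by_contra hcon
      push Not at hcon
      by_cases h2 : c₁ = 2
      · have h3 : (1 : ℚ) / c₂ ≤ 1 / 4 :=
          one_div_le_one_div_of_le (by norm_num) (by exact_mod_cast (show 4 ≤ c₂ from hcon.1 h2))
        linarith
      · by_cases h2' : c₂ = 2
        · have h3 : (1 : ℚ) / c₁ ≤ 1 / 4 :=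
            one_div_le_one_div_of_le (by norm_num) (by exact_mod_cast (show 4 ≤ c₁ from hcon.2 h2'))
          linarith
        · have h3 : (1 : ℚ) / c₁ ≤ 1 / 3 :=
            one_div_le_one_div_of_le (by norm_num) (by exact_mod_cast (show 3 ≤ c₁ by omega))
          have h4 : (1 : ℚ) / c₂ ≤ 1 / 3 :=
            one_div_le_one_div_of_le (by norm_num) (by exact_mod_cast (show 3 ≤ c₂ by omega))
          linarith
    have hother : ∀ C ∈ R, ∀ B, IsTorus Z B → C = cls B → ratio Z B < 4 := by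
      intro D hD B hB hDB
      rw [hC, Finset.mem_insert, Finset.mem_singleton] at hD
      rcases hD with hD | hD
      · rw [hrel C₁ B A₁ hB (by rw [← hDB, hD]) hA₁ hAC₁.symm, hca₁]
        exact_mod_cast (show c₁ < 4 by omega)
      · rw [hrel C₂ B A₂ hB (by rw [← hDB, hD]) hA₂ hAC₂.symm, hca₂]
        exact_mod_cast (show c₂ < 4 by omega)
    refine ⟨hother, ?_⟩
    have hcs : (1 : ℚ) / c₁ + 1 / c₂ = 1 ∨ (1 : ℚ) / c₁ + 1 / c₂ = 5 / 6 := by
      rcases hsmall with ⟨rfl, h'⟩ | ⟨rfl, h'⟩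
      · interval_cases c₂ <;> norm_num
      · interval_cases c₁ <;> norm_num
    have hrQ : (r : ℚ) ≠ 0 := by exact_mod_cast (show r ≠ 0 by omega)
    rcases hcs with hcs | hcs
    · have h1 : 1 / ((r : ℚ) * a) = 1 / (a : ℚ) := by linarith
      have hr' : (r : ℚ) = 1 := by
        field_simp at h1
        linarith
      have hr'' : r = 1 := by exact_mod_cast hr'
      exact ⟨by omega, fun _ => by omega⟩
    · have h1 : 1 / ((r : ℚ) * a) = 1 / (a : ℚ) - 1 / 6 := by linarith
      have ha6 : (a : ℚ) < 6 := by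
        by_contra h6
        have : (1 : ℚ) / a ≤ 1 / 6 := one_div_le_one_div_of_le (by norm_num) (not_lt.mp h6)
        linarith
      refine ⟨?_, fun h6 => absurd ha6 (not_lt.mpr h6)⟩
      have ha5 : a ≤ 5 := by
        have : a < 6 := by exact_mod_cast ha6
        omega
      have hrr : (r : ℚ) * (6 - a) = 6 := by
        field_simp at h1
        linarith
      have : (r : ℚ) ≤ 6 := by
        have : (1 : ℚ) ≤ 6 - a := by
          have : (a : ℚ) ≤ 5 := by exact_mod_cast ha5
          linarith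
        have hr0 : (0 : ℚ) ≤ r := Nat.cast_nonneg r
        nlinarith
      exact_mod_cast this

end H79.TorusPartition
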